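import Cfsg.Agent.Lib.Sporadic.J4Type.Eleven

/-!
# An element commuting with `z` and with a member of the small class normalises the subgroup of order `2¹¹`
-/

set_option autoImplicit false
set_option linter.style.haveILetI false
set_option linter.unusedSectionVars false
set_option maxRecDepth 40000

namespace CfsgLib.Sporadic.J4Type

open CfsgLib.Sporadic.LargeFischer CfsgLib.Sporadic.LargeFischer.Hexa

/-- Words sending the fixed vector of weight six to the others of the hexacode. -/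
def sixIdx : List ℕ := [0, 0, 0, 0, 0, 0, 0, 0, 0, 0, 0, 0, 0, 0, 0, 0, 0, 0, 0, 0, 0, 0, 0, 28, 0, 8, 5, 0, 0, 24, 0, 33, 0, 0, 0, 0, 0, 4, 9, 0, 0, 1, 0, 76, 0, 0, 72, 81, 0, 0, 0, 0, 0, 32, 0, 25, 0, 0, 80, 73, 0, 29, 77, 0]

/-- For each non-trivial product a vector moved by it over the orbit of size 1386. -/
def belMove : List ℕ := [0, 18, 5, 5, 5, 5, 17, 17, 5, 5, 6, 6, 6, 6, 5, 5]

theorem six_idx_ok : ∀ k : Fin 64, oc (wv k.1) = (true, false) →
    sixIdx.getD k.1 0 < 2160 ∧ evC (hexaWords.flatten.getD (sixIdx.getD k.1 0) 0) vSix = wv k.1 := by decide +kernel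

theorem bel_move_ok : ∀ u : Fin 16, (∀ i : Fin 12, wMask.testBit (lm (bL u.1) (2 ^ i.1) ^^^ 2 ^ i.1) = true) ∧
    (u.1 ≠ 0 → belMove.getD u.1 0 < 4096 ∧ oc (lm (bL u.1) (belMove.getD u.1 0) ^^^ belMove.getD u.1 0) = (true, false)) := by
  decide +kernel

theorem small_zero : ((List.range 2048).all fun n => !(cu n == 0) || !(inD sgnB n) || oc (wv (ck n)) == (true, false)) = true := by
  decide +kernel

theorem wMask_zero : wMask.testBit 0 = true ∧ ∀ k : Fin 64, ∀ l : Fin 64, wMask.testBit (wv k.1 ^^^ wv l.1) = true := by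
  decide +kernel

theorem bel_move_inW {u : ℕ} (hu : u < 16) : ∀ v : V6, InW (Bel u v + v) := by
  have hd : ∀ a b, InW a → InW b → InW (a + b) := fun a b ha hb => by
    obtain ⟨k, hk, rfl⟩ := (inW_iff _).1 ha
    obtain ⟨l, hl, rfl⟩ := (inW_iff _).1 hb
    exact (inW_iff _).2 ⟨k ^^^ l, Nat.xor_lt_two_pow (n := 6) hk hl, (dec_wv_xor k l).symm⟩
  have key : ∀ m, m ≤ 12 → ∀ n, n < 2 ^ m → InW (Bel u (dec n) + dec n) := by
    intro m
    induction m with
    | zero =>
      intro _ n hn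
      rw [show n = 0 by simpa using hn, dec_zero, map_zero, add_zero]
      exact (inW_iff _).2 ⟨0, by norm_num, by rw [wv_zero, dec_zero]⟩
    | succ m ih =>
      intro hm n hn
      by_cases hb : n < 2 ^ m
      · exact ih (by omega) n hb
      · have hlt : n - 2 ^ m < 2 ^ m := by rw [pow_succ] at hn; omega
        have hp : 2 ^ m < 4096 := Nat.pow_lt_pow_right (by norm_num : 1 < 2) (show m < 12 by omega) |>.trans_eq (by norm_num)
        rw [show n = 2 ^ m ^^^ (n - 2 ^ m) by rw [CfsgLib.SmallGroups.Golay.two_pow_xor hlt]; omega, dec_xor, map_add,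
          show ∀ a b c d : V6, a + b + (c + d) = (a + c) + (b + d) from fun a b c d => by abel]
        refine hd _ _ ?_ (ih (by omega) _ hlt)
        rw [Bel_dec hu hp, ← dec_xor]
        show wMask.testBit (enc (dec _)) = true
        rw [enc_dec (Nat.xor_lt_two_pow (n := 12) (lm_lt (k := 12) _ _ (bL_lt hu)) hp)]
        exact (bel_move_ok ⟨u, hu⟩).1 ⟨m, by omega⟩
  intro v
  rw [← dec_enc v]
  exact key 12 le_rfl _ (enc_lt v)

variable {G : Type*} [Group G] [Finite G] [IsSimpleGroup G] {z : G} {π : G → V6}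
  {ψ : ↥(Subgroup.centralizer ({z} : Set G)) →* (V6 ≃ₗ[ZMod 2] V6)}
  {x : ↥(Subgroup.centralizer ({z} : Set G))} (J : JF z π ψ x)
include J

/-- A map sending a vector of weight six of the hexacode into the hexacode stabilises it. -/
theorem hexa_unique {g : V6 ≃ₗ[ZMod 2] V6} (hg : g ∈ ψ.range) {k k' : ℕ} (hk : k < 64) (hk' : k' < 64)
    (ho : oc (wv k) = (true, false)) (e : g (dec (wv k)) = dec (wv k')) : ∀ j, j < 64 → InW (g (dec (wv j))) := by
  have ho' : oc (wv k') = (true, false) := by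
    have h := (range_le J hg).2 (dec (wv k))
    rwa [e, enc_dec (wv_lt _), enc_dec (wv_lt _), ho] at h
  have key : ∀ a, a < 64 → oc (wv a) = (true, false) →
      ∃ h ∈ ψ.range, h (dec vSix) = dec (wv a) ∧ ∀ j, j < 64 → InW (h (dec (wv j))) := by
    intro a ha hoa
    obtain ⟨hlt, he⟩ := six_idx_ok ⟨a, ha⟩ hoa
    obtain ⟨h, hh, hn⟩ := exists_wLet J (hexaWords.flatten.getD (sixIdx.getD a 0) 0)
    refine ⟨h, hh, by rw [(hn _ vSix_lt).2]; exact congrArg dec he, hexa_inW J ?_ hn⟩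
    rw [List.getD_eq_getElem _ _ (by rw [hexa_keys.2.1]; exact hlt)]
    exact List.getElem_mem _
  obtain ⟨h1, hh1, e1, hW1⟩ := key k hk ho
  obtain ⟨h2, hh2, e2, hW2⟩ := key k' hk' ho'
  obtain ⟨i, hi, hik⟩ := stab_six_cases J (quad_inv J) (g := h2⁻¹ * g * h1) (mul_mem (mul_mem (inv_mem hh2) hg) hh1) (by
    show h2.symm (g (h1 (dec vSix))) = dec vSix
    rw [e1, e, ← e2, h2.symm_apply_apply])
  intro j hj
  choose u hu eu using fun t : Fin 64 => (inW_iff _).1 (hW1 t.1 t.2)
  have hinj : Function.Injective fun t : Fin 64 => (⟨u t, hu t⟩ : Fin 64) := fun a b h => by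
    refine Fin.ext (wv_inj a.2 b.2 (h1.injective ?_))
    rw [eu a, eu b, show u a = u b from Fin.mk.inj h]
  obtain ⟨t, ht⟩ := Finite.injective_iff_surjective.1 hinj ⟨j, hj⟩
  have et : h1 (dec (wv t.1)) = dec (wv j) := by
    rw [eu t, show u t = j from Fin.mk.inj ht]
  have hg' : g (dec (wv j)) = h2 (dec (wv (sk i t.1))) := by
    rw [← hik t.1 t.2, ← et]
    show _ = h2 (h2.symm (g (h1 _)))
    rw [h2.apply_symm_apply]
  rw [hg']
  exact hW2 _ (sk_lt hi _)

theorem cent_z_t {c : Fin 4 → ↥(Subgroup.centralizer ({z} : Set G))} (L : Lifts ψ x c) (hN : Normal (frame J) L)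
    {t : G} (ht : t ∈ (frame J).asub L) (ht1 : t ≠ 1) (hnc : ¬ IsConj z t) {y : G} (hyz : y * z = z * y)
    (hyt : y * t = t * y) : y ∈ Subgroup.normalizer ((frame J).asub L : Set G) := by
  set F := frame J with hF
  obtain ⟨n, hn, rfl⟩ := ht
  set yc : ↥(Subgroup.centralizer ({z} : Set G)) := ⟨y, Subgroup.mem_centralizer_singleton_iff.2 hyz⟩
  refine F.mem_normalizer L (d := yc) ?_
  have hq : zp z (ce n) * F.rho (ck n) ∈ Cfsg.twoCoreOfCentralizer z :=
    mul_mem (by
      rcases z2 (ce n) with e0 | e0 <;> rw [e0]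
      · rw [zp_zero]; exact one_mem _
      · rw [zp_one]; exact J.base.extra.z_mem) (F.rho_mem _)
  by_cases hu : cu n = 0
  · have et : F.el L n = zp z (ce n) * F.rho (ck n) := by
      have hc0 : ((cpr c 0 : ↥(Subgroup.centralizer ({z} : Set G))) : G) = 1 := by simp [cpr]
      simp [Frame.el, hu, hc0]
    have hD : inD sgnB n = true := ((hN.small n hn).1 hnc).resolve_left fun e => ht1 (by rw [e, F.el_zero L])
    have hsix : oc (wv (ck n)) = (true, false) := by
      have h := List.all_eq_true.1 small_zero n (List.mem_range.2 hn)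
      rw [hu, hD] at h
      simpa using h
    have hπ : π (F.el L n) = dec (wv (ck n)) := by
      rw [et]
      rcases z2 (ce n) with e0 | e0 <;> rw [e0]
      · rw [zp_zero, one_mul]; exact F.π_rho _
      · rw [zp_one, J.base.π_mul z J.base.extra.z_mem _ (F.rho_mem _), J.base.π_z, zero_add]; exact F.π_rho _
    have hfix : ψ yc (dec (wv (ck n))) = dec (wv (ck n)) := by
      rw [← hπ, ← J.base.act yc _ (by rw [et]; exact hq)]
      exact congrArg π (mul_inv_eq_iff_eq_mul.2 hyt)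
    exact hexa_unique J ⟨yc, rfl⟩ (ck_lt hn) (ck_lt hn) hsix hfix
  · have hu16 := cu_lt n
    let tc : ↥(Subgroup.centralizer ({z} : Set G)) := ⟨F.el L n, Subgroup.mem_centralizer_singleton_iff.2 (F.el_cent L n)⟩
    have hψt : ψ tc = Bel (cu n) := by
      rw [show tc = cpr c (cu n) * ⟨_, J.base.mem_cent hq⟩ from Subtype.ext (mul_assoc _ _ _), map_mul, L.cpr_img,
        (J.base.ker _).2 hq, mul_one]
    have hcomm : ψ yc * Bel (cu n) = Bel (cu n) * ψ yc := by
      rw [← hψt, ← map_mul, ← map_mul, show yc * tc = tc * yc from Subtype.ext hyt]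
    obtain ⟨hlt, hsix⟩ := (bel_move_ok ⟨cu n, hu16⟩).2 hu
    set e := belMove.getD (cu n) 0
    obtain ⟨k, hk, ek⟩ := (inW_iff _).1 (bel_move_inW hu16 (dec e))
    obtain ⟨k', hk', ek'⟩ := (inW_iff _).1 (bel_move_inW hu16 (ψ yc (dec e)))
    have ho : oc (wv k) = (true, false) := by
      have h := congrArg enc ek
      rw [Bel_dec hu16 hlt, ← dec_xor, enc_dec (Nat.xor_lt_two_pow (n := 12) (lm_lt (k := 12) _ _ (bL_lt hu16)) hlt),
        enc_dec (wv_lt k)] at h
      rw [← h]; exact hsix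
    refine hexa_unique J ⟨yc, rfl⟩ hk hk' ho ?_
    rw [← ek, ← ek', map_add]
    congr 1
    exact LinearEquiv.congr_fun hcomm (dec e)

end CfsgLib.Sporadic.J4Type
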