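import Mathlib

/-!
# An abelian normal subgroup with two classes, all of whose elements fix one coset only

If every non-trivial element of `V ⊴ M` fixes only the trivial coset of `M`, some element of `V` is not conjugate
into a class `D ⊆ V` which meets the centraliser of every two-subgroup of `M`, then `M` is the whole group: a
two-subgroup fixing two cosets and centralising the element could always be enlarged.
-/

set_option autoImplicit false
set_option linter.style.haveILetI false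

namespace CfsgLib.Sporadic.J4Type

/-- Two involutions which are not conjugate commute with a common involution in the group they generate. -/
theorem exists_central_involution {H : Type*} [Group H] [Finite H] {x y : H} (hx : x * x = 1) (hy : y * y = 1)
    (hne : ∀ h : H, h * x * h⁻¹ ≠ y) : ∃ c : H, c ≠ 1 ∧ c * c = 1 ∧ c * x = x * c ∧ c * y = y * c := by
  set a := x * y with ha
  have hxi : x⁻¹ = x := inv_eq_of_mul_eq_one_left hx
  have hyi : y⁻¹ = y := inv_eq_of_mul_eq_one_left hy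
  have hya : y = x * a := by rw [ha, ← mul_assoc, hx, one_mul]
  have hinv : x * a * x⁻¹ = a⁻¹ := by rw [ha, mul_inv_rev, hxi, hyi, ← mul_assoc, hx, one_mul]
  have hpow : ∀ n : ℕ, x * a ^ n * x⁻¹ = (a ^ n)⁻¹ := fun n => by rw [← conj_pow, hinv, inv_pow]
  rcases Nat.even_or_odd (orderOf a) with ⟨k, hk⟩ | ⟨m, hm⟩
  · have hk0 : 0 < k := by have := orderOf_pos a; omega
    have hsq : a ^ k * a ^ k = 1 := by rw [← pow_add, ← hk]; exact pow_orderOf_eq_one a
    refine ⟨a ^ k, fun e => ?_, hsq, ?_, ?_⟩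
    · have := Nat.le_of_dvd hk0 (orderOf_dvd_of_pow_eq_one e)
      omega
    · have h := hpow k
      rw [inv_eq_of_mul_eq_one_left hsq] at h
      calc a ^ k * x = x * a ^ k * x⁻¹ * x := by rw [h]
        _ = x * a ^ k := by group
    · have h := hpow k
      rw [inv_eq_of_mul_eq_one_left hsq] at h
      have hcx : a ^ k * x = x * a ^ k := by
        calc a ^ k * x = x * a ^ k * x⁻¹ * x := by rw [h]
          _ = x * a ^ k := by group
      rw [hya, ← mul_assoc, hcx, mul_assoc, mul_assoc, ← pow_succ, ← pow_succ']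
  · refine absurd ?_ (hne (a ^ m))
    have e : a ^ m * x = x * (a ^ m)⁻¹ := by
      have h := hpow m
      have h2 : a ^ m * x = x * (x * a ^ m * x⁻¹) := by
        rw [hxi, show x * (x * a ^ m * x) = x * x * (a ^ m * x) by group, hx, one_mul]
      rw [h2, h]
    rw [e, hya]
    calc x * (a ^ m)⁻¹ * (a ^ m)⁻¹ = x * (a ^ (m + m))⁻¹ := by rw [pow_add, mul_inv_rev, mul_assoc]
      _ = x * a := by
        congr 1
        refine inv_eq_of_mul_eq_one_left ?_
        rw [← pow_succ', show m + m + 1 = orderOf a by omega]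
        exact pow_orderOf_eq_one a

variable {X : Type*} [Group X] [Finite X] {M V : Subgroup X}

/-- The main lemma. -/
theorem eq_top_of_two_classes (hVM : V ≤ M) (hn : ∀ m ∈ M, ∀ e ∈ V, m * e * m⁻¹ ∈ V)
    (hinv : ∀ e ∈ V, e * e = 1) (hfix : ∀ e ∈ V, e ≠ 1 → ∀ g : X, g * e * g⁻¹ ∈ M → g ∈ M)
    {v : X} (hv : v ∈ V) (hv1 : v ≠ 1) {D : Set X} (hD : ∀ w ∈ D, w ∈ V ∧ w ≠ 1)
    (hne : ∀ g : X, g * v * g⁻¹ ∉ D)
    (hcent : ∀ R : Subgroup X, R ≤ M → IsPGroup 2 R → ∃ w ∈ D, ∀ r ∈ R, r * w = w * r) : M = ⊤ := by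
  classical
  haveI : Fact (Nat.Prime 2) := ⟨Nat.prime_two⟩
  by_contra htop
  obtain ⟨g₀, -, hg₀⟩ := SetLike.exists_of_lt (lt_top_iff_ne_top.2 htop)
  let S : Set (Subgroup X) := {R | R ≤ M ∧ IsPGroup 2 R ∧ (∀ r ∈ R, r * v = v * r) ∧
    ∃ g, g ∉ M ∧ ∀ r ∈ R, g⁻¹ * r * g ∈ M}
  have hS : (⊥ : Subgroup X) ∈ S := ⟨bot_le, IsPGroup.of_bot, fun r hr => by rw [Subgroup.mem_bot.1 hr]; simp,
    g₀, hg₀, fun r hr => by rw [Subgroup.mem_bot.1 hr]; simp⟩
  haveI : Finite (Subgroup X) := inferInstance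
  obtain ⟨R, hR, hmax⟩ := Set.exists_max_image S (fun R => Nat.card R) (Set.toFinite _) ⟨⊥, hS⟩
  obtain ⟨hRM, hRp, hRv, g, hg, hRg⟩ := hR
  set c : X →* X := (MulAut.conj g⁻¹).toMonoidHom with hc
  have hcv : ∀ r, c r = g⁻¹ * r * g := fun r => by
    show g⁻¹ * r * g⁻¹⁻¹ = _; rw [inv_inv]
  obtain ⟨w₀, hw₀, hw₀R⟩ := hcent (R.map c) (by rintro _ ⟨r, hr, rfl⟩; rw [hcv]; exact hRg r hr) (hRp.map c)
  obtain ⟨hw₀V, hw₀1⟩ := hD w₀ hw₀
  set w := g * w₀ * g⁻¹ with hw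
  have hRw : ∀ r ∈ R, r * w = w * r := fun r hr => by
    have h := hw₀R _ ⟨r, hr, rfl⟩
    rw [hcv] at h
    calc r * w = g * (g⁻¹ * r * g * w₀) * g⁻¹ := by rw [hw]; group
      _ = w * r := by rw [h, hw]; group
  have hRV : ∀ r ∈ R, r ∈ V → r = 1 := fun r hr hrV => by
    by_contra h1
    exact hg (inv_mem_iff.1 (hfix r hrV h1 g⁻¹ (by rw [inv_inv]; exact hRg r hr)))
  have hwM : w ∉ M := fun h => hg (hfix w₀ hw₀V hw₀1 g h)
  set L := Subgroup.normalizer (R : Set X) with hL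
  have hcentL : ∀ u, (∀ r ∈ R, r * u = u * r) → u ∈ L := fun u hu => by
    refine Subgroup.mem_normalizer_iff.2 fun r => ⟨fun hr => ?_, fun hr => ?_⟩
    · rwa [← hu r hr, mul_inv_cancel_right]
    · have h := hu _ hr
      rwa [show r = u * r * u⁻¹ from mul_left_cancel (a := u) (by rw [← h]; group)]
  let vL : ↥L := ⟨v, hcentL v hRv⟩
  let wL : ↥L := ⟨w, hcentL w hRw⟩
  haveI : (R.subgroupOf L).Normal := Subgroup.normal_in_normalizer
  set q := QuotientGroup.mk' (R.subgroupOf L) with hq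
  have hqe : ∀ a b : ↥L, q a = q b → ∃ r ∈ R, (a : X) = r * b := fun a b e => by
    refine ⟨(a : X) * (b : X)⁻¹, ?_, by group⟩
    have h : q (a * b⁻¹) = 1 := by rw [map_mul, map_inv, e, mul_inv_cancel]
    exact Subgroup.mem_subgroupOf.1 ((QuotientGroup.eq_one_iff _).1 h)
  have hvL : vL * vL = 1 := Subtype.ext (hinv v hv)
  have hwL : wL * wL = 1 := Subtype.ext (by
    show g * w₀ * g⁻¹ * (g * w₀ * g⁻¹) = 1
    rw [show g * w₀ * g⁻¹ * (g * w₀ * g⁻¹) = g * (w₀ * w₀) * g⁻¹ by group, hinv w₀ hw₀V]; group)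
  have hnc : ∀ h, h * q vL * h⁻¹ ≠ q wL := by
    intro h e
    obtain ⟨l, rfl⟩ := QuotientGroup.mk'_surjective _ h
    rw [← map_inv, ← map_mul, ← map_mul] at e
    obtain ⟨r, hr, e⟩ := hqe _ _ e
    have e' : (l : X) * v * (l : X)⁻¹ = r * w := e
    have h0 := hRg r hr
    have e2 : g⁻¹ * l * v * (g⁻¹ * l)⁻¹ = g⁻¹ * r * g * w₀ := by
      calc g⁻¹ * l * v * (g⁻¹ * l)⁻¹ = g⁻¹ * ((l : X) * v * (l : X)⁻¹) * g := by group
        _ = _ := by rw [e', hw]; group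
    have hl : g⁻¹ * l ∈ M := hfix v hv hv1 _ (e2 ▸ mul_mem h0 (hVM hw₀V))
    have hr0 : g⁻¹ * r * g ∈ V := by
      have := mul_mem (hn _ hl v hv) (inv_mem hw₀V)
      rwa [e2, mul_inv_cancel_right] at this
    have hr1 : g⁻¹ * r * g = 1 := by
      by_contra h1
      exact hg (hfix _ hr0 h1 g (by rw [show g * (g⁻¹ * r * g) * g⁻¹ = r by group]; exact hRM hr))
    rw [hr1, one_mul] at e2
    exact hne (g⁻¹ * l) (e2 ▸ hw₀)
  obtain ⟨d, hd1, hd2, hdv, hdw⟩ := exists_central_involution (x := q vL) (y := q wL)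
    (by rw [← map_mul, hvL, map_one]) (by rw [← map_mul, hwL, map_one]) hnc
  obtain ⟨i, rfl⟩ := QuotientGroup.mk'_surjective _ d
  -- the enlargement
  obtain ⟨r₁, hr₁, e₁⟩ := hqe (i * vL * i⁻¹) vL (by rw [map_mul, map_mul, map_inv, hdv, mul_inv_cancel_right])
  obtain ⟨r₂, hr₂, e₂⟩ := hqe (i * wL * i⁻¹) wL (by rw [map_mul, map_mul, map_inv, hdw, mul_inv_cancel_right])
  replace e₁ : (i : X) * v * (i : X)⁻¹ = r₁ * v := e₁
  replace e₂ : (i : X) * w * (i : X)⁻¹ = r₂ * w := e₂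
  have hiM : (i : X) ∈ M := hfix v hv hv1 _ (e₁ ▸ mul_mem (hRM hr₁) (hVM hv))
  have hiv : (i : X) * v = v * i := by
    have hrV : r₁ ∈ V := by
      have := mul_mem (hn _ hiM v hv) (inv_mem hv)
      rwa [e₁, mul_inv_cancel_right] at this
    rw [hRV r₁ hr₁ hrV, one_mul] at e₁
    exact mul_inv_eq_iff_eq_mul.1 e₁
  have hig : g⁻¹ * i * g ∈ M := by
    refine hfix w₀ hw₀V hw₀1 _ ?_
    rw [show g⁻¹ * i * g * w₀ * (g⁻¹ * i * g)⁻¹ = g⁻¹ * ((i : X) * w * (i : X)⁻¹) * g by rw [hw]; group, e₂,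
      show g⁻¹ * (r₂ * w) * g = g⁻¹ * r₂ * g * w₀ by rw [hw]; group]
    exact mul_mem (hRg r₂ hr₂) (hVM hw₀V)
  set R' := ((Subgroup.zpowers (q i)).comap q).map L.subtype with hR'
  have hmem : ∀ r ∈ R', r ∈ R ∨ ∃ r₀ ∈ R, r = r₀ * i := by
    rintro _ ⟨a, ha, rfl⟩
    obtain ⟨n, hn'⟩ := Subgroup.mem_zpowers_iff.1 ha
    rcases Int.even_or_odd n with ⟨k, rfl⟩ | ⟨k, rfl⟩
    · obtain ⟨r, hr, e⟩ := hqe a 1 (by rw [← hn', map_one, zpow_add, ← Commute.mul_zpow (Commute.refl _), hd2, one_zpow])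
      exact Or.inl (by show (a : X) ∈ R; rw [e, Subgroup.coe_one, mul_one]; exact hr)
    · obtain ⟨r, hr, e⟩ := hqe a i (by
        rw [← hn', zpow_add, zpow_one, zpow_mul, zpow_two, hd2, one_zpow, one_mul])
      exact Or.inr ⟨r, hr, e⟩
  have hRR' : R ≤ R' := fun r hr => ⟨⟨r, Subgroup.le_normalizer hr⟩,
    show q _ ∈ Subgroup.zpowers (q i) by
      rw [show q ⟨r, Subgroup.le_normalizer hr⟩ = 1 from (QuotientGroup.eq_one_iff _).2 (Subgroup.mem_subgroupOf.2 hr)]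
      exact one_mem _, rfl⟩
  have hiR : (i : X) ∈ R' := ⟨i, Subgroup.mem_zpowers (q i), rfl⟩
  have hR'p : IsPGroup 2 R' := by
    refine IsPGroup.map ?_ _
    refine IsPGroup.comap_of_ker_isPGroup ?_ q ?_
    · exact IsPGroup.of_card (n := 1) (by
        rw [Nat.card_zpowers, pow_one]
        exact orderOf_eq_prime (by rw [pow_two, hd2]) hd1)
    · rw [hq, QuotientGroup.ker_mk']
      exact hRp.comap_of_injective L.subtype L.subtype_injective
  have hR'S : R' ∈ S := by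
    refine ⟨fun r hr => ?_, hR'p, fun r hr => ?_, g, hg, fun r hr => ?_⟩ <;>
      rcases hmem r hr with hr | ⟨r₀, hr₀, rfl⟩
    · exact hRM hr
    · exact mul_mem (hRM hr₀) hiM
    · exact hRv r hr
    · rw [mul_assoc, hiv, ← mul_assoc, hRv r₀ hr₀, mul_assoc]
    · exact hRg r hr
    · rw [show g⁻¹ * (r₀ * i) * g = g⁻¹ * r₀ * g * (g⁻¹ * i * g) by group]
      exact mul_mem (hRg r₀ hr₀) hig
  have hiNR : (i : X) ∉ R := fun h => hd1 ((QuotientGroup.eq_one_iff i).2 (Subgroup.mem_subgroupOf.2 h))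
  have : R = R' := Subgroup.eq_of_le_of_card_ge hRR' (hmax R' hR'S)
  exact hiNR (this ▸ hiR)

end CfsgLib.Sporadic.J4Type
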