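import Cfsg.Agent.S5394
import Cfsg.Agent.Lib.SmallGroups.M24Group

/-!
# An elementary abelian two-subgroup of `M₂₄` fixing a point has order at most sixteen
-/

set_option autoImplicit false

namespace CfsgLib.Sporadic.J4Type

open Cfsg

theorem octad_card {S : Finset GolayPt} (h : S ∈ octads) : S.card = 8 := h.2

theorem card_lt_of_fixed_point (B : Subgroup (Equiv.Perm GolayPt)) (hB : B ≤ M24) (hB2 : ∀ b ∈ B, b * b = 1)
    (r : GolayPt) (hr : ∀ b ∈ B, b r = r) : Nat.card B < 32 := by
  classical
  haveI : Fact (Nat.Prime 2) := ⟨Nat.prime_two⟩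
  by_contra h32
  have hp : IsPGroup 2 B := fun b => ⟨1, Subtype.ext (by rw [pow_one, pow_two]; exact hB2 b b.2)⟩
  obtain ⟨n, hn⟩ := IsPGroup.iff_card.1 hp
  have h5 : 5 ≤ n := by
    by_contra h
    have : 2 ^ n ≤ 2 ^ 4 := Nat.pow_le_pow_right (by norm_num) (by omega)
    omega
  obtain ⟨C, hC⟩ := Sylow.exists_subgroup_card_pow_prime (G := B) 2 (n := 5) (hn ▸ Nat.pow_dvd_pow 2 h5)
  set D := C.map B.subtype with hD
  have hDc : Nat.card D = 32 := by rw [hD, Subgroup.card_map_of_injective B.subtype_injective, hC]; rfl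
  have hDB : D ≤ B := Subgroup.map_subtype_le C
  haveI : Fintype ↥D := Fintype.ofFinite _
  haveI : Fintype (MulAction.orbitRel.Quotient ↥D GolayPt) := Fintype.ofFinite _
  have key := MulAction.sum_card_fixedBy_eq_card_orbits_mul_card_group ↥D GolayPt
  have hfix : ∀ d : ↥D, Fintype.card (MulAction.fixedBy GolayPt d) = if d = 1 then 24 else 8 := by
    intro d
    rw [show Fintype.card (MulAction.fixedBy GolayPt d) = (Finset.univ.filter fun p => (d : Equiv.Perm GolayPt) p = p).card
      from Fintype.card_subtype _]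
    by_cases hd : d = 1
    · subst hd
      simp [ZMod.card]
    · rw [if_neg hd]
      have hord : orderOf (d : Equiv.Perm GolayPt) = 2 := orderOf_eq_prime (by rw [pow_two]; exact hB2 _ (hDB d.2))
        (fun e => hd (Subtype.ext e))
      rcases Cfsg.Agent.S5394.result.1 _ (hB (hDB d.2)) hord with h | h
      · exact octad_card h
      · exact absurd (hr _ (hDB d.2)) (h r)
  rw [Finset.sum_congr rfl fun d _ => hfix d, Finset.sum_ite, Finset.sum_const, Finset.sum_const] at key
  have h1 : (Finset.univ.filter fun d : ↥D => d = 1).card = 1 := by rw [Finset.card_eq_one]; exact ⟨1, by ext; simp⟩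
  have h2 := Finset.card_filter_add_card_filter_not (s := (Finset.univ : Finset ↥D)) (fun d => d = 1)
  rw [Finset.card_univ, ← Nat.card_eq_fintype_card, hDc, h1] at h2
  rw [← Nat.card_eq_fintype_card (α := ↥D), hDc, h1, smul_eq_mul, smul_eq_mul] at key
  omega

end CfsgLib.Sporadic.J4Type
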