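import Mathlib

/-!
# Conjugates of the elements of a self-centralising abelian normal subgroup
-/

set_option autoImplicit false

namespace CfsgLib.Sporadic.J4Type

variable {X : Type*} [Group X] [Finite X]

/-- An involution fixes at least the square root of an elementary abelian group which it normalises. -/
theorem card_le_fixed_sq {V K : Subgroup X} {c : X} (hV : ∀ a ∈ V, ∀ b ∈ V, a * b = b * a) (hV2 : ∀ a ∈ V, a * a = 1)
    (hc : c * c = 1) (hn : ∀ a ∈ V, c * a * c⁻¹ ∈ V) (hK : ∀ a ∈ V, c * a = a * c → a ∈ K) :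
    Nat.card V ≤ Nat.card K ^ 2 := by
  have hci : c⁻¹ = c := inv_eq_of_mul_eq_one_left hc
  let f : ↥V →* ↥V := MonoidHom.mk' (fun a => ⟨a * (c * a * c⁻¹), mul_mem a.2 (hn a a.2)⟩) fun a b => Subtype.ext (by
    show (a : X) * b * (c * (a * b) * c⁻¹) = (a : X) * (c * a * c⁻¹) * (b * (c * b * c⁻¹))
    rw [show (a : X) * (c * a * c⁻¹) * (b * (c * b * c⁻¹)) = a * ((c * a * c⁻¹) * b) * (c * b * c⁻¹) by group,
      hV _ (hn a a.2) b b.2]
    group)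
  have hk : ∀ a : ↥V, a ∈ f.ker → (a : X) ∈ K := fun a ha => hK a a.2 (by
    have e : (a : X) * (c * a * c⁻¹) = 1 := congrArg Subtype.val ha
    have := inv_eq_of_mul_eq_one_right e
    rw [inv_eq_of_mul_eq_one_left (hV2 a a.2)] at this
    exact (eq_mul_inv_iff_mul_eq.1 this).symm)
  have hr : ∀ a : ↥V, (f a : X) ∈ K := fun a => hK _ (f a).2 (by
    show c * ((a : X) * (c * a * c⁻¹)) = (a : X) * (c * a * c⁻¹) * c
    rw [mul_assoc (a : X) (c * a * c⁻¹) c, inv_mul_cancel_right, hV a a.2 _ (hn a a.2), hci]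
    calc c * (c * (a : X) * c * a) = c * c * (a * c * a) := by group
      _ = (a : X) * (c * a) := by rw [hc, one_mul, mul_assoc])
  have h1 : Nat.card f.ker ≤ Nat.card K := Nat.card_le_card_of_injective
    (fun a : f.ker => (⟨((a : ↥V) : X), hk a a.2⟩ : ↥K))
    (fun a b e => Subtype.ext (Subtype.ext (congrArg Subtype.val e :)))
  have h2 : Nat.card f.range ≤ Nat.card K := Nat.card_le_card_of_injective
    (fun a : f.range => (⟨((a : ↥V) : X), by obtain ⟨b, hb⟩ := a.2; rw [← hb]; exact hr b⟩ : ↥K))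
    (fun a b e => Subtype.ext (Subtype.ext (congrArg Subtype.val e :)))
  rw [← f.ker.card_mul_index, Subgroup.index_ker, pow_two]
  exact Nat.mul_le_mul h1 h2

/-- No element of `V` is conjugate into `M` outside `V`, and `M` controls all this. -/
theorem fix_one_coset {M V : Subgroup X} (hVM : V ≤ M) (hn : ∀ m ∈ M, ∀ e ∈ V, m * e * m⁻¹ ∈ V)
    (hV : ∀ a ∈ V, ∀ b ∈ V, a * b = b * a) (hV2 : ∀ a ∈ V, a * a = 1) (hV3 : 3 ≤ Nat.card V)
    (huniq : ∀ g : X, (∀ e ∈ V, g * e * g⁻¹ ∈ M) → g ∈ M)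
    (hC : ∀ e ∈ V, e ≠ 1 → ∀ y : X, y * e = e * y → y ∈ M)
    (hrank : ∀ B : Subgroup X, B ≤ M → (∀ b ∈ B, b * b = 1) → (∀ b ∈ B, ∀ b' ∈ B, b * b' = b' * b) →
      (∀ b ∈ B, b ∈ V → b = 1) → Nat.card V ≤ Nat.card B ^ 2 →
      (∀ b ∈ B, b ≠ 1 → ∀ e ∈ V, e * b = b * e → ∀ b' ∈ B, e * b' = b' * e) → False) :
    ∀ e ∈ V, e ≠ 1 → ∀ g : X, g * e * g⁻¹ ∈ M → g ∈ M := by
  intro e he he1 g hge
  by_contra hg
  have hcross : ∀ g : X, g ∉ M → ∀ u ∈ V, g * u * g⁻¹ ∈ V → u = 1 := fun g hg u hu hgu => by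
    by_contra hu1
    refine hg (huniq g fun x hx => hC _ hgu (fun h => hu1 (conj_eq_one_iff.1 h)) _ ?_)
    calc g * x * g⁻¹ * (g * u * g⁻¹) = g * (x * u) * g⁻¹ := by group
      _ = g * u * g⁻¹ * (g * x * g⁻¹) := by rw [hV x hx u hu]; group
  set c : X →* X := (MulAut.conj g).toMonoidHom with hc
  have hinj : Function.Injective c := (MulAut.conj g).injective
  have hcv : ∀ u, c u = g * u * g⁻¹ := fun u => rfl
  set A := V ⊓ M.map c with hA
  set B := V.map c ⊓ M with hB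
  have hBA : ∀ b ∈ B, b ≠ 1 → ∀ a ∈ V, b * a = a * b → a ∈ A := by
    rintro b ⟨⟨u, hu, rfl⟩, -⟩ hb1 a ha hcomm
    refine ⟨ha, g⁻¹ * a * g, hC u hu (fun h => hb1 (by rw [h, map_one])) _ ?_, by rw [hcv]; group⟩
    rw [hcv] at hcomm
    calc g⁻¹ * a * g * u = g⁻¹ * (a * (g * u * g⁻¹)) * g := by group
      _ = u * (g⁻¹ * a * g) := by rw [← hcomm]; group
  have hAB : ∀ a ∈ A, a ≠ 1 → ∀ b ∈ V.map c, a * b = b * a → b ∈ B := by
    rintro a ⟨ha, -⟩ ha1 b hb hcomm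
    exact ⟨hb, hC a ha ha1 b hcomm.symm⟩
  have hcomm : ∀ a ∈ A, ∀ b ∈ B, a * b = b * a := by
    rintro a ⟨ha, m, hm, rfl⟩ b ⟨⟨u, hu, rfl⟩, hbM⟩
    have h1 : c (m * u * m⁻¹ * u⁻¹) ∈ V := by
      have h0 : c m * (c u * (c m)⁻¹ * (c u)⁻¹) ∈ V := mul_mem ha (hn _ hbM _ (inv_mem ha))
      simp only [map_mul, map_inv]
      rwa [mul_assoc (c m) (c u), mul_assoc (c m)]
    have h2 : m * u * m⁻¹ * u⁻¹ ∈ V := mul_mem (hn m hm u hu) (inv_mem hu)
    have h3 := hcross g hg _ h2 (by rw [← hcv]; exact h1)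
    rw [← map_mul, ← map_mul, mul_inv_eq_one.1 h3 |> mul_inv_eq_iff_eq_mul.1]
  have hcB : g * e * g⁻¹ ∈ B := ⟨⟨e, he, rfl⟩, hge⟩
  have hc1 : g * e * g⁻¹ ≠ 1 := fun h => he1 (conj_eq_one_iff.1 h)
  have hc2 : g * e * g⁻¹ * (g * e * g⁻¹) = 1 := by
    rw [show g * e * g⁻¹ * (g * e * g⁻¹) = g * (e * e) * g⁻¹ by group, hV2 e he]; group
  have hA2 : Nat.card V ≤ Nat.card A ^ 2 :=
    card_le_fixed_sq hV hV2 hc2 (fun a ha => hn _ hge a ha) (hBA _ hcB hc1)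
  obtain ⟨a, ha, ha1⟩ : ∃ a ∈ A, a ≠ 1 := by
    by_contra h
    push_neg at h
    have : A = ⊥ := (Subgroup.eq_bot_iff_forall _).2 h
    rw [this, Subgroup.card_bot, one_pow] at hA2
    omega
  have hV' : ∀ x ∈ V.map c, ∀ y ∈ V.map c, x * y = y * x := by
    rintro _ ⟨x, hx, rfl⟩ _ ⟨y, hy, rfl⟩
    rw [← map_mul, hV x hx y hy, map_mul]
  have hV2' : ∀ x ∈ V.map c, x * x = 1 := by
    rintro _ ⟨x, hx, rfl⟩
    rw [← map_mul, hV2 x hx, map_one]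
  have hB2 : Nat.card V ≤ Nat.card B ^ 2 := by
    rw [Nat.card_congr (Subgroup.equivMapOfInjective V c hinj).toEquiv]
    refine card_le_fixed_sq hV' hV2' (hV2 a ha.1) ?_ (hAB a ha ha1)
    rintro _ ⟨x, hx, rfl⟩
    obtain ⟨-, m, hm, rfl⟩ := ha
    exact ⟨m * x * m⁻¹, hn m hm x hx, by simp only [map_mul, map_inv]⟩
  refine hrank B inf_le_right (fun b hb => hV2' b hb.1) (fun b hb b' hb' => hV' b hb.1 b' hb'.1) ?_ hB2 ?_
  · rintro b ⟨⟨u, hu, rfl⟩, -⟩ hb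
    rw [hcross g hg u hu hb, map_one]
  · intro b hb hb1 x hx hxb b' hb'
    exact hcomm x (hBA b hb hb1 x hx hxb.symm) b' hb'

end CfsgLib.Sporadic.J4Type
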