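import Cfsg.Agent.Lib.Sporadic.J4Type.Duads
import Cfsg.Agent.Lib.Sporadic.J4Type.Grow
import Cfsg.Agent.Lib.Sporadic.J4Type.TI
import Cfsg.Agent.Lib.Sporadic.J4Type.MRank

/-!
# The centraliser of a member of the small class normalises the subgroup of order `2¹¹`

The general step: a subgroup `Y` containing `A` and centralising `K ≤ A` lies in the normaliser of `A` once the
centralisers in `Y` of the elements of `A` outside `K` do, no large two-group acts on `A/K` with one fixed space and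
`A/K` contains two classes.
-/

set_option autoImplicit false
set_option linter.style.haveILetI false
set_option linter.unusedSectionVars false

namespace CfsgLib.Sporadic.J4Type

open Cfsg CfsgLib.Sporadic.LargeFischer CfsgLib.Sporadic.LargeFischer.Hexa

variable {G : Type*} [Group G] [Finite G]

/-- A conjugate of `A` inside the normaliser is `A`. -/
theorem conj_mem_normalizer (hU : UniqAb G) {A : Subgroup G} (hA : Cfsg.IsElementaryAbelian 2 A)
    (hc : Nat.card A = 2 ^ 11) {g : G} (h : ∀ a ∈ A, g * a * g⁻¹ ∈ Subgroup.normalizer (A : Set G)) :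
    g ∈ Subgroup.normalizer (A : Set G) := by
  haveI : Fact (Nat.Prime 2) := ⟨Nat.prime_two⟩
  set B := A.map (MulAut.conj g).toMonoidHom with hB
  have hBN : B ≤ Subgroup.normalizer (A : Set G) := by rintro _ ⟨a, ha, rfl⟩; exact h a ha
  have hinj : Function.Injective (MulAut.conj g).toMonoidHom := (MulAut.conj g).injective
  have hBc : Nat.card B = 2 ^ 11 := by rw [hB, Subgroup.card_map_of_injective hinj, hc]
  have hBe : Cfsg.IsElementaryAbelian 2 B := by
    refine ⟨⟨⟨?_⟩⟩, ?_⟩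
    · rintro ⟨_, a, ha, rfl⟩ ⟨_, b, hb, rfl⟩
      have := congrArg Subtype.val (hA.1.is_comm.comm (⟨a, ha⟩ : ↥A) ⟨b, hb⟩)
      exact Subtype.ext ((map_mul _ _ _).symm.trans ((congrArg _ this).trans (map_mul _ _ _)))
    · rintro _ ⟨a, ha, rfl⟩
      rw [← map_pow, hA.2 a ha, map_one]
  have hP : IsPGroup 2 ↥(B ⊔ A) := (IsPGroup.of_card hBc).to_sup_of_normal_right' (IsPGroup.of_card hc) hBN
  have e : B = A := (hU _ hP A B le_sup_right le_sup_left hA hBe hc).2 hBc
  refine Subgroup.mem_normalizer_iff.2 fun a => ⟨fun ha => e ▸ ⟨a, ha, rfl⟩, fun ha => ?_⟩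
  obtain ⟨b, hb, eb⟩ := e.symm ▸ ha
  rwa [← (MulAut.conj g).injective eb]

/-- The general step. -/
theorem step (hU : UniqAb G) {A K Y : Subgroup G} (hA : Cfsg.IsElementaryAbelian 2 A) (hc : Nat.card A = 2 ^ 11)
    (hAY : A ≤ Y) (hKA : K ≤ A) (hKc : Nat.card K ≤ 4) (hKY : ∀ k ∈ K, ∀ y ∈ Y, y * k = k * y)
    (hC : ∀ e ∈ A, e ∉ K → ∀ y ∈ Y, y * e = e * y → y ∈ Subgroup.normalizer (A : Set G))
    (hrank : ∀ B : Subgroup G, B ≤ Y → B ≤ Subgroup.normalizer (A : Set G) → (∀ b ∈ B, b * b ∈ K) →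
      (∀ b ∈ B, b ∈ A → b ∈ K) → K ≤ B → 32 * Nat.card K ≤ Nat.card B →
      (∀ b ∈ B, b ∉ K → ∀ e ∈ A, e * b * e⁻¹ * b⁻¹ ∈ K → ∀ b' ∈ B, e * b' * e⁻¹ * b'⁻¹ ∈ K) → False)
    {v : G} (hv : v ∈ A) (hvK : v ∉ K) {D : Set G} (hD : ∀ w ∈ D, w ∈ A ∧ w ∉ K)
    (hne : ∀ y ∈ Y, ∀ k ∈ K, y * (v * k) * y⁻¹ ∉ D)
    (hcent : ∀ R : Subgroup G, R ≤ Y → R ≤ Subgroup.normalizer (A : Set G) → IsPGroup 2 R →
      ∃ w ∈ D, ∀ r ∈ R, r * w * r⁻¹ * w⁻¹ ∈ K) :
    Y ≤ Subgroup.normalizer (A : Set G) := by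
  classical
  haveI : Fact (Nat.Prime 2) := ⟨Nat.prime_two⟩
  set N := Subgroup.normalizer (A : Set G) with hN
  have hAN : A ≤ N := Subgroup.le_normalizer
  have hA2 : ∀ a ∈ A, a * a = 1 := fun a ha => by
    have := hA.2 a ha
    rwa [pow_two] at this
  have hAc : ∀ a ∈ A, ∀ b ∈ A, a * b = b * a := fun a ha b hb =>
    congrArg Subtype.val (hA.1.is_comm.comm (⟨a, ha⟩ : ↥A) ⟨b, hb⟩)
  haveI hKn : (K.subgroupOf Y).Normal := ⟨fun k hk y => by
    rw [Subgroup.mem_subgroupOf] at hk ⊢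
    show (y : G) * k * (y : G)⁻¹ ∈ K
    rwa [hKY _ hk _ y.2, mul_inv_cancel_right]⟩
  set q := QuotientGroup.mk' (K.subgroupOf Y) with hq
  have hqs : Function.Surjective q := QuotientGroup.mk'_surjective _
  have hker : ∀ a : ↥Y, q a = 1 ↔ (a : G) ∈ K := fun a => by
    rw [hq, QuotientGroup.mk'_apply, QuotientGroup.eq_one_iff, Subgroup.mem_subgroupOf]
  have hqe : ∀ a b : ↥Y, q a = q b → ∃ k ∈ K, (a : G) = b * k := fun a b e => by
    refine ⟨(b : G)⁻¹ * a, ?_, by group⟩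
    exact (hker (b⁻¹ * a)).1 (by rw [map_mul, map_inv, e, inv_mul_cancel])
  set Mq := (N.subgroupOf Y).map q with hMq
  set Vq := (A.subgroupOf Y).map q with hVq
  have hmemM : ∀ a : ↥Y, q a ∈ Mq ↔ (a : G) ∈ N := fun a => by
    refine ⟨?_, fun h => ⟨a, h, rfl⟩⟩
    rintro ⟨b, hb, e⟩
    obtain ⟨k, hk, e'⟩ := hqe a b e.symm
    rw [e']; exact mul_mem hb (hAN (hKA hk))
  have hmemV : ∀ a : ↥Y, q a ∈ Vq ↔ (a : G) ∈ A := fun a => by
    refine ⟨?_, fun h => ⟨a, h, rfl⟩⟩
    rintro ⟨b, hb, e⟩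
    obtain ⟨k, hk, e'⟩ := hqe a b e.symm
    rw [e']; exact mul_mem hb (hKA hk)
  -- sizes
  have hVc : Nat.card Vq * Nat.card K = 2 ^ 11 := by
    have e1 := (q.subgroupMap (A.subgroupOf Y)).ker.card_mul_index
    rw [Subgroup.index_ker, MonoidHom.range_eq_top.2 (MonoidHom.subgroupMap_surjective _ _), Subgroup.card_top,
      Nat.card_congr (Subgroup.subgroupOfEquivOfLe hAY).toEquiv, hc, mul_comm] at e1
    rw [← e1]
    congr 1
    exact Nat.card_congr
      { toFun := fun k => ⟨⟨⟨(k : G), hAY (hKA k.2)⟩, Subgroup.mem_subgroupOf.2 (hKA k.2)⟩,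
          MonoidHom.mem_ker.2 (Subtype.ext ((hker _).2 k.2))⟩
        invFun := fun a => ⟨(((a : ↥(A.subgroupOf Y)) : ↥Y) : G),
          (hker _).1 (congrArg Subtype.val (MonoidHom.mem_ker.1 a.2))⟩
        left_inv := fun k => rfl
        right_inv := fun a => rfl }
  have hV512 : 512 ≤ Nat.card Vq := by
    by_contra h
    have : Nat.card Vq * Nat.card K ≤ 511 * 4 := Nat.mul_le_mul (by omega) hKc
    omega
  -- the key observation
  have hL : ∀ y ∈ Y, ∀ e ∈ A, e ∉ K → y * e * y⁻¹ ∈ A → y ∈ N := by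
    intro y hy e he heK hye
    refine conj_mem_normalizer hU hA hc fun a ha => ?_
    refine hC _ hye (fun hk => heK ?_) _ (mul_mem (mul_mem hy (hAY ha)) (inv_mem hy)) ?_
    · have h1 := hKY _ hk y⁻¹ (inv_mem hy)
      rwa [show e = y⁻¹ * (y * e * y⁻¹) * y by group, h1, inv_mul_cancel_right]
    · calc y * a * y⁻¹ * (y * e * y⁻¹) = y * (a * e) * y⁻¹ := by group
        _ = y * e * y⁻¹ * (y * a * y⁻¹) := by rw [hAc a ha e he]; group
  have hn : ∀ m ∈ Mq, ∀ e ∈ Vq, m * e * m⁻¹ ∈ Vq := by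
    rintro _ ⟨m, hm, rfl⟩ _ ⟨e, he, rfl⟩
    rw [← map_inv, ← map_mul, ← map_mul, hmemV]
    exact (Subgroup.mem_normalizer_iff.1 hm (e : G)).1 he
  have hVab : ∀ a ∈ Vq, ∀ b ∈ Vq, a * b = b * a := by
    rintro _ ⟨a, ha, rfl⟩ _ ⟨b, hb, rfl⟩
    rw [← map_mul, ← map_mul, show a * b = b * a from Subtype.ext (hAc _ ha _ hb)]
  have hV2 : ∀ a ∈ Vq, a * a = 1 := by
    rintro _ ⟨a, ha, rfl⟩
    rw [← map_mul, show a * a = 1 from Subtype.ext (hA2 _ ha), map_one]
  have hfix := fix_one_coset (M := Mq) (V := Vq) (Subgroup.map_mono fun a ha => hAN ha) hn hVab hV2 (by omega)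
    (fun g hg => by
      obtain ⟨y, rfl⟩ := hqs g
      refine (hmemM y).2 (conj_mem_normalizer hU hA hc fun a ha => ?_)
      have := hg (q ⟨a, hAY ha⟩) ((hmemV _).2 ha)
      rw [← map_inv, ← map_mul, ← map_mul, hmemM] at this
      exact this)
    (fun e he he1 g hg => by
      obtain ⟨e, heA, rfl⟩ := he
      obtain ⟨y, rfl⟩ := hqs g
      rw [← map_mul, ← map_mul] at hg
      obtain ⟨k, hk, ek⟩ := hqe _ _ hg
      refine (hmemM y).2 (hL y y.2 e heA (fun h => he1 ((hker e).2 h)) ?_)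
      have ek' : (y : G) * e = (e : G) * y * k := ek
      rw [ek', mul_assoc (e : G) _ k, hKY k hk y y.2, ← mul_assoc, mul_inv_cancel_right]
      exact mul_mem heA (hKA hk))
    (fun B hBM hB2 hBc hBV hcard hone => by
      refine hrank ((B.comap q).map Y.subtype) (Subgroup.map_subtype_le _) ?_ ?_ ?_ ?_ ?_ ?_
      · rintro _ ⟨b, hb, rfl⟩
        exact (hmemM b).1 (hBM hb)
      · rintro _ ⟨b, hb, rfl⟩
        exact (hker (b * b)).1 (by rw [map_mul]; exact hB2 _ hb)
      · rintro _ ⟨b, hb, rfl⟩ hbA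
        exact (hker b).1 (hBV _ hb ((hmemV b).2 hbA))
      · intro k hk
        exact ⟨⟨k, hAY (hKA hk)⟩, show q _ ∈ B by rw [(hker _).2 hk]; exact one_mem _, rfl⟩
      · have hBp : IsPGroup 2 B := fun b => ⟨1, Subtype.ext (by
          push_cast
          rw [pow_two]; exact hB2 b b.2)⟩
        obtain ⟨n, hn2⟩ := IsPGroup.iff_card.1 hBp
        have hn5 : 5 ≤ n := by
          by_contra h
          have h1 : 2 ^ n ≤ 2 ^ 4 := Nat.pow_le_pow_right (by norm_num) (by omega)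
          have h2 : Nat.card B ^ 2 ≤ 16 ^ 2 := Nat.pow_le_pow_left (hn2 ▸ h1) 2
          omega
        have e1 := (q.subgroupComap B).ker.card_mul_index
        rw [Subgroup.index_ker, MonoidHom.range_eq_top.2 (fun b => by
          obtain ⟨y, hy⟩ := hqs b
          exact ⟨⟨y, show q y ∈ B from hy ▸ b.2⟩, Subtype.ext hy⟩), Subgroup.card_top] at e1
        rw [Subgroup.card_map_of_injective Y.subtype_injective, ← e1, mul_comm]
        refine Nat.mul_le_mul (le_of_eq (Nat.card_congr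
          { toFun := fun k => ⟨⟨⟨(k : G), hAY (hKA k.2)⟩, show q _ ∈ B by rw [(hker _).2 k.2]; exact one_mem _⟩,
              MonoidHom.mem_ker.2 (Subtype.ext ((hker _).2 k.2))⟩
            invFun := fun a => ⟨(((a : ↥(B.comap q)) : ↥Y) : G),
              (hker _).1 (congrArg Subtype.val (MonoidHom.mem_ker.1 a.2))⟩
            left_inv := fun k => rfl
            right_inv := fun a => rfl })) ?_
        rw [hn2]
        exact le_trans (by norm_num) (Nat.pow_le_pow_right (by norm_num) hn5)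
      · rintro _ ⟨b, hb, rfl⟩ hbK e he hcomm _ ⟨b', hb', rfl⟩
        let eY : ↥Y := ⟨e, hAY he⟩
        have hlift : ∀ b : ↥Y, e * (b : G) * e⁻¹ * (b : G)⁻¹ ∈ K ↔ q eY * q b = q b * q eY := fun b => by
          refine (hker (eY * b * eY⁻¹ * b⁻¹)).symm.trans ?_
          rw [map_mul, map_mul, map_mul, map_inv, map_inv, mul_inv_eq_one, mul_inv_eq_iff_eq_mul]
        exact (hlift b').2 (hone _ hb (fun h => hbK ((hker b).1 h)) _ ((hmemV eY).2 he) ((hlift b).1 hcomm) _ hb'))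
  let Dq : Set (↥Y ⧸ K.subgroupOf Y) := {d | ∃ w, ∃ h : w ∈ Y, w ∈ D ∧ q ⟨w, h⟩ = d}
  have htop := eq_top_of_two_classes (M := Mq) (V := Vq) (Subgroup.map_mono fun a ha => hAN ha) hn hV2 hfix
    (v := q ⟨v, hAY hv⟩) ((hmemV _).2 hv) (fun h => hvK ((hker _).1 h)) (D := Dq)
    (by
      rintro _ ⟨w, hw, hwD, rfl⟩
      exact ⟨(hmemV _).2 (hD w hwD).1, fun h => (hD w hwD).2 ((hker _).1 h)⟩)
    (fun g => by
      rintro ⟨w, hw, hwD, e⟩
      obtain ⟨y, rfl⟩ := hqs g
      rw [← map_inv, ← map_mul, ← map_mul] at e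
      obtain ⟨k, hk, ek⟩ := hqe _ _ e
      have ek' : w = (y : G) * v * (y : G)⁻¹ * k := ek
      refine hne y y.2 k hk ?_
      convert hwD using 1
      rw [ek', mul_assoc _ _ k, hKY k hk _ (inv_mem y.2)]
      group)
    (fun R hR hRp => by
      obtain ⟨T⟩ : Nonempty (Sylow 2 ↥(R.comap q)) := inferInstance
      -- a two-subgroup upstairs mapping onto `R`
      have hKp : IsPGroup 2 ↥q.ker := by
        rw [hq, QuotientGroup.ker_mk']
        exact ((IsPGroup.of_card hc : IsPGroup 2 ↥A).to_le hKA).comap_of_injective Y.subtype Y.subtype_injective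
      obtain ⟨w, hwD, hw⟩ := hcent ((R.comap q).map Y.subtype) (Subgroup.map_subtype_le _)
        (by rintro _ ⟨r, hr, rfl⟩; exact (hmemM r).1 (hR hr)) ((hRp.comap_of_ker_isPGroup q hKp).map _)
      refine ⟨_, ⟨w, hAY (hD w hwD).1, hwD, rfl⟩, fun r hr => ?_⟩
      obtain ⟨y, rfl⟩ := hqs r
      have h := (hker (y * ⟨w, hAY (hD w hwD).1⟩ * y⁻¹ * ⟨w, hAY (hD w hwD).1⟩⁻¹)).2 (hw y ⟨y, hr, rfl⟩)
      rw [map_mul, map_mul, map_mul, map_inv, map_inv] at h
      exact mul_inv_eq_iff_eq_mul.1 (mul_inv_eq_one.1 h))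
  intro y hy
  exact (hmemM ⟨y, hy⟩).1 (htop ▸ Subgroup.mem_top _)

variable {z : G} {A : Subgroup G} {θ : ↥(Subgroup.normalizer (A : Set G)) →* ↥Cfsg.M24}
  {f : GolayPt → GolayPt → G}

theorem pair_in_triple {α : Type*} {c d p q r : α} (hcd : c ≠ d) (hpq : p ≠ q) (hpr : p ≠ r) (hqr : q ≠ r)
    (d1 : c = p ∨ c = q ∨ d = p ∨ d = q) (d2 : c = p ∨ c = r ∨ d = p ∨ d = r) (d3 : c = q ∨ c = r ∨ d = q ∨ d = r) :
    (c = p ∧ d = q) ∨ (c = q ∧ d = p) ∨ (c = p ∧ d = r) ∨ (c = r ∧ d = p) ∨ (c = q ∧ d = r) ∨ (c = r ∧ d = q) := by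
  grind

namespace Duads

variable (h : Duads z A θ f)
include h

omit [Finite G] in
theorem sq {a : G} (ha : a ∈ A) : a * a = 1 := by
  have := h.elem.2 a ha
  rwa [pow_two] at this

omit [Finite G] in
theorem comm {a b : G} (ha : a ∈ A) (hb : b ∈ A) : a * b = b * a :=
  congrArg Subtype.val (h.elem.1.is_comm.comm (⟨a, ha⟩ : ↥A) ⟨b, hb⟩)

omit [Finite G] in
theorem diag (p : GolayPt) : f p p = 1 := mul_eq_left.1 (h.mul p p p)

omit [Finite G] in
theorem mul' (p q r : GolayPt) : f p q * f p r = f q r := by rw [h.symm p q, h.mul]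

omit [Finite G] in
theorem not_conj {p q : GolayPt} (hpq : p ≠ q) : ¬ IsConj z (f p q) := (h.small hpq).2

omit [Finite G] in
/-- The image of a pair under an element centralising its member. -/
theorem pair_fixed {m : ↥(Subgroup.normalizer (A : Set G))} {p q : GolayPt} (hpq : p ≠ q)
    (hm : (m : G) * f p q = f p q * m) :
    ((θ m : Equiv.Perm GolayPt) p = p ∧ (θ m : Equiv.Perm GolayPt) q = q) ∨
      ((θ m : Equiv.Perm GolayPt) p = q ∧ (θ m : Equiv.Perm GolayPt) q = p) :=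
  h.inj (fun e => hpq ((θ m : Equiv.Perm GolayPt).injective e)) hpq
    ((h.act m p q).symm.trans (mul_inv_eq_iff_eq_mul.2 hm))

/-- The image in the Mathieu group of a subgroup of the normaliser. -/
theorem image_card {K B : Subgroup G} (hB : B ≤ Subgroup.normalizer (A : Set G))
    (hBK : ∀ b ∈ B, b ∈ A → b ∈ K) (hcard : 32 * Nat.card K ≤ Nat.card B) :
    32 ≤ Nat.card ((B.subgroupOf (Subgroup.normalizer (A : Set G))).map (Cfsg.M24.subtype.comp θ)) := by
  set φ := Cfsg.M24.subtype.comp θ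
  set B' := B.subgroupOf (Subgroup.normalizer (A : Set G))
  have e1 := (φ.subgroupMap B').ker.card_mul_index
  rw [Subgroup.index_ker, MonoidHom.range_eq_top.2 (MonoidHom.subgroupMap_surjective _ _), Subgroup.card_top,
    Nat.card_congr (Subgroup.subgroupOfEquivOfLe hB).toEquiv] at e1
  have h1 : Nat.card (φ.subgroupMap B').ker ≤ Nat.card K := by
    have hk : ∀ a : (φ.subgroupMap B').ker, (((a : ↥B') : ↥(Subgroup.normalizer (A : Set G))) : G) ∈ K := by
      intro a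
      refine hBK _ (Subgroup.mem_subgroupOf.1 (a : ↥B').2) ?_
      have h0 : θ ((a : ↥B') : ↥(Subgroup.normalizer (A : Set G))) = 1 := by
        have hh := congrArg Subtype.val (MonoidHom.mem_ker.1 a.2)
        exact Subtype.ext hh
      rw [← MonoidHom.mem_ker, h.ker] at h0
      exact h0
    exact Nat.card_le_card_of_injective (fun a => (⟨_, hk a⟩ : ↥K))
      (fun a b e => Subtype.ext (Subtype.ext (Subtype.ext (congrArg Subtype.val e :))))
  by_contra hlt
  have : Nat.card (φ.subgroupMap B').ker * Nat.card (B'.map φ) ≤ Nat.card K * 31 := Nat.mul_le_mul h1 (by omega)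
  have hpos : 0 < Nat.card K := Nat.card_pos
  omega

/-- No large two-group acts on a point. -/
theorem no_large {K B : Subgroup G} (hKA : K ≤ A) (hB : B ≤ Subgroup.normalizer (A : Set G))
    (hB2 : ∀ b ∈ B, b * b ∈ K) (hBK : ∀ b ∈ B, b ∈ A → b ∈ K) (hcard : 32 * Nat.card K ≤ Nat.card B) (r : GolayPt)
    (hr : ∀ b (hb : b ∈ B), (θ ⟨b, hB hb⟩ : Equiv.Perm GolayPt) r = r) : False := by
  have h32 := h.image_card hB hBK hcard
  have := card_lt_of_fixed_point ((B.subgroupOf (Subgroup.normalizer (A : Set G))).map (Cfsg.M24.subtype.comp θ))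
    (by rintro _ ⟨b, -, rfl⟩; exact (θ b).2)
    (by
      rintro _ ⟨b, hb, rfl⟩
      rw [← map_mul]
      show ((θ (b * b) : ↥Cfsg.M24) : Equiv.Perm GolayPt) = 1
      have h0 : θ (b * b) = 1 := by
        rw [← MonoidHom.mem_ker, h.ker]
        exact hKA (hB2 _ (Subgroup.mem_subgroupOf.1 hb))
      rw [h0]; rfl)
    r (by rintro _ ⟨b, hb, rfl⟩; exact hr b (Subgroup.mem_subgroupOf.1 hb))
  omega

/-- The centraliser of two meeting members normalises `A`. -/
theorem cent_meet (hU : UniqAb G) {p q r : GolayPt} (hpq : p ≠ q) (hpr : p ≠ r) (hqr : q ≠ r) {y : G}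
    (hy1 : y * f p q = f p q * y) (hy2 : y * f p r = f p r * y) : y ∈ Subgroup.normalizer (A : Set G) := by
  classical
  haveI : Fact (Nat.Prime 2) := ⟨Nat.prime_two⟩
  have e12 : f p q * f p r = f q r := h.mul' p q r
  have e21 : f p r * f p q = f q r := by rw [h.comm (h.mem _ _) (h.mem _ _), e12]
  have e13 : f p q * f q r = f p r := h.mul p q r
  have e31 : f q r * f p q = f p r := by rw [h.comm (h.mem _ _) (h.mem _ _), e13]
  have e23 : f p r * f q r = f p q := by rw [h.symm q r, h.mul]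
  have e32 : f q r * f p r = f p q := by rw [h.comm (h.mem _ _) (h.mem _ _), e23]
  let K : Subgroup G :=
    { carrier := {k | k = 1 ∨ k = f p q ∨ k = f p r ∨ k = f q r}
      one_mem' := Or.inl rfl
      mul_mem' := by
        rintro a b (rfl | rfl | rfl | rfl) (rfl | rfl | rfl | rfl) <;>
          simp [h.sq (h.mem _ _), e12, e21, e13, e31, e23, e32]
      inv_mem' := by
        rintro a (rfl | rfl | rfl | rfl) <;> simp [inv_eq_of_mul_eq_one_left (h.sq (h.mem _ _))] }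
  let Y : Subgroup G := Subgroup.centralizer {f p q, f p r}
  have hY : ∀ u : G, u ∈ Y ↔ u * f p q = f p q * u ∧ u * f p r = f p r * u := fun u => by
    simp [Y, Subgroup.mem_centralizer_iff, eq_comm]
  have hKA : K ≤ A := by rintro k (rfl | rfl | rfl | rfl); exacts [one_mem _, h.mem _ _, h.mem _ _, h.mem _ _]
  have hKY : ∀ k ∈ K, ∀ u ∈ Y, u * k = k * u := by
    intro k hk u hu
    obtain ⟨h1, h2⟩ := (hY u).1 hu
    rcases hk with rfl | rfl | rfl | rfl
    · rw [mul_one, one_mul]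
    · exact h1
    · exact h2
    · rw [← e12, ← mul_assoc, h1, mul_assoc, h2, ← mul_assoc]
  have hAY : A ≤ Y := fun a ha => (hY a).2 ⟨h.comm ha (h.mem _ _), h.comm ha (h.mem _ _)⟩
  have hfixed : ∀ m : ↥(Subgroup.normalizer (A : Set G)), (m : G) ∈ Y → (θ m : Equiv.Perm GolayPt) p = p ∧
      (θ m : Equiv.Perm GolayPt) q = q ∧ (θ m : Equiv.Perm GolayPt) r = r := by
    intro m hm
    obtain ⟨h1, h2⟩ := (hY _).1 hm
    rcases h.pair_fixed hpq h1 with ⟨a, b⟩ | ⟨a, -⟩ <;> rcases h.pair_fixed hpr h2 with ⟨a', c⟩ | ⟨a', -⟩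
    · exact ⟨a, b, c⟩
    · exact absurd (a.symm.trans a') hpr
    · exact absurd (a'.symm.trans a) hpq
    · exact absurd (a.symm.trans a') hqr
  obtain ⟨a, ha⟩ := Finset.exists_mem_notMem_of_card_lt_card
    (show ({p, q, r} : Finset GolayPt).card < (Finset.univ : Finset GolayPt).card from by
      rw [Finset.card_univ]
      exact lt_of_le_of_lt Finset.card_le_three (by simp [GolayPt, ZMod.card]))
  obtain ⟨b, hb⟩ := Finset.exists_mem_notMem_of_card_lt_card
    (show ({p, q, r, a} : Finset GolayPt).card < (Finset.univ : Finset GolayPt).card from by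
      rw [Finset.card_univ]
      exact lt_of_le_of_lt Finset.card_le_four (by simp [GolayPt, ZMod.card]))
  simp only [Finset.mem_univ, Finset.mem_insert, Finset.mem_singleton, not_or, true_and] at ha hb
  obtain ⟨hap, haq, har⟩ := ha
  obtain ⟨hbp, hbq, hbr, hba⟩ := hb
  have hab : a ≠ b := Ne.symm hba
  have hcz : IsConj z (f a b * f p q) := h.four hab hpq hap haq hbp hbq
  refine step hU (Y := Y) (K := K) h.elem h.card hAY hKA ?_ hKY ?_ ?_ (v := f a b) (h.mem _ _) ?_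
    (D := {w | ∃ x, x ≠ p ∧ x ≠ q ∧ x ≠ r ∧ w = f p x}) ?_ ?_ ?_ ((hY y).2 ⟨hy1, hy2⟩)
  · show Nat.card ↥(↑K : Set G) ≤ 4
    rw [Nat.card_coe_set_eq]
    have : (↑K : Set G) = {1, f p q, f p r, f q r} := by ext k; simp [K]
    rw [this]
    refine (Set.ncard_insert_le _ _).trans (Nat.succ_le_succ ((Set.ncard_insert_le _ _).trans (Nat.succ_le_succ ?_)))
    exact (Set.ncard_insert_le _ _).trans (by rw [Set.ncard_singleton])
  · intro e he heK u hu hue
    obtain ⟨h1, h2⟩ := (hY u).1 hu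
    have h3 : u * f q r = f q r * u := hKY _ (Or.inr (Or.inr (Or.inr rfl))) u hu
    have hz : ∀ w : G, IsConj z w → w ∈ A → u * w = w * u → u ∈ Subgroup.normalizer (A : Set G) :=
      fun w hw hwA hc => h.zt w hwA hw _ (h.mem p q) (h.small hpq).1 (h.not_conj hpq) u hc h1
    by_cases hez : IsConj z e
    · exact hz e hez he hue
    obtain ⟨c, d, hcd, rfl⟩ := h.surj' e he (fun e' => heK (Or.inl e')) hez
    by_cases d1 : c ≠ p ∧ c ≠ q ∧ d ≠ p ∧ d ≠ q
    · exact hz _ (h.four hcd hpq d1.1 d1.2.1 d1.2.2.1 d1.2.2.2) (mul_mem he (h.mem _ _))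
        (Commute.mul_right hue h1)
    by_cases d2 : c ≠ p ∧ c ≠ r ∧ d ≠ p ∧ d ≠ r
    · exact hz _ (h.four hcd hpr d2.1 d2.2.1 d2.2.2.1 d2.2.2.2) (mul_mem he (h.mem _ _))
        (Commute.mul_right hue h2)
    by_cases d3 : c ≠ q ∧ c ≠ r ∧ d ≠ q ∧ d ≠ r
    · exact hz _ (h.four hcd hqr d3.1 d3.2.1 d3.2.2.1 d3.2.2.2) (mul_mem he (h.mem _ _))
        (Commute.mul_right hue h3)
    simp only [not_and_or, not_not] at d1 d2 d3
    refine absurd ?_ heK
    rcases pair_in_triple hcd hpq hpr hqr d1 d2 d3 with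
      ⟨rfl, rfl⟩ | ⟨rfl, rfl⟩ | ⟨rfl, rfl⟩ | ⟨rfl, rfl⟩ | ⟨rfl, rfl⟩ | ⟨rfl, rfl⟩
    · exact Or.inr (Or.inl rfl)
    · exact Or.inr (Or.inl (h.symm _ _))
    · exact Or.inr (Or.inr (Or.inl rfl))
    · exact Or.inr (Or.inr (Or.inl (h.symm _ _)))
    · exact Or.inr (Or.inr (Or.inr rfl))
    · exact Or.inr (Or.inr (Or.inr (h.symm _ _)))
  · intro B hBY hBN hB2 hBA _ hcard _
    exact h.no_large hKA hBN hB2 hBA hcard r fun x hx => (hfixed ⟨x, hBN hx⟩ (hBY hx)).2.2
  · rintro (e | e | e | e)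
    · exact (h.small hab).1 e
    all_goals
      rcases h.inj hab (by assumption) e with ⟨e', e''⟩ | ⟨e', e''⟩ <;>
        first | exact hap e' | exact haq e' | exact har e'
  · rintro _ ⟨x, hxp, hxq, hxr, rfl⟩
    refine ⟨h.mem _ _, ?_⟩
    rintro (e | e | e | e)
    · exact (h.small (Ne.symm hxp)).1 e
    all_goals
      rcases h.inj (Ne.symm hxp) (by assumption) e with ⟨e', e''⟩ | ⟨e', e''⟩ <;>
        first | exact hxp e'' | exact hxq e'' | exact hxr e'' | exact hpq e' | exact hpr e'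
  · rintro u hu k hk ⟨x, hxp, hxq, hxr, e⟩
    obtain ⟨h1, h2⟩ := (hY u).1 hu
    have hconj : ∀ w : G, IsConj z w ↔ IsConj z (u * w * u⁻¹) := fun w =>
      ⟨fun c => c.trans (isConj_iff.2 ⟨u, rfl⟩), fun c => c.trans (isConj_iff.2 ⟨u⁻¹, by group⟩)⟩
    have hx : ¬ IsConj z (f p x) := h.not_conj (Ne.symm hxp)
    rcases hk with rfl | rfl | rfl | rfl
    · rw [mul_one] at e
      have e' : u * (f a b * f p q) * u⁻¹ = f q x := by
        rw [show u * (f a b * f p q) * u⁻¹ = u * f a b * u⁻¹ * (u * f p q * u⁻¹) by group, e, h1,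
          mul_inv_cancel_right, h.comm (h.mem _ _) (h.mem _ _), h.mul']
      exact h.not_conj (Ne.symm hxq) (e' ▸ (hconj _).1 hcz)
    · exact hx (e ▸ (hconj _).1 hcz)
    · exact hx (e ▸ (hconj _).1 (h.four hab hpr hap har hbp hbr))
    · exact hx (e ▸ (hconj _).1 (h.four hab hqr haq har hbq hbr))
  · intro R hRY hRN hRp
    let φ : ↥R →* Equiv.Perm GolayPt := (Cfsg.M24.subtype.comp θ).comp (Subgroup.inclusion hRN)
    letI : MulAction ↥R GolayPt := MulAction.compHom GolayPt φ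
    have key := hRp.card_modEq_card_fixedPoints GolayPt
    obtain ⟨x, hx, hx'⟩ : ∃ x ∈ MulAction.fixedPoints ↥R GolayPt, x ∉ ({p, q, r} : Set GolayPt) := by
      by_contra hc
      push_neg at hc
      have hsub : MulAction.fixedPoints ↥R GolayPt = {p, q, r} := by
        refine Set.Subset.antisymm hc ?_
        rintro w (rfl | rfl | rfl) g
        · exact (hfixed ⟨g, hRN g.2⟩ (hRY g.2)).1
        · exact (hfixed ⟨g, hRN g.2⟩ (hRY g.2)).2.1
        · exact (hfixed ⟨g, hRN g.2⟩ (hRY g.2)).2.2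
      rw [hsub, Nat.card_coe_set_eq, Set.ncard_eq_three.2 ⟨p, q, r, hpq, hpr, hqr, rfl⟩] at key
      simp [Nat.ModEq, GolayPt, Nat.card_eq_fintype_card, ZMod.card] at key
    simp only [Set.mem_insert_iff, Set.mem_singleton_iff, not_or] at hx'
    refine ⟨f p x, ⟨x, hx'.1, hx'.2.1, hx'.2.2, rfl⟩, fun g hg => ?_⟩
    have hact := h.act ⟨g, hRN hg⟩ p x
    rw [(hfixed ⟨g, hRN hg⟩ (hRY hg)).1, show (θ ⟨g, hRN hg⟩ : Equiv.Perm GolayPt) x = x from hx ⟨g, hg⟩] at hact
    rw [hact, mul_inv_cancel]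
    exact one_mem _

/-- The centraliser of a member of the small class normalises `A`. -/
theorem cent_small (hU : UniqAb G) {p q : GolayPt} (hpq : p ≠ q) :
    Subgroup.centralizer ({f p q} : Set G) ≤ Subgroup.normalizer (A : Set G) := by
  classical
  haveI : Fact (Nat.Prime 2) := ⟨Nat.prime_two⟩
  let K : Subgroup G :=
    { carrier := {k | k = 1 ∨ k = f p q}
      one_mem' := Or.inl rfl
      mul_mem' := by rintro a b (rfl | rfl) (rfl | rfl) <;> simp [h.sq (h.mem _ _)]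
      inv_mem' := by rintro a (rfl | rfl) <;> simp [inv_eq_of_mul_eq_one_left (h.sq (h.mem _ _))] }
  set Y := Subgroup.centralizer ({f p q} : Set G) with hYdef
  have hY : ∀ u : G, u ∈ Y ↔ u * f p q = f p q * u := fun u => Subgroup.mem_centralizer_singleton_iff
  have hKA : K ≤ A := by rintro k (rfl | rfl); exacts [one_mem _, h.mem _ _]
  have hfixed : ∀ m : ↥(Subgroup.normalizer (A : Set G)), (m : G) ∈ Y →
      ((θ m : Equiv.Perm GolayPt) p = p ∧ (θ m : Equiv.Perm GolayPt) q = q) ∨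
      ((θ m : Equiv.Perm GolayPt) p = q ∧ (θ m : Equiv.Perm GolayPt) q = p) := fun m hm =>
    h.pair_fixed hpq ((hY _).1 hm)
  obtain ⟨a, ha⟩ := Finset.exists_mem_notMem_of_card_lt_card
    (show ({p, q} : Finset GolayPt).card < (Finset.univ : Finset GolayPt).card from by
      rw [Finset.card_univ]
      exact lt_of_le_of_lt Finset.card_le_two (by simp [GolayPt, ZMod.card]))
  simp only [Finset.mem_univ, Finset.mem_insert, Finset.mem_singleton, not_or, true_and] at ha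
  obtain ⟨hap, haq⟩ := ha
  refine step hU (Y := Y) (K := K) h.elem h.card (fun u hu => (hY u).2 (h.comm hu (h.mem _ _))) hKA ?_
    (fun k hk u hu => ?_) ?_ ?_ (v := f p a) (h.mem _ _) ?_
    (D := {w | ∃ x y, x ≠ p ∧ x ≠ q ∧ y ≠ p ∧ y ≠ q ∧ x ≠ y ∧ w = f p q * f x y}) ?_ ?_ ?_
  · show Nat.card ↥(↑K : Set G) ≤ 4
    rw [Nat.card_coe_set_eq, show (↑K : Set G) = {1, f p q} by ext k; simp [K]]
    exact (Set.ncard_insert_le _ _).trans (by rw [Set.ncard_singleton]; norm_num)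
  · rcases hk with rfl | rfl
    · rw [mul_one, one_mul]
    · exact (hY u).1 hu
  · intro e he heK u hu hue
    have h1 := (hY u).1 hu
    by_cases hez : IsConj z e
    · exact h.zt e he hez _ (h.mem p q) (h.small hpq).1 (h.not_conj hpq) u hue h1
    obtain ⟨c, d, hcd, rfl⟩ := h.surj' e he (fun e' => heK (Or.inl e')) hez
    by_cases d1 : c ≠ p ∧ c ≠ q ∧ d ≠ p ∧ d ≠ q
    · exact h.zt _ (mul_mem he (h.mem _ _)) (h.four hcd hpq d1.1 d1.2.1 d1.2.2.1 d1.2.2.2) _ (h.mem p q)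
        (h.small hpq).1 (h.not_conj hpq) u (Commute.mul_right hue h1) h1
    simp only [not_and_or, not_not] at d1
    have h1' : u * f q p = f q p * u := by rw [h.symm q p]; exact h1
    have hue' : u * f d c = f d c * u := by rw [h.symm d c]; exact hue
    rcases d1 with e' | e' | e' | e' <;> subst e'
    · exact h.cent_meet hU hpq hcd (fun e'' => heK (Or.inr (by rw [e'']))) h1 hue
    · exact h.cent_meet hU (Ne.symm hpq) hcd (fun e'' => heK (Or.inr (by rw [← e'', h.symm]))) h1' hue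
    · exact h.cent_meet hU hpq (Ne.symm hcd) (fun e'' => heK (Or.inr (by rw [← e'', h.symm]))) h1 hue'
    · exact h.cent_meet hU (Ne.symm hpq) (Ne.symm hcd) (fun e'' => heK (Or.inr (by rw [← e'']))) h1' hue'
  · intro B hBY hBN hB2 hBA _ hcard hone
    set I := (B.subgroupOf (Subgroup.normalizer (A : Set G))).map (Cfsg.M24.subtype.comp θ)
    have h32 : 32 ≤ Nat.card I := h.image_card hBN hBA hcard
    have hI : ∀ σ ∈ I, ∃ b, ∃ hb : b ∈ B, (θ ⟨b, hBN hb⟩ : Equiv.Perm GolayPt) = σ := by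
      rintro _ ⟨b, hb, rfl⟩
      exact ⟨b, hb, rfl⟩
    obtain ⟨σ, hσ, hσ1, x, hxp, hxq, hσx⟩ :
        ∃ σ ∈ I, σ ≠ 1 ∧ ∃ x, x ≠ p ∧ x ≠ q ∧ σ x = x := by
      by_contra hc
      push_neg at hc
      have hle : Nat.card I ≤ Nat.card GolayPt := Nat.card_le_card_of_injective
        (fun σ : I => (σ : Equiv.Perm GolayPt) a) fun σ τ e => by
          by_contra hne
          refine hc ((τ : Equiv.Perm GolayPt)⁻¹ * σ) (mul_mem (inv_mem τ.2) σ.2)
            (fun e' => hne (Subtype.ext (inv_mul_eq_one.1 e').symm)) a hap haq ?_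
          show (τ : Equiv.Perm GolayPt).symm ((σ : Equiv.Perm GolayPt) a) = a
          rw [show (σ : Equiv.Perm GolayPt) a = (τ : Equiv.Perm GolayPt) a from e, Equiv.symm_apply_apply]
      have : Nat.card GolayPt = 24 := by simp [GolayPt, Nat.card_eq_fintype_card, ZMod.card]
      omega
    obtain ⟨b, hb, rfl⟩ := hI σ hσ
    have hbK : b ∉ K := fun hk => hσ1 (by
      have h0 : θ ⟨b, hBN hb⟩ = 1 := by rw [← MonoidHom.mem_ker, h.ker]; exact hKA hk
      rw [h0]; rfl)
    have hcomm : ∀ b' (hb' : b' ∈ B), f p x * b' * (f p x)⁻¹ * b'⁻¹ =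
        f p x * f ((θ ⟨b', hBN hb'⟩ : Equiv.Perm GolayPt) p) ((θ ⟨b', hBN hb'⟩ : Equiv.Perm GolayPt) x) := by
      intro b' hb'
      rw [← h.act ⟨b', hBN hb'⟩ p x, inv_eq_of_mul_eq_one_left (h.sq (h.mem p x))]
      group
    have hall := hone b hb hbK (f p x) (h.mem _ _) (by
      rw [hcomm b hb, hσx]
      rcases hfixed ⟨b, hBN hb⟩ (hBY hb) with ⟨e, -⟩ | ⟨e, -⟩ <;> rw [e]
      · rw [h.sq (h.mem _ _)]; exact one_mem _
      · rw [h.symm q x, h.mul]; exact Or.inr rfl)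
    refine h.no_large hKA hBN hB2 hBA hcard x fun b' hb' => ?_
    have h' := hall b' hb'
    rw [hcomm b' hb'] at h'
    set σ' := (θ ⟨b', hBN hb'⟩ : Equiv.Perm GolayPt)
    have hout : σ' x ≠ p ∧ σ' x ≠ q := by
      rcases hfixed ⟨b', hBN hb'⟩ (hBY hb') with ⟨e1, e2⟩ | ⟨e1, e2⟩
      · exact ⟨fun e => hxp (σ'.injective (e.trans e1.symm)), fun e => hxq (σ'.injective (e.trans e2.symm))⟩
      · exact ⟨fun e => hxq (σ'.injective (e.trans e2.symm)), fun e => hxp (σ'.injective (e.trans e1.symm))⟩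
    have h'' : f x (σ' x) ∈ K := by
      rcases hfixed ⟨b', hBN hb'⟩ (hBY hb') with ⟨e1, -⟩ | ⟨e1, -⟩
      · rw [← h.mul' p x (σ' x)]; rwa [e1] at h'
      · have := mul_mem (show f p q ∈ K from Or.inr rfl) h'
        rw [e1, ← mul_assoc, h.mul' p q x, h.mul' q x (σ' x)] at this
        exact this
    by_contra hne
    rcases h'' with e | e
    · exact (h.small (Ne.symm hne)).1 e
    · rcases h.inj (Ne.symm hne) hpq e with ⟨e', -⟩ | ⟨e', -⟩
      · exact hxp e'
      · exact hxq e'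
  · rintro (e | e)
    · exact (h.small (Ne.symm hap)).1 e
    · rcases h.inj (Ne.symm hap) hpq e with ⟨-, e'⟩ | ⟨e', -⟩
      · exact haq e'
      · exact hpq e'
  · rintro _ ⟨x, y, h1, h2, h3, h4, h5, rfl⟩
    have hcz := h.four hpq h5 (Ne.symm h1) (Ne.symm h3) (Ne.symm h2) (Ne.symm h4)
    refine ⟨mul_mem (h.mem _ _) (h.mem _ _), ?_⟩
    rintro (e | e)
    · exact h.not_conj hpq (by
        have e' : f p q = f x y := by
          rw [← mul_inv_eq_one, inv_eq_of_mul_eq_one_left (h.sq (h.mem x y)), e]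
        rcases h.inj hpq h5 e' with ⟨e'', -⟩ | ⟨e'', -⟩
        · exact absurd e''.symm h1
        · exact absurd e''.symm h3)
    · exact h.not_conj hpq (e ▸ hcz)
  · rintro u hu k hk ⟨x, y, h1, h2, h3, h4, h5, e⟩
    have hcz := h.four hpq h5 (Ne.symm h1) (Ne.symm h3) (Ne.symm h2) (Ne.symm h4)
    rw [← e] at hcz
    have hz : IsConj z (f p a * k) := hcz.trans (isConj_iff.2 ⟨u⁻¹, by group⟩)
    rcases hk with rfl | rfl
    · rw [mul_one] at hz; exact h.not_conj (Ne.symm hap) hz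
    · rw [h.mul'] at hz; exact h.not_conj haq hz
  · intro R hRY hRN hRp
    let φ : ↥R →* Equiv.Perm GolayPt := (Cfsg.M24.subtype.comp θ).comp (Subgroup.inclusion hRN)
    let S := {s : Finset GolayPt // s.card = 2 ∧ p ∉ s ∧ q ∉ s}
    have hpres : ∀ (g : ↥R) (w : GolayPt), (w ≠ p ∧ w ≠ q) → φ g w ≠ p ∧ φ g w ≠ q := by
      rintro g w ⟨w1, w2⟩
      rcases hfixed ⟨g, hRN g.2⟩ (hRY g.2) with ⟨e1, e2⟩ | ⟨e1, e2⟩
      · exact ⟨fun e => w1 ((φ g).injective (e.trans e1.symm)), fun e => w2 ((φ g).injective (e.trans e2.symm))⟩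
      · exact ⟨fun e => w2 ((φ g).injective (e.trans e2.symm)), fun e => w1 ((φ g).injective (e.trans e1.symm))⟩
    letI : MulAction ↥R S :=
      { smul := fun g s => ⟨s.1.map (φ g).toEmbedding, by
          refine ⟨by rw [Finset.card_map]; exact s.2.1, fun hc => ?_, fun hc => ?_⟩ <;>
            obtain ⟨w, hw, e⟩ := Finset.mem_map.1 hc
          · exact (hpres g w ⟨fun e' => s.2.2.1 (e' ▸ hw), fun e' => s.2.2.2 (e' ▸ hw)⟩).1 e
          · exact (hpres g w ⟨fun e' => s.2.2.1 (e' ▸ hw), fun e' => s.2.2.2 (e' ▸ hw)⟩).2 e⟩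
        one_smul := fun s => Subtype.ext (by
          show s.1.map (φ 1).toEmbedding = s.1
          rw [map_one]; exact Finset.map_refl)
        mul_smul := fun g g' s => Subtype.ext (by
          show s.1.map (φ (g * g')).toEmbedding = (s.1.map (φ g').toEmbedding).map (φ g).toEmbedding
          rw [map_mul, Finset.map_map]; rfl) }
    have hcard : Nat.card S = 231 := by
      rw [Nat.card_eq_fintype_card, Fintype.card_of_subtype ((((Finset.univ : Finset GolayPt).erase p).erase q).powersetCard 2)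
        (fun s => by
          rw [Finset.mem_powersetCard, Finset.subset_iff]
          constructor
          · rintro ⟨h1, h2⟩
            exact ⟨h2, fun hc => by simpa using h1 hc, fun hc => by simpa using h1 hc⟩
          · rintro ⟨h1, h2, h3⟩
            exact ⟨fun w hw => by simp [show w ≠ p from fun e => h2 (e ▸ hw), show w ≠ q from fun e => h3 (e ▸ hw)],
              h1⟩), Finset.card_powersetCard, Finset.card_erase_of_mem (by simp [Ne.symm hpq]),
        Finset.card_erase_of_mem (by simp), Finset.card_univ]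
      simp [GolayPt, ZMod.card]
      decide
    obtain ⟨s, hs⟩ := hRp.nonempty_fixed_point_of_prime_not_dvd_card S (by rw [hcard]; norm_num)
    obtain ⟨x, y, hxy, es⟩ := Finset.card_eq_two.1 s.2.1
    have hx : x ∈ s.1 := by rw [es]; simp
    have hy : y ∈ s.1 := by rw [es]; simp
    refine ⟨f p q * f x y, ⟨x, y, fun e => s.2.2.1 (e ▸ hx), fun e => s.2.2.2 (e ▸ hx),
      fun e => s.2.2.1 (e ▸ hy), fun e => s.2.2.2 (e ▸ hy), hxy, rfl⟩, fun g hg => ?_⟩
    have hs' : s.1.map (φ ⟨g, hg⟩).toEmbedding = s.1 := congrArg Subtype.val (hs ⟨g, hg⟩)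
    have hgx : φ ⟨g, hg⟩ x = x ∨ φ ⟨g, hg⟩ x = y := by
      have := Finset.mem_map_of_mem (φ ⟨g, hg⟩).toEmbedding hx
      rw [hs', es] at this
      simpa using this
    have hgy : φ ⟨g, hg⟩ y = x ∨ φ ⟨g, hg⟩ y = y := by
      have := Finset.mem_map_of_mem (φ ⟨g, hg⟩).toEmbedding hy
      rw [hs', es] at this
      simpa using this
    have hg1 : g * f p q * g⁻¹ = f p q := mul_inv_eq_iff_eq_mul.2 ((hY g).1 (hRY hg))
    have hg2 : g * f x y * g⁻¹ = f x y := by
      rw [show g * f x y * g⁻¹ = f (φ ⟨g, hg⟩ x) (φ ⟨g, hg⟩ y) from h.act ⟨g, hRN hg⟩ x y]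
      rcases hgx with e | e <;> rcases hgy with e' | e' <;> rw [e, e']
      · exact absurd ((φ ⟨g, hg⟩).injective (e.trans e'.symm)) hxy
      · exact h.symm _ _
      · exact absurd ((φ ⟨g, hg⟩).injective (e.trans e'.symm)) hxy
    rw [show g * (f p q * f x y) * g⁻¹ = g * f p q * g⁻¹ * (g * f x y * g⁻¹) by group, hg1, hg2, mul_inv_cancel]
    exact one_mem _

end Duads

end CfsgLib.Sporadic.J4Type
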