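import Cfsg.Agent.Lib.Sporadic.J4Type.Images
import Cfsg.Agent.Lib.Sporadic.J4Type.ModuleData

/-!
# An element of order eleven on six dimensions over the field with four elements

In suitable coordinates it is a companion matrix on five dimensions and fixes a line.
-/

set_option autoImplicit false
set_option linter.unusedSectionVars false
set_option maxRecDepth 40000

namespace CfsgLib.Sporadic.J4Type

open CfsgLib.Sporadic.LargeFischer CfsgLib.Sporadic.LargeFischer.Hexa

/-- The companion matrix with coefficients `n`, in bits. -/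
def comp (n : ℕ) : List ℕ := [4, 8, 16, 32, 64, 128, 256, 512, n, omc n, 1024, 2048]

theorem comp_q : comp qOne = xC ∧
    ((List.range 1024).all fun n => !(powL (comp n) 11 == idL) || n == qOne || n == qTwo) = true ∧
    cmpL frL (cmpL (comp qTwo) frL) = comp qOne ∧ cmpL frL frL = idL ∧ (frL.all fun x => decide (x < 4096)) = true ∧
    ∀ i : Fin 12, lm frL (omc (2 ^ i.1)) = omc (omc (frL.getD i.1 0)) := by decide +kernel

variable {V : Type*} [AddCommGroup V] [Module (ZMod 2) V]

/-- A fixed-point-free map of order three. -/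
structure Scal (w : V ≃ₗ[ZMod 2] V) : Prop where
  fpf : ∀ v, w v = v → v = 0
  cube : ∀ v, w (w (w v)) = v

theorem two_smul_zero (v : V) : v + v = 0 := by
  rw [← two_smul (ZMod 2) v, show (2 : ZMod 2) = 0 from rfl, zero_smul]

namespace Scal

variable {w : V ≃ₗ[ZMod 2] V} (hw : Scal w)
include hw

theorem sq (v : V) : w (w v) = v + w v := by
  have h := hw.fpf (v + w v + w (w v)) (by rw [map_add, map_add, hw.cube]; abel)
  have h2 : w (w v) = -(v + w v) := eq_neg_of_add_eq_zero_right h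
  rw [h2, neg_eq_of_add_eq_zero_right (two_smul_zero _)]

/-- Multiples by field elements. -/
noncomputable def sm (_hw : Scal w) (v : V) : D4 →ₗ[ZMod 2] V :=
  (LinearMap.fst (ZMod 2) (ZMod 2) (ZMod 2)).smulRight v + (LinearMap.snd (ZMod 2) (ZMod 2) (ZMod 2)).smulRight (w v)

theorem sm_apply (v : V) (d : D4) : hw.sm v d = d.1 • v + d.2 • w v := rfl

theorem sm_om (v : V) (d : D4) : hw.sm v (om d) = w (hw.sm v d) := by
  rw [sm_apply, sm_apply, map_add, map_smul, map_smul, hw.sq]
  simp only [om, smul_add, add_smul]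
  abel

theorem sm_map (g : V ≃ₗ[ZMod 2] V) (hg : ∀ v, g (w v) = w (g v)) (v : V) (d : D4) :
    g (hw.sm v d) = hw.sm (g v) d := by
  rw [sm_apply, sm_apply, map_add, map_smul, map_smul, hg]

theorem sm_one (v : V) : hw.sm v ((1 : ZMod 2), (0 : ZMod 2)) = v := by rw [sm_apply, one_smul, zero_smul, add_zero]

theorem sm_eq_zero {v : V} {d : D4} (h : hw.sm v d = 0) : d = 0 ∨ v = 0 := by
  rcases (by decide : ∀ d : D4, d = 0 ∨ d = ((1 : ZMod 2), (0 : ZMod 2)) ∨ d = om ((1 : ZMod 2), (0 : ZMod 2)) ∨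
      d = om (om ((1 : ZMod 2), (0 : ZMod 2)))) d with rfl | rfl | rfl | rfl
  · exact Or.inl rfl
  · exact Or.inr (by rwa [hw.sm_one] at h)
  · exact Or.inr (by rwa [hw.sm_om, hw.sm_one, LinearEquiv.map_eq_zero_iff] at h)
  · exact Or.inr (by rwa [hw.sm_om, hw.sm_om, hw.sm_one, LinearEquiv.map_eq_zero_iff, LinearEquiv.map_eq_zero_iff] at h)

/-- The combinations of some vectors. -/
noncomputable def comb {d : ℕ} (_hw : Scal w) (e : Fin d → V) : (Fin d → D4) →ₗ[ZMod 2] V :=
  ∑ i, (_hw.sm (e i)).comp (LinearMap.proj i)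

theorem comb_apply {d : ℕ} (e : Fin d → V) (c : Fin d → D4) : hw.comb e c = ∑ i, hw.sm (e i) (c i) := by
  simp [comb, LinearMap.sum_apply]

theorem comb_single {d : ℕ} (e : Fin d → V) (i : Fin d) (a : D4) : hw.comb e (Pi.single i a) = hw.sm (e i) a := by
  rw [comb_apply, Fintype.sum_eq_single i (fun j hj => by rw [Pi.single_eq_of_ne hj, map_zero]), Pi.single_eq_same]

theorem w_comb {d : ℕ} (e : Fin d → V) (c : Fin d → D4) : w (hw.comb e c) = hw.comb e (fun i => om (c i)) := by
  rw [comb_apply, comb_apply, map_sum]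
  exact Finset.sum_congr rfl fun i _ => (hw.sm_om _ _).symm

theorem sm_mem_range {d : ℕ} (e : Fin d → V) {u : V} (hu : u ∈ LinearMap.range (hw.comb e)) (a : D4) :
    hw.sm u a ∈ LinearMap.range (hw.comb e) := by
  rw [sm_apply]
  refine add_mem (Submodule.smul_mem _ _ hu) (Submodule.smul_mem _ _ ?_)
  obtain ⟨c, rfl⟩ := hu
  exact ⟨_, (hw.w_comb e c).symm⟩

end Scal

section eleven

variable [Finite V] (g : V ≃ₗ[ZMod 2] V) (h11 : g ^ 11 = 1)

/-- The fixed part. -/
noncomputable def avg : V →ₗ[ZMod 2] V := ∑ i ∈ Finset.range 11, (g ^ i : V ≃ₗ[ZMod 2] V).toLinearMap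

theorem avg_apply (v : V) : avg g v = ∑ i ∈ Finset.range 11, (g ^ i) v := by simp [avg, LinearMap.sum_apply]

include h11

theorem g_avg (v : V) : g (avg g v) = avg g v := by
  have e1 := Finset.sum_range_succ (fun i => (g ^ i) v) 11
  have e2 := Finset.sum_range_succ' (fun i => (g ^ i) v) 11
  have e3 : g (avg g v) = ∑ i ∈ Finset.range 11, (g ^ (i + 1)) v := by
    rw [avg_apply, map_sum]
    exact Finset.sum_congr rfl fun i _ => by rw [pow_succ']; rfl
  rw [e3, avg_apply]
  rw [e1, h11, pow_zero] at e2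
  exact (add_right_cancel e2).symm

theorem avg_g (v : V) : avg g (g v) = avg g v := by
  rw [avg_apply]
  conv_rhs => rw [← g_avg g h11, avg_apply, map_sum]
  refine Finset.sum_congr rfl fun i _ => ?_
  show (g ^ i * g) v = (g * g ^ i) v
  rw [((Commute.refl g).pow_left i).eq]

theorem avg_fixed {v : V} (hv : g v = v) : avg g v = v := by
  have h : ∀ i : ℕ, (g ^ i) v = v := fun i => by
    induction i with
    | zero => rfl
    | succ i ih => rw [pow_succ']; show g ((g ^ i) v) = v; rw [ih, hv]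
  rw [avg_apply, Finset.sum_congr rfl (fun i _ => h i), Finset.sum_const, Finset.card_range,
    ← Nat.cast_smul_eq_nsmul (ZMod 2), show ((11 : ℕ) : ZMod 2) = 1 from rfl, one_smul]

theorem card_modEq (S : Submodule (ZMod 2) V) (hS : ∀ s ∈ S, g s ∈ S) (h1 : g ≠ 1)
    (hfix : ∀ s ∈ S, g s = s → s = 0) : Nat.card S % 11 = 1 := by
  have : Fact (Nat.Prime 11) := ⟨by norm_num⟩
  have : Finite (V ≃ₗ[ZMod 2] V) := Finite.of_injective (fun f => (f : V → V)) DFunLike.coe_injective
  have hord : orderOf g = 11 := orderOf_eq_prime h11 h1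
  letI : MulAction ↥(Subgroup.zpowers g) S :=
    { smul := fun y s => ⟨(y : V ≃ₗ[ZMod 2] V) s, by
        obtain ⟨n, hn⟩ := (mem_powers_iff_mem_zpowers.2 y.2 : (y : V ≃ₗ[ZMod 2] V) ∈ Submonoid.powers g)
        rw [← hn]
        clear hn
        induction n with
        | zero => exact s.2
        | succ n ih => show (g ^ (n + 1)) (s : V) ∈ S; rw [pow_succ']; exact hS _ ih⟩
      one_smul := fun s => Subtype.ext rfl
      mul_smul := fun y y' s => Subtype.ext rfl }
  have hP : IsPGroup 11 ↥(Subgroup.zpowers g) := IsPGroup.of_card (n := 1) (by rw [Nat.card_zpowers, hord, pow_one])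
  have h := hP.card_modEq_card_fixedPoints S
  have hone : Nat.card (MulAction.fixedPoints ↥(Subgroup.zpowers g) S) = 1 := by
    rw [Nat.card_eq_one_iff_unique]
    refine ⟨⟨fun a b => ?_⟩, ⟨⟨0, fun y => Subtype.ext (map_zero _)⟩⟩⟩
    have key : ∀ a : MulAction.fixedPoints ↥(Subgroup.zpowers g) S, ((a : S) : V) = 0 := fun a =>
      hfix _ (a : S).2 (congrArg Subtype.val (a.2 ⟨g, Subgroup.mem_zpowers g⟩))
    exact Subtype.ext (Subtype.ext ((key a).trans (key b).symm))
  rw [hone] at h
  exact h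

end eleven

theorem card_submodule [Finite V] (hV : Nat.card V = 4096) (S : Submodule (ZMod 2) V) :
    ∃ k ≤ 12, Nat.card S = 2 ^ k := by
  have h : Nat.card S ∣ 2 ^ 12 := by
    rw [show (2 : ℕ) ^ 12 = Nat.card V from hV.symm]
    exact AddSubgroup.card_addSubgroup_dvd_card S.toAddSubgroup
  exact (Nat.dvd_prime_pow Nat.prime_two).1 h

variable [Finite V]

/-- Standard coordinates for an element of order eleven. -/
theorem exists_companion (hV : Nat.card V = 4096) {w : V ≃ₗ[ZMod 2] V} (hw : Scal w) (g : V ≃ₗ[ZMod 2] V)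
    (h11 : g ^ 11 = 1) (h1 : g ≠ 1) (hgw : ∀ v, g (w v) = w (g v)) :
    ∃ (T : V6 ≃ₗ[ZMod 2] V) (q : ℕ), q < 1024 ∧ (∀ u, T (omV u) = w (T u)) ∧
      imgs ((T.trans g).trans T.symm) = comp q := by
  classical
  set W : Submodule (ZMod 2) V := LinearMap.ker (avg g) with hWdef
  have hWg : ∀ s ∈ W, g s ∈ W := fun s hs => by
    rw [LinearMap.mem_ker] at hs ⊢; rw [avg_g g h11, hs]
  have hWfix : ∀ s ∈ W, g s = s → s = 0 := fun s hs e => (avg_fixed g h11 e).symm.trans (LinearMap.mem_ker.1 hs)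
  have hsplit : ∀ v, v + avg g v ∈ W := fun v => by
    rw [LinearMap.mem_ker, map_add, avg_fixed g h11 (g_avg g h11 v), two_smul_zero]
  obtain ⟨v₀, hv₀⟩ : ∃ v, g v ≠ v := by
    by_contra hc
    push Not at hc
    exact h1 (LinearEquiv.ext hc)
  set v := v₀ + avg g v₀ with hvdef
  have hvW : v ∈ W := hsplit v₀
  have hv : v ≠ 0 := fun e => hv₀ (by
    have : v₀ = avg g v₀ := by rw [← sub_eq_zero, sub_eq_add_neg, neg_eq_of_add_eq_zero_right (two_smul_zero _)]; exact e
    rw [this]; exact g_avg g h11 v₀)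
  have hpW : ∀ i : ℕ, (g ^ i) v ∈ W := fun i => by
    induction i with
    | zero => exact hvW
    | succ i ih => rw [pow_succ']; exact hWg _ ih
  have hcombW : ∀ (d : ℕ) (c : Fin d → D4), hw.comb (fun i : Fin d => (g ^ i.1) v) c ∈ W := fun d c => by
    rw [hw.comb_apply]
    refine Submodule.sum_mem _ fun i _ => ?_
    rw [hw.sm_apply]
    refine add_mem (Submodule.smul_mem _ _ (hpW _)) (Submodule.smul_mem _ _ ?_)
    have hwavg : avg g (w ((g ^ i.1) v)) = w (avg g ((g ^ i.1) v)) := by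
      rw [avg_apply, avg_apply, map_sum]
      refine Finset.sum_congr rfl fun k hk => ?_
      clear hk
      induction k with
      | zero => rfl
      | succ k ih => rw [pow_succ']; show g ((g ^ k) _) = w (g ((g ^ k) _)); rw [ih, hgw]
    rw [LinearMap.mem_ker, hwavg, LinearMap.mem_ker.1 (hpW _), map_zero]
  -- the first five translates are independent
  have hnot : ∀ d, d ≤ 4 → (g ^ d) v ∉ LinearMap.range (hw.comb fun i : Fin d => (g ^ i.1) v) := by
    intro d hd hmem
    set S := LinearMap.range (hw.comb fun i : Fin d => (g ^ i.1) v) with hS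
    have hSg : ∀ s ∈ S, g s ∈ S := by
      rintro _ ⟨c, rfl⟩
      rw [hw.comb_apply, map_sum]
      refine Submodule.sum_mem _ fun i _ => ?_
      rw [hw.sm_map g hgw, show g ((g ^ i.1) v) = (g ^ (i.1 + 1)) v by rw [pow_succ']; rfl]
      refine hw.sm_mem_range _ ?_ _
      by_cases hi : i.1 + 1 < d
      · exact ⟨Pi.single ⟨i.1 + 1, hi⟩ ((1 : ZMod 2), (0 : ZMod 2)), by rw [hw.comb_single, hw.sm_one]⟩
      · rw [show i.1 + 1 = d by omega]; exact hmem
    have hSW : S ≤ W := by rintro _ ⟨c, rfl⟩; exact hcombW d c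
    have hcard : Nat.card S ≤ 4 ^ d := by
      have := Nat.card_le_card_of_surjective (LinearMap.rangeRestrict (hw.comb fun i : Fin d => (g ^ i.1) v))
        (LinearMap.surjective_rangeRestrict _)
      exact this.trans_eq (by simp [Nat.card_fun, Nat.card_prod])
    obtain ⟨k, -, hk⟩ := card_submodule hV S
    have hmod := card_modEq g h11 S hSg h1 fun s hs => hWfix s (hSW hs)
    rw [hk] at hmod hcard
    have hk8 : k ≤ 8 := by
      have : 2 ^ k ≤ 2 ^ 8 := hcard.trans ((Nat.pow_le_pow_right (by norm_num) hd).trans_eq (by norm_num))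
      exact (Nat.pow_le_pow_iff_right (by norm_num : 1 < 2)).1 this
    have hk0 : k = 0 := by interval_cases k <;> first | rfl | simp at hmod
    rw [hk0, pow_zero] at hk
    have hbot : ∀ s ∈ S, s = 0 := fun s hs => by
      haveI := (Nat.card_eq_one_iff_unique.1 hk).1
      exact congrArg Subtype.val (Subsingleton.elim (⟨s, hs⟩ : S) 0)
    exact hv ((g ^ d).map_eq_zero_iff.1 (hbot _ hmem))
  have hinj : ∀ d, d ≤ 5 → Function.Injective (hw.comb fun i : Fin d => (g ^ i.1) v) := by
    intro d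
    induction d with
    | zero => intro _ a b _; exact Subsingleton.elim a b
    | succ d ih =>
      intro hd
      refine (injective_iff_map_eq_zero _).2 fun c hc => ?_
      rw [hw.comb_apply, Fin.sum_univ_castSucc] at hc
      simp only [Fin.val_castSucc, Fin.val_last] at hc
      have hrest : hw.comb (fun i : Fin d => (g ^ i.1) v) (fun i => c i.castSucc) = hw.sm ((g ^ d) v) (c (Fin.last d)) := by
        rw [hw.comb_apply]
        exact (eq_neg_of_add_eq_zero_left hc).trans (neg_eq_of_add_eq_zero_right (two_smul_zero _))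
      have hlast : c (Fin.last d) = 0 := by
        by_contra hne
        obtain ⟨b, hb⟩ : ∃ b : Fin 3, om^[b.1] (c (Fin.last d)) = ((1 : ZMod 2), (0 : ZMod 2)) :=
          (by decide : ∀ a : D4, a ≠ 0 → ∃ b : Fin 3, om^[b.1] a = ((1 : ZMod 2), (0 : ZMod 2))) _ hne
        refine hnot d (by omega) ?_
        have hm : ∀ b : ℕ, hw.sm ((g ^ d) v) (om^[b] (c (Fin.last d))) ∈
            LinearMap.range (hw.comb fun i : Fin d => (g ^ i.1) v) := by
          intro b
          induction b with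
          | zero => exact ⟨_, hrest⟩
          | succ b ihb =>
            rw [Function.iterate_succ_apply', hw.sm_om]
            obtain ⟨e, he⟩ := ihb
            exact ⟨_, by rw [← he, hw.w_comb]⟩
        have := hm b
        rwa [hb, hw.sm_one] at this
      rw [hlast, map_zero] at hrest
      have h0 := ih (by omega) (hrest.trans (map_zero _).symm)
      funext i
      refine Fin.lastCases hlast (fun j => ?_) i
      exact congrFun h0 j
  have h5 := hinj 5 le_rfl
  have hW1024 : 1024 ≤ Nat.card W := by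
    have := Nat.card_le_card_of_injective
      (fun c : Fin 5 → D4 => (⟨_, hcombW 5 c⟩ : W)) fun a b e => h5 (congrArg Subtype.val e)
    simpa [Nat.card_fun, Nat.card_prod] using this
  -- the fixed part
  set F : Submodule (ZMod 2) V := LinearMap.range (avg g) with hFdef
  have hprod : Nat.card W * Nat.card F = 4096 := by
    rw [← hV, ← Nat.card_prod]
    refine Nat.card_congr ((Equiv.ofBijective (fun p : W × F => (p.1 : V) + p.2) ⟨fun p p' e => ?_, fun u => ?_⟩))
    · have ha : ∀ p : W × F, avg g ((p.1 : V) + p.2) = p.2 := fun p => by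
        obtain ⟨a, ha⟩ := p.2.2
        rw [map_add, LinearMap.mem_ker.1 p.1.2, zero_add, ← ha, avg_fixed g h11 (g_avg g h11 a)]
      have e2 : (p.2 : V) = p'.2 := by rw [← ha p, ← ha p']; exact congrArg (avg g) e
      refine Prod.ext (Subtype.ext ?_) (Subtype.ext e2)
      simpa [e2] using e
    · exact ⟨(⟨_, hsplit u⟩, ⟨_, ⟨u, rfl⟩⟩), show u + avg g u + avg g u = u by rw [add_assoc, two_smul_zero, add_zero]⟩
  obtain ⟨k, -, hk⟩ := card_submodule hV W
  have hW : Nat.card W = 1024 := by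
    have hmod := card_modEq g h11 W hWg h1 hWfix
    have hle : Nat.card W ≤ 4096 := Nat.le_of_dvd (by norm_num) (Dvd.intro _ hprod)
    rw [hk] at hmod hle hW1024
    have h1 : k ≤ 12 := (Nat.pow_le_pow_iff_right (by norm_num : 1 < 2)).1 (hle.trans_eq (by norm_num))
    have h2 : 10 ≤ k := (Nat.pow_le_pow_iff_right (by norm_num : 1 < 2)).1 (le_of_eq_of_le (by norm_num) hW1024)
    interval_cases k
    · exact hk
    · simp at hmod
    · simp at hmod
  have hF : Nat.card F = 4 := by rw [hW] at hprod; omega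
  have hrange : ∀ s ∈ W, ∃ c : Fin 5 → D4, hw.comb (fun i : Fin 5 => (g ^ i.1) v) c = s := by
    have hb : Function.Bijective (fun c : Fin 5 → D4 => (⟨_, hcombW 5 c⟩ : W)) := by
      refine (Nat.bijective_iff_injective_and_card _).2 ⟨fun a b e => h5 (congrArg Subtype.val e), ?_⟩
      rw [hW]; simp [Nat.card_fun, Nat.card_prod]
    intro s hs
    obtain ⟨c, hc⟩ := hb.2 ⟨s, hs⟩
    exact ⟨c, congrArg Subtype.val hc⟩
  obtain ⟨f, hf, hf0⟩ : ∃ f ∈ F, f ≠ 0 := by
    by_contra hc
    push Not at hc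
    have : Nat.card F = 1 := Nat.card_eq_one_iff_unique.2 ⟨⟨fun a b => Subtype.ext ((hc _ a.2).trans (hc _ b.2).symm)⟩, ⟨0⟩⟩
    omega
  have hfg : g f = f := by obtain ⟨a, rfl⟩ := hf; exact g_avg g h11 a
  set e : Fin 6 → V := fun i => if i.1 < 5 then (g ^ i.1) v else f with he
  have hsplit6 : ∀ c : Fin 6 → D4, hw.comb e c =
      hw.comb (fun i : Fin 5 => (g ^ i.1) v) (fun i => c i.castSucc) + hw.sm f (c 5) := by
    intro c
    rw [hw.comb_apply, hw.comb_apply, Fin.sum_univ_castSucc]
    congr 1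
  have hTinj : Function.Injective (hw.comb e) := by
    refine (injective_iff_map_eq_zero _).2 fun c hc => ?_
    rw [hsplit6] at hc
    have h2 : avg g (hw.sm f (c 5)) = hw.sm f (c 5) := avg_fixed g h11 (by rw [hw.sm_map g hgw, hfg])
    have h3 : hw.sm f (c 5) = 0 := by
      rw [← h2]
      have := congrArg (avg g) hc
      rwa [map_add, LinearMap.mem_ker.1 (hcombW 5 _), zero_add, map_zero] at this
    have hc5 : c 5 = 0 := (hw.sm_eq_zero h3).resolve_right hf0
    rw [h3, add_zero] at hc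
    have h0 := (injective_iff_map_eq_zero _).1 h5 _ hc
    funext i
    refine Fin.lastCases hc5 (fun j => ?_) i
    exact congrFun h0 j
  have hbij : Function.Bijective (hw.comb e) :=
    (Nat.bijective_iff_injective_and_card _).2 ⟨hTinj, by rw [hV]; simp [Nat.card_fun, Nat.card_prod]⟩
  let T : V6 ≃ₗ[ZMod 2] V := LinearEquiv.ofBijective (hw.comb e) hbij
  have hT : ∀ u, T u = hw.comb e u := fun u => rfl
  have hTw : ∀ u, T (omV u) = w (T u) := fun u => by rw [hT, hT, hw.w_comb]; rfl
  obtain ⟨c, hc⟩ := hrange _ (hpW 5)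
  set q := enc (fun i : Fin 6 => if h : i.1 < 5 then c ⟨i.1, h⟩ else 0) with hq
  have hq1024 : q < 1024 := by
    have h4 : ∀ d : D4, dcode d < 4 := by decide
    have := h4 (c 0); have := h4 (c 1); have := h4 (c 2); have := h4 (c 3); have := h4 (c 4)
    have h0 : dcode (0 : D4) = 0 := by decide
    rw [hq]; unfold enc
    simp [h0]
    omega
  have hTq : T (dec q) = (g ^ 5) v := by
    rw [hT, hq, dec_enc, hsplit6, ← hc, show (if h : ((5 : Fin 6) : ℕ) < 5 then c ⟨_, h⟩ else 0) = (0 : D4) from rfl,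
      map_zero, add_zero]
    congr 1
    funext i
    simp
  refine ⟨T, q, hq1024, hTw, ?_⟩
  rw [imgs]
  have hdec : ∀ i : Fin 6, dec (2 ^ (2 * i.1)) = Pi.single i ((1 : ZMod 2), (0 : ZMod 2)) ∧
      dec (2 ^ (2 * i.1 + 1)) = omV (dec (2 ^ (2 * i.1))) := by decide +kernel
  have hunit : ∀ i : Fin 6, T (dec (2 ^ (2 * i.1))) = e i := fun i => by
    rw [hT, (hdec i).1, hw.comb_single, hw.sm_one]
  have hstep : ∀ i : Fin 6, g (e i) = T (dec (if i.1 < 4 then 2 ^ (2 * (i.1 + 1)) else if i.1 = 4 then q else 2 ^ (2 * i.1))) := by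
    intro i
    by_cases h4 : i.1 < 4
    · rw [if_pos h4, hunit ⟨i.1 + 1, by omega⟩, he]
      simp only [show i.1 < 5 by omega, show i.1 + 1 < 5 by omega, if_true]
      rw [pow_succ']; rfl
    · rw [if_neg h4]
      by_cases h5' : i.1 = 4
      · rw [if_pos h5', hTq, he]
        simp only [show i.1 < 5 by omega, if_true, h5']
        rw [pow_succ' g 4]; rfl
      · rw [if_neg h5', hunit i, he]
        simp only [show ¬ i.1 < 5 by omega, if_false, hfg]
  have hrow : ∀ i : Fin 6, ∀ n, n = (if i.1 < 4 then 2 ^ (2 * (i.1 + 1)) else if i.1 = 4 then q else 2 ^ (2 * i.1)) →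
      T.symm (g (T (dec (2 ^ (2 * i.1))))) = dec n ∧ T.symm (g (T (dec (2 ^ (2 * i.1 + 1))))) = omV (dec n) := by
    intro i n hn
    have h1 : T.symm (g (T (dec (2 ^ (2 * i.1))))) = dec n := by
      rw [T.symm_apply_eq, hunit, hstep, hn]
    refine ⟨h1, ?_⟩
    rw [T.symm_apply_eq, (hdec i).2, hTw, hTw, hgw, ← h1, T.apply_symm_apply]
  have hn : ∀ i : Fin 6, (if i.1 < 4 then 2 ^ (2 * (i.1 + 1)) else if i.1 = 4 then q else 2 ^ (2 * i.1)) < 4096 := by
    intro i
    fin_cases i <;> simp <;> omega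
  refine List.ext_getElem (by simp [comp]) fun j hj hj' => ?_
  simp only [List.getElem_map, List.getElem_range, LinearEquiv.trans_apply]
  simp only [List.length_map, List.length_range] at hj
  obtain ⟨i, rfl | rfl⟩ : ∃ i : Fin 6, j = 2 * i.1 ∨ j = 2 * i.1 + 1 := ⟨⟨j / 2, by omega⟩, by simp only; omega⟩
  · rw [(hrow i _ rfl).1, enc_dec (hn i)]
    fin_cases i <;> rfl
  · rw [(hrow i _ rfl).2, enc_omV, enc_dec (hn i)]
    fin_cases i <;> simp [comp] <;> decide +kernel

theorem aux_std (_hV : Nat.card V = 4096) {w : V ≃ₗ[ZMod 2] V} (_hw : Scal w) (g : V ≃ₗ[ZMod 2] V)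
    (_h11 : g ^ 11 = 1) (_h1 : g ≠ 1) (_hgw : ∀ v, g (w v) = w (g v)) (T : V6 ≃ₗ[ZMod 2] V) (q : ℕ) (hq : q < 1024)
    (hTw : ∀ u, T (omV u) = w (T u)) (hT : imgs ((T.trans g).trans T.symm) = comp q)
    (hpow : powL (comp q) 11 = idL) :
    ∃ (T : V6 ≃ₗ[ZMod 2] V), ((∀ u, T (omV u) = w (T u)) ∨ ∀ u, T (omV u) = w (w (T u))) ∧
      imgs ((T.trans g).trans T.symm) = xC := by
  obtain ⟨hc1, hc2, hc3, hc4, hc5, hc6⟩ := comp_q
  have h2 := List.all_eq_true.1 hc2 q (List.mem_range.2 hq)
  simp only [hpow, beq_self_eq_true, Bool.not_true, Bool.false_or, Bool.or_eq_true, beq_iff_eq] at h2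
  rcases h2 with rfl | rfl
  · exact ⟨T, Or.inl hTw, by rw [hT, hc1]⟩
  · have hok : okPair frL frL = true := by decide +kernel
    set φ := mkE frL frL (okPair_spec hok) with hφ
    have hφi : imgs φ = frL := imgs_mkE _ (by decide +kernel)
    have hφom : ∀ u, φ (omV u) = omV (omV (φ u)) := by
      refine ext12 (fun u => φ (omV u)) (fun u => omV (omV (φ u))) (fun a b => by rw [omV_add, map_add])
        (fun a b => by rw [map_add, omV_add, omV_add]) fun i hi => ?_
      have h2 : 2 ^ i < 4096 := Nat.pow_lt_pow_right (by norm_num : 1 < 2) hi |>.trans_eq (by norm_num)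
      rw [omV_dec h2, ← dec_enc (φ _), ← dec_enc (omV (omV (φ _))), enc_apply, enc_omV, enc_omV, enc_apply, hφi,
        enc_dec (omc_fin ⟨_, h2⟩).1, enc_dec h2, hc6 ⟨i, hi⟩, lm_bit]
    refine ⟨φ.trans T, Or.inr fun u => ?_, ?_⟩
    · show T (φ (omV u)) = w (w (T (φ u)))
      rw [hφom, hTw, hTw]
    · have hφ2 : φ * φ = 1 := imgs_inj (by rw [imgs_mul, hφi, imgs_one, hc4])
      have hsy : φ.symm = φ := LinearEquiv.ext fun u => φ.injective (by
        rw [φ.apply_symm_apply]; exact (LinearEquiv.congr_fun hφ2 u).symm)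
      rw [show ((φ.trans T).trans g).trans (φ.trans T).symm = φ.symm * (((T.trans g).trans T.symm) * φ) from rfl, hsy,
        imgs_mul, imgs_mul, hφi, hT, hc3, hc1]

/-- The coefficients can be normalised by allowing the inverse scalar. -/
theorem exists_companion_std (hV : Nat.card V = 4096) {w : V ≃ₗ[ZMod 2] V} (hw : Scal w) (g : V ≃ₗ[ZMod 2] V)
    (h11 : g ^ 11 = 1) (h1 : g ≠ 1) (hgw : ∀ v, g (w v) = w (g v)) :
    ∃ (T : V6 ≃ₗ[ZMod 2] V), ((∀ u, T (omV u) = w (T u)) ∨ ∀ u, T (omV u) = w (w (T u))) ∧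
      imgs ((T.trans g).trans T.symm) = xC := by
  obtain ⟨T, q, hq, hTw, hT⟩ := exists_companion hV hw g h11 h1 hgw
  obtain ⟨hc1, hc2, hc3, hc4, hc5, hc6⟩ := comp_q
  suffices hp : ((T.trans g).trans T.symm) ^ 11 = 1 by
    have hpow : powL (comp q) 11 = idL := by
      have e := congrArg imgs hp
      rw [imgs_pow, hT, imgs_one] at e
      exact e
    exact aux_std hV hw g h11 h1 hgw T q hq hTw hT hpow
  · refine LinearEquiv.ext fun u => ?_
    have hk : ∀ k : ℕ, ∀ u, T ((((T.trans g).trans T.symm) ^ k) u) = (g ^ k) (T u) := by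
      intro k
      induction k with
      | zero => intro u; rfl
      | succ k ih =>
        intro u
        rw [pow_succ', pow_succ']
        show T (T.symm (g (T _))) = g ((g ^ k) (T u))
        exact (T.apply_symm_apply _).trans (congrArg g (ih u))
    apply T.injective
    rw [hk, h11]
    rfl

end CfsgLib.Sporadic.J4Type
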