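import Cfsg.Agent.Lib.Sporadic.J4Type.CentralT

/-!
# The two orbits of the normaliser on a subgroup of order `2¹¹`
-/

set_option autoImplicit false
set_option linter.style.haveILetI false
set_option linter.unusedSectionVars false

namespace CfsgLib.Sporadic.J4Type

open Cfsg

variable {G : Type*} [Group G] [Finite G] {z : G} {A : Subgroup G}
  {θ : ↥(Subgroup.normalizer (A : Set G)) →* ↥Cfsg.M24} {f : GolayPt → GolayPt → G}

namespace Duads

variable (h : Duads z A θ f)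
include h

omit [Finite G] in
theorem z_ne : z ≠ 1 := fun e => by
  obtain ⟨a, ha⟩ := h.other
  have hp : (none : GolayPt) ≠ some 0 := by simp
  have hq : (some 1 : GolayPt) ≠ some 2 := by decide
  have hc := h.four hp hq (by simp) (by simp) (by decide) (by decide)
  rw [e, isConj_one_right] at hc
  have hinv : f none (some 0) = f (some 1) (some 2) := by
    rw [← mul_inv_eq_one, inv_eq_of_mul_eq_one_left (h.sq (h.mem (some 1) (some 2))), hc]
  rcases h.inj hp hq hinv with ⟨e', -⟩ | ⟨e', -⟩ <;> simp at e'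

omit [Finite G] in
theorem small_set : {v | v ∈ A ∧ v ≠ 1 ∧ ¬ IsConj z v} = {v | ∃ p q, p ≠ q ∧ v = f p q} := by
  ext v
  constructor
  · rintro ⟨hv, h1, h2⟩
    exact h.surj' v hv h1 h2
  · rintro ⟨p, q, hpq, rfl⟩
    exact ⟨h.mem p q, h.small hpq⟩

omit [Finite G] in
theorem small_card : {v | v ∈ A ∧ v ≠ 1 ∧ ¬ IsConj z v}.ncard = 276 := by
  classical
  rw [h.small_set]
  let e : GolayPt ≃ Fin 24 := Fintype.equivFinOfCardEq (by simp [GolayPt, ZMod.card])
  have himg : {v | ∃ p q, p ≠ q ∧ v = f p q} =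
      (fun i : Fin 24 × Fin 24 => f (e.symm i.1) (e.symm i.2)) ''
        ↑((Finset.univ : Finset (Fin 24 × Fin 24)).filter fun i => i.1 < i.2) := by
    ext v
    constructor
    · rintro ⟨p, q, hpq, rfl⟩
      rcases lt_or_gt_of_ne (fun x => hpq (e.injective x)) with x | x
      · exact ⟨(e p, e q), by simpa using x, by simp⟩
      · exact ⟨(e q, e p), by simpa using x, by simp [h.symm q p]⟩
    · rintro ⟨i, hi, rfl⟩
      exact ⟨_, _, fun x => (ne_of_lt (by simpa using hi)) (e.symm.injective x), rfl⟩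
  rw [himg, Set.InjOn.ncard_image, Set.ncard_coe_finset]
  · decide +kernel
  · rintro ⟨a, b⟩ hab ⟨c, d⟩ hcd hh
    simp only [Finset.coe_filter, Finset.mem_univ, true_and, Set.mem_setOf_eq] at hab hcd
    rcases h.inj (fun x => hab.ne (e.symm.injective x)) (fun x => hcd.ne (e.symm.injective x)) hh with ⟨x, y⟩ | ⟨x, y⟩
    · rw [e.symm.injective x, e.symm.injective y]
    · have := e.symm.injective x
      have := e.symm.injective y
      subst_vars
      exact absurd hab (lt_asymm hcd)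

/-- The orbit of an element is its class. -/
theorem orbit_eq {a : G} (ha : a ∈ A) (ha1 : a ≠ 1) :
    {v : G | ∃ n ∈ Subgroup.normalizer (A : Set G), n * a * n⁻¹ = v} =
      {v | v ∈ A ∧ v ≠ 1 ∧ (IsConj z v ↔ IsConj z a)} := by
  ext v
  constructor
  · rintro ⟨n, hn, rfl⟩
    exact ⟨(Subgroup.mem_normalizer_iff.1 hn a).1 ha, fun e => ha1 (conj_eq_one_iff.1 e),
      fun c => c.trans (isConj_iff.2 ⟨n⁻¹, by group⟩), fun c => c.trans (isConj_iff.2 ⟨n, rfl⟩)⟩
  · rintro ⟨hv, hv1, hi⟩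
    exact h.two a ha v hv ha1 hv1 hi.symm

theorem orbit_small {t : G} (ht : t ∈ A) (ht1 : t ≠ 1) (hnc : ¬ IsConj z t) :
    {v : G | ∃ n ∈ Subgroup.normalizer (A : Set G), n * t * n⁻¹ = v}.ncard = 276 := by
  rw [h.orbit_eq ht ht1, ← h.small_card]
  congr 1
  ext v
  exact ⟨fun ⟨a, b, c⟩ => ⟨a, b, fun x => hnc (c.1 x)⟩,
    fun ⟨a, b, c⟩ => ⟨a, b, iff_of_false c hnc⟩⟩

theorem orbit_z : {v : G | ∃ n ∈ Subgroup.normalizer (A : Set G), n * z * n⁻¹ = v}.ncard = 1771 := by
  rw [h.orbit_eq h.zmem h.z_ne]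
  have e : {v | v ∈ A ∧ v ≠ 1 ∧ (IsConj z v ↔ IsConj z z)} =
      ((A : Set G) \ {1}) \ {v | v ∈ A ∧ v ≠ 1 ∧ ¬ IsConj z v} := by
    ext v
    simp only [IsConj.refl z, iff_true, Set.mem_diff, Set.mem_singleton_iff, SetLike.mem_coe, Set.mem_setOf_eq]
    tauto
  rw [e, Set.ncard_diff (s := {v | v ∈ A ∧ v ≠ 1 ∧ ¬ IsConj z v}) (t := (A : Set G) \ {1}) (fun v hv => ⟨hv.1, hv.2.1⟩) (Set.toFinite _), h.small_card,
    Set.ncard_diff (by simp) (Set.toFinite _), Set.ncard_singleton, ← Nat.card_coe_set_eq,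
    SetLike.coe_sort_coe, h.card]
  norm_num

end Duads

end CfsgLib.Sporadic.J4Type
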