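import Cfsg.Agent.Lib.Sporadic.J4Type.CentT

/-!
# The members of the small class are labelled by the pairs of points
-/

set_option autoImplicit false
set_option linter.style.haveILetI false
set_option linter.unusedSectionVars false

namespace CfsgLib.Sporadic.J4Type

open Cfsg CfsgLib.Sporadic.LargeFischer CfsgLib.Sporadic.LargeFischer.Hexa

/-- A labelled subgroup of order `2¹¹`. -/
structure Duads {G : Type*} [Group G] (z : G) (A : Subgroup G) (θ : ↥(Subgroup.normalizer (A : Set G)) →* ↥Cfsg.M24)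
    (f : GolayPt → GolayPt → G) : Prop extends ToddData z A θ where
  cent : Subgroup.centralizer (A : Set G) ≤ A
  mem : ∀ p q, f p q ∈ A
  small : ∀ {p q}, p ≠ q → f p q ≠ 1 ∧ ¬ IsConj z (f p q)
  surj' : ∀ a ∈ A, a ≠ 1 → ¬ IsConj z a → ∃ p q, p ≠ q ∧ a = f p q
  mul : ∀ p q r, f p q * f q r = f p r
  symm : ∀ p q, f p q = f q p
  inj : ∀ {p q r s}, p ≠ q → r ≠ s → f p q = f r s → (p = r ∧ q = s) ∨ (p = s ∧ q = r)
  four : ∀ {p q r s}, p ≠ q → r ≠ s → p ≠ r → p ≠ s → q ≠ r → q ≠ s → IsConj z (f p q * f r s)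
  zt : ∀ a ∈ A, IsConj z a → ∀ t ∈ A, t ≠ 1 → ¬ IsConj z t → ∀ y : G, y * a = a * y → y * t = t * y →
    y ∈ Subgroup.normalizer (A : Set G)
  act : ∀ (m : ↥(Subgroup.normalizer (A : Set G))) (p q : GolayPt),
    (m : G) * f p q * (m : G)⁻¹ = f ((θ m : Equiv.Perm GolayPt) p) ((θ m : Equiv.Perm GolayPt) q)

variable {G : Type*} [Group G] [Finite G]

theorem exists_duads [IsSimpleGroup G] (z : G) (hJ : Cfsg.IsOfJankoFourTypeAt z) :
    UniqAb G ∧ ∃ (A : Subgroup G) (θ : ↥(Subgroup.normalizer (A : Set G)) →* ↥Cfsg.M24) (f : GolayPt → GolayPt → G),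
      Duads z A θ f := by
  obtain ⟨π, ψ, x, J⟩ := exists_jf hJ
  have hU : UniqAb G := uniqAb (Q := Cfsg.pCore 2 ↥(Subgroup.centralizer ({z} : Set G))) J.base (maxAb J)
  set F := frame J
  obtain ⟨c, L, hN⟩ := F.exists_normal hU
  obtain ⟨θ, h, hsmall, hact⟩ := F.todd_labelled hN hU
  refine ⟨hU, _, θ, fun p q => F.el L (phi p ^^^ phi q),
    { toToddData := h
      cent := F.centralizer_asub L
      mem := fun p q => ⟨_, phi_lt_xor p q, rfl⟩
      small := fun hpq => (hsmall _ (phi_lt_xor _ _)).1 (duad_inDm hpq)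
      surj' := ?_, mul := fun p q r => ?_, symm := fun p q => by rw [Nat.xor_comm]
      inj := fun hpq hrs e => duad_inj hpq hrs (F.el_inj L (phi_lt_xor _ _) (phi_lt_xor _ _) e)
      four := ?_, zt := ?_, act := hact }⟩
  · rintro a ⟨n, hn, rfl⟩ h1 hc
    obtain ⟨p, q, hpq, e⟩ := duad_surj hn ((hsmall n hn).2 ⟨h1, hc⟩)
    exact ⟨p, q, hpq, by show F.el L n = _; rw [e]⟩
  · show F.el L _ * F.el L _ = F.el L _
    rw [← F.el_xor L (phi_lt_xor p q) (phi_lt_xor q r)]
    congr 1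
    rw [Nat.xor_assoc, ← Nat.xor_assoc (phi q), Nat.xor_self, Nat.zero_xor]
  · intro p q r s hpq hrs h1 h2 h3 h4
    show IsConj z (F.el L _ * F.el L _)
    have hlt : (phi p ^^^ phi q) ^^^ (phi r ^^^ phi s) < 2048 := Nat.xor_lt_two_pow (n := 11) (phi_lt_xor p q) (phi_lt_xor r s)
    rw [← F.el_xor L (phi_lt_xor p q) (phi_lt_xor r s)]
    by_contra hc
    by_cases he : F.el L ((phi p ^^^ phi q) ^^^ (phi r ^^^ phi s)) = 1
    · have h0 := F.el_inj L hlt (by norm_num) (he.trans (F.el_zero L).symm)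
      rcases duad_inj hpq hrs (Nat.xor_eq_zero_iff.1 h0) with ⟨e, -⟩ | ⟨e, -⟩
      · exact h1 e
      · exact h2 e
    · rcases duad_meet hpq hrs ((hsmall _ hlt).2 ⟨he, hc⟩) with e | e | e | e
      · exact h1 e
      · exact h2 e
      · exact h3 e
      · exact h4 e
  · intro a ha hza t ht ht1 hnc y hya hyt
    have hz1 : z ≠ 1 := J.base.extra.z_ne
    obtain ⟨m, hm, em⟩ := h.two z h.zmem a ha hz1 (fun e => hz1 (by
      rw [e] at hza; exact (isConj_one_right).1 hza.symm)) (iff_of_true (IsConj.refl z) hza)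
    have hmt : m⁻¹ * t * m ∈ F.asub L := (Subgroup.mem_normalizer_iff''.1 hm t).1 ht
    have h1 : m⁻¹ * y * m ∈ Subgroup.normalizer (F.asub L : Set G) := by
      refine cent_z_t J L hN hmt (fun e => ht1 ?_) (fun hc => hnc ?_) ?_ ?_
      · calc t = m * (m⁻¹ * t * m) * m⁻¹ := by group
          _ = 1 := by rw [e]; group
      · exact hc.trans (isConj_iff.2 ⟨m, by group⟩)
      · calc m⁻¹ * y * m * z = m⁻¹ * (y * (m * z * m⁻¹)) * m := by group
          _ = m⁻¹ * (a * y) * m := by rw [em, hya]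
          _ = z * (m⁻¹ * y * m) := by rw [← em]; group
      · calc m⁻¹ * y * m * (m⁻¹ * t * m) = m⁻¹ * (y * t) * m := by group
          _ = m⁻¹ * t * m * (m⁻¹ * y * m) := by rw [hyt]; group
    simpa [mul_assoc] using mul_mem (mul_mem hm h1) (inv_mem hm)

/-- Transport along an automorphism. -/
theorem Duads.transport {z : G} {A : Subgroup G} {θ : ↥(Subgroup.normalizer (A : Set G)) →* ↥Cfsg.M24}
    {f : GolayPt → GolayPt → G} (h : Duads z A θ f) (e : G ≃* G) :
    ∃ θ' : ↥(Subgroup.normalizer (A.map e.toMonoidHom : Set G)) →* ↥Cfsg.M24,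
      Duads (e z) (A.map e.toMonoidHom) θ' fun p q => e (f p q) := by
  have hinj : Function.Injective e.toMonoidHom := e.injective
  have hmem : ∀ a, a ∈ A.map e.toMonoidHom ↔ e.symm a ∈ A := fun a => Subgroup.mem_map_equiv
  have hN : ∀ m, m ∈ Subgroup.normalizer (A.map e.toMonoidHom : Set G) ↔ e.symm m ∈ Subgroup.normalizer (A : Set G) :=
    fun m => by
      rw [Subgroup.mem_normalizer_iff, Subgroup.mem_normalizer_iff]
      constructor
      · intro hm a
        have := hm (e a)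
        rwa [hmem, hmem, e.symm_apply_apply, map_mul, map_mul, map_inv, e.symm_apply_apply] at this
      · intro hm a
        rw [hmem, hmem, map_mul, map_mul, map_inv]
        exact hm _
  have hconj : ∀ a, IsConj (e z) (e a) ↔ IsConj z a := fun a =>
    ⟨fun x => by have := e.symm.toMonoidHom.map_isConj x; simpa using this, fun x => e.toMonoidHom.map_isConj x⟩
  let r : ↥(Subgroup.normalizer (A.map e.toMonoidHom : Set G)) →* ↥(Subgroup.normalizer (A : Set G)) :=
    MonoidHom.mk' (fun m => ⟨e.symm m, (hN m).1 m.2⟩) fun a b => Subtype.ext (map_mul e.symm _ _)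
  have hback : ∀ m : ↥(Subgroup.normalizer (A : Set G)), e (m : G) ∈ Subgroup.normalizer (A.map e.toMonoidHom : Set G) :=
    fun m => (hN _).2 (by rw [e.symm_apply_apply]; exact m.2)
  have hre : ∀ m, e (r m : G) = m := fun m => e.apply_symm_apply _
  refine ⟨θ.comp r,
    { elem := ?_, card := by rw [Subgroup.card_map_of_injective (f := e.toMonoidHom) hinj, h.card], surj := fun u => ?_
      ker := ?_, zmem := ⟨z, h.zmem, rfl⟩, other := ?_, two := ?_, stab := ?_, cent := ?_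
      mem := fun p q => ⟨_, h.mem p q, rfl⟩, small := fun hpq => ?_, surj' := ?_, mul := fun p q r => ?_
      symm := fun p q => congrArg e (h.symm p q), inj := fun a b c => h.inj a b (e.injective c)
      four := fun a b c d f' g => by rw [← map_mul, hconj]; exact h.four a b c d f' g
      zt := ?_, act := fun m p q => ?_ }⟩
  · refine ⟨⟨⟨fun a b => Subtype.ext (e.symm.injective ?_)⟩⟩, fun a ha => e.symm.injective ?_⟩
    · have := congrArg Subtype.val (h.elem.1.is_comm.comm (⟨_, (hmem _).1 a.2⟩ : ↥A) ⟨_, (hmem _).1 b.2⟩)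
      show e.symm ((a : G) * b) = e.symm ((b : G) * a)
      rw [map_mul, map_mul]; exact this
    · rw [map_pow, map_one]; exact h.elem.2 _ ((hmem a).1 ha)
  · obtain ⟨m, hm⟩ := h.surj u
    exact ⟨⟨e m, hback m⟩, by rw [← hm]; exact congrArg θ (Subtype.ext (e.symm_apply_apply _))⟩
  · ext m
    rw [MonoidHom.mem_ker, Subgroup.mem_subgroupOf, hmem]
    show θ (r m) = 1 ↔ _
    rw [← MonoidHom.mem_ker, h.ker, Subgroup.mem_subgroupOf]
    rfl
  · obtain ⟨a, ha, h1, h2⟩ := h.other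
    exact ⟨e a, ⟨a, ha, rfl⟩, fun x => h1 (e.injective (x.trans (map_one e).symm)), fun x => h2 ((hconj a).1 x)⟩
  · rintro _ ⟨a, ha, rfl⟩ _ ⟨b, hb, rfl⟩ h1 h2 hi
    obtain ⟨m, hm, em⟩ := h.two a ha b hb (fun x => h1 (by rw [x]; exact map_one e)) (fun x => h2 (by rw [x]; exact map_one e))
      (by rw [← hconj, ← hconj]; exact hi)
    exact ⟨e m, hback ⟨m, hm⟩, by simp only [MulEquiv.coe_toMonoidHom, ← map_inv, ← map_mul, em]⟩
  · rintro _ ⟨t, ht, rfl⟩ h1 h2
    obtain ⟨p, q, hpq, hs⟩ := h.stab t ht (fun x => h1 (by rw [x]; exact map_one e)) (fun x => h2 ((hconj t).2 x))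
    refine ⟨p, q, hpq, fun m => Iff.trans ?_ (hs (r m))⟩
    show _ ↔ e.symm m * t = t * e.symm m
    constructor <;> intro x
    · have := congrArg e.symm x
      simpa using this
    · have := congrArg e x
      simpa using this
  · intro y hy
    rw [hmem]
    refine h.cent (Subgroup.mem_centralizer_iff.2 fun a ha => ?_)
    have := congrArg e.symm (Subgroup.mem_centralizer_iff.1 hy (e a) ⟨a, ha, rfl⟩)
    simpa using this
  · obtain ⟨h1, h2⟩ := h.small hpq
    exact ⟨fun x => h1 (e.injective (x.trans (map_one e).symm)), fun x => h2 ((hconj _).1 x)⟩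
  · rintro _ ⟨a, ha, rfl⟩ h1 h2
    obtain ⟨p, q, hpq, rfl⟩ := h.surj' a ha (fun x => h1 (by rw [x]; exact map_one e)) (fun x => h2 ((hconj a).2 x))
    exact ⟨p, q, hpq, rfl⟩
  · rw [← map_mul, h.mul]
  · rintro _ ⟨a, ha, rfl⟩ hza _ ⟨t, ht, rfl⟩ ht1 hnc y hya hyt
    refine (hN y).2 (h.zt a ha ((hconj a).1 hza) t ht (fun e' => ht1 (by rw [e']; exact map_one e))
      (fun c => hnc ((hconj t).2 c)) _ ?_ ?_)
    · simpa using congrArg e.symm hya
    · simpa using congrArg e.symm hyt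
  · show (m : G) * e (f p q) * (m : G)⁻¹ = e (f ((θ (r m) : Equiv.Perm GolayPt) p) ((θ (r m) : Equiv.Perm GolayPt) q))
    rw [← h.act (r m) p q, map_mul, map_mul, map_inv, hre]

/-- Every elementary abelian subgroup of order `2¹¹` can be labelled. -/
theorem exists_duads_at [IsSimpleGroup G] (z : G) (hJ : Cfsg.IsOfJankoFourTypeAt z) {V : Subgroup G}
    (hV : Cfsg.IsElementaryAbelian 2 V) (hc : Nat.card V = 2 ^ 11) :
    UniqAb G ∧ ∃ (z' : G) (θ : ↥(Subgroup.normalizer (V : Set G)) →* ↥Cfsg.M24) (f : GolayPt → GolayPt → G),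
      IsConj z z' ∧ Duads z' V θ f := by
  obtain ⟨hU, A, θ, f, h⟩ := exists_duads z hJ
  obtain ⟨T, hVT, hVth⟩ := eq_thompson hU hV hc
  obtain ⟨g, hg⟩ := thompson_eq hU h.elem h.card T
  rw [← hVth] at hg
  subst hg
  obtain ⟨θ', h'⟩ := h.transport (MulAut.conj g)
  exact ⟨hU, _, θ', _, isConj_iff.2 ⟨g, rfl⟩, h'⟩

end CfsgLib.Sporadic.J4Type
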