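import Cfsg.Agent.Lib.Sporadic.J4Type.MaxAb
import Cfsg.Agent.Lib.Sporadic.LargeFischer.Hexa.Rows

/-!
# Groups of fourth Janko type: the elementary abelian subgroups of order `2¹¹`
-/

set_option autoImplicit false
set_option linter.style.haveILetI false
set_option linter.unusedSectionVars false

namespace CfsgLib.Sporadic.J4Type

open CfsgLib.Sporadic.LargeFischer CfsgLib.Sporadic.LargeFischer.Hexa

/-- The subgroup with all the data. -/
theorem exists_data {G : Type*} [Group G] [Finite G] [IsSimpleGroup G] (z : G) (hJ : Cfsg.IsOfJankoFourTypeAt z) :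
    UniqAb G ∧ ∃ (A : Subgroup G) (θ : ↥(Subgroup.normalizer (A : Set G)) →* ↥Cfsg.M24),
      ToddData z A θ ∧ Subgroup.centralizer (A : Set G) ≤ A := by
  obtain ⟨π, ψ, x, J⟩ := exists_jf hJ
  have hU : UniqAb G := uniqAb (Q := Cfsg.pCore 2 ↥(Subgroup.centralizer ({z} : Set G))) J.base (maxAb J)
  obtain ⟨c, L, hN⟩ := (frame J).exists_normal hU
  obtain ⟨θ, h⟩ := (frame J).todd_of_normal hN hU
  exact ⟨hU, _, θ, h, (frame J).centralizer_asub L⟩

variable {G : Type*} [Group G] [Finite G]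

/-- An elementary abelian subgroup of order `2¹¹` is the Thompson subgroup of a Sylow subgroup containing it. -/
theorem eq_thompson (hU : UniqAb G) {V : Subgroup G} (hV : Cfsg.IsElementaryAbelian 2 V) (hc : Nat.card V = 2 ^ 11) :
    ∃ T : Sylow 2 G, V ≤ (T : Subgroup G) ∧ V = Cfsg.thompsonSubgroupOf 2 (T : Subgroup G) := by
  haveI : Fact (Nat.Prime 2) := ⟨Nat.prime_two⟩
  obtain ⟨T, hT⟩ := (IsPGroup.of_card hc : IsPGroup 2 ↥V).exists_le_sylow
  obtain ⟨g, hg⟩ := thompson_eq hU hV hc T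
  refine ⟨T, hT, ?_⟩
  have hle : Cfsg.thompsonSubgroupOf 2 (T : Subgroup G) ≤ (T : Subgroup G) := Subgroup.map_subtype_le _
  have hinj : Function.Injective (MulAut.conj g).toMonoidHom := (MulAut.conj g).injective
  have hcard : Nat.card ↥(Cfsg.thompsonSubgroupOf 2 (T : Subgroup G)) = 2 ^ 11 := by
    rw [hg, Subgroup.card_map_of_injective hinj, hc]
  refine ((hU T T.isPGroup' V _ hT hle hV ?_ hc).2 hcard).symm
  rw [hg]
  refine ⟨⟨⟨?_⟩⟩, ?_⟩
  · rintro ⟨_, a, ha, rfl⟩ ⟨_, b, hb, rfl⟩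
    have := congrArg Subtype.val (hV.1.is_comm.comm (⟨a, ha⟩ : ↥V) ⟨b, hb⟩)
    exact Subtype.ext ((map_mul _ _ _).symm.trans ((congrArg _ this).trans (map_mul _ _ _)))
  · rintro _ ⟨a, ha, rfl⟩
    rw [← map_pow, hV.2 a ha, map_one]

/-- A Sylow subgroup has exactly one elementary abelian subgroup of order `2¹¹`. -/
theorem sylow_unique (hU : UniqAb G) {A : Subgroup G} (hA : Cfsg.IsElementaryAbelian 2 A) (hc : Nat.card A = 2 ^ 11)
    (T : Sylow 2 G) :
    ∃! V : Subgroup G, V ≤ (T : Subgroup G) ∧ Cfsg.IsElementaryAbelian 2 V ∧ Nat.card ↥V = 2 ^ 11 := by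
  obtain ⟨g, hg⟩ := thompson_eq hU hA hc T
  have hinj : Function.Injective (MulAut.conj g).toMonoidHom := (MulAut.conj g).injective
  have hle : Cfsg.thompsonSubgroupOf 2 (T : Subgroup G) ≤ (T : Subgroup G) := Subgroup.map_subtype_le _
  have hcard : Nat.card ↥(Cfsg.thompsonSubgroupOf 2 (T : Subgroup G)) = 2 ^ 11 := by
    rw [hg, Subgroup.card_map_of_injective hinj, hc]
  have hel : Cfsg.IsElementaryAbelian 2 (Cfsg.thompsonSubgroupOf 2 (T : Subgroup G)) := by
    rw [hg]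
    refine ⟨⟨⟨?_⟩⟩, ?_⟩
    · rintro ⟨_, a, ha, rfl⟩ ⟨_, b, hb, rfl⟩
      have := congrArg Subtype.val (hA.1.is_comm.comm (⟨a, ha⟩ : ↥A) ⟨b, hb⟩)
      exact Subtype.ext ((map_mul _ _ _).symm.trans ((congrArg _ this).trans (map_mul _ _ _)))
    · rintro _ ⟨a, ha, rfl⟩
      rw [← map_pow, hA.2 a ha, map_one]
  exact ⟨_, ⟨hle, hel, hcard⟩, fun V hV => (hU T T.isPGroup' _ V hle hV.1 hel hV.2.1 hcard).2 hV.2.2⟩

end CfsgLib.Sporadic.J4Type
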