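import Cfsg.Agent.Lib.Sporadic.J4Type.Mlist

/-!
# Strict variants for evaluation in the kernel
-/

set_option autoImplicit false

namespace CfsgLib.Sporadic.J4Type

open CfsgLib.Sporadic.LargeFischer CfsgLib.Sporadic.LargeFischer.Hexa

/-- Evaluate a number before use. -/
def frc {α : Type} (n : ℕ) (k : ℕ → α) : α :=
  match n with
  | 0 => k 0
  | m + 1 => k (m + 1)

theorem frc_eq {α : Type} (n : ℕ) (k : ℕ → α) : frc n k = k n := by cases n <;> rfl

/-- Composition of lists, strict. -/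
def cmpF (L : List ℕ) : List ℕ → List ℕ
  | [] => []
  | k :: K => frc (lm L k) fun x => x :: cmpF L K

theorem cmpF_eq (L : List ℕ) : ∀ K, cmpF L K = cmpL L K
  | [] => rfl
  | k :: K => by rw [cmpF, frc_eq, cmpF_eq L K]; rfl

/-- Images along an orbit, strict. -/
def orbitF (A : List ℕ) (om : ℕ → ℕ) : ℕ → ℕ → List ℕ
  | 0, _ => []
  | k + 1, w => frc w fun w => frc (om w) fun o => w :: o :: orbitF A om k (lm A w)

theorem orbitF_eq (A : List ℕ) (om : ℕ → ℕ) : ∀ k w, orbitF A om k w = orbitL A om k w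
  | 0, _ => rfl
  | k + 1, w => by rw [orbitF, frc_eq, frc_eq, orbitF_eq A om k]; rfl

/-- The list of a map given by two images, strict. -/
def mlistF (A : List ℕ) (om : ℕ → ℕ) (m : ℕ) : List ℕ :=
  orbitF A om 5 (m % 1024) ++ [m / 1024 * 1024, om (m / 1024 * 1024)]

theorem mlistF_eq (A : List ℕ) (om : ℕ → ℕ) (m : ℕ) : mlistF A om m = mlist A om m := by
  rw [mlistF, orbitF_eq]; rfl

/-- Iteration, strict. -/
def itF (L : List ℕ) : ℕ → ℕ → ℕ
  | 0, n => n
  | k + 1, n => frc (lm L n) fun x => itF L k x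

theorem itF_succ (L : List ℕ) : ∀ k n, itF L (k + 1) n = lm L (itF L k n)
  | 0, n => by rw [show itF L (0 + 1) n = frc (lm L n) fun x => itF L 0 x from rfl, frc_eq]; rfl
  | k + 1, n => by
    rw [itF, frc_eq, itF_succ L k]
    conv_rhs => rw [itF, frc_eq]

theorem itF_imgs (g : V6 ≃ₗ[ZMod 2] V6) {n : ℕ} (hn : n < 4096) : ∀ k, itF (imgs g) k n = enc ((g ^ k) (dec n))
  | 0 => by rw [pow_zero]; exact (enc_dec hn).symm
  | k + 1 => by rw [itF_succ, itF_imgs g hn k, ← enc_apply, pow_succ']; rfl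

theorem itF_one (g : V6 ≃ₗ[ZMod 2] V6) {k : ℕ} (h : g ^ k = 1) {n : ℕ} (hn : n < 4096) :
    itF (imgs g) k n = n := by
  rw [itF_imgs g hn, h]; exact enc_dec hn

/-- A power fixes all the bits. -/
def fixBits (L : List ℕ) (k : ℕ) : Bool := (List.range 12).all fun i => itF L k (2 ^ i) == 2 ^ i

theorem fixBits_of (g : V6 ≃ₗ[ZMod 2] V6) {k : ℕ} (h : g ^ k = 1) : fixBits (imgs g) k = true :=
  List.all_eq_true.2 fun i hi => beq_iff_eq.2 (itF_one g h
    (Nat.pow_lt_pow_right (by norm_num : 1 < 2) (List.mem_range.1 hi) |>.trans_eq (by norm_num)))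

end CfsgLib.Sporadic.J4Type
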