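import Cfsg.Agent.Lib.Sporadic.J4Type.FrameJ

/-!
# Groups of fourth Janko type: fusion of the central involution in the two-core, and lifting of normalisers
-/

set_option autoImplicit false
set_option linter.style.haveILetI false
set_option linter.unusedSectionVars false
set_option maxRecDepth 40000

namespace CfsgLib.Sporadic.J4Type.Fuse

open CfsgLib.Sporadic.LargeFischer CfsgLib.Sporadic.LargeFischer.Hexa CfsgLib.Sporadic.J4Type
open CfsgLib.ThreeTransp.Extraspecial

variable {G : Type*} [Group G] [Finite G] {z : G} {π : G → V6}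
  {ψ : ↥(Subgroup.centralizer ({z} : Set G)) →* (V6 ≃ₗ[ZMod 2] V6)}
  {x : ↥(Subgroup.centralizer ({z} : Set G))} (J : JF z π ψ x)
include J

theorem card_ker : Nat.card ψ.ker = 8192 := by
  have hb := J.base
  rw [← hb.card_Q]
  exact Nat.card_congr
    { toFun := fun d => ⟨((d : ↥(Subgroup.centralizer ({z} : Set G))) : G), (hb.ker d).1 d.2⟩
      invFun := fun q => ⟨⟨q, hb.mem_cent q.2⟩, (hb.ker ⟨q, hb.mem_cent q.2⟩).2 q.2⟩
      left_inv := fun d => rfl
      right_inv := fun q => rfl }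

theorem card_cent : Nat.card ↥(Subgroup.centralizer ({z} : Set G)) = 2 ^ 21 * 10395 := by
  rw [← ψ.ker.card_mul_index, Subgroup.index_ker, card_ker J, J.card]; norm_num

theorem not_pgroup : ¬ IsPGroup 2 ↥(Subgroup.centralizer ({z} : Set G)) := fun hp => by
  haveI : Fact (Nat.Prime 2) := ⟨Nat.prime_two⟩
  obtain ⟨n, hn⟩ := IsPGroup.iff_card.1 hp
  have h3 : 3 ∣ 2 ^ n := by rw [← hn, card_cent J]; norm_num
  exact absurd (Nat.prime_three.dvd_of_dvd_pow h3) (by norm_num)

theorem symm_mem {g : G} (hu : g * z * g⁻¹ ∈ Cfsg.twoCoreOfCentralizer z) (hne : g * z * g⁻¹ ≠ z) :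
    g⁻¹ * z * g ∈ Cfsg.twoCoreOfCentralizer z :=
  J.base.symm_mem_of (not_pgroup J) hu hne

theorem oc_pres (c : ↥(Subgroup.centralizer ({z} : Set G))) (v : V6) : oc (enc (ψ c v)) = oc (enc v) :=
  (range_le J ⟨c, rfl⟩ : InJ (ψ c)).2 v

theorem z_conj (c : ↥(Subgroup.centralizer ({z} : Set G))) : (c : G) * z * (c : G)⁻¹ = z :=
  mul_inv_eq_iff_eq_mul.2 (Subgroup.mem_centralizer_singleton_iff.1 c.2)

/-- Conjugates of `z` in the two-core lie over one orbit. -/
theorem conj_oc {a : G} (ha : a ∈ Cfsg.twoCoreOfCentralizer z) (hc : IsConj z a) (hne : a ≠ z) :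
    oc (enc (π a)) = (false, true) := by
  obtain ⟨g, rfl⟩ := isConj_iff.1 hc
  obtain ⟨d, hd⟩ := four_exists J ha hne
  rw [← oc_pres J d, hd, enc_dec (wv_lt _)]
  exact oc_facts.2.1

/-- The elements over that orbit are conjugates of `z`. -/
theorem isConj_of_oc [IsSimpleGroup G] {a : G} (ha : a ∈ Cfsg.twoCoreOfCentralizer z)
    (e : oc (enc (π a)) = (false, true)) : IsConj z a := by
  obtain ⟨g, hu, hne⟩ := (frame J).fused
  have hu' : g * z * g⁻¹ ∈ Cfsg.twoCoreOfCentralizer z := hu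
  have e1 := conj_oc J hu' (isConj_iff.2 ⟨g, rfl⟩) hne
  obtain ⟨k, ⟨c, rfl⟩, hk⟩ := transitive J (enc_lt (π (g * z * g⁻¹))) (enc_lt (π a)) (e1.trans e.symm)
    (by rw [e1]; decide)
  rw [dec_enc, dec_enc] at hk
  have h0 : π a ≠ 0 := fun e0 => by
    rw [e0, enc_zero] at e
    exact absurd e (by decide +kernel)
  obtain ⟨d, hd⟩ := J.base.conj_of_π hu' ha h0 c hk
  exact isConj_iff.2 ⟨(d : G) * g, by rw [← hd]; group⟩

/-- A vector fixed by an element of odd order lifts to elements commuting with it. -/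
theorem commute_of_fix {b : ↥(Subgroup.centralizer ({z} : Set G))} {n : ℕ} (hn : Odd n) (hb : b ^ n = 1) {a : G}
    (ha : a ∈ Cfsg.twoCoreOfCentralizer z) (e : ψ b (π a) = π a) : Commute (b : G) a := by
  obtain ⟨hm, he⟩ := J.base.π_conj b ha
  rcases (J.base.π_eq_iff ha hm).1 (he.trans e).symm with e1 | e1
  · exact mul_inv_eq_iff_eq_mul.1 e1
  exfalso
  have key : ∀ i : ℕ, (b : G) ^ i * a * ((b : G) ^ i)⁻¹ = a * z ^ i := by
    intro i
    induction i with
    | zero => simp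
    | succ i ih =>
      calc (b : G) ^ (i + 1) * a * ((b : G) ^ (i + 1))⁻¹
          = (b : G) * ((b : G) ^ i * a * ((b : G) ^ i)⁻¹) * (b : G)⁻¹ := by rw [pow_succ']; group
        _ = (b : G) * a * (b : G)⁻¹ * ((b : G) * z * (b : G)⁻¹) ^ i := by rw [ih, conj_pow]; group
        _ = a * z ^ (i + 1) := by rw [e1, z_conj J b, pow_succ']; group
  have h1 := key n
  rw [show (b : G) ^ n = 1 from congrArg Subtype.val hb, one_mul, inv_one, mul_one] at h1
  obtain ⟨m, rfl⟩ := hn
  rw [pow_succ, pow_mul, pow_two, J.base.extra.z_sq, one_pow, one_mul] at h1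
  exact J.base.extra.z_ne (mul_eq_left.1 h1.symm)

theorem fix_of_commute {b : ↥(Subgroup.centralizer ({z} : Set G))} {a : G}
    (ha : a ∈ Cfsg.twoCoreOfCentralizer z) (e : Commute (b : G) a) : ψ b (π a) = π a := by
  rw [← J.base.act b a ha, e.eq, mul_inv_cancel_right]

/-- An element of the centraliser normalising a subgroup of odd prime order modulo the two-core can be moved into
the normaliser. -/
theorem norm_lift {p : ℕ} [hp : Fact p.Prime] (hp2 : p ≠ 2) {b h : ↥(Subgroup.centralizer ({z} : Set G))}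
    (hb : orderOf b = p) {k : ℕ} (e : ψ h * ψ b * (ψ h)⁻¹ = ψ b ^ k) :
    ∃ d : ↥(Subgroup.centralizer ({z} : Set G)), ψ d = ψ h ∧ d * b * d⁻¹ = b ^ k := by
  haveI : Finite (V6 ≃ₗ[ZMod 2] V6) := finite_equiv
  have hψb : orderOf (ψ b) = p := by
    refine orderOf_eq_prime (by rw [← map_pow, ← hb, pow_orderOf_eq_one, map_one]) fun h1 => ?_
    have h2 : orderOf (⟨(b : G), (J.base.ker b).1 h1⟩ : ↥(Cfsg.twoCoreOfCentralizer z)) ∣ 8192 := by
      rw [← J.base.card_Q]; exact orderOf_dvd_natCard _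
    rw [Subgroup.orderOf_mk, Subgroup.orderOf_coe, hb, show (8192 : ℕ) = 2 ^ 13 by norm_num] at h2
    exact hp2 ((Nat.prime_dvd_prime_iff_eq hp.out Nat.prime_two).1 (hp.out.dvd_of_dvd_pow h2))
  set K := (Subgroup.zpowers (ψ b)).comap ψ with hK
  have hKb : b ∈ K := Subgroup.mem_zpowers (ψ b)
  have hKh : h * b * h⁻¹ ∈ K := by
    show ψ (h * b * h⁻¹) ∈ Subgroup.zpowers (ψ b)
    rw [map_mul, map_mul, map_inv, e]
    exact pow_mem (Subgroup.mem_zpowers _) k
  have hcard : Nat.card K = 8192 * p := by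
    have e1 := (ψ.subgroupComap (Subgroup.zpowers (ψ b))).ker.card_mul_index
    rw [Subgroup.index_ker, MonoidHom.range_eq_top.2 (fun g => by
      obtain ⟨i, hi⟩ := g.2
      refine ⟨⟨b ^ i, show ψ (b ^ i) ∈ Subgroup.zpowers (ψ b) by rw [map_zpow]; exact ⟨i, rfl⟩⟩, ?_⟩
      exact Subtype.ext ((map_zpow ψ b i).trans hi)), Subgroup.card_top, Nat.card_zpowers, hψb] at e1
    have e2 : Nat.card (ψ.subgroupComap (Subgroup.zpowers (ψ b))).ker = 8192 := by
      rw [← card_ker J]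
      exact Nat.card_congr
        { toFun := fun d => ⟨((d : ↥K) : ↥(Subgroup.centralizer ({z} : Set G))), congrArg Subtype.val d.2⟩
          invFun := fun q => ⟨⟨q, show ψ _ ∈ Subgroup.zpowers (ψ b) by rw [show ψ q = 1 from q.2]; exact one_mem _⟩,
            Subtype.ext q.2⟩
          left_inv := fun d => rfl
          right_inv := fun q => rfl }
    rw [e2] at e1
    rw [← e1]
  have hfac : (Nat.card K).factorization p = 1 := by
    rw [hcard, Nat.factorization_mul (by norm_num) hp.out.ne_zero, show (8192 : ℕ) = 2 ^ 13 by norm_num,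
      Nat.Prime.factorization_pow Nat.prime_two, hp.out.factorization]
    simp [hp2.symm]
  have hord : ∀ (a : ↥(Subgroup.centralizer ({z} : Set G))) (ha : a ∈ K), orderOf a = p →
      Nat.card ↥(Subgroup.zpowers (⟨a, ha⟩ : ↥K)) = p ^ (Nat.card K).factorization p := fun a ha e2 => by
    rw [Nat.card_zpowers, Subgroup.orderOf_mk, e2, hfac, pow_one]
  let P : Sylow p ↥K := Sylow.ofCard _ (hord (h * b * h⁻¹) hKh (by
    rw [← hb]; exact orderOf_injective (MulAut.conj h).toMonoidHom (MulAut.conj h).injective b))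
  let P' : Sylow p ↥K := Sylow.ofCard _ (hord b hKb hb)
  obtain ⟨k0, hk0⟩ := MulAction.exists_smul_eq ↥K P P'
  have hmem : k0 * ⟨h * b * h⁻¹, hKh⟩ * k0⁻¹ ∈ Subgroup.zpowers (⟨b, hKb⟩ : ↥K) := by
    have h1 : k0 * ⟨h * b * h⁻¹, hKh⟩ * k0⁻¹ ∈ ((k0 • P : Sylow p ↥K) : Subgroup ↥K) := by
      rw [Sylow.coe_subgroup_smul]
      exact Subgroup.smul_mem_pointwise_smul _ _ _ (Subgroup.mem_zpowers _)
    rw [hk0] at h1
    exact h1
  obtain ⟨i, hi⟩ := (show ψ k0 ∈ Subgroup.zpowers (ψ b) from k0.2)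
  obtain ⟨m, hm⟩ := hmem
  have hm' : b ^ m = (k0 : ↥(Subgroup.centralizer ({z} : Set G))) * (h * b * h⁻¹) * (k0 : ↥(Subgroup.centralizer ({z} : Set G)))⁻¹ :=
    congrArg Subtype.val hm
  refine ⟨b ^ (-i) * k0 * h, ?_, ?_⟩
  · rw [map_mul, map_mul, map_zpow, ← hi, ← zpow_add, neg_add_cancel, zpow_zero, one_mul]
  · rw [show b ^ (-i) * (k0 : ↥(Subgroup.centralizer ({z} : Set G))) * h * b * (b ^ (-i) * (k0 : ↥(Subgroup.centralizer ({z} : Set G))) * h)⁻¹ =
      b ^ (-i) * ((k0 : ↥(Subgroup.centralizer ({z} : Set G))) * (h * b * h⁻¹) * (k0 : ↥(Subgroup.centralizer ({z} : Set G)))⁻¹) * (b ^ (-i))⁻¹ by group, ← hm']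
    have e1 : (ψ b) ^ m = ψ b ^ k := by
      rw [← map_zpow, hm', map_mul, map_mul, map_inv, map_mul, map_mul, map_inv, e, ← hi, ← zpow_natCast,
        ← zpow_add, ← zpow_neg, ← zpow_add]
      congr 1
      omega
    rw [show b ^ (-i) * b ^ m * (b ^ (-i))⁻¹ = b ^ m by group, ← zpow_natCast b k, zpow_eq_zpow_iff_modEq, hb]
    rw [← zpow_natCast (ψ b) k, zpow_eq_zpow_iff_modEq, hψb] at e1
    exact e1

/-- The number of elements of the two-core over a set of vectors. -/
theorem card_over (P : V6 → Prop) :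
    Nat.card {a : G // a ∈ Cfsg.twoCoreOfCentralizer z ∧ P (π a)} = 2 * Nat.card {v // P v} := by
  classical
  haveI : Finite V6 := inferInstance
  choose s hs hse using J.base.π_surj
  have hπ : ∀ v c, π (s v * zp z c) = v := fun v c => by
    rw [J.base.π_mul _ (hs v) _ (J.base.zp_mem c), J.base.π_zp, add_zero, hse]
  rw [show 2 * Nat.card {v // P v} = Nat.card (ZMod 2 × {v // P v}) by rw [Nat.card_prod, Nat.card_zmod]]
  refine (Nat.card_congr (Equiv.ofBijective (fun p => ⟨s p.2.1 * zp z p.1, mul_mem (hs _) (J.base.zp_mem _),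
    by rw [hπ]; exact p.2.2⟩) ⟨fun p q e => ?_, fun a => ?_⟩)).symm
  · have e' := congrArg Subtype.val e
    have ev : p.2.1 = q.2.1 := by
      have := congrArg π e'
      simpa [hπ] using this
    refine Prod.ext (J.base.zp_inj ?_) (Subtype.ext ev)
    simp only [ev] at e'
    exact mul_left_cancel e'
  · rcases (J.base.π_eq_iff (hs (π a.1)) a.2.1).1 (hse _) with e | e
    · exact ⟨(0, ⟨π a.1, a.2.2⟩), Subtype.ext (by simp only [zp_zero, mul_one]; exact e.symm)⟩
    · exact ⟨(1, ⟨π a.1, a.2.2⟩), Subtype.ext (by simp only [zp_one]; exact e.symm)⟩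

end CfsgLib.Sporadic.J4Type.Fuse
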