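import Cfsg.Agent.Lib.Sporadic.J4Type.FiveData
import Cfsg.Agent.Lib.Sporadic.J4Type.Fuse

/-!
# Groups of fourth Janko type: an element of order five of the centraliser
-/

set_option autoImplicit false
set_option linter.style.haveILetI false
set_option linter.unusedSectionVars false
set_option maxRecDepth 40000

namespace CfsgLib.Sporadic.J4Type.Five

open CfsgLib.Sporadic.LargeFischer CfsgLib.Sporadic.LargeFischer.Hexa CfsgLib.Sporadic.J4Type

/-- An element of order five with the standard image. -/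
structure Ctx {G : Type*} [Group G] [Finite G] (z : G) (π : G → V6)
    (ψ : ↥(Subgroup.centralizer ({z} : Set G)) →* (V6 ≃ₗ[ZMod 2] V6))
    (x b : ↥(Subgroup.centralizer ({z} : Set G))) : Prop where
  J : JF z π ψ x
  img : imgs (ψ b) = fY
  ord : orderOf b = 5

theorem exists_ctx {G : Type*} [Group G] [Finite G] {z : G} {π : G → V6}
    {ψ : ↥(Subgroup.centralizer ({z} : Set G)) →* (V6 ≃ₗ[ZMod 2] V6)}
    {x : ↥(Subgroup.centralizer ({z} : Set G))} (J : JF z π ψ x) : ∃ b, Ctx z π ψ x b := by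
  obtain ⟨g, ⟨c, rfl⟩, hc⟩ := J.mem cY (by simp [gens5])
  rw [fY_lit.2.2.2.2.1] at hc
  have h5 : ψ (c ^ 5) = 1 := imgs_inj (by rw [map_pow, imgs_pow, hc, basic_facts.1, imgs_one])
  have hE := (J.base.ker _).1 h5
  have h4 : c ^ 20 = 1 := by
    refine Subtype.ext ?_
    show (c : G) ^ 20 = 1
    have e : ((c ^ 5 : ↥(Subgroup.centralizer ({z} : Set G))) : G) = (c : G) ^ 5 := Subgroup.coe_pow _ _ _
    rw [e] at hE
    rw [show 20 = 5 * 2 * 2 from rfl, pow_mul, pow_mul, pow_two ((c : G) ^ 5)]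
    rcases J.base.extra.sq_cases hE with e1 | e1 <;> rw [e1]
    · exact one_pow 2
    · rw [pow_two]; exact J.base.extra.z_sq
  refine ⟨c ^ 16, J, ?_, ?_⟩
  · rw [map_pow, imgs_pow, hc]
    decide +kernel
  · haveI : Fact (Nat.Prime 5) := ⟨by norm_num⟩
    refine orderOf_eq_prime ?_ fun h1 => ?_
    · rw [← pow_mul, show 16 * 5 = 20 * 4 from rfl, pow_mul, h4, one_pow]
    · have := congrArg (fun d => imgs (ψ d)) h1
      simp only [map_pow, imgs_pow, hc, map_one, imgs_one] at this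
      exact absurd this (by decide +kernel)

theorem fW_xor : ∀ a ∈ (0 :: fW), ∀ b ∈ (0 :: fW), a ^^^ b ∈ 0 :: fW := by decide +kernel

theorem fW_sub : ∀ a ∈ (0 :: fW), a ∈ fC := by decide +kernel

theorem fC_lt {n : ℕ} (h : n ∈ fC) : n < 4096 := by
  have := List.all_eq_true.1 fixed_ok.2.1 n h
  simp only [Bool.and_eq_true, decide_eq_true_eq] at this
  exact this.1.1.1

theorem mem_fC {n : ℕ} (hn : n < 4096) (h : lm fY n = n) : n ∈ fC := by
  have := List.all_eq_true.1 sweep n (List.mem_range.2 hn)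
  rw [frc_eq, Bool.and_eq_true, h] at this
  simpa using this.1

theorem mem_fW {n : ℕ} (hn : n ∈ fC) (h : oc n = (false, true)) : n ∈ fW := by
  have := List.all_eq_true.1 fixed_ok.2.1 n hn
  simp only [Bool.and_eq_true, beq_iff_eq] at this
  have e := this.1.2
  rw [h] at e
  simpa using e.symm

theorem oc_fW {n : ℕ} (h : n ∈ fW) : oc n = (false, true) ∧ n < 4096 ∧ lm fY n = n := by
  have hC := fW_sub n (List.mem_cons_of_mem _ h)
  have := List.all_eq_true.1 fixed_ok.2.1 n hC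
  simp only [Bool.and_eq_true, beq_iff_eq, decide_eq_true_eq] at this
  obtain ⟨⟨⟨h1, h2⟩, h3⟩, -⟩ := this
  refine ⟨?_, h1, h2⟩
  rw [List.contains_iff_mem.2 h] at h3
  simpa using h3

theorem wk_mem (k : Fin 3) : wk k ∈ fW := by fin_cases k <;> simp [wk, fW]

theorem exists_wk {n : ℕ} (h : n ∈ fW) : ∃ k : Fin 3, wk k = n := by
  simp only [fW, List.mem_cons, List.not_mem_nil, or_false] at h
  rcases h with rfl | rfl | rfl
  · exact ⟨0, rfl⟩
  · exact ⟨1, rfl⟩
  · exact ⟨2, rfl⟩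

theorem qs_qc {n : ℕ} (hn : n < 4096) : qc n = false ↔ qs (dec n) = 0 := by
  rw [qs_eq_bv n hn]; unfold qc Hexa.bv
  cases Qb n <;> simp

theorem bs_bc {a b : ℕ} (ha : a < 4096) (hb : b < 4096) : bc a b = false ↔ bs (dec a) (dec b) = 0 := by
  rw [bs_eq_bv a b ha hb, show bc a b = bsc a b from rfl]; unfold Hexa.bv
  cases bsc a b <;> simp

theorem swap_words : ∀ (e : Fin 2) (m : Fin 3) (i : Fin 5), ∃ a : Fin 3,
    cmpL (powL fT e.1) (cmpL (powL fO m.1) (powL fY i.1)) = comb e a i := by decide +kernel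

theorem lm_map (f : ℕ → ℕ) (h0 : f 0 = 0) (hadd : ∀ a b, f (a ^^^ b) = f a ^^^ f b) :
    ∀ (P : List ℕ) (n : ℕ), lm (P.map f) n = f (lm P n)
  | [], n => by simp [lm, h0]
  | p :: P, n => by
    rw [List.map_cons, lm, lm, hadd, lm_map f h0 hadd P (n / 2)]
    congr 1
    split <;> simp [h0]

namespace Ctx

variable {G : Type*} [Group G] [Finite G] {z : G} {π : G → V6}
  {ψ : ↥(Subgroup.centralizer ({z} : Set G)) →* (V6 ≃ₗ[ZMod 2] V6)}
  {x b : ↥(Subgroup.centralizer ({z} : Set G))} (X : Ctx z π ψ x b)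
include X

theorem pow_five : b ^ 5 = 1 := X.ord ▸ pow_orderOf_eq_one b

theorem commute_iff {a : G} (ha : a ∈ Cfsg.twoCoreOfCentralizer z) :
    Commute (b : G) a ↔ enc (π a) ∈ fC := by
  constructor
  · intro h
    have e := congrArg enc (Fuse.fix_of_commute X.J ha h)
    rw [enc_apply, X.img] at e
    exact mem_fC (enc_lt _) e
  · intro h
    refine Fuse.commute_of_fix X.J (n := 5) ⟨2, rfl⟩ X.pow_five ha ?_
    have := List.all_eq_true.1 fixed_ok.2.1 _ h
    simp only [Bool.and_eq_true, beq_iff_eq] at this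
    rw [← dec_enc (ψ b (π a)), enc_apply, X.img, this.1.1.2, dec_enc]

theorem bs_of {a c : G} : bs (π a) (π c) = 0 ↔ bc (enc (π a)) (enc (π c)) = false := by
  rw [bs_bc (enc_lt _) (enc_lt _), dec_enc, dec_enc]

theorem qs_of {a : G} : qs (π a) = 0 ↔ qc (enc (π a)) = false := by
  rw [qs_qc (enc_lt _), dec_enc]

/-- The fused subgroup. -/
def Fsub : Subgroup G where
  carrier := {a | a ∈ Cfsg.twoCoreOfCentralizer z ∧ enc (π a) ∈ (0 :: fW)}
  one_mem' := ⟨one_mem _, by rw [X.J.base.π_one, enc_zero]; exact List.mem_cons_self⟩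
  mul_mem' := fun {a c} ha hc => ⟨mul_mem ha.1 hc.1, by
    rw [X.J.base.π_mul a ha.1 c hc.1, enc_add]; exact fW_xor _ ha.2 _ hc.2⟩
  inv_mem' := fun {a} ha => ⟨inv_mem ha.1, by rw [X.J.base.π_inv ha.1]; exact ha.2⟩

theorem mem_F {a : G} :
    a ∈ X.Fsub ↔ a ∈ Cfsg.twoCoreOfCentralizer z ∧ enc (π a) ∈ (0 :: fW) := Iff.rfl

theorem z_mem_F : z ∈ X.Fsub :=
  ⟨X.J.base.extra.z_mem, by rw [X.J.base.π_z, enc_zero]; exact List.mem_cons_self⟩

theorem F_commute {a : G} (ha : a ∈ X.Fsub) : Commute (b : G) a :=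
  (X.commute_iff ha.1).2 (fW_sub _ ha.2)

theorem F_cent {a : G} (ha : a ∈ X.Fsub) : a * z = z * a := X.J.base.cent_z ha.1

theorem F_sq {a : G} (ha : a ∈ X.Fsub) : a * a = 1 := by
  refine (X.J.base.q_iff a ha.1).1 (X.qs_of.2 ?_)
  have h := ha.2
  revert h
  generalize enc (π a) = n
  intro h
  rcases List.mem_cons.1 h with rfl | h
  · decide +kernel
  · have := List.all_eq_true.1 self_perp.2.2 n h
    simpa using this

theorem F_comm {a c : G} (ha : a ∈ X.Fsub) (hc : c ∈ X.Fsub) : a * c = c * a := by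
  refine X.J.base.commute_of_bs ha.1 hc.1 (X.bs_of.2 ?_)
  have h1 := ha.2
  have h2 := hc.2
  revert h1 h2
  generalize enc (π a) = m
  generalize enc (π c) = n
  intro h1 h2
  exact (by decide +kernel : ∀ m ∈ (0 :: fW), ∀ n ∈ (0 :: fW), bc m n = false) m h1 n h2

theorem card_F : Nat.card X.Fsub = 8 := by
  classical
  have h1 : Nat.card {v : V6 // enc v ∈ (0 :: fW)} = 4 := by
    rw [show (4 : ℕ) = Nat.card {n : Fin 4096 // n.1 ∈ (0 :: fW)} by
      rw [Nat.card_eq_fintype_card]; rfl]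
    exact Nat.card_congr
      { toFun := fun v => ⟨⟨enc v.1, enc_lt _⟩, v.2⟩
        invFun := fun n => ⟨dec n.1.1, by rw [enc_dec n.1.2]; exact n.2⟩
        left_inv := fun v => Subtype.ext (dec_enc _)
        right_inv := fun n => Subtype.ext (Fin.ext (enc_dec n.1.2)) }
  have h2 := Fuse.card_over X.J fun v => enc v ∈ (0 :: fW)
  rw [h1] at h2
  exact h2

theorem π_eq_zero {a : G} (ha : a ∈ Cfsg.twoCoreOfCentralizer z) (h : enc (π a) = 0) : a = 1 ∨ a = z :=
  (X.J.base.π_ker a ha).1 (by rw [← dec_enc (π a), h, dec_zero])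

/-- The non-trivial elements of `F` are the conjugates of `z` in the two-core centralised by the element. -/
theorem mem_F_iff [IsSimpleGroup G] {a : G} (ha : a ∈ Cfsg.twoCoreOfCentralizer z) (hb : Commute (b : G) a) :
    (a ∈ X.Fsub ∧ a ≠ 1) ↔ IsConj z a := by
  constructor
  · rintro ⟨h, h1⟩
    rcases List.mem_cons.1 h.2 with h0 | hW
    · rcases X.π_eq_zero ha h0 with rfl | rfl
      · exact absurd rfl h1
      · exact IsConj.refl _
    · exact Fuse.isConj_of_oc X.J ha (oc_fW hW).1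
  · intro hc
    refine ⟨?_, fun e => X.J.base.extra.z_ne (by
      obtain ⟨g, hg⟩ := isConj_iff.1 hc
      exact conj_eq_one_iff.1 (hg.trans e))⟩
    by_cases hz : a = z
    · rw [hz]; exact X.z_mem_F
    · exact ⟨ha, List.mem_cons_of_mem _ (mem_fW ((X.commute_iff ha).1 hb) (Fuse.conj_oc X.J ha hc hz))⟩

/-- An element of `range ψ` with given images. -/
theorem exists_gen {L : List ℕ} (hL : L ∈ gens5) : ∃ c : ↥(Subgroup.centralizer ({z} : Set G)), imgs (ψ c) = L := by
  obtain ⟨g, ⟨c, rfl⟩, e⟩ := X.J.mem L hL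
  exact ⟨c, e⟩

/-- An element inducing squaring on the subgroup of order five. -/
theorem exists_power_two : ∃ d : ↥(Subgroup.centralizer ({z} : Set G)), d * b * d⁻¹ = b ^ 2 := by
  obtain ⟨c, hc⟩ := X.exists_gen (L := fU) (by rw [← fY_lit.2.2.2.2.2.1]; simp [gens5])
  haveI : Fact (Nat.Prime 5) := ⟨by norm_num⟩
  have e : ψ c * ψ b * (ψ c)⁻¹ = ψ b ^ 2 := by
    rw [mul_inv_eq_iff_eq_mul]
    exact imgs_inj (by rw [imgs_mul, imgs_mul, imgs_pow, hc, X.img, basic_facts.2.2.2.2.2.1])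
  obtain ⟨d, -, hd⟩ := Fuse.norm_lift X.J (by norm_num) X.ord e
  exact ⟨d, hd⟩

/-- Lifts commuting with the element. -/
theorem exists_comm_lift {L : List ℕ} (hL : ∃ c, imgs (ψ c) = L) (h : cmpL L fY = cmpL fY L) :
    ∃ c : ↥(Subgroup.centralizer ({z} : Set G)), imgs (ψ c) = L ∧ Commute c b := by
  obtain ⟨c, hc⟩ := hL
  haveI : Fact (Nat.Prime 5) := ⟨by norm_num⟩
  have e : ψ c * ψ b * (ψ c)⁻¹ = ψ b ^ 1 := by
    rw [pow_one, mul_inv_eq_iff_eq_mul]
    exact imgs_inj (by rw [imgs_mul, imgs_mul, hc, X.img, h])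
  obtain ⟨d, hd, hdb⟩ := Fuse.norm_lift X.J (by norm_num) X.ord e
  rw [pow_one, mul_inv_eq_iff_eq_mul] at hdb
  exact ⟨d, by rw [hd, hc], hdb⟩

/-- The image of the centraliser of the element. -/
theorem cent_image {c : ↥(Subgroup.centralizer ({z} : Set G))} (hc : Commute c b) :
    ∃ (e : Fin 2) (a : Fin 3) (i : Fin 5), imgs (ψ c) = comb e a i := by
  obtain ⟨-, -, -, -, -, -, -, o1, o2, o3⟩ := basic_facts
  obtain ⟨cO, hO⟩ := X.exists_gen (L := fO) (by rw [← fY_lit.2.2.2.2.2.2.1]; simp [gens5])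
  obtain ⟨cS, hS⟩ := X.exists_gen (L := fT) (by rw [← fY_lit.2.2.2.2.2.2.2]; simp [gens5])
  set g0 := ψ c with hg0
  have hTsemi : ∀ v, ψ cS (omV v) = omV (omV (ψ cS v)) := by
    refine (range_le X.J ⟨cS, rfl⟩ : InJ (ψ cS)).1.resolve_left fun h => ?_
    have := (commute_omV_iff (ψ cS)).1 h
    rw [hS] at this
    exact absurd this (by decide +kernel)
  have hTY : ψ cS * ψ b = ψ b * ψ cS :=
    imgs_inj (by rw [imgs_mul, imgs_mul, hS, X.img, basic_facts.2.2.2.2.1])
  have hOY : ψ cO * ψ b = ψ b * ψ cO :=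
    imgs_inj (by rw [imgs_mul, imgs_mul, hO, X.img, basic_facts.2.2.2.1])
  have hTT : ψ cS * ψ cS = 1 := imgs_inj (by rw [imgs_mul, hS, basic_facts.2.2.1, imgs_one])
  have hgY : g0 * ψ b = ψ b * g0 := by rw [hg0, ← map_mul, hc.eq, map_mul]
  -- reduce to a linear map
  obtain ⟨e, hlin⟩ : ∃ e : Fin 2, ∀ v, (ψ cS ^ e.1 * g0) (omV v) = omV ((ψ cS ^ e.1 * g0) v) := by
    rcases (range_le X.J ⟨c, rfl⟩ : InJ (ψ c)).1 with h | h
    · exact ⟨0, by simpa using h⟩
    · refine ⟨1, fun v => ?_⟩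
      simp only [Fin.val_one, pow_one, LinearEquiv.mul_apply]
      rw [h, hTsemi, hTsemi, omV3]
  set g1 := ψ cS ^ e.1 * g0 with hg1
  have hg1Y : g1 * ψ b = ψ b * g1 :=
    ((Commute.pow_left (hTY : Commute (ψ cS) (ψ b)) e.1).mul_left (hgY : Commute g0 (ψ b))).eq
  have hg1oc : ∀ v, oc (enc (g1 v)) = oc (enc v) := fun v => by
    have h : g1 ∈ ψ.range := mul_mem (pow_mem (MonoidHom.mem_range.2 ⟨cS, rfl⟩) _) (MonoidHom.mem_range.2 ⟨c, rfl⟩)
    exact (range_le X.J h : InJ g1).2 v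
  -- fix the first basis vector
  have hfix : ∀ (g : V6 ≃ₗ[ZMod 2] V6), g * ψ b = ψ b * g → ∀ n, n < 4096 → lm fY n = n →
      lm fY (enc (g (dec n))) = enc (g (dec n)) := by
    intro g hg n hn h
    rw [← X.img, ← enc_apply]
    have e1 := LinearEquiv.congr_fun hg (dec n)
    simp only [LinearEquiv.mul_apply] at e1
    rw [← e1, apply_dec (ψ b) hn, X.img, h]
  have hW1 : enc (g1 (dec 229)) ∈ fW :=
    mem_fW (mem_fC (enc_lt _) (hfix g1 hg1Y 229 (by norm_num) (oc_fW (by simp [fW])).2.2))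
      ((hg1oc _).trans (by rw [enc_dec (by norm_num)]; exact (oc_fW (by simp [fW])).1))
  have hOom : ∀ v, ψ cO v = omV v := cOm_eq.1 (hO.trans fY_lit.2.2.2.2.2.2.1.symm)
  obtain ⟨a', ha'⟩ : ∃ a' : Fin 3, enc ((ψ cO ^ a'.1 * g1) (dec 229)) = 229 := by
    simp only [fW, List.mem_cons, List.not_mem_nil, or_false] at hW1
    rcases hW1 with h | h | h
    · refine ⟨2, ?_⟩
      show enc ((ψ cO ^ 2 * g1) _) = _
      simp only [pow_two, LinearEquiv.mul_apply, hOom, enc_omV, h, o2, o3]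
    · refine ⟨1, ?_⟩
      show enc ((ψ cO ^ 1 * g1) _) = _
      simp only [pow_one, LinearEquiv.mul_apply, hOom, enc_omV, h, o3]
    · exact ⟨0, by simpa using h⟩
  set g := ψ cO ^ a'.1 * g1 with hg
  have hgY' : g * ψ b = ψ b * g :=
    ((Commute.pow_left (hOY : Commute (ψ cO) (ψ b)) a'.1).mul_left (hg1Y : Commute g1 (ψ b))).eq
  have hgoc : ∀ n, n < 4096 → oc (lm (imgs g) n) = oc n := fun n hn => by
    have h : g ∈ ψ.range := mul_mem (pow_mem (MonoidHom.mem_range.2 ⟨cO, rfl⟩) _) (mul_mem (pow_mem (MonoidHom.mem_range.2 ⟨cS, rfl⟩) _) (MonoidHom.mem_range.2 ⟨c, rfl⟩))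
    have := (range_le X.J h : InJ g).2 (dec n)
    rwa [enc_apply, enc_dec hn] at this
  have hgl : ∀ v, g (omV v) = omV (g v) := by
    have hgen : ∀ k : ℕ, ∀ v, (ψ cO ^ k) (omV v) = omV ((ψ cO ^ k) v) := fun k => by
      induction k with
      | zero => intro v; rfl
      | succ k ih => intro v; rw [pow_succ']; simp only [LinearEquiv.mul_apply, ih, hOom]
    intro v
    show (ψ cO ^ a'.1) (g1 (omV v)) = omV ((ψ cO ^ a'.1) (g1 v))
    rw [hlin, hgen]
  set L := imgs g with hL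
  have hLlt : ∀ n, lm L n < 4096 := fun n => lm_lt (k := 12) _ _ (imgs_lt g)
  have hY : ∀ n, n < 4096 → lm L (lm fY n) = lm fY (lm L n) := by
    intro n hn
    have e1 := congrArg enc (LinearEquiv.congr_fun hgY' (dec n))
    simp only [LinearEquiv.mul_apply, enc_apply, X.img, enc_dec hn] at e1
    exact e1
  have hom : ∀ n, n < 4096 → lm L (omc n) = omc (lm L n) := fun n hn => imgs_omc g hgl hn
  have h229 : lm L 229 = 229 := by
    rw [hL, ← enc_dec (show (229 : ℕ) < 4096 by norm_num), ← enc_apply, ha', enc_dec (by norm_num)]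
  obtain ⟨b0, b1, b2, b3, b4⟩ := bas_ok
  obtain ⟨-, -, -, hoA, hfA⟩ := fixed_ok
  have he : lm L 277 ∈ fA := by
    have hC := mem_fC (hLlt 277) (by rw [← hY 277 (by norm_num), hfA])
    have := List.all_eq_true.1 fixed_ok.2.1 _ hC
    simp only [Bool.and_eq_true, hgoc 277 (by norm_num), hoA] at this
    simpa using this.2
  have hu : lm L 1108 ∈ fB := by
    have hv := hLlt 1040
    have e1 : lm L 1108 = lm fY (lm L 1040) ^^^ lm L 1040 := by
      rw [← hY 1040 (by norm_num), ← lm_xor, b3]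
    have := List.all_eq_true.1 sweep _ (List.mem_range.2 hv)
    rw [frc_eq, Bool.and_eq_true, frc_eq, ← e1, hgoc 1108 (by norm_num), b4] at this
    simpa using this.2
  -- the images of the adapted basis
  have hf : ∀ m, lm ((bas 277 1108).map (lm L)) m = lm L (lm (bas 277 1108) m) :=
    lm_map (lm L) (lm_zero L) (lm_xor L) _
  have hmap : (bas 277 1108).map (lm L) = bas (lm L 277) (lm L 1108) := by
    have hlt : ∀ m, lm fY m < 4096 := fun m => lm_lt (k := 12) _ _ (by decide +kernel)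
    have h122 : lm L 122 = 122 := by rw [← o1, hom 229 (by norm_num), h229]
    simp only [bas, frc_eq, List.map_cons, List.map_nil, h229, h122, hom 277 (by norm_num), hom 1108 (by norm_num),
      hY 1108 (by norm_num), hom _ (hlt _), hY _ (hlt _)]
  have hcand := List.all_eq_true.1 (List.all_eq_true.1 cand_all _ he) _ hu
  rw [candOK, frc_eq] at hcand
  simp only [← hmap, hf, b0, b1, hgoc 295 (by norm_num), hgoc 6 (by norm_num), beq_self_eq_true, Bool.not_true,
    Bool.false_or, List.any_eq_true, beq_iff_eq, List.mem_range] at hcand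
  obtain ⟨i, hi, hiL⟩ := hcand
  have hLi : L = powL fY i := by
    have h1 : coef.map (lm ((bas 277 1108).map (lm L))) = idL.map (lm L) := by
      rw [← b2, List.map_map]
      exact List.map_congr_left fun m _ => hf m
    rw [h1] at hiL
    rw [← hiL]
    refine List.ext_getElem (by simp [hL, imgs, idL]) fun j hj hj' => ?_
    have hj12 : j < 12 := by simpa [hL, imgs] using hj
    rw [List.getElem_map, ← List.getD_eq_getElem _ 0 hj,
      show idL[j]'(by simp [idL]; omega) = 2 ^ j by interval_cases j <;> rfl, lm_bit]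
  -- back
  have hO3 : ψ cO ^ 3 = 1 := imgs_inj (by rw [imgs_pow, hO, imgs_one]; decide +kernel)
  have hm : ∀ n : Fin 3, ((3 - n.1) % 3 + n.1) % 3 = 0 := by decide
  have hg_eq : g0 = ψ cS ^ e.1 * (ψ cO ^ ((3 - a'.1) % 3) * g) := by
    rw [hg, ← mul_assoc (ψ cO ^ _), ← pow_add, pow_eq_pow_mod _ hO3, hm, pow_zero, one_mul, hg1, ← mul_assoc,
      ← pow_add, ← two_mul, pow_mul, pow_two, hTT, one_pow, one_mul]
  obtain ⟨a, ha⟩ := swap_words e ⟨(3 - a'.1) % 3, Nat.mod_lt _ (by norm_num)⟩ ⟨i, hi⟩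
  refine ⟨e, a, ⟨i, hi⟩, ?_⟩
  rw [hg0, ← hg0, hg_eq, imgs_mul, imgs_mul, imgs_pow, imgs_pow, hS, hO, ← hL, hLi]
  exact ha

end Ctx

end CfsgLib.Sporadic.J4Type.Five
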