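import Cfsg.Agent.Lib.Sporadic.J4Type.StabW
import Cfsg.Agent.Lib.Sporadic.LargeFischer.Hexa.ElAct

/-!
# Facts on an element of order five of the image of the centraliser
-/

set_option autoImplicit false
set_option maxRecDepth 40000
set_option Elab.async false

namespace CfsgLib.Sporadic.J4Type.Five

open CfsgLib.Sporadic.LargeFischer CfsgLib.Sporadic.LargeFischer.Hexa CfsgLib.Sporadic.J4Type

/-- The element of order five. -/
def fY : List ℕ := L5.getD 1 []

/-- An element normalising it. -/
def fU : List ℕ := L5.getD 2 []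

/-- The scalar. -/
def fO : List ℕ := L5.getD 3 []

/-- The semilinear generator. -/
def fT : List ℕ := L5.getD 4 []

/-- Its fixed vectors. -/
def fC : List ℕ := [0, 122, 159, 229, 277, 367, 394, 496, 554, 592, 693, 719, 831, 837, 928, 986]

/-- The fixed vectors in the fused orbit. -/
def fW : List ℕ := [122, 159, 229]

/-- For each of the three, the semilinear involution fixing it. -/
def fJ : List (List ℕ) := [cmpL fT fO, cmpL fO fT, fT]

/-- For each of the three, the other singular vectors orthogonal to it, with preimages under `fKey`. -/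
def fS : List (List (ℕ × ℕ)) := [[(831, 309), (837, 335)], [(277, 538), (394, 645)], [(554, 815), (719, 970)]]

/-- A word fixing the three. -/
def fKey : ℕ := 221607

/-- One of the three. -/
def wk (k : Fin 3) : ℕ := fW.getD k.1 0

/-- Its involution. -/
def jk (k : Fin 3) : List ℕ := fJ.getD k.1 []

/-- The form, on codes. -/
def qc (n : ℕ) : Bool := Qb n

/-- The polar form, on codes. -/
def bc (a b : ℕ) : Bool := xor (xor (Qb (a ^^^ b)) (Qb a)) (Qb b)

/-- The sixteen candidates for the image of the third basis vector. -/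
def fA : List ℕ := [277, 394, 554, 719, 831, 837]

/-- The candidates for the image of the last basis vector. -/
def fB : List ℕ := [5, 10, 15, 91, 173, 246, 1108, 1192, 1330, 1385, 1424, 1439, 1476, 1723, 1904, 1909, 1914, 1919,
  2007, 2216, 2300, 2409, 2448, 2453, 2458, 2463, 2579, 2632, 2750, 2784, 2789, 3037, 3156, 3324, 3430, 3774, 3808,
  3813, 3818, 3823, 3873, 3952, 3962, 3980, 4055]

/-- A basis adapted to the element. -/
def bas (e u : ℕ) : List ℕ :=
  frc u fun u => frc (lm fY u) fun u1 => frc (lm fY u1) fun u2 => frc (lm fY u2) fun u3 =>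
    [229, 122, e, omc e, u, omc u, u1, omc u1, u2, omc u2, u3, omc u3]

/-- The bits in that basis. -/
def coef : List ℕ := [1019, 349, 3643, 1821, 1079, 2073, 2668, 4020, 2547, 3665, 112, 144]

theorem fY_lit : gens5.getD 1 [] = fY ∧ gens5.getD 2 [] = fU ∧ gens5.getD 3 [] = fO ∧ gens5.getD 4 [] = fT ∧
    cY = fY ∧ cU = fU ∧ cOm = fO ∧ cT = fT := by decide +kernel

theorem basic_facts : powL fY 5 = idL ∧ fY ≠ idL ∧ cmpL fT fT = idL ∧ cmpL fO fY = cmpL fY fO ∧
    cmpL fT fY = cmpL fY fT ∧ cmpL fU fY = cmpL (powL fY 2) fU ∧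
    (∀ k : Fin 3, cmpL (jk k) fY = cmpL fY (jk k) ∧ jk k ≠ idL ∧ cmpL (jk k) (jk k) = idL) ∧
    omc 229 = 122 ∧ omc 122 = 159 ∧ omc 159 = 229 := by decide +kernel

theorem sweep : ((List.range 4096).all fun m => frc (lm fY m) fun a => (!(a == m) || fC.contains m) &&
    frc (a ^^^ m) fun d => !(oc d == (false, true)) || fB.contains d) = true := by decide +kernel

theorem fixed_ok : fC.Nodup ∧ (fC.all fun v => decide (v < 4096) && (lm fY v == v) &&
    ((oc v == (false, true)) == fW.contains v) && (!(oc v == (true, false)) || fA.contains v)) = true ∧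
    fW.Nodup ∧ oc 277 = (true, false) ∧ lm fY 277 = 277 := by decide +kernel

theorem perp_facts : ∀ k : Fin 3,
    (fC.all fun v => qc v || bc v (wk k) || ((0 :: fW) ++ (fS.getD k.1 []).map Prod.fst).contains v) = true ∧
    ((0 :: fW) ++ (fS.getD k.1 []).map Prod.fst).length = 6 ∧
    (fC.countP fun v => !bc v (wk k)) = 8 ∧
    (fC.all fun v => !(lm (jk k) v == v) || fC.any fun t => t ^^^ lm (jk k) t == v) = true ∧
    (fW.all fun v => v == wk k || (lm (jk k) v == v ^^^ wk k && !(v == v ^^^ wk k))) = true := by
  decide +kernel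

theorem self_perp : (fC.all fun v => fW.any (fun w => bc v w) || (0 :: fW).contains v) = true ∧
    (fW.all fun a => fW.all fun b => !bc a b) = true ∧ (fW.all fun a => !qc a) = true := by decide +kernel

theorem witness : ∀ k : Fin 3, evC fKey (wk k) = wk k ∧ ((fS.getD k.1 []).all fun p => decide (p.2 < 4096) &&
    evC fKey p.2 == p.1 &&
    frc (evC fKey (lm (jk k) p.2)) fun y => !(y == p.1) && !(y == p.1 ^^^ wk k)) = true := by decide +kernel

theorem no_line : ∀ k : Fin 3, (fC.all fun a => fC.all fun b =>
    a == 0 || b == 0 || a == b || qc a || qc b || bc a b || fW.contains a || fW.contains b ||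
      fW.contains (a ^^^ b) || !([a, b, a ^^^ b].contains (lm (jk k) a))) = true := by decide +kernel

/-- The test that a candidate is a power of the element. -/
def candOK (e u : ℕ) : Bool :=
  frc (bas e u).length fun _ =>
    let I := bas e u
    !(oc (lm I 3447) == oc 295) || !(oc (lm I 3942) == oc 6) ||
      (List.range 5).any fun i => coef.map (lm I) == powL fY i

theorem cand_all : (fA.all fun e => fB.all fun u => candOK e u) = true := by decide +kernel

theorem bas_ok : lm (bas 277 1108) 3447 = 295 ∧ lm (bas 277 1108) 3942 = 6 ∧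
    coef.map (lm (bas 277 1108)) = idL ∧ lm fY 1040 ^^^ 1040 = 1108 ∧ oc 1108 = (false, true) := by decide +kernel

/-- The elements commuting with it. -/
def comb (e a i : ℕ) : List ℕ := cmpL (powL fO a) (cmpL (powL fT e) (powL fY i))

theorem comb_facts : ∀ e : Fin 2, ∀ a : Fin 3, ∀ i : Fin 5,
    (∀ k : Fin 3, lm (comb e a i) (wk k) = wk k → powL (comb e a i) 4 = idL →
      comb e a i = idL ∨ comb e a i = jk k) ∧
    (cmpL (comb e a i) (comb e a i) = idL → comb e a i = idL ∨ comb e a i ∈ fJ) ∧
    ((∀ k : Fin 3, lm (comb e a i) (wk k) = wk k) → comb e a i = powL fY i) := by decide +kernel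

theorem comb_nodup :
    ((List.range 30).map fun n => comb (n % 2) (n / 2 % 3) (n / 6)).Nodup := by decide +kernel

end CfsgLib.Sporadic.J4Type.Five
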