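import Cfsg.Agent.Lib.Sporadic.J4Type.FiveCtx

/-!
# Groups of fourth Janko type: conjugates of the central involution centralised by an element of order five
-/

set_option autoImplicit false
set_option linter.style.haveILetI false
set_option linter.unusedSectionVars false
set_option maxRecDepth 40000

namespace CfsgLib.Sporadic.J4Type.Five

open CfsgLib.Sporadic.LargeFischer CfsgLib.Sporadic.LargeFischer.Hexa CfsgLib.Sporadic.J4Type
open CfsgLib.ThreeTransp.Extraspecial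
open scoped Pointwise

/-- Two elements of prime order, the prime dividing the order of the group once. -/
theorem exists_conj_pow {Γ : Type*} [Group Γ] [Finite Γ] {p : ℕ} [Fact p.Prime]
    (hf : (Nat.card Γ).factorization p = 1) {a c : Γ} (ha : orderOf a = p) (hc : orderOf c = p) :
    ∃ (d : Γ) (m : ℕ), d * a * d⁻¹ = c ^ m ∧ ¬ p ∣ m := by
  let P : Sylow p Γ := Sylow.ofCard (Subgroup.zpowers a) (by rw [Nat.card_zpowers, ha, hf, pow_one])
  let P' : Sylow p Γ := Sylow.ofCard (Subgroup.zpowers c) (by rw [Nat.card_zpowers, hc, hf, pow_one])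
  obtain ⟨d, hd⟩ := MulAction.exists_smul_eq Γ P P'
  have h : d * a * d⁻¹ ∈ Subgroup.zpowers c := by
    have h1 : d * a * d⁻¹ ∈ ((d • P : Sylow p Γ) : Subgroup Γ) := by
      rw [Sylow.coe_subgroup_smul]
      exact Subgroup.smul_mem_pointwise_smul _ _ _ (Subgroup.mem_zpowers _)
    rwa [hd] at h1
  rw [← mem_powers_iff_mem_zpowers] at h
  obtain ⟨m, hm⟩ := h
  have hm' : c ^ m = d * a * d⁻¹ := hm
  refine ⟨d, m, hm'.symm, fun hdvd => ?_⟩
  obtain ⟨n, rfl⟩ := hdvd
  rw [pow_mul, ← hc, pow_orderOf_eq_one, one_pow] at hm'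
  rw [conj_eq_one_iff.1 hm'.symm, orderOf_one] at ha
  exact (Fact.out : p.Prime).ne_one ha.symm

theorem card_list (l : List ℕ) (hl : l.Nodup) (hlt : ∀ n ∈ l, n < 4096) :
    Nat.card {v : V6 // enc v ∈ l} = l.length := by
  classical
  rw [Nat.card_congr (α := {v : V6 // enc v ∈ l}) (β := {n : ℕ // n ∈ l.toFinset})
    { toFun := fun v => ⟨enc v.1, List.mem_toFinset.2 v.2⟩
      invFun := fun n => ⟨dec n.1, by rw [enc_dec (hlt _ (List.mem_toFinset.1 n.2))]; exact List.mem_toFinset.1 n.2⟩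
      left_inv := fun v => Subtype.ext (dec_enc _)
      right_inv := fun n => Subtype.ext (enc_dec (hlt _ (List.mem_toFinset.1 n.2))) },
    Nat.card_eq_fintype_card, Fintype.card_coe, List.toFinset_card_of_nodup hl]

/-- The singular vectors orthogonal to one of the three. -/
def perpL (k : Fin 3) : List ℕ := (0 :: fW) ++ (fS.getD k.1 []).map Prod.fst

theorem perpL_facts : ∀ k : Fin 3, (perpL k).Nodup ∧ ∀ n ∈ perpL k, n < 4096 := by decide +kernel

theorem jk_lt : ∀ k : Fin 3, ∀ v ∈ jk k, v < 4096 := by decide +kernel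

namespace Ctx

variable {G : Type*} [Group G] [Finite G] [IsSimpleGroup G] {z : G} {π : G → V6}
  {ψ : ↥(Subgroup.centralizer ({z} : Set G)) →* (V6 ≃ₗ[ZMod 2] V6)}
  {x b : ↥(Subgroup.centralizer ({z} : Set G))} (X : Ctx z π ψ x b)
include X

theorem fac_five : (Nat.card ↥(Subgroup.centralizer ({z} : Set G))).factorization 5 = 1 := by
  rw [Fuse.card_cent X.J, show 2 ^ 21 * 10395 = (2 ^ 21 * 2079) * 5 by norm_num,
    Nat.factorization_mul (by norm_num) (by norm_num), Nat.Prime.factorization (by norm_num : Nat.Prime 5)]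
  simp only [Finsupp.add_apply, Nat.factorization_eq_zero_of_not_dvd (show ¬ 5 ∣ 2 ^ 21 * 2079 by norm_num),
    Finsupp.single_eq_same, zero_add]

/-- The conjugates of `z` centralised by the element are conjugate under its centraliser. -/
theorem move {u : G} (hu : IsConj z u) (hb : Commute (b : G) u) :
    ∃ g : G, g * z * g⁻¹ = u ∧ Commute g (b : G) := by
  haveI : Fact (Nat.Prime 5) := ⟨by norm_num⟩
  obtain ⟨g, rfl⟩ := isConj_iff.1 hu
  have hb' : g⁻¹ * (b : G) * g ∈ Subgroup.centralizer ({z} : Set G) := by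
    rw [Subgroup.mem_centralizer_singleton_iff]
    calc g⁻¹ * (b : G) * g * z = g⁻¹ * ((b : G) * (g * z * g⁻¹)) * g := by group
      _ = z * (g⁻¹ * (b : G) * g) := by rw [hb.eq]; group
  have ho : orderOf (⟨_, hb'⟩ : ↥(Subgroup.centralizer ({z} : Set G))) = 5 := by
    rw [Subgroup.orderOf_mk, show g⁻¹ * (b : G) * g = (MulAut.conj g⁻¹).toMonoidHom (b : G) by simp,
      orderOf_injective (MulAut.conj g⁻¹).toMonoidHom (MulAut.conj g⁻¹).injective, Subgroup.orderOf_coe, X.ord]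
  obtain ⟨c, m, hcm, h5⟩ := exists_conj_pow X.fac_five ho X.ord
  obtain ⟨d, hd⟩ := X.exists_power_two
  obtain ⟨j, hj⟩ : ∃ j : Fin 4, 2 ^ j.1 % 5 = m % 5 := by
    have h : ∀ r : Fin 5, r.1 ≠ 0 → ∃ j : Fin 4, 2 ^ j.1 % 5 = r.1 := by decide
    exact h ⟨m % 5, Nat.mod_lt _ (by norm_num)⟩ (fun e => h5 (Nat.dvd_of_mod_eq_zero e))
  have hdj : ∀ i : ℕ, d ^ i * b * (d ^ i)⁻¹ = b ^ (2 ^ i) := by
    intro i
    induction i with
    | zero => simp
    | succ i ih =>
      calc d ^ (i + 1) * b * (d ^ (i + 1))⁻¹ = d * (d ^ i * b * (d ^ i)⁻¹) * d⁻¹ := by rw [pow_succ']; group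
        _ = (d * b * d⁻¹) ^ (2 ^ i) := by rw [ih, conj_pow]
        _ = b ^ 2 ^ (i + 1) := by rw [hd, ← pow_mul, pow_succ']
  have e : d ^ j.1 * b * (d ^ j.1)⁻¹ = b ^ m := by
    rw [hdj, pow_eq_pow_iff_modEq, X.ord]; exact hj
  refine ⟨g * (c : G)⁻¹ * ((d ^ j.1 : ↥(Subgroup.centralizer ({z} : Set G))) : G), ?_, ?_⟩
  · calc g * (c : G)⁻¹ * ((d ^ j.1 : ↥(Subgroup.centralizer ({z} : Set G))) : G) * z *
          (g * (c : G)⁻¹ * ((d ^ j.1 : ↥(Subgroup.centralizer ({z} : Set G))) : G))⁻¹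
        = g * ((c : G)⁻¹ * (((d ^ j.1 : ↥(Subgroup.centralizer ({z} : Set G))) : G) * z *
          ((d ^ j.1 : ↥(Subgroup.centralizer ({z} : Set G))) : G)⁻¹) * c) * g⁻¹ := by group
      _ = g * ((c : G)⁻¹ * (z * c)) * g⁻¹ := by rw [Fuse.z_conj X.J, mul_assoc (c : G)⁻¹ z]
      _ = g * z * g⁻¹ := by
        rw [← Subgroup.mem_centralizer_singleton_iff.1 c.2, inv_mul_cancel_left]
  · have e' := congrArg Subtype.val (e.trans hcm.symm)
    simp only [Subgroup.coe_mul, Subgroup.coe_inv] at e'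
    generalize ((d ^ j.1 : ↥(Subgroup.centralizer ({z} : Set G))) : G) = t at e' ⊢
    show g * (c : G)⁻¹ * t * b = b * (g * (c : G)⁻¹ * t)
    calc g * (c : G)⁻¹ * t * b = g * (c : G)⁻¹ * (t * b * t⁻¹) * t := by group
      _ = _ := by rw [e']; group

/-- Two elements of the centraliser with the same image differ by an element of the two-core. -/
theorem mem_of_imgs {a c : ↥(Subgroup.centralizer ({z} : Set G))} (e : imgs (ψ a) = imgs (ψ c)) :
    (a : G)⁻¹ * c ∈ Cfsg.twoCoreOfCentralizer z := by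
  have h := (X.J.base.ker (a⁻¹ * c)).1 (by rw [map_mul, map_inv, imgs_inj e, inv_mul_cancel])
  simpa using h

/-- The image of an element of the two-core under an element of the centraliser. -/
theorem enc_conj (c : ↥(Subgroup.centralizer ({z} : Set G))) {a : G} (ha : a ∈ Cfsg.twoCoreOfCentralizer z) :
    enc (π ((c : G) * a * (c : G)⁻¹)) = lm (imgs (ψ c)) (enc (π a)) := by
  rw [X.J.base.act c a ha, enc_apply]

theorem conj_F {c : ↥(Subgroup.centralizer ({z} : Set G))} (hc : Commute c b) {a : G} (ha : a ∈ X.Fsub) :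
    (c : G) * a * (c : G)⁻¹ ∈ X.Fsub := by
  by_cases h1 : a = 1
  · rw [h1, mul_one, mul_inv_cancel]; exact one_mem _
  have hm := X.J.base.norm c (Subgroup.mem_centralizer_singleton_iff.1 c.2) a ha.1
  have hcb : Commute (c : G) (b : G) := congrArg Subtype.val hc.eq
  have hcomm : Commute (b : G) ((c : G) * a * (c : G)⁻¹) :=
    (hcb.symm.mul_right (X.F_commute ha)).mul_right hcb.symm.inv_right
  exact ((X.mem_F_iff hm hcomm).2 (((X.mem_F_iff ha.1 (X.F_commute ha)).1 ⟨ha, h1⟩).trans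
    (isConj_iff.2 ⟨c, rfl⟩))).1

/-- The element over one of the three. -/
theorem exists_over (k : Fin 3) : ∃ u ∈ X.Fsub, enc (π u) = wk k ∧ u ≠ z ∧ u ≠ 1 := by
  obtain ⟨u, hu, e⟩ := X.J.base.π_surj (dec (wk k))
  obtain ⟨h1, hlt, -⟩ := oc_fW (wk_mem k)
  have he : enc (π u) = wk k := by rw [e, enc_dec hlt]
  have hne : ∀ w, π w = 0 → u ≠ w := fun w hw eu => by
    rw [eu, hw, enc_zero] at he
    exact absurd (he ▸ h1) (by decide +kernel)
  exact ⟨u, ⟨hu, he ▸ List.mem_cons_of_mem _ (wk_mem k)⟩, he, hne z X.J.base.π_z, hne 1 X.J.base.π_one⟩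

/-- The two conjugates of the two-core. -/
theorem pair {g : G} (hgb : Commute g (b : G)) (hu : g * z * g⁻¹ ∈ X.Fsub) (hne : g * z * g⁻¹ ≠ z) {k : Fin 3}
    (hk : enc (π (g * z * g⁻¹)) = wk k) :
    (∀ a ∈ X.Fsub, g⁻¹ * a * g ∈ Cfsg.twoCoreOfCentralizer z) ∧
    ∃ y : ↥(Subgroup.centralizer ({z} : Set G)), g⁻¹ * (y : G) * g ∈ Cfsg.twoCoreOfCentralizer z ∧ Commute y b ∧
      (y : G) ∉ Cfsg.twoCoreOfCentralizer z ∧ y * y = 1 ∧ imgs (ψ y) = jk k := by
  classical
  have hb := X.J.base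
  set u := g * z * g⁻¹ with hudef
  have h' : Extra ((Cfsg.twoCoreOfCentralizer z).map (MulAut.conj g).toMonoidHom) u := hb.extra.map_conj g
  set E' := (Cfsg.twoCoreOfCentralizer z).map (MulAut.conj g).toMonoidHom with hE'
  have hmE' : ∀ a, a ∈ E' ↔ g⁻¹ * a * g ∈ Cfsg.twoCoreOfCentralizer z := fun a => mem_map_conj
  set s := g⁻¹ * z * g with hs
  have hsE : s ∈ Cfsg.twoCoreOfCentralizer z := Fuse.symm_mem X.J hu.1 hne
  have hsne : s ≠ z := fun e => hne (by
    calc u = g * (g⁻¹ * z * g) * g⁻¹ := by rw [← hs, e]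
      _ = z := by group)
  have hbz : Commute (b : G) z := Subgroup.mem_centralizer_singleton_iff.1 b.2
  have hsb : Commute (b : G) s := (hgb.symm.inv_right.mul_right hbz).mul_right hgb.symm
  have hsc : IsConj z s := isConj_iff.2 ⟨g⁻¹, by rw [inv_inv]⟩
  have hsW : enc (π s) ∈ fW := mem_fW ((X.commute_iff hsE).1 hsb) (Fuse.conj_oc X.J hsE hsc hsne)
  obtain ⟨k', hk'⟩ := exists_wk hsW
  -- the sixteen elements
  let K := {a : G // a ∈ Cfsg.twoCoreOfCentralizer z ∧ Commute (b : G) a ∧ a * s = s * a}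
  have hK : Nat.card K = 16 := by
    have h8 := Fuse.card_over X.J fun v => enc v ∈ fC.filter fun n => !bc n (wk k')
    rw [card_list _ (fixed_ok.1.filter _) (fun n hn => fC_lt (List.mem_filter.1 hn).1),
      ← List.countP_eq_length_filter, (perp_facts k').2.2.1] at h8
    refine Eq.trans (Nat.card_congr (Equiv.subtypeEquivRight fun a => and_congr_right fun ha => ?_)) h8
    rw [List.mem_filter, X.commute_iff ha, Bool.not_eq_true', hk', ← X.bs_of]
    exact and_congr_right fun _ => ⟨hb.bs_of_commute ha hsE, hb.commute_of_bs ha hsE⟩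
  have key : ∀ a : K, g * a.1 * g⁻¹ ∈ E' ∧ Commute (b : G) (g * a.1 * g⁻¹) ∧
      g * a.1 * g⁻¹ * z = z * (g * a.1 * g⁻¹) := fun a => by
    refine ⟨(hmE' _).2 ?_, (hgb.symm.mul_right a.2.2.1).mul_right hgb.symm.inv_right, ?_⟩
    · simpa [mul_assoc] using a.2.1
    · calc g * a.1 * g⁻¹ * z = g * (a.1 * (g⁻¹ * z * g)) * g⁻¹ := by group
        _ = z * (g * a.1 * g⁻¹) := by rw [← hs, a.2.2.2]; show g * (g⁻¹ * z * g * a.1) * g⁻¹ = _; group
  have hEu : ∀ {a : G}, a ∈ E' → a * u = u * a := fun {a} ha => (h'.z_comm ha).symm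
  have hin : ∀ a : G, a ∈ E' → a ∈ Cfsg.twoCoreOfCentralizer z → Commute (b : G) a → enc (π a) ∈ perpL k := by
    intro a ha' ha hab
    have h1 := (X.commute_iff ha).1 hab
    have hq : qc (enc (π a)) = false := by
      rw [← X.qs_of, hb.q_iff a ha]
      rcases hb.extra.sq_cases ha with e | e
      · exact e
      · rcases h'.sq_cases ha' with e' | e'
        · exact e'
        · exact absurd (e'.symm.trans e) hne
    have hp : bc (enc (π a)) (wk k) = false := by
      rw [← hk, ← X.bs_of]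
      exact hb.bs_of_commute ha hu.1 (hEu ha')
    have := List.all_eq_true.1 (perp_facts k).1 _ h1
    rw [hq, hp, Bool.false_or, Bool.false_or, List.contains_iff_mem] at this
    exact this
  have hgval : Function.Injective fun a : K => g * a.1 * g⁻¹ := fun a c e =>
    Subtype.ext (mul_left_cancel (mul_right_cancel e))
  obtain ⟨a0, ha0⟩ : ∃ a : K, g * a.1 * g⁻¹ ∉ Cfsg.twoCoreOfCentralizer z := by
    by_contra hall
    push Not at hall
    let f : K → {a : G // a ∈ Cfsg.twoCoreOfCentralizer z ∧ enc (π a) ∈ perpL k} := fun a =>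
      ⟨_, hall a, hin _ (key a).1 (hall a) (key a).2.1⟩
    have h := Nat.card_le_card_of_injective f fun a c e => hgval (congrArg Subtype.val e)
    rw [Fuse.card_over X.J fun v => enc v ∈ perpL k, hK, card_list _ (perpL_facts k).1 (perpL_facts k).2,
      perpL, (perp_facts k).2.1] at h
    omega
  let mk : ∀ a : K, ↥(Subgroup.centralizer ({z} : Set G)) := fun a =>
    ⟨g * a.1 * g⁻¹, Subgroup.mem_centralizer_singleton_iff.2 (key a).2.2⟩
  have hjk : ∀ a : K, g * a.1 * g⁻¹ ∉ Cfsg.twoCoreOfCentralizer z → imgs (ψ (mk a)) = jk k := by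
    intro a ha
    obtain ⟨e, a', i, h⟩ := X.cent_image (c := mk a) (Subtype.ext (key a).2.1.symm.eq)
    have hw : lm (comb e a' i) (wk k) = wk k := by
      rw [← h, ← hk, ← X.enc_conj (mk a) hu.1]
      congr 2
      exact mul_inv_eq_iff_eq_mul.2 (hEu (key a).1)
    have h4 : powL (comb e a' i) 4 = idL := by
      rw [← h, ← imgs_pow, ← map_pow, show mk a ^ 4 = 1 from ?_, map_one, imgs_one]
      refine Subtype.ext ?_
      show (g * a.1 * g⁻¹) ^ 4 = 1
      rw [show 4 = 2 * 2 from rfl, pow_mul, pow_two (g * a.1 * g⁻¹)]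
      rcases h'.sq_cases (key a).1 with e1 | e1 <;> rw [e1]
      · exact one_pow 2
      · rw [pow_two, h'.z_sq]
    rcases (comb_facts e a' i).1 k hw h4 with h5 | h5
    · exact absurd ((hb.ker _).1 (imgs_inj (by rw [h, h5, imgs_one]))) ha
    · exact h.trans h5
  -- the intersection lies in the fused subgroup
  obtain ⟨cw, ⟨c, rfl⟩, hcn⟩ := exists_wLet X.J fKey
  obtain ⟨hwk, hwit⟩ := witness k
  have hcu : ψ c (π u) = π u := by
    rw [← dec_enc (π u), hk, (hcn _ (oc_fW (wk_mem k)).2.1).2]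
    exact congrArg dec hwk
  obtain ⟨c', hc', hcc⟩ : ∃ c' : ↥(Subgroup.centralizer ({z} : Set G)), ψ c' = ψ c ∧ (c' : G) * u = u * c' := by
    obtain ⟨hm, he⟩ := hb.π_conj c hu.1
    rcases (hb.π_eq_iff hu.1 hm).1 (he.trans hcu).symm with e | e
    · exact ⟨c, rfl, mul_inv_eq_iff_eq_mul.1 e⟩
    · obtain ⟨q, hq, hqe⟩ := hb.extra.exists_conj_eq hu.1 h'.z_ne hne
      refine ⟨⟨q, hb.mem_cent hq⟩ * c, by rw [map_mul, (hb.ker ⟨q, hb.mem_cent hq⟩).2 hq, one_mul],
        mul_inv_eq_iff_eq_mul.1 ?_⟩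
      show q * c * u * (q * c)⁻¹ = u
      rw [show q * (c : G) * u * (q * c)⁻¹ = q * ((c : G) * u * (c : G)⁻¹) * q⁻¹ by group, e,
        show q * (u * z) * q⁻¹ = q * u * q⁻¹ * (q * z * q⁻¹) by group, hqe,
        show q * z * q⁻¹ = z from mul_inv_eq_iff_eq_mul.2 (hb.cent_z hq), mul_assoc, hb.extra.z_sq, mul_one]
  set y1 : ↥(Subgroup.centralizer ({z} : Set G)) := c' * mk a0 * c'⁻¹ with hy1
  have hy1E : (y1 : G) ∈ E' := (hmE' _).2 (centralizer_conj_le hb.normalizer g hcc ((hmE' _).1 (key a0).1))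
  have hD : ∀ a : G, a ∈ E' → a ∈ Cfsg.twoCoreOfCentralizer z → Commute (b : G) a → a ∈ X.Fsub := by
    intro a ha' ha hab
    refine ⟨ha, ?_⟩
    rcases List.mem_append.1 (hin a ha' ha hab) with h | h
    · exact h
    exfalso
    obtain ⟨⟨s', t⟩, hp, hs'⟩ := List.mem_map.1 h
    have hw := List.all_eq_true.1 hwit _ hp
    simp only [Bool.and_eq_true, decide_eq_true_eq, beq_iff_eq, frc_eq, Bool.not_eq_true', beq_eq_false_iff_ne] at hw
    obtain ⟨⟨ht, hts⟩, hy, hy'⟩ := hw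
    simp only at hs'
    have hct : ψ c (dec t) = π a := by
      rw [(hcn t ht).2, ← dec_enc (π a), ← hs', ← hts]; rfl
    have hval : ψ y1 (π a) = dec (evC fKey (lm (jk k) t)) := by
      rw [hy1, map_mul, map_mul, map_inv, hc', ← hct]
      show ψ c (ψ (mk a0) ((ψ c).symm (ψ c (dec t)))) = _
      rw [(ψ c).symm_apply_apply, apply_dec _ ht, hjk a0 ha0, (hcn _ (lm_lt (k := 12) _ _ (jk_lt k))).2]
      rfl
    have hlt : evC fKey (lm (jk k) t) < 4096 := (hcn _ (lm_lt (k := 12) _ _ (jk_lt k))).1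
    have hconj : (y1 : G) * a * (y1 : G)⁻¹ = a ∨ (y1 : G) * a * (y1 : G)⁻¹ = a * u := h'.conj_cases ha' hy1E
    rcases hconj with e | e
    · have e1 := congrArg enc ((hb.act y1 a ha).symm.trans (congrArg π e))
      rw [hval, enc_dec hlt, ← hs'] at e1
      exact hy e1
    · have e1 := congrArg enc ((hb.act y1 a ha).symm.trans (congrArg π e))
      rw [hval, enc_dec hlt, hb.π_mul a ha u hu.1, enc_add, hk, ← hs'] at e1
      exact hy' e1
  -- equality
  let D := {a : G // a ∈ E' ∧ a ∈ Cfsg.twoCoreOfCentralizer z ∧ Commute (b : G) a}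
  have hDin : ∀ a : K, g * a.1 * g⁻¹ ∉ Cfsg.twoCoreOfCentralizer z →
      (g * a0.1 * g⁻¹)⁻¹ * (g * a.1 * g⁻¹) ∈ Cfsg.twoCoreOfCentralizer z := fun a ha =>
    X.mem_of_imgs (a := mk a0) (c := mk a) ((hjk a0 ha0).trans (hjk a ha).symm)
  let φ : K → Bool × D := fun a =>
    if ha : g * a.1 * g⁻¹ ∈ Cfsg.twoCoreOfCentralizer z then (true, ⟨_, (key a).1, ha, (key a).2.1⟩)
    else (false, ⟨_, mul_mem (inv_mem (key a0).1) (key a).1, hDin a ha,
      (key a0).2.1.inv_right.mul_right (key a).2.1⟩)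
  have hφ : Function.Injective φ := fun a c e => by
    simp only [φ] at e
    split_ifs at e with h1 h2 h2
    · exact hgval (congrArg Subtype.val (Prod.mk.inj e).2)
    · exact absurd (Prod.mk.inj e).1 (by simp)
    · exact absurd (Prod.mk.inj e).1 (by simp)
    · exact hgval (mul_left_cancel (congrArg Subtype.val (Prod.mk.inj e).2))
  let ι : D → ↥X.Fsub := fun a => ⟨a.1, hD a.1 a.2.1 a.2.2.1 a.2.2.2⟩
  have hι : Function.Injective ι := fun a c e => Subtype.ext (congrArg Subtype.val e :)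
  have hιs : Function.Surjective ι := by
    refine ((Nat.bijective_iff_injective_and_card ι).2 ⟨hι, le_antisymm (Nat.card_le_card_of_injective ι hι) ?_⟩).2
    have h1 := Nat.card_le_card_of_injective φ hφ
    rw [hK, Nat.card_prod, Nat.card_eq_fintype_card, Fintype.card_bool] at h1
    rw [X.card_F]
    omega
  have hFE : ∀ a ∈ X.Fsub, a ∈ E' := fun a ha => by
    obtain ⟨d, hd⟩ := hιs ⟨a, ha⟩
    have : (d : G) = a := congrArg Subtype.val hd
    exact this ▸ d.2.1
  refine ⟨fun a ha => (hmE' _).1 (hFE a ha), ?_⟩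
  -- an involution outside
  rcases h'.sq_cases (key a0).1 with e0 | e0
  · exact ⟨mk a0, (hmE' _).1 (key a0).1, Subtype.ext (key a0).2.1.symm.eq, ha0, Subtype.ext e0, hjk a0 ha0⟩
  obtain ⟨k2, hk2⟩ : ∃ k2 : Fin 3, wk k2 ≠ wk k :=
    (by decide +kernel : ∀ k : Fin 3, ∃ k2 : Fin 3, wk k2 ≠ wk k) k
  obtain ⟨d, hd, hde, -, -⟩ := X.exists_over k2
  have hj : imgs (ψ (mk a0)) = jk k := hjk a0 ha0
  have hmove : (g * a0.1 * g⁻¹) * d * (g * a0.1 * g⁻¹)⁻¹ = d * u := by
    refine (h'.conj_cases (hFE d hd) (key a0).1).resolve_left fun e => ?_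
    have e1 : enc (π ((g * a0.1 * g⁻¹) * d * (g * a0.1 * g⁻¹)⁻¹)) = lm (jk k) (wk k2) := by
      rw [← hde, ← hj]; exact X.enc_conj (mk a0) hd.1
    rw [e, hde] at e1
    have h5 := List.all_eq_true.1 (perp_facts k).2.2.2.2 _ (wk_mem k2)
    simp only [Bool.or_eq_true, Bool.and_eq_true, beq_iff_eq, Bool.not_eq_true', beq_eq_false_iff_ne] at h5
    obtain ⟨h6, h7⟩ := h5.resolve_left hk2
    exact h7 (e1.trans h6)
  let dc : ↥(Subgroup.centralizer ({z} : Set G)) := ⟨d, hb.mem_cent hd.1⟩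
  refine ⟨mk a0 * dc, (hmE' _).1 (mul_mem (key a0).1 (hFE d hd)),
    (Commute.mul_left (Subtype.ext (key a0).2.1.symm.eq) (Subtype.ext (X.F_commute hd).symm.eq)), fun h => ha0 ?_,
    Subtype.ext ?_, ?_⟩
  · have := mul_mem h (inv_mem hd.1)
    simpa [mk, dc] using this
  · show g * a0.1 * g⁻¹ * d * (g * a0.1 * g⁻¹ * d) = 1
    generalize g * a0.1 * g⁻¹ = y at hmove e0
    calc y * d * (y * d) = y * d * y⁻¹ * (y * y) * d := by group
      _ = d * (u * u) * d := by rw [hmove, e0]; group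
      _ = 1 := by rw [h'.z_sq, mul_one, X.F_sq hd]
  · rw [map_mul, (hb.ker dc).2 hd.1, mul_one]
    exact hj

/-- A conjugator between two elements of the fused subgroup normalises it. -/
theorem normalises {g : G} (hgb : Commute g (b : G)) (hu : g * z * g⁻¹ ∈ X.Fsub) {a : G} (ha : a ∈ X.Fsub) :
    g * a * g⁻¹ ∈ X.Fsub := by
  classical
  by_cases hne : g * z * g⁻¹ = z
  · exact X.conj_F (c := ⟨g, Subgroup.mem_centralizer_singleton_iff.2 (mul_inv_eq_iff_eq_mul.1 hne)⟩)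
      (Subtype.ext hgb.eq) ha
  have h0 : enc (π (g * z * g⁻¹)) ∈ fW := by
    rcases List.mem_cons.1 hu.2 with h | h
    · rcases X.π_eq_zero hu.1 h with e | e
      · exact absurd (conj_eq_one_iff.1 e) X.J.base.extra.z_ne
      · exact absurd e hne
    · exact h
  obtain ⟨k, hk⟩ := exists_wk h0
  obtain ⟨hFE, -⟩ := X.pair hgb hu hne hk.symm
  let f : ↥X.Fsub → ↥X.Fsub := fun a => ⟨g⁻¹ * a.1 * g, by
    by_cases h1 : a.1 = 1
    · rw [h1, mul_one, inv_mul_cancel]; exact one_mem _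
    refine ((X.mem_F_iff (hFE a.1 a.2)
      ((hgb.symm.inv_right.mul_right (X.F_commute a.2)).mul_right hgb.symm)).2 ?_).1
    exact ((X.mem_F_iff a.2.1 (X.F_commute a.2)).1 ⟨a.2, h1⟩).trans (isConj_iff.2 ⟨g⁻¹, by rw [inv_inv]⟩)⟩
  have hf : Function.Injective f := fun a c e => Subtype.ext
    (mul_left_cancel (mul_right_cancel (congrArg Subtype.val e)))
  obtain ⟨d, hd⟩ := (Finite.injective_iff_surjective.1 hf) ⟨a, ha⟩
  have e : g⁻¹ * d.1 * g = a := congrArg Subtype.val hd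
  rw [← e, show g * (g⁻¹ * d.1 * g) * g⁻¹ = d.1 by group]
  exact d.2

/-- The conjugates of `z` in the centraliser of `z` and of the element lie in the fused subgroup. -/
theorem fused_cent {a : G} (hz : a * z = z * a) (hab : Commute (b : G) a) (hc : IsConj z a) : a ∈ X.Fsub := by
  classical
  have hb := X.J.base
  by_contra haF
  have haE : a ∉ Cfsg.twoCoreOfCentralizer z := fun ha => haF ((X.mem_F_iff ha hab).2 hc).1
  let ac : ↥(Subgroup.centralizer ({z} : Set G)) := ⟨a, Subgroup.mem_centralizer_singleton_iff.2 hz⟩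
  have ha2 : a * a = 1 := by
    obtain ⟨g, rfl⟩ := isConj_iff.1 hc
    rw [show g * z * g⁻¹ * (g * z * g⁻¹) = g * (z * z) * g⁻¹ by group, hb.extra.z_sq]; group
  obtain ⟨e, a', i, h⟩ := X.cent_image (c := ac) (Subtype.ext hab.symm.eq)
  have hj : comb e a' i ∈ fJ := by
    refine ((comb_facts e a' i).2.1 ?_).resolve_left fun h1 =>
      haE ((hb.ker ac).1 (imgs_inj (by rw [h, h1, imgs_one])))
    rw [← h, ← imgs_mul, ← map_mul, show ac * ac = 1 from Subtype.ext ha2, map_one, imgs_one]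
  obtain ⟨k, hk⟩ : ∃ k : Fin 3, jk k = comb e a' i := by
    obtain ⟨n, hn, hne⟩ := List.mem_iff_getElem.1 hj
    exact ⟨⟨n, by simpa [fJ] using hn⟩, by rw [jk, List.getD_eq_getElem _ _ hn]; exact hne⟩
  obtain ⟨u, hu, hue, huz, hu1⟩ := X.exists_over k
  obtain ⟨g, rfl, hgb⟩ := X.move ((X.mem_F_iff hu.1 (X.F_commute hu)).1 ⟨hu, hu1⟩) (X.F_commute hu)
  obtain ⟨hFE, y, hyE', hyb, hyE, hy2, hyj⟩ := X.pair hgb hu huz hue
  have hy2' : (y : G) * y = 1 := congrArg Subtype.val hy2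
  have hyb' : Commute (y : G) (b : G) := congrArg Subtype.val hyb.eq
  -- the quotient of the two
  set ε := a * (y : G) with hε
  have hεE : ε ∈ Cfsg.twoCoreOfCentralizer z := by
    have hain : a⁻¹ = a := inv_eq_of_mul_eq_one_right ha2
    have := X.mem_of_imgs (a := ac) (c := y) (by rw [h, hyj, hk])
    show a * (y : G) ∈ _
    rw [← hain]
    exact this
  have hεb : Commute (b : G) ε := hab.mul_right hyb'.symm
  have hfix : lm (jk k) (enc (π ε)) = enc (π ε) := by
    have e1 : (y : G) * ε * (y : G)⁻¹ = ε⁻¹ := by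
      rw [hε, mul_inv_rev, inv_eq_of_mul_eq_one_right hy2', inv_eq_of_mul_eq_one_right ha2]
      calc (y : G) * (a * y) * y = y * a * (y * y) := by group
        _ = _ := by rw [hy2', mul_one]
    rw [← hyj, ← X.enc_conj y hεE, e1, hb.π_inv hεE]
  have hmem := (X.commute_iff hεE).1 hεb
  have hex := List.all_eq_true.1 (perp_facts k).2.2.2.1 _ hmem
  simp only [hfix, beq_self_eq_true, Bool.not_true, Bool.false_or, List.any_eq_true, beq_iff_eq] at hex
  obtain ⟨t, ht, hte⟩ := hex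
  obtain ⟨c, hcE, hce⟩ := hb.π_surj (dec t)
  have hct : enc (π c) = t := by rw [hce, enc_dec (fC_lt ht)]
  have hcb : Commute (b : G) c := (X.commute_iff hcE).2 (hct ▸ ht)
  have hyc : (y : G) * c⁻¹ * (y : G)⁻¹ ∈ Cfsg.twoCoreOfCentralizer z :=
    hb.norm y (Subgroup.mem_centralizer_singleton_iff.1 y.2) _ (inv_mem hcE)
  have hπ : π (c * ((y : G) * c⁻¹ * (y : G)⁻¹)) = π ε := by
    rw [hb.π_mul c hcE _ hyc, hb.act y _ (inv_mem hcE), hb.π_inv hcE, ← dec_enc (π ε), ← hte, dec_xor, hce,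
      apply_dec _ (fC_lt ht), hyj]
  have hnot : ∀ v, g⁻¹ * v * g ∈ Cfsg.twoCoreOfCentralizer z → v ∉ Cfsg.twoCoreOfCentralizer z →
      Commute (b : G) v → ¬ IsConj z v := fun v hv hvE hvb hvc => hvE (by
    have h1 := ((X.mem_F_iff hv ((hgb.symm.inv_right.mul_right hvb).mul_right hgb.symm)).2
      (hvc.trans (isConj_iff.2 ⟨g⁻¹, by rw [inv_inv]⟩))).1
    have h2 := X.normalises hgb hu h1
    rw [show g * (g⁻¹ * v * g) * g⁻¹ = v by group] at h2
    exact h2.1)
  have hgz : g⁻¹ * z * g ∈ Cfsg.twoCoreOfCentralizer z := hFE z X.z_mem_F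
  have hbz : Commute (b : G) z := Subgroup.mem_centralizer_singleton_iff.1 b.2
  rcases (hb.π_eq_iff (mul_mem hcE hyc) hεE).1 hπ with e1 | e1
  · refine hnot y hyE' hyE hyb'.symm (hc.trans (isConj_iff.2 ⟨c⁻¹, ?_⟩))
    rw [show a = ε * (y : G)⁻¹ by rw [hε]; group, e1, inv_inv, inv_eq_of_mul_eq_one_right hy2']
    calc c⁻¹ * (c * ((y : G) * c⁻¹ * y) * y) * c = (y : G) * c⁻¹ * (y * y) * c := by group
      _ = _ := by rw [hy2', mul_one, inv_mul_cancel_right]
  · refine hnot ((y : G) * z) ?_ (fun h => hyE ?_) (hyb'.symm.mul_right hbz) ?_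
    · rw [show g⁻¹ * ((y : G) * z) * g = g⁻¹ * y * g * (g⁻¹ * z * g) by group]
      exact mul_mem hyE' hgz
    · have := mul_mem h (inv_mem hb.extra.z_mem)
      simpa using this
    · have hyz : (y : G) * z = z * y := Subgroup.mem_centralizer_singleton_iff.1 y.2
      have hcz : c * z = z * c := hb.cent_z hcE
      have : a = c * ((y : G) * z) * c⁻¹ := by
        rw [show a = ε * (y : G)⁻¹ by rw [hε]; group, e1, inv_eq_of_mul_eq_one_right hy2']
        calc c * ((y : G) * c⁻¹ * y) * z * y = c * ((y : G) * c⁻¹) * (y * (z * y)) := by group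
          _ = c * ((y : G) * c⁻¹) * (y * y * z) := by rw [← hyz]; group
          _ = c * ((y : G) * (c⁻¹ * z)) := by rw [hy2']; group
          _ = _ := by rw [((Commute.inv_left hcz : Commute c⁻¹ z)).eq]; group
      exact (this ▸ ‹IsConj z a›).trans ( (isConj_iff.2 ⟨c⁻¹, by group⟩))

end Ctx

end CfsgLib.Sporadic.J4Type.Five
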