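import Cfsg.Agent.Lib.Sporadic.J4Type.FiveLocal

/-!
# Groups of fourth Janko type: the centraliser and normaliser of an element of order five
-/

set_option autoImplicit false
set_option linter.style.haveILetI false
set_option linter.unusedSectionVars false
set_option maxRecDepth 40000

namespace CfsgLib.Sporadic.J4Type.Five

open CfsgLib.Sporadic.LargeFischer CfsgLib.Sporadic.LargeFischer.Hexa CfsgLib.Sporadic.J4Type

theorem five_mod : ∀ j j' : Fin 4, 2 ^ j.1 % 5 = 2 ^ j'.1 % 5 → j = j' := by decide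

theorem five_surj : ∀ r : Fin 5, r.1 ≠ 0 → ∃ j : Fin 4, 2 ^ j.1 % 5 = r.1 := by decide

theorem card_SL3_le : Nat.card (Matrix.SpecialLinearGroup (Fin 3) (ZMod 2)) ≤ 168 := by
  have h : Nat.card (Matrix.SpecialLinearGroup (Fin 3) (ZMod 2)) ≤ Nat.card (GL (Fin 3) (ZMod 2)) :=
    Nat.card_le_card_of_injective _ Matrix.SpecialLinearGroup.toGL_injective
  refine h.trans (le_of_eq ?_)
  rw [Matrix.card_GL_field]
  simp [Fin.prod_univ_three]

/-- A matrix group over the field with two elements. -/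
noncomputable def toSL {V : Type*} [AddCommGroup V] [Module (ZMod 2) V] (e : V ≃ₗ[ZMod 2] (Fin 3 → ZMod 2)) :
    (V ≃ₗ[ZMod 2] V) →* Matrix.SpecialLinearGroup (Fin 3) (ZMod 2) where
  toFun g := ⟨LinearMap.toMatrix' ((e.symm.trans g).trans e).toLinearMap, by
    have h : IsUnit (LinearMap.toMatrix' ((e.symm.trans g).trans e).toLinearMap).det := by
      rw [← Matrix.isUnit_iff_isUnit_det]
      refine ⟨⟨_, LinearMap.toMatrix' ((e.symm.trans g.symm).trans e).toLinearMap, ?_, ?_⟩, rfl⟩ <;>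
        rw [← LinearMap.toMatrix'_comp, ← LinearMap.toMatrix'_id] <;> congr 1 <;> ext v i <;> simp
    revert h
    generalize (LinearMap.toMatrix' ((e.symm.trans g).trans e).toLinearMap).det = d
    revert d
    decide⟩
  map_one' := Subtype.ext (by
    show LinearMap.toMatrix' _ = (1 : Matrix (Fin 3) (Fin 3) (ZMod 2))
    rw [← LinearMap.toMatrix'_id]; congr 1; ext v i; simp)
  map_mul' g h := Subtype.ext (by
    show LinearMap.toMatrix' _ = LinearMap.toMatrix' _ * LinearMap.toMatrix' _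
    rw [← LinearMap.toMatrix'_comp]; congr 1; ext v i; simp [LinearEquiv.mul_apply])

theorem toSL_injective {V : Type*} [AddCommGroup V] [Module (ZMod 2) V] (e : V ≃ₗ[ZMod 2] (Fin 3 → ZMod 2)) :
    Function.Injective (toSL e) := fun g h eq => by
  have h1 := LinearMap.toMatrix'.injective (congrArg Subtype.val eq)
  refine LinearEquiv.ext fun v => e.injective ?_
  have := LinearMap.congr_fun h1 (e v)
  simpa using this

namespace Ctx

variable {G : Type*} [Group G] [Finite G] [IsSimpleGroup G] {z : G} {π : G → V6}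
  {ψ : ↥(Subgroup.centralizer ({z} : Set G)) →* (V6 ≃ₗ[ZMod 2] V6)}
  {x b : ↥(Subgroup.centralizer ({z} : Set G))} (X : Ctx z π ψ x b)
include X

/-- The centraliser of the element. -/
theorem mem_cent {g : G} : g ∈ Subgroup.centralizer ({(b : G)} : Set G) ↔ Commute g (b : G) := by
  rw [Subgroup.mem_centralizer_singleton_iff]; rfl

theorem cent_mem_M {g : G} (hg : g ∈ Subgroup.centralizer ({(b : G)} : Set G)) : g ∈ X.Msub :=
  X.all_normalise (X.mem_cent.1 hg)

/-- The elements of the centraliser of `z` commuting with the element. -/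
theorem card_cent_z :
    Nat.card {c : ↥(Subgroup.centralizer ({z} : Set G)) // Commute c b} = 960 := by
  classical
  set C := Subgroup.centralizer ({b} : Set ↥(Subgroup.centralizer ({z} : Set G))) with hC
  have hmem : ∀ c, c ∈ C ↔ Commute c b := fun c => by rw [hC, Subgroup.mem_centralizer_singleton_iff]; rfl
  rw [show Nat.card {c : ↥(Subgroup.centralizer ({z} : Set G)) // Commute c b} = Nat.card C from
    Nat.card_congr (Equiv.subtypeEquivRight fun c => (hmem c).symm)]
  set φ := ψ.comp C.subtype with hφ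
  have hker : Nat.card φ.ker = 32 := by
    have h := Fuse.card_over X.J fun v => enc v ∈ fC
    rw [card_list fC fixed_ok.1 (fun n hn => fC_lt hn)] at h
    rw [show 32 = 2 * fC.length from rfl, ← h]
    exact Nat.card_congr
      { toFun := fun a => ⟨((a : ↥C) : ↥(Subgroup.centralizer ({z} : Set G))), (X.J.base.ker _).1 a.2,
          (X.commute_iff ((X.J.base.ker _).1 a.2)).1 (congrArg Subtype.val ((hmem _).1 (a : ↥C).2).eq.symm)⟩
        invFun := fun a => ⟨⟨⟨a.1, X.J.base.mem_cent a.2.1⟩,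
          (hmem _).2 (Subtype.ext ((X.commute_iff a.2.1).2 a.2.2).symm.eq)⟩, (X.J.base.ker _).2 a.2.1⟩
        left_inv := fun a => rfl
        right_inv := fun a => rfl }
  haveI : Finite (V6 ≃ₗ[ZMod 2] V6) := finite_equiv
  have hOc : ∃ c, imgs (ψ c) = fO := X.exists_gen (by rw [← fY_lit.2.2.2.2.2.2.1]; simp [gens5])
  have hTc : ∃ c, imgs (ψ c) = fT := X.exists_gen (by rw [← fY_lit.2.2.2.2.2.2.2]; simp [gens5])
  obtain ⟨cO, hO, hOb⟩ := X.exists_comm_lift hOc basic_facts.2.2.2.1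
  obtain ⟨cS, hS, hSb⟩ := X.exists_comm_lift hTc basic_facts.2.2.2.2.1
  have hrange : Nat.card φ.range = 30 := by
    let f : Fin 30 → φ.range := fun n =>
      ⟨ψ (cO ^ (n.1 / 2 % 3) * (cS ^ (n.1 % 2) * b ^ (n.1 / 6))), ⟨⟨_, (hmem _).2
        ((hOb.pow_left _).mul_left ((hSb.pow_left _).mul_left ((Commute.refl b).pow_left _)))⟩, rfl⟩⟩
    have hf : ∀ n, imgs ((f n : φ.range) : V6 ≃ₗ[ZMod 2] V6) = comb (n.1 % 2) (n.1 / 2 % 3) (n.1 / 6) := fun n => by
      show imgs (ψ _) = _
      rw [map_mul, map_mul, map_pow, map_pow, map_pow, imgs_mul, imgs_mul, imgs_pow, imgs_pow, imgs_pow, hO, hS,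
        X.img]
      rfl
    refine (Nat.card_eq_of_bijective f ⟨fun m n e => ?_, fun g => ?_⟩).symm.trans (Nat.card_fin 30)
    · have e1 := congrArg (fun g : φ.range => imgs (g : V6 ≃ₗ[ZMod 2] V6)) e
      simp only [hf] at e1
      have := (List.nodup_iff_injective_get.1 comb_nodup) (a₁ := ⟨m.1, by simp⟩) (a₂ := ⟨n.1, by simp⟩)
        (by simpa using e1)
      exact Fin.ext (congrArg Fin.val this)
    · obtain ⟨c, hc⟩ := g.2
      obtain ⟨e, a, i, h⟩ := X.cent_image ((hmem _).1 c.2)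
      refine ⟨⟨e.1 + 2 * a.1 + 6 * i.1, by omega⟩, Subtype.ext (imgs_inj ?_)⟩
      rw [hf, show (g : V6 ≃ₗ[ZMod 2] V6) = ψ c from hc.symm, h]
      congr 1 <;> simp only <;> omega
  rw [← φ.ker.card_mul_index, Subgroup.index_ker, hker, hrange]

/-- The centraliser is transitive on the non-trivial elements of the fused subgroup. -/
theorem card_M : Nat.card ↥(Subgroup.centralizer ({(b : G)} : Set G)) = 6720 := by
  classical
  have hc7 : Nat.card {u : ↥X.Fsub // u ≠ 1} = 7 := by
    haveI := Fintype.ofFinite ↥X.Fsub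
    rw [Nat.card_eq_fintype_card, Fintype.card_subtype_compl, Fintype.card_subtype_eq, ← Nat.card_eq_fintype_card,
      X.card_F]
  have hex : ∀ u : {u : ↥X.Fsub // u ≠ 1}, ∃ g : G, g * z * g⁻¹ = u.1 ∧ Commute g (b : G) := fun u =>
    X.move (X.isConj_of_mem_F u.1.2 fun e => u.2 (Subtype.ext e)) (X.F_commute u.1.2)
  choose s hs hsb using hex
  have hbz : (b : G) * z = z * b := Subgroup.mem_centralizer_singleton_iff.1 b.2
  let f : {u : ↥X.Fsub // u ≠ 1} × {c : ↥(Subgroup.centralizer ({z} : Set G)) // Commute c b} →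
      ↥(Subgroup.centralizer ({(b : G)} : Set G)) := fun p =>
    ⟨s p.1 * (p.2.1 : G), X.mem_cent.2 ((hsb p.1).mul_left (congrArg Subtype.val p.2.2.eq : _ = _))⟩
  have hf : ∀ p : {u : ↥X.Fsub // u ≠ 1} × {c : ↥(Subgroup.centralizer ({z} : Set G)) // Commute c b}, s p.1 * (p.2.1 : G) * z * (s p.1 * (p.2.1 : G))⁻¹ = p.1.1 := fun p => by
    calc s p.1 * (p.2.1 : G) * z * (s p.1 * (p.2.1 : G))⁻¹
        = s p.1 * ((p.2.1 : G) * z * (p.2.1 : G)⁻¹) * (s p.1)⁻¹ := by group
      _ = _ := by rw [Fuse.z_conj X.J p.2.1, hs]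
  have hbij : Function.Bijective f := by
    refine ⟨fun p q e => ?_, fun g => ?_⟩
    · have e' := congrArg Subtype.val e
      have h1 : p.1 = q.1 := Subtype.ext (Subtype.ext (by
        rw [← hf p, ← hf q]; exact congrArg (fun t => t * z * t⁻¹) e'))
      refine Prod.ext h1 (Subtype.ext (Subtype.ext ?_))
      simp only [f, h1] at e'
      exact mul_left_cancel e'
    · have hm := (X.cent_mem_M g.2).2 z X.z_mem_F
      have h1 : (⟨_, hm⟩ : ↥X.Fsub) ≠ 1 := fun e =>
        X.J.base.extra.z_ne (conj_eq_one_iff.1 (congrArg Subtype.val e))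
      set u : {u : ↥X.Fsub // u ≠ 1} := ⟨_, h1⟩
      have hcb : Commute ((s u)⁻¹ * (g : G)) (b : G) := (hsb u).inv_left.mul_left (X.mem_cent.1 g.2)
      have hcz : ((s u)⁻¹ * (g : G)) * z = z * ((s u)⁻¹ * (g : G)) := by
        have e : s u * z * (s u)⁻¹ = (g : G) * z * (g : G)⁻¹ := hs u
        calc (s u)⁻¹ * (g : G) * z = (s u)⁻¹ * ((g : G) * z * (g : G)⁻¹) * g := by group
          _ = _ := by rw [← e]; group
      refine ⟨(u, ⟨⟨_, Subgroup.mem_centralizer_singleton_iff.2 hcz⟩, Subtype.ext hcb.eq⟩), Subtype.ext ?_⟩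
      show s u * ((s u)⁻¹ * (g : G)) = g
      rw [mul_inv_cancel_left]
  rw [← Nat.card_eq_of_bijective f hbij, Nat.card_prod, hc7, X.card_cent_z]

theorem b_pow5 : (b : G) ^ 5 = 1 := congrArg Subtype.val X.pow_five

theorem ord_b : orderOf (b : G) = 5 := by rw [Subgroup.orderOf_coe]; exact X.ord

theorem cent_F_iff {g : G} (hg : Commute g (b : G)) :
    (∀ a ∈ X.Fsub, g * a = a * g) ↔ ∃ f ∈ X.Fsub, ∃ i : ℕ, g = (b : G) ^ i * f := by
  refine ⟨X.cent_F hg, ?_⟩
  rintro ⟨f, hf, i, rfl⟩ a ha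
  exact (((X.F_commute ha).pow_left i).mul_left (X.F_comm hf ha)).eq

/-- The action on the fused subgroup. -/
theorem exists_rho : ∃ ρ : ↥(Subgroup.centralizer ({(b : G)} : Set G)) →*
      Matrix.SpecialLinearGroup (Fin 3) (ZMod 2),
    Function.Surjective ρ ∧ ∀ g, ρ g = 1 ↔ ∃ f ∈ X.Fsub, ∃ i : ℕ, (g : G) = (b : G) ^ i * f := by
  classical
  letI : CommGroup ↥X.Fsub :=
    { (inferInstance : Group ↥X.Fsub) with mul_comm := fun a c => Subtype.ext (X.F_comm a.2 c.2) }
  have h2 : ∀ a : Additive ↥X.Fsub, (2 : ℕ) • a = 0 := fun a => Additive.toMul.injective (by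
    show a.toMul ^ 2 = 1
    rw [pow_two]; exact Subtype.ext (X.F_sq a.toMul.2))
  letI : Module (ZMod 2) (Additive ↥X.Fsub) := AddCommGroup.zmodModule h2
  haveI : Module.Finite (ZMod 2) (Additive ↥X.Fsub) := Module.Finite.of_finite
  have hr : Module.finrank (ZMod 2) (Additive ↥X.Fsub) = Module.finrank (ZMod 2) (Fin 3 → ZMod 2) := by
    have e := Module.natCard_eq_pow_finrank (K := ZMod 2) (V := Additive ↥X.Fsub)
    rw [show Nat.card (Additive ↥X.Fsub) = 8 from (Nat.card_congr Additive.toMul).trans X.card_F, Nat.card_zmod] at e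
    rw [Module.finrank_fin_fun]
    exact Nat.pow_right_injective le_rfl (show 2 ^ _ = 2 ^ 3 by omega)
  let e := LinearEquiv.ofFinrankEq (Additive ↥X.Fsub) (Fin 3 → ZMod 2) hr
  let act : ↥(Subgroup.centralizer ({(b : G)} : Set G)) →* (Additive ↥X.Fsub ≃ₗ[ZMod 2] Additive ↥X.Fsub) :=
    { toFun := fun g => AddEquiv.toLinearEquiv
        ({ toFun := fun a => Additive.ofMul ⟨(g : G) * (a.toMul : ↥X.Fsub) * (g : G)⁻¹,
              (X.cent_mem_M g.2).2 _ a.toMul.2⟩
           invFun := fun a => Additive.ofMul ⟨(g : G)⁻¹ * (a.toMul : ↥X.Fsub) * g, by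
              have := (X.cent_mem_M (inv_mem g.2)).2 _ a.toMul.2
              rwa [inv_inv] at this⟩
           left_inv := fun a => Additive.toMul.injective (Subtype.ext (by simp [mul_assoc]))
           right_inv := fun a => Additive.toMul.injective (Subtype.ext (by simp [mul_assoc]))
           map_add' := fun a c => Additive.toMul.injective (Subtype.ext (by simp [mul_assoc])) } :
          Additive ↥X.Fsub ≃+ Additive ↥X.Fsub)
        (fun c a => ZMod.map_smul _ c a)
      map_one' := LinearEquiv.ext fun a => Additive.toMul.injective (Subtype.ext (by simp))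
      map_mul' := fun g h => LinearEquiv.ext fun a => Additive.toMul.injective (Subtype.ext (by
        simp [LinearEquiv.mul_apply, mul_assoc])) }
  have hk : ∀ g, toSL e (act g) = 1 ↔ ∀ a ∈ X.Fsub, (g : G) * a = a * (g : G) := by
    intro g
    rw [← map_one (toSL e), (toSL_injective e).eq_iff]
    constructor
    · intro h a ha
      have := congrArg (fun t : Additive ↥X.Fsub => (t.toMul : G)) (LinearEquiv.congr_fun h (Additive.ofMul ⟨a, ha⟩))
      exact mul_inv_eq_iff_eq_mul.1 this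
    · intro h
      exact LinearEquiv.ext fun a => Additive.toMul.injective (Subtype.ext (mul_inv_eq_iff_eq_mul.2 (h _ a.toMul.2)))
  refine ⟨(toSL e).comp act, ?_, fun g => (hk g).trans (X.cent_F_iff (X.mem_cent.1 g.2))⟩
  set ρ := (toSL e).comp act with hρ
  have hkc : Nat.card ρ.ker ≤ 40 := by
    let f : ↥ρ.ker → {c : G // c ∈ X.Fsub} × Fin 5 := fun g =>
      (⟨_, ((X.cent_F_iff (X.mem_cent.1 (g : ↥(Subgroup.centralizer ({(b : G)} : Set G))).2)).1
          ((hk _).1 g.2)).choose_spec.1⟩,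
        ⟨((X.cent_F_iff (X.mem_cent.1 (g : ↥(Subgroup.centralizer ({(b : G)} : Set G))).2)).1
          ((hk _).1 g.2)).choose_spec.2.choose % 5, Nat.mod_lt _ (by norm_num)⟩)
    have hf : ∀ g : ↥ρ.ker,
        ((g : ↥(Subgroup.centralizer ({(b : G)} : Set G))) : G) = (b : G) ^ (f g).2.1 * (f g).1.1 := fun g => by
      have h5 := ((X.cent_F_iff (X.mem_cent.1 (g : ↥(Subgroup.centralizer ({(b : G)} : Set G))).2)).1
          ((hk _).1 g.2)).choose_spec.2.choose_spec
      simp only [f]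
      rw [← pow_eq_pow_mod _ X.b_pow5]
      exact h5
    have := Nat.card_le_card_of_injective f fun g h e => Subtype.ext (Subtype.ext (by rw [hf g, hf h, e]))
    rw [Nat.card_prod, Nat.card_fin, show Nat.card {c : G // c ∈ X.Fsub} = 8 from X.card_F] at this
    omega
  have h1 := ρ.ker.card_mul_index
  rw [Subgroup.index_ker, X.card_M] at h1
  have h3 : 168 ≤ Nat.card ρ.range := by nlinarith
  refine MonoidHom.range_eq_top.1 (Subgroup.eq_top_of_le_card _ (card_SL3_le.trans h3))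

/-- An element of the centraliser of `z` inducing squaring normalises the fused subgroup. -/
theorem normal_F {d : ↥(Subgroup.centralizer ({z} : Set G))} (hd : d * b * d⁻¹ = b ^ 2) {a : G}
    (ha : a ∈ X.Fsub) : (d : G) * a * (d : G)⁻¹ ∈ X.Fsub := by
  by_cases h1 : a = 1
  · rw [h1, mul_one, mul_inv_cancel]; exact one_mem _
  have hm := X.J.base.norm d (Subgroup.mem_centralizer_singleton_iff.1 d.2) a ha.1
  have h2 : (d : G) * b * (d : G)⁻¹ = (b : G) ^ 2 := congrArg Subtype.val hd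
  have h3 : (d : G) * (b : G) ^ 3 * (d : G)⁻¹ = (b : G) := by
    rw [← conj_pow, h2, ← pow_mul, show 2 * 3 = 5 + 1 from rfl, pow_succ, X.b_pow5, one_mul]
  have hcomm : Commute (b : G) ((d : G) * a * (d : G)⁻¹) := by
    conv => arg 1; rw [← h3]
    exact ((X.F_commute ha).pow_left 3).map (MulAut.conj (d : G)).toMonoidHom
  exact ((X.mem_F_iff hm hcomm).2 ((X.isConj_of_mem_F ha h1).trans (isConj_iff.2 ⟨d, rfl⟩))).1

/-- The normaliser is the product of the centraliser and the powers of an element inducing squaring. -/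
theorem normalizer_eq {g : G} (hg : g ∈ Subgroup.normalizer (Subgroup.zpowers (b : G) : Set G))
    {d : ↥(Subgroup.centralizer ({z} : Set G))} (hd : d * b * d⁻¹ = b ^ 2) :
    ∃ j : Fin 4, ∃ c ∈ Subgroup.centralizer ({(b : G)} : Set G), g = c * (d : G) ^ j.1 ∧
      g * (b : G) * g⁻¹ = (b : G) ^ (2 ^ j.1) := by
  have h := (Subgroup.mem_normalizer_iff.1 hg _).1 (Subgroup.mem_zpowers (b : G))
  rw [← mem_powers_iff_mem_zpowers] at h
  obtain ⟨m, hm⟩ := h
  have hm' : (b : G) ^ m = g * b * g⁻¹ := hm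
  have hm5 : m % 5 ≠ 0 := fun e => by
    rw [pow_eq_pow_mod m X.b_pow5, e, pow_zero] at hm'
    have := X.ord_b
    rw [conj_eq_one_iff.1 hm'.symm, orderOf_one] at this
    omega
  obtain ⟨j, hj⟩ := five_surj ⟨m % 5, Nat.mod_lt _ (by norm_num)⟩ hm5
  have hgb : g * (b : G) * g⁻¹ = (b : G) ^ (2 ^ j.1) := by
    rw [← hm', pow_eq_pow_mod m X.b_pow5, pow_eq_pow_mod (2 ^ j.1) X.b_pow5, hj]
  have hdj : ∀ i : ℕ, (d : G) ^ i * b * ((d : G) ^ i)⁻¹ = (b : G) ^ (2 ^ i) := by
    intro i
    induction i with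
    | zero => simp
    | succ i ih =>
      calc (d : G) ^ (i + 1) * b * ((d : G) ^ (i + 1))⁻¹
          = (d : G) * ((d : G) ^ i * b * ((d : G) ^ i)⁻¹) * (d : G)⁻¹ := by rw [pow_succ']; group
        _ = ((d : G) * b * (d : G)⁻¹) ^ (2 ^ i) := by rw [ih, conj_pow]
        _ = _ := by
          rw [show (d : G) * b * (d : G)⁻¹ = (b : G) ^ 2 from congrArg Subtype.val hd, ← pow_mul, pow_succ']
  refine ⟨j, g * ((d : G) ^ j.1)⁻¹, X.mem_cent.2 ?_, by group, hgb⟩
  have hc : Commute (g * ((d : G) ^ j.1)⁻¹) ((b : G) ^ (2 ^ j.1)) := by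
    have h1 := hdj j.1
    generalize (d : G) ^ j.1 = t at h1 ⊢
    show g * t⁻¹ * (b : G) ^ (2 ^ j.1) = (b : G) ^ (2 ^ j.1) * (g * t⁻¹)
    conv_lhs => rw [← h1]
    conv_rhs => rw [← hgb]
    group
  obtain ⟨k, hk⟩ := (by decide : ∀ j : Fin 4, ∃ k : Fin 5, 2 ^ j.1 * k.1 % 5 = 1) j
  have := hc.pow_right k.1
  rwa [← pow_mul, pow_eq_pow_mod _ X.b_pow5, hk, pow_one] at this

end Ctx

end CfsgLib.Sporadic.J4Type.Five
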