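import Cfsg.Agent.Lib.Sporadic.J4Type.FiveFused
import Cfsg.Agent.Lib.Involution.ZStar.Main
import Cfsg.Agent.Lib.Involution.ZStar.Corollaries
import Cfsg.Agent.Lib.Coprime.Generation

/-!
# Groups of fourth Janko type: the centraliser of an element of order five normalises a subgroup of order eight
-/

set_option autoImplicit false
set_option linter.style.haveILetI false
set_option linter.unusedSectionVars false
set_option maxRecDepth 40000

namespace CfsgLib.Sporadic.J4Type.Five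

open CfsgLib.Sporadic.LargeFischer CfsgLib.Sporadic.LargeFischer.Hexa CfsgLib.Sporadic.J4Type
open CfsgLib.Involution

namespace Ctx

variable {G : Type*} [Group G] [Finite G] [IsSimpleGroup G] {z : G} {π : G → V6}
  {ψ : ↥(Subgroup.centralizer ({z} : Set G)) →* (V6 ≃ₗ[ZMod 2] V6)}
  {x b : ↥(Subgroup.centralizer ({z} : Set G))} (X : Ctx z π ψ x b)
include X

/-- The part of the centraliser normalising the fused subgroup. -/
def Msub : Subgroup G where
  carrier := {g | Commute g (b : G) ∧ ∀ a ∈ X.Fsub, g * a * g⁻¹ ∈ X.Fsub}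
  one_mem' := ⟨Commute.one_left _, fun a ha => by simpa using ha⟩
  mul_mem' := fun {g h} hg hh => ⟨hg.1.mul_left hh.1, fun a ha => by
    have := hg.2 _ (hh.2 a ha)
    simpa [mul_assoc] using this⟩
  inv_mem' := fun {g} hg => ⟨hg.1.inv_left, fun a ha => by
    have hinj : Function.Injective fun c : ↥X.Fsub => (⟨g * c.1 * g⁻¹, hg.2 _ c.2⟩ : ↥X.Fsub) :=
      fun c d e => Subtype.ext (mul_left_cancel (mul_right_cancel (congrArg Subtype.val e)))
    obtain ⟨c, hc⟩ := Finite.injective_iff_surjective.1 hinj ⟨a, ha⟩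
    have e : g * c.1 * g⁻¹ = a := congrArg Subtype.val hc
    rw [← e, show g⁻¹ * (g * c.1 * g⁻¹) * g⁻¹⁻¹ = c.1 by group]
    exact c.2⟩

theorem mem_M {g : G} : g ∈ X.Msub ↔ Commute g (b : G) ∧ ∀ a ∈ X.Fsub, g * a * g⁻¹ ∈ X.Fsub := Iff.rfl

theorem isConj_of_mem_F {a : G} (ha : a ∈ X.Fsub) (h1 : a ≠ 1) : IsConj z a :=
  (X.mem_F_iff ha.1 (X.F_commute ha)).1 ⟨ha, h1⟩

theorem mem_M_of {g u : G} (hgb : Commute g (b : G)) (hu : u ∈ X.Fsub) (h1 : u ≠ 1)
    (hg : g * u * g⁻¹ ∈ X.Fsub) : g ∈ X.Msub := by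
  obtain ⟨h, rfl, hhb⟩ := X.move (X.isConj_of_mem_F hu h1) (X.F_commute hu)
  have h1' : h ∈ X.Msub := ⟨hhb, fun a ha => X.normalises hhb hu ha⟩
  have h2 : g * h ∈ X.Msub := by
    have e : g * h * z * (g * h)⁻¹ = g * (h * z * h⁻¹) * g⁻¹ := by group
    exact ⟨hgb.mul_left hhb, fun a ha => X.normalises (hgb.mul_left hhb) (e ▸ hg) ha⟩
  have := mul_mem h2 (inv_mem h1')
  rwa [mul_inv_cancel_right] at this

theorem cent_F_le {g u : G} (hgb : Commute g (b : G)) (hu : u ∈ X.Fsub) (h1 : u ≠ 1) (hg : g * u = u * g) :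
    g ∈ X.Msub :=
  X.mem_M_of hgb hu h1 (by rw [hg, mul_inv_cancel_right]; exact hu)

theorem zclass_mem {a : G} (ha : a ∈ X.Msub) (hc : IsConj z a) : a ∈ X.Fsub := by
  have ha2 : a * a = 1 := by
    obtain ⟨g, rfl⟩ := isConj_iff.1 hc
    rw [show g * z * g⁻¹ * (g * z * g⁻¹) = g * (z * z) * g⁻¹ by group, X.J.base.extra.z_sq]; group
  have hai : a⁻¹ = a := inv_eq_of_mul_eq_one_right ha2
  obtain ⟨u, hu, hu1, hau⟩ : ∃ u ∈ X.Fsub, u ≠ 1 ∧ a * u = u * a := by
    have h1 : z ≠ 1 := X.J.base.extra.z_ne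
    have hm := ha.2 z X.z_mem_F
    by_cases e : a * z * a⁻¹ = z
    · exact ⟨z, X.z_mem_F, h1, mul_inv_eq_iff_eq_mul.1 e⟩
    · refine ⟨z * (a * z * a⁻¹), mul_mem X.z_mem_F hm, fun e1 => e ?_, ?_⟩
      · rw [← inv_eq_of_mul_eq_one_right e1, inv_eq_of_mul_eq_one_right X.J.base.extra.z_sq]
      · have hc' := X.F_comm X.z_mem_F hm
        calc a * (z * (a * z * a⁻¹)) = a * z * a⁻¹ * ((a * a) * z * (a * a)⁻¹) * a := by group
          _ = _ := by rw [ha2, one_mul, inv_one, mul_one, ← hc']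
  obtain ⟨h, rfl, hhb⟩ := X.move (X.isConj_of_mem_F hu hu1) (X.F_commute hu)
  have h2 : h⁻¹ * a * h ∈ X.Fsub := by
    refine X.fused_cent ?_ ((hhb.symm.inv_right.mul_right ha.1.symm).mul_right hhb.symm)
      (hc.trans (isConj_iff.2 ⟨h⁻¹, by rw [inv_inv]⟩))
    calc h⁻¹ * a * h * z = h⁻¹ * (a * (h * z * h⁻¹)) * h := by group
      _ = z * (h⁻¹ * a * h) := by rw [hau]; group
  have := X.normalises hhb hu h2
  rwa [show h * (h⁻¹ * a * h) * h⁻¹ = a by group] at this

/-- The elements centralising the fused subgroup. -/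
theorem cent_F {g : G} (hgb : Commute g (b : G)) (hg : ∀ a ∈ X.Fsub, g * a = a * g) :
    ∃ f ∈ X.Fsub, ∃ i : ℕ, g = (b : G) ^ i * f := by
  have hb := X.J.base
  let gc : ↥(Subgroup.centralizer ({z} : Set G)) := ⟨g, Subgroup.mem_centralizer_singleton_iff.2 (hg z X.z_mem_F)⟩
  obtain ⟨e, a, i, h⟩ := X.cent_image (c := gc) (Subtype.ext hgb.eq)
  have h3 : imgs (ψ gc) = powL fY i := by
    rw [h]
    refine (comb_facts e a i).2.2 fun k => ?_
    obtain ⟨u, hu, hue, -, -⟩ := X.exists_over k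
    rw [← h, ← hue, ← X.enc_conj gc hu.1]
    congr 2
    show g * u * g⁻¹ = u
    rw [hg u hu, mul_inv_cancel_right]
  have hf := X.mem_of_imgs (a := b ^ (i : ℕ)) (c := gc) (by rw [map_pow, imgs_pow, X.img, h3])
  rw [Subgroup.coe_pow] at hf
  refine ⟨((b : G) ^ (i : ℕ))⁻¹ * g, ⟨hf, ?_⟩, i, by rw [mul_inv_cancel_left]⟩
  set f := ((b : G) ^ (i : ℕ))⁻¹ * g with hfdef
  have hfb : Commute (b : G) f := (Commute.pow_right (Commute.refl _) _).inv_right.mul_right hgb.symm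
  have h1 := (X.commute_iff hf).1 hfb
  have h2 := List.all_eq_true.1 self_perp.1 _ h1
  rw [Bool.or_eq_true] at h2
  rcases h2 with h2 | h2
  · exfalso
    obtain ⟨n, hn, hbc⟩ := List.any_eq_true.1 h2
    obtain ⟨k, rfl⟩ := exists_wk hn
    obtain ⟨u, hu, hue, -, -⟩ := X.exists_over k
    have hfu : f * u = u * f := by
      have hu' : Commute ((b : G) ^ (i : ℕ)) u := (X.F_commute hu).pow_left _
      exact (hu'.inv_left.mul_left (hg u hu : Commute g u)).eq
    have h5 := X.bs_of.1 (hb.bs_of_commute hf hu.1 hfu)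
    rw [hue, hbc] at h5
    exact Bool.noConfusion h5
  · simpa using h2

/-- The centraliser of an involution outside the fused subgroup. -/
theorem cent_invol {t : G} (ht : t ∈ X.Msub) (ht2 : t * t = 1) (htF : t ∉ X.Fsub) {g : G}
    (hgb : Commute g (b : G)) (hgt : g * t = t * g) : g ∈ X.Msub := by
  classical
  haveI : Fact (Nat.Prime 2) := ⟨Nat.prime_two⟩
  have hti : t⁻¹ = t := inv_eq_of_mul_eq_one_right ht2
  -- the centre of the transvection
  let tau : ↥X.Fsub → ↥X.Fsub := fun a => ⟨a.1 * (t * a.1 * t⁻¹), mul_mem a.2 (ht.2 _ a.2)⟩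
  let φ : ↥X.Fsub →* ↥X.Fsub := MonoidHom.mk' tau fun a c => Subtype.ext (by
    show a.1 * c.1 * (t * (a.1 * c.1) * t⁻¹) = a.1 * (t * a.1 * t⁻¹) * (c.1 * (t * c.1 * t⁻¹))
    have hcm := X.F_comm c.2 (ht.2 _ a.2)
    calc a.1 * c.1 * (t * (a.1 * c.1) * t⁻¹) = a.1 * (c.1 * (t * a.1 * t⁻¹)) * (t * c.1 * t⁻¹) := by group
      _ = _ := by rw [hcm]; group)
  have hφ : ∀ a : ↥X.Fsub, (φ a : G) = a.1 * (t * a.1 * t⁻¹) := fun a => rfl
  have hker : ∀ a : ↥X.Fsub, a ∈ φ.ker ↔ t * a.1 = a.1 * t := fun a => by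
    rw [MonoidHom.mem_ker, Subtype.ext_iff, hφ]
    show a.1 * (t * a.1 * t⁻¹) = 1 ↔ _
    rw [mul_eq_one_iff_inv_eq, inv_eq_of_mul_eq_one_right (X.F_sq a.2), eq_mul_inv_iff_mul_eq]
    exact eq_comm
  have hle : φ.range ≤ φ.ker := by
    rintro _ ⟨a, rfl⟩
    rw [hker, hφ]
    have hc := X.F_comm a.2 (ht.2 _ a.2)
    calc t * (a.1 * (t * a.1 * t⁻¹)) = t * a.1 * t⁻¹ * ((t * t) * a.1 * (t * t)⁻¹) * t := by group
      _ = a.1 * (t * a.1 * t⁻¹) * t := by rw [ht2, one_mul, inv_one, mul_one, ← hc]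
  obtain ⟨f, hf, hfne⟩ : ∃ f ∈ X.Fsub, t * f ≠ f * t := by
    by_contra hall
    push Not at hall
    obtain ⟨f, hf, i, e⟩ := X.cent_F ht.1 hall
    refine htF ?_
    have hfb : Commute ((b : G) ^ i) f := (X.F_commute hf).pow_left i
    have h5 : ((b : G) ^ i) ^ 5 = 1 := by
      rw [← pow_mul, mul_comm, pow_mul, show (b : G) ^ 5 = 1 from congrArg Subtype.val X.pow_five, one_pow]
    have h2 : ((b : G) ^ i) ^ 2 = 1 := by
      have := (hfb.mul_pow 2).symm
      rw [pow_two f, X.F_sq hf, mul_one, ← e, pow_two t, ht2] at this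
      exact this
    have : (b : G) ^ i = 1 := by
      have h := pow_gcd_eq_one.2 ⟨h5, h2⟩
      simpa using h
    rw [e, this, one_mul]; exact hf
  set c0 := φ ⟨f, hf⟩ with hc0
  have hc1 : c0 ≠ 1 := fun e => hfne ((hker ⟨f, hf⟩).1 e)
  have hc1' : (c0 : G) ≠ 1 := fun e => hc1 (Subtype.ext e)
  have hck := Subgroup.card_mul_index φ.ker
  rw [Subgroup.index_ker, X.card_F] at hck
  have hdvd := Subgroup.card_dvd_of_le hle
  have hr2 : 2 ≤ Nat.card φ.range := by
    have : Nontrivial φ.range := ⟨⟨⟨c0, ⟨_, rfl⟩⟩, 1, fun e => hc1 (congrArg Subtype.val e)⟩⟩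
    exact Finite.one_lt_card
  have hk8 : Nat.card φ.ker ∣ 8 := Dvd.intro _ hck
  obtain ⟨n, hn, hn'⟩ := (Nat.dvd_prime_pow Nat.prime_two).1 (show Nat.card φ.ker ∣ 2 ^ 3 from hk8)
  obtain ⟨hk4, hr⟩ : Nat.card φ.ker = 4 ∧ Nat.card φ.range = 2 := by
    clear hk8
    revert hck hdvd hr2 hn'
    generalize Nat.card φ.ker = K
    generalize Nat.card φ.range = R
    intro hck hdvd hr2 hn'
    subst hn'
    have hR8 : R ≤ 8 := Nat.le_of_dvd (by norm_num) (Dvd.intro_left _ hck)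
    interval_cases n <;> interval_cases R <;> simp_all
  have himg : ∀ a : ↥X.Fsub, φ a = 1 ∨ φ a = c0 := fun a => by
    by_contra h
    push Not at h
    let j : Fin 3 → φ.range := ![1, ⟨c0, ⟨_, rfl⟩⟩, ⟨φ a, ⟨a, rfl⟩⟩]
    have hj : Function.Injective j := by
      intro p q e
      have e' := congrArg Subtype.val e
      fin_cases p <;> fin_cases q <;> simp [j] at e' ⊢ <;>
        first
        | exact hc1 e'.symm | exact hc1 e' | exact h.1 e'.symm | exact h.1 e' | exact h.2 e'.symm | exact h.2 e'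
    have := Nat.card_le_card_of_injective j hj
    rw [hr, Nat.card_fin] at this
    omega
  have hc0t : t * (c0 : G) = c0 * t := (hker c0).1 (hle ⟨_, rfl⟩)
  have hfix : ∀ m ∈ X.Msub, m * t = t * m → m * (c0 : G) * m⁻¹ = c0 := by
    intro m hm hmt
    have htm : m * t * m⁻¹ = t := mul_inv_eq_iff_eq_mul.2 hmt
    have e : m * (c0 : G) * m⁻¹ = (φ ⟨m * f * m⁻¹, hm.2 _ hf⟩ : G) := by
      show m * (f * (t * f * t⁻¹)) * m⁻¹ = m * f * m⁻¹ * (t * (m * f * m⁻¹) * t⁻¹)
      conv_rhs => rw [← htm]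
      group
    rcases himg ⟨m * f * m⁻¹, hm.2 _ hf⟩ with h | h
    · exact absurd (conj_eq_one_iff.1 (e.trans (congrArg Subtype.val h))) hc1'
    · exact e.trans (congrArg Subtype.val h)
  -- the centraliser of t
  set C := Subgroup.centralizer ({(b : G)} : Set G) ⊓ Subgroup.centralizer ({t} : Set G) with hC
  have hmemC : ∀ {y : G}, y ∈ C ↔ Commute y (b : G) ∧ y * t = t * y := fun {y} => by
    rw [hC, Subgroup.mem_inf, Subgroup.mem_centralizer_singleton_iff, Subgroup.mem_centralizer_singleton_iff]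
    rfl
  have hc0C : (c0 : G) ∈ C := hmemC.2 ⟨(X.F_commute c0.2).symm, hc0t.symm⟩
  set cc : ↥C := ⟨c0, hc0C⟩ with hcc
  have hord : orderOf cc = 2 := by
    refine orderOf_eq_prime ?_ fun e => hc1' (congrArg Subtype.val e)
    rw [pow_two]; exact Subtype.ext (X.F_sq c0.2)
  have hconjM : ∀ {y : ↥C}, (y : G) * c0 * (y : G)⁻¹ ∈ X.Msub → (y : G) ∈ X.Msub := fun {y} hy =>
    X.mem_M_of (hmemC.1 y.2).1 c0.2 hc1'
      (X.zclass_mem hy ((X.isConj_of_mem_F c0.2 hc1').trans (isConj_iff.2 ⟨_, rfl⟩)))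
  obtain ⟨P, hP⟩ := (IsPGroup.of_card (n := 1) (by rw [Nat.card_zpowers, hord, pow_one]) :
    IsPGroup 2 ↥(Subgroup.zpowers cc)).exists_le_sylow
  have hcP : cc ∈ P := hP (Subgroup.mem_zpowers _)
  have hPM : ∀ y : ↥C, y ∈ P → (y : G) ∈ X.Msub := by
    haveI : Group.IsNilpotent ↥(P : Subgroup ↥C) := P.isPGroup'.isNilpotent
    set P1 := ((X.Msub.subgroupOf C).subgroupOf (P : Subgroup ↥C)) with hP1
    by_contra hall
    push Not at hall
    obtain ⟨y, hy, hyM⟩ := hall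
    have hlt : P1 < ⊤ := lt_top_iff_ne_top.2 fun e => hyM (by
      have : (⟨y, hy⟩ : ↥(P : Subgroup ↥C)) ∈ P1 := e ▸ Subgroup.mem_top _
      exact this)
    obtain ⟨w, hwn, hw⟩ := SetLike.exists_of_lt (Group.normalizerCondition_of_isNilpotent P1 hlt)
    refine hw (show ((w : ↥C) : G) ∈ X.Msub from hconjM ?_)
    have hc1P : (⟨cc, hcP⟩ : ↥(P : Subgroup ↥C)) ∈ P1 :=
      (⟨(X.F_commute c0.2).symm, fun a ha => by
        rw [X.F_comm c0.2 ha, mul_inv_cancel_right]; exact ha⟩ : (c0 : G) ∈ X.Msub)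
    exact (Subgroup.mem_normalizer_iff.1 hwn _).1 hc1P
  have hiso : Cfsg.IsIsolatedInvolution cc := (Isolated.isolated_iff_sylow hord hcP).2 fun y hy =>
    Subtype.ext (hfix y (hconjM (hPM _ hy)) (hmemC.1 y.2).2)
  -- the odd core
  set U : Subgroup ↥C := (X.Fsub.subgroupOf C) with hU
  haveI : IsMulCommutative ↥U := ⟨⟨fun a c => Subtype.ext (Subtype.ext (X.F_comm a.2 c.2))⟩⟩
  have hUc : Nat.card U = 4 := by
    rw [← hk4]
    exact Nat.card_congr
      { toFun := fun a => ⟨⟨((a : ↥C) : G), a.2⟩, (hker _).2 ((hmemC.1 (a : ↥C).2).2).symm⟩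
        invFun := fun a => ⟨⟨(a : ↥X.Fsub), hmemC.2 ⟨(X.F_commute (a : ↥X.Fsub).2).symm, ((hker _).1 a.2).symm⟩⟩,
          (a : ↥X.Fsub).2⟩
        left_inv := fun a => rfl
        right_inv := fun a => rfl }
  have hnc : ¬ IsCyclic U := by
    intro hcyc
    obtain ⟨u, hu⟩ := hcyc.exists_generator
    have h1 := orderOf_eq_card_of_forall_mem_zpowers hu
    have h2 : u ^ 2 = 1 := by
      rw [pow_two]; exact Subtype.ext (Subtype.ext (X.F_sq u.2))
    have := Nat.le_of_dvd (by norm_num) (orderOf_dvd_of_pow_eq_one h2)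
    omega
  haveI hn := ZStar.oddCore_normal (G := ↥C)
  set O := Cfsg.oddCore ↥C with hO
  have hOM : O ≤ X.Msub.subgroupOf C := by
    rw [← CfsgLib.Coprime.iSup_centralizer_singleton (K := O) hnc
      ((Subgroup.normalizer_eq_top O).symm ▸ le_top) (by
        rw [hUc, show 4 = 2 ^ 2 from rfl]
        exact (Nat.coprime_two_left.2 ZStar.odd_card_oddCore).pow_left 2)]
    refine iSup₂_le fun u hu o ho => ?_
    have hc := congrArg Subtype.val (Subgroup.mem_centralizer_singleton_iff.1 ho.2)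
    exact X.cent_F_le (hmemC.1 o.2).1 hu.1 (fun e => hu.2 (Subtype.ext e)) hc
  obtain ⟨o, ho, c, hc, e⟩ := ZStar.exists_oddCore_mul_centralizer (ZStar.starCentral ↥C) hiso
    (⟨g, hmemC.2 ⟨hgb, hgt⟩⟩ : ↥C)
  rw [show g = (o : G) * c from congrArg Subtype.val e]
  exact mul_mem (hOM ho) (X.cent_F_le (hmemC.1 c.2).1 c0.2 hc1'
    (congrArg Subtype.val (Subgroup.mem_centralizer_singleton_iff.1 hc)))

/-- The centraliser normalises the fused subgroup. -/
theorem all_normalise {g : G} (hgb : Commute g (b : G)) : g ∈ X.Msub := by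
  classical
  have hb := X.J.base
  -- an involution of the centraliser not conjugate to `z`
  obtain ⟨u, hu, hue, huz, hu1⟩ := X.exists_over 0
  obtain ⟨h, rfl, hhb⟩ := X.move (X.isConj_of_mem_F hu hu1) (X.F_commute hu)
  obtain ⟨-, y, -, hyb, hyE, hy2, -⟩ := X.pair hhb hu huz hue
  set t := (y : G) with ht
  have ht2 : t * t = 1 := congrArg Subtype.val hy2
  have htb : Commute t (b : G) := congrArg Subtype.val hyb.eq
  have htF : t ∉ X.Fsub := fun h' => hyE h'.1
  have htM : t ∈ X.Msub := X.cent_F_le htb X.z_mem_F hb.extra.z_ne (Subgroup.mem_centralizer_singleton_iff.1 y.2)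
  set a := g * z * g⁻¹ with ha
  have hac : IsConj z a := isConj_iff.2 ⟨g, rfl⟩
  suffices haM : a ∈ X.Msub from X.mem_M_of hgb X.z_mem_F hb.extra.z_ne (X.zclass_mem haM hac)
  have hot : orderOf t = 2 :=
    orderOf_eq_prime (hp := ⟨Nat.prime_two⟩) (by rw [pow_two]; exact ht2) fun e => htF (e ▸ one_mem _)
  have hoa : orderOf a = 2 := (Dihedral.orderOf_conj g z).trans hb.ord_z
  have hnt : ¬ IsConj z t := fun hc => htF (X.zclass_mem htM hc)
  have heven : Even (orderOf (t * a)) := by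
    rcases Nat.even_or_odd (orderOf (t * a)) with h' | h'
    · exact h'
    · exfalso
      obtain ⟨d, -, hd⟩ := Dihedral.exists_conj_of_odd hot hoa h'
      exact hnt (hac.trans (isConj_iff.2 ⟨d⁻¹, by rw [← hd]; group⟩))
  set i := (t * a) ^ (orderOf (t * a) / 2) with hi
  have hab : Commute a (b : G) :=
    (hgb.mul_left (Subgroup.mem_centralizer_singleton_iff.1 b.2 : Commute (b : G) z).symm).mul_left hgb.inv_left
  have hib : Commute i (b : G) := (htb.mul_left hab).pow_left _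
  have hit : i * t = t * i := (Dihedral.half_commute_left hot hoa heven).eq
  have hia : a * i = i * a := (Dihedral.half_commute_right hot hoa heven).eq.symm
  have hoi : orderOf i = 2 := Dihedral.half_orderOf heven
  have hiM : i ∈ X.Msub := X.cent_invol htM ht2 htF hib hit
  have hi2 : i * i = 1 := by
    have := pow_orderOf_eq_one i
    rwa [hoi, pow_two] at this
  by_cases hiF : i ∈ X.Fsub
  · exact X.cent_F_le hab hiF (fun e => by rw [e, orderOf_one] at hoi; omega) hia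
  · exact X.cent_invol hiM hi2 hiF hab hia

end Ctx

end CfsgLib.Sporadic.J4Type.Five
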