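import Cfsg.Agent.Lib.Sporadic.J4Type.FiveGroup
import Cfsg.Prelude.Def_TwoFusion
import Cfsg.Prelude.Def_Transfer

/-!
# Groups of fourth Janko type: the local structure at the prime five
-/

set_option autoImplicit false
set_option linter.style.haveILetI false
set_option linter.unusedSectionVars false
set_option maxRecDepth 40000

namespace CfsgLib.Sporadic.J4Type.Five

open CfsgLib.Sporadic.LargeFischer CfsgLib.Sporadic.LargeFischer.Hexa CfsgLib.Sporadic.J4Type

/-- The conclusion, for a subgroup of order five. -/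
def Concl {G : Type*} [Group G] (Q : Subgroup G) : Prop :=
  ¬ (25 ∣ Nat.card G) ∧
    (∃ J : Subgroup G, Cfsg.IsInternalDirectProduct Q J (Subgroup.centralizer (Q : Set G)) ∧
      ∃ (E : Subgroup ↥J) (_ : E.Normal), Cfsg.IsElementaryAbelian 2 E ∧ Nat.card ↥E = 8 ∧
        Nonempty (↥J ⧸ E ≃* Matrix.SpecialLinearGroup (Fin 3) (ZMod 2)) ∧ ∀ K : Subgroup ↥J, ¬ E.IsComplement' K) ∧
    (∃ R : Subgroup G, Q ≤ R ∧ R ≤ Subgroup.normalizer (Q : Set G) ∧ Nat.card ↥R = 20 ∧
      R ⊓ Subgroup.centralizer (Q : Set G) = Q) ∧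
    Nat.card ↥(Subgroup.normalizer (Q : Set G)) = 2 ^ 8 * 3 * 5 * 7

theorem cent_zpowers {G : Type*} [Group G] (a : G) :
    Subgroup.centralizer ((Subgroup.zpowers a : Subgroup G) : Set G) = Subgroup.centralizer ({a} : Set G) := by
  ext g
  rw [Subgroup.mem_centralizer_iff, Subgroup.mem_centralizer_singleton_iff]
  constructor
  · intro h; exact (h a (Subgroup.mem_zpowers a)).symm
  · rintro h _ ⟨i, rfl⟩
    exact ((show Commute g a from h).zpow_right i).eq.symm

theorem no_line_zero : ∀ a ∈ fC, ∀ c ∈ fC, qc a = false → qc c = false → bc a c = false → a ∉ (0 :: fW) →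
    c ∉ (0 :: fW) → a ^^^ c ∉ fW → a ≠ c → lm (jk 0) a ∈ [a, c] → False := by
  decide +kernel

namespace Ctx

variable {G : Type*} [Group G] [Finite G] [IsSimpleGroup G] {z : G} {π : G → V6}
  {ψ : ↥(Subgroup.centralizer ({z} : Set G)) →* (V6 ≃ₗ[ZMod 2] V6)}
  {x b : ↥(Subgroup.centralizer ({z} : Set G))} (X : Ctx z π ψ x b)
include X

theorem card_Q : Nat.card ↥(Subgroup.zpowers (b : G)) = 5 := by rw [Nat.card_zpowers, X.ord_b]

theorem card_normalizer :
    Nat.card ↥(Subgroup.normalizer (Subgroup.zpowers (b : G) : Set G)) = 2 ^ 8 * 3 * 5 * 7 := by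
  classical
  obtain ⟨d, hd⟩ := X.exists_power_two
  have hdj : ∀ i : ℕ, (d : G) ^ i * b * ((d : G) ^ i)⁻¹ = (b : G) ^ (2 ^ i) := by
    intro i
    induction i with
    | zero => simp
    | succ i ih =>
      calc (d : G) ^ (i + 1) * b * ((d : G) ^ (i + 1))⁻¹
          = (d : G) * ((d : G) ^ i * b * ((d : G) ^ i)⁻¹) * (d : G)⁻¹ := by rw [pow_succ']; group
        _ = ((d : G) * b * (d : G)⁻¹) ^ (2 ^ i) := by rw [ih, conj_pow]
        _ = _ := by
          rw [show (d : G) * b * (d : G)⁻¹ = (b : G) ^ 2 from congrArg Subtype.val hd, ← pow_mul, pow_succ']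
  have hact : ∀ (c : G) (j : ℕ), c ∈ Subgroup.centralizer ({(b : G)} : Set G) →
      c * (d : G) ^ j * b * (c * (d : G) ^ j)⁻¹ = (b : G) ^ (2 ^ j) := fun c j hc => by
    calc c * (d : G) ^ j * b * (c * (d : G) ^ j)⁻¹ = c * ((d : G) ^ j * b * ((d : G) ^ j)⁻¹) * c⁻¹ := by group
      _ = _ := by
        rw [hdj, ((X.mem_cent.1 hc).pow_right _).eq, mul_inv_cancel_right]
  have hmemN : ∀ (c : G) (j : ℕ), c ∈ Subgroup.centralizer ({(b : G)} : Set G) →
      c * (d : G) ^ j ∈ Subgroup.normalizer (Subgroup.zpowers (b : G) : Set G) := fun c j hc => by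
    rw [Subgroup.mem_normalizer_iff]
    have hmap : (Subgroup.zpowers (b : G)).map (MulAut.conj (c * (d : G) ^ j)).toMonoidHom =
        Subgroup.zpowers (b : G) := by
      refine Subgroup.eq_of_le_of_card_ge ?_ (by rw [Subgroup.card_map_of_injective
        (f := (MulAut.conj (c * (d : G) ^ j)).toMonoidHom) (MulAut.conj (c * (d : G) ^ j)).injective])
      rw [MonoidHom.map_zpowers, Subgroup.zpowers_le]
      show c * (d : G) ^ j * b * (c * (d : G) ^ j)⁻¹ ∈ _
      rw [hact c j hc]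
      exact pow_mem (Subgroup.mem_zpowers _) _
    intro a
    constructor
    · intro ha
      rw [← hmap]
      exact ⟨a, ha, rfl⟩
    · intro ha
      rw [← hmap] at ha
      obtain ⟨a', ha', e⟩ := ha
      exact (MulAut.conj (c * (d : G) ^ j)).injective e ▸ ha'
  let f : Fin 4 × ↥(Subgroup.centralizer ({(b : G)} : Set G)) →
      ↥(Subgroup.normalizer (Subgroup.zpowers (b : G) : Set G)) := fun p =>
    ⟨p.2.1 * (d : G) ^ p.1.1, hmemN _ _ p.2.2⟩
  have hbij : Function.Bijective f := by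
    refine ⟨fun p q e => ?_, fun g => ?_⟩
    · have e' : p.2.1 * (d : G) ^ p.1.1 = q.2.1 * (d : G) ^ q.1.1 := congrArg Subtype.val e
      have h1 := hact p.2.1 p.1.1 p.2.2
      rw [e', hact q.2.1 q.1.1 q.2.2, pow_eq_pow_iff_modEq, X.ord_b] at h1
      have hj : p.1 = q.1 := five_mod _ _ h1.symm
      refine Prod.ext hj (Subtype.ext ?_)
      rw [hj] at e'
      exact mul_right_cancel e'
    · obtain ⟨j, c, hc, e, -⟩ := X.normalizer_eq g.2 hd
      exact ⟨(j, ⟨c, hc⟩), Subtype.ext e.symm⟩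
  rw [← Nat.card_eq_of_bijective f hbij, Nat.card_prod, Nat.card_fin, X.card_M]
  norm_num

theorem not_dvd : ¬ 25 ∣ Nat.card G := by
  intro h
  haveI : Fact (Nat.Prime 5) := ⟨by norm_num⟩
  obtain ⟨P, hP, hle⟩ := Sylow.exists_subgroup_card_pow_prime_le (G := G) 5 (n := 1) (m := 2) h
    (Subgroup.zpowers (b : G)) (by rw [X.card_Q, pow_one]) (by norm_num)
  haveI : IsMulCommutative ↥P := IsPGroup.isMulCommutative_of_card_eq_prime_sq hP
  have hc : P ≤ Subgroup.centralizer ({(b : G)} : Set G) := fun a ha => by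
    rw [Subgroup.mem_centralizer_singleton_iff]
    exact setLike_mul_comm ha (hle (Subgroup.mem_zpowers _))
  have h2 := Subgroup.card_dvd_of_le hc
  rw [X.card_M, hP] at h2
  norm_num at h2

/-- An element inducing squaring and centralising the fused subgroup. -/
theorem exists_square_fix :
    ∃ g : G, g * b * g⁻¹ = (b : G) ^ 2 ∧ ∀ a ∈ X.Fsub, g * a = a * g := by
  classical
  have hb := X.J.base
  haveI : Fact (Nat.Prime 5) := ⟨by norm_num⟩
  obtain ⟨c, hc⟩ := X.exists_gen (L := fU) (by rw [← fY_lit.2.2.2.2.2.1]; simp [gens5])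
  have e : ψ c * ψ b * (ψ c)⁻¹ = ψ b ^ 2 := by
    rw [mul_inv_eq_iff_eq_mul]
    exact imgs_inj (by rw [imgs_mul, imgs_mul, imgs_pow, hc, X.img, basic_facts.2.2.2.2.2.1])
  obtain ⟨d, hd1, hd⟩ := Fuse.norm_lift X.J (by norm_num) X.ord e
  have hdi : imgs (ψ d) = fU := by rw [hd1, hc]
  have hd' : (d : G) * b * (d : G)⁻¹ = (b : G) ^ 2 := congrArg Subtype.val hd
  have hUW : ∀ k : Fin 3, lm fU (wk k) = wk k := by decide +kernel
  obtain ⟨u, hu, hue, -, -⟩ := X.exists_over 0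
  obtain ⟨v, hv, hve, -, -⟩ := X.exists_over 1
  have hmove : ∀ {a : G}, a ∈ X.Fsub → ∀ k, enc (π a) = wk k →
      ∃ s : ZMod 2, (d : G) * a * (d : G)⁻¹ = a * zp z s := by
    intro a ha k hk
    obtain ⟨hm, he⟩ := hb.π_conj d ha.1
    have h1 : π ((d : G) * a * (d : G)⁻¹) = π a := by
      rw [← dec_enc (π a), ← dec_enc (π ((d : G) * a * (d : G)⁻¹)), X.enc_conj d ha.1, hdi, hk, hUW]
    rcases (hb.π_eq_iff ha.1 hm).1 h1.symm with e | e
    · exact ⟨0, by rw [zp_zero, mul_one]; exact e⟩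
    · exact ⟨1, by rw [zp_one]; exact e⟩
  obtain ⟨s, hs⟩ := hmove hu 0 hue
  obtain ⟨s', hs'⟩ := hmove hv 1 hve
  have pairing : ∀ p q : Bool, ∃ t : Fin 16, bc (fC.getD t.1 0) (wk 0) = p ∧ bc (fC.getD t.1 0) (wk 1) = q := by
    decide +kernel
  obtain ⟨t, ht, ht'⟩ := pairing (decide (s = 1)) (decide (s' = 1))
  have htC : fC.getD t.1 0 ∈ fC := by
    rw [List.getD_eq_getElem _ _ (show t.1 < fC.length from t.2)]; exact List.getElem_mem _
  obtain ⟨ε, hε, hεe⟩ := hb.π_surj (dec (fC.getD t.1 0))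
  have hεn : enc (π ε) = fC.getD t.1 0 := by rw [hεe, enc_dec (fC_lt htC)]
  have hεb : Commute (b : G) ε := (X.commute_iff hε).2 (hεn ▸ htC)
  have hfix : ∀ {a : G} {k : Fin 3} {r : ZMod 2}, a ∈ X.Fsub → enc (π a) = wk k →
      bc (fC.getD t.1 0) (wk k) = decide (r = 1) → (d : G) * a * (d : G)⁻¹ = a * zp z r →
      ε * (d : G) * a * (ε * (d : G))⁻¹ = a := by
    intro a k r ha hk hbc hr
    have hswap := hb.swap ha.1 hε
    have hbs : bs (π a) (π ε) = r := by
      rw [bs_comm]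
      rcases z2 r with rfl | rfl
      · refine X.bs_of.2 ?_
        rw [hεn, hk, hbc]; rfl
      · rcases z2 (bs (π ε) (π a)) with h | h
        · have := X.bs_of.1 h
          rw [hεn, hk, hbc] at this
          simp at this
        · exact h
    rw [hbs] at hswap
    calc ε * (d : G) * a * (ε * (d : G))⁻¹ = ε * ((d : G) * a * (d : G)⁻¹) * ε⁻¹ := by group
      _ = ε * a * zp z r * ε⁻¹ := by rw [hr]; group
      _ = a * ε * (zp z r * zp z r) * ε⁻¹ := by rw [hswap]; group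
      _ = a := by rw [← hb.zp_add, CharTwo.add_self_eq_zero, zp_zero, mul_one, mul_inv_cancel_right]
  have hfu := hfix hu hue ht hs
  have hfv := hfix hv hve ht' hs'
  set g := ε * (d : G) with hg
  have hgz : g * z = z * g :=
    ((show Commute ε z from hb.cent_z hε).mul_left (show Commute (d : G) z from Subgroup.mem_centralizer_singleton_iff.1 d.2)).eq
  refine ⟨g, ?_, fun a ha => ?_⟩
  · calc g * b * g⁻¹ = ε * ((d : G) * b * (d : G)⁻¹) * ε⁻¹ := by rw [hg]; group
      _ = _ := by rw [hd', (hεb.symm.pow_right 2).eq, mul_inv_cancel_right]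
  · have hgu : Commute g u := mul_inv_eq_iff_eq_mul.1 hfu
    have hgv : Commute g v := mul_inv_eq_iff_eq_mul.1 hfv
    have hcases : enc (π a) ∈ [enc (π (1 : G)), enc (π u), enc (π v), enc (π (u * v))] := by
      rw [hb.π_one, enc_zero, hb.π_mul u hu.1 v hv.1, enc_add, hue, hve]
      have h := ha.2
      revert h
      generalize enc (π a) = n
      exact (by decide +kernel : ∀ n ∈ (0 :: fW), n ∈ [0, wk 0, wk 1, wk 0 ^^^ wk 1]) n
    have key : ∀ {c : G}, c ∈ X.Fsub → Commute g c → enc (π a) = enc (π c) → g * a = a * g := by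
      intro c hc hgc e
      rcases (hb.π_eq_iff hc.1 ha.1).1 (by rw [← dec_enc (π c), ← e, dec_enc]) with rfl | rfl
      · exact hgc.eq
      · exact (hgc.mul_right (hgz : Commute g z)).eq
    simp only [List.mem_cons, List.not_mem_nil, or_false] at hcases
    rcases hcases with e | e | e | e
    · exact key (one_mem _) (Commute.one_right _) e
    · exact key hu hgu e
    · exact key hv hgv e
    · exact key (mul_mem hu hv) (hgu.mul_right hgv) e

theorem exists_frobenius : ∃ R : Subgroup G, Subgroup.zpowers (b : G) ≤ R ∧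
    R ≤ Subgroup.normalizer (Subgroup.zpowers (b : G) : Set G) ∧ Nat.card ↥R = 20 ∧
    R ⊓ Subgroup.centralizer (Subgroup.zpowers (b : G) : Set G) = Subgroup.zpowers (b : G) := by
  classical
  obtain ⟨g, hgb, hgF⟩ := X.exists_square_fix
  have hgj : ∀ i : ℕ, g ^ i * b * (g ^ i)⁻¹ = (b : G) ^ (2 ^ i) := by
    intro i
    induction i with
    | zero => simp
    | succ i ih =>
      calc g ^ (i + 1) * b * (g ^ (i + 1))⁻¹ = g * (g ^ i * b * (g ^ i)⁻¹) * g⁻¹ := by rw [pow_succ']; group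
        _ = (g * b * g⁻¹) ^ (2 ^ i) := by rw [ih, conj_pow]
        _ = _ := by rw [hgb, ← pow_mul, pow_succ']
  have hb5 := X.b_pow5
  have hbmod : ∀ {i j : ℕ}, i % 5 = j % 5 → (b : G) ^ i = (b : G) ^ j := fun {i j} h => by
    rw [pow_eq_pow_mod i hb5, h, ← pow_eq_pow_mod j hb5]
  -- the fourth power
  have hg4F : g ^ 4 ∈ X.Fsub := by
    have hj : g ^ 4 * b * (g ^ 4)⁻¹ = (b : G) := by rw [hgj, hbmod (j := 1) (by norm_num), pow_one]
    obtain ⟨f, hf, i, e⟩ := X.cent_F (mul_inv_eq_iff_eq_mul.1 hj)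
      (fun a ha => ((show Commute g a from hgF a ha).pow_left 4).eq)
    have e1 : g * g ^ 4 * g⁻¹ = g ^ 4 := by rw [← pow_succ', pow_succ]; group
    rw [e, show g * ((b : G) ^ i * f) * g⁻¹ = (g * b * g⁻¹) ^ i * (g * f * g⁻¹) by rw [conj_pow]; group,
      hgb, hgF f hf, mul_inv_cancel_right, ← pow_mul] at e1
    have e2 : (b : G) ^ (2 * i) = (b : G) ^ i := mul_right_cancel e1
    rw [two_mul, pow_add, mul_eq_left] at e2
    rw [e, e2, one_mul]
    exact hf
  have hfix : ∀ m ∈ Subgroup.centralizer ({(b : G)} : Set G), m * g ^ 4 * m⁻¹ = g ^ 4 := by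
    intro m hm
    have hmb := X.mem_cent.1 hm
    set k := m * g * m⁻¹ with hk
    have hkb : k * b * k⁻¹ = (b : G) ^ 2 := by
      calc k * b * k⁻¹ = m * (g * (m⁻¹ * b * m) * g⁻¹) * m⁻¹ := by rw [hk]; group
        _ = _ := by
          rw [show m⁻¹ * (b : G) * m = b by rw [mul_assoc, ← hmb.eq, inv_mul_cancel_left], hgb,
            (hmb.pow_right 2).eq, mul_inv_cancel_right]
    have hkF : ∀ a ∈ X.Fsub, k * a = a * k := by
      intro a ha
      have h1 := (X.cent_mem_M (inv_mem hm)).2 a ha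
      rw [inv_inv] at h1
      calc k * a = m * (g * (m⁻¹ * a * m)) * m⁻¹ := by rw [hk]; group
        _ = a * k := by rw [hgF _ h1, hk]; group
    have hq : Commute (g⁻¹ * k) (b : G) := by
      refine mul_inv_eq_iff_eq_mul.1 ?_
      calc g⁻¹ * k * b * (g⁻¹ * k)⁻¹ = g⁻¹ * (k * b * k⁻¹) * g := by group
        _ = b := by rw [hkb, ← hgb]; group
    obtain ⟨f, hf, i, e⟩ := X.cent_F hq (fun a ha =>
      ((Commute.inv_left (show Commute g a from hgF a ha)).mul_left (show Commute k a from hkF a ha)).eq)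
    have hk' : k = g * (b : G) ^ i * f := by rw [mul_assoc, ← e, mul_inv_cancel_left]
    have hgbi : Commute (g * (b : G) ^ i) f :=
      (show Commute g f from hgF f hf).mul_left ((X.F_commute hf).pow_left i)
    have hconj : g * (b : G) ^ i = (b : G) ^ (3 * i) * g * ((b : G) ^ (3 * i))⁻¹ := by
      have e4 : g * (b : G) ^ (4 * i) * g⁻¹ = (b : G) ^ (3 * i) := by
        rw [← conj_pow, hgb, ← pow_mul]; exact hbmod (by omega)
      calc g * (b : G) ^ i = g * ((b : G) ^ (4 * i) * ((b : G) ^ (3 * i))⁻¹) := by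
            congr 1
            rw [eq_mul_inv_iff_mul_eq, ← pow_add]
            exact hbmod (by omega)
        _ = (g * (b : G) ^ (4 * i) * g⁻¹) * g * ((b : G) ^ (3 * i))⁻¹ := by group
        _ = _ := by rw [e4]
    have hf4 : f ^ 4 = 1 := by rw [show 4 = 2 * 2 from rfl, pow_mul, pow_two f, X.F_sq hf, one_pow]
    calc m * g ^ 4 * m⁻¹ = k ^ 4 := by rw [hk, conj_pow]
      _ = (g * (b : G) ^ i) ^ 4 := by rw [hk', hgbi.mul_pow, hf4, mul_one]
      _ = (b : G) ^ (3 * i) * g ^ 4 * ((b : G) ^ (3 * i))⁻¹ := by rw [hconj, conj_pow]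
      _ = g ^ 4 := by rw [((X.F_commute hg4F).pow_left (3 * i)).eq, mul_inv_cancel_right]
  have hg4 : g ^ 4 = 1 := by
    by_contra hne
    obtain ⟨h, hh, hhb⟩ := X.move (X.isConj_of_mem_F hg4F hne) (X.F_commute hg4F)
    have h1 : g ^ 4 = z := mul_left_cancel (mul_right_cancel ((hfix h (X.mem_cent.2 hhb)).trans hh.symm))
    obtain ⟨u, hu, -, huz, hu1⟩ := X.exists_over 0
    obtain ⟨k, hk, hkb⟩ := X.move (X.isConj_of_mem_F hu hu1) (X.F_commute hu)
    refine huz ?_
    rw [← hk, ← h1]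
    exact hfix k (X.mem_cent.2 hkb)
  have hgmod : ∀ {i j : ℕ}, i % 4 = j % 4 → g ^ i = g ^ j := fun {i j} h => by
    rw [pow_eq_pow_mod i hg4, h, ← pow_eq_pow_mod j hg4]
  have hswap : ∀ i k : ℕ, g ^ i * (b : G) ^ k = (b : G) ^ (2 ^ i * k) * g ^ i := fun i k => by
    rw [pow_mul (b : G) (2 ^ i), ← hgj i, conj_pow, inv_mul_cancel_right]
  let R : Subgroup G :=
    { carrier := {x | ∃ i j : ℕ, x = (b : G) ^ i * g ^ j}
      one_mem' := ⟨0, 0, by simp⟩
      mul_mem' := by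
        rintro _ _ ⟨i, j, rfl⟩ ⟨k, l, rfl⟩
        refine ⟨i + 2 ^ j * k, j + l, ?_⟩
        calc (b : G) ^ i * g ^ j * ((b : G) ^ k * g ^ l) = (b : G) ^ i * (g ^ j * (b : G) ^ k) * g ^ l := by group
          _ = _ := by rw [hswap, pow_add, pow_add]; group
      inv_mem' := by
        rintro _ ⟨i, j, rfl⟩
        refine ⟨2 ^ (3 * j) * (4 * i), 3 * j, ?_⟩
        rw [← hswap]
        refine inv_eq_of_mul_eq_one_right ?_
        calc (b : G) ^ i * g ^ j * (g ^ (3 * j) * (b : G) ^ (4 * i))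
            = (b : G) ^ i * (g ^ j * g ^ (3 * j)) * (b : G) ^ (4 * i) := by group
          _ = 1 := by
            rw [← pow_add, hgmod (j := 0) (by omega), pow_zero, mul_one, ← pow_add, hbmod (j := 0) (by omega),
              pow_zero] }
  have hR : ∀ y, y ∈ R ↔ ∃ i j : ℕ, y = (b : G) ^ i * g ^ j := fun y => Iff.rfl
  have hconjR : ∀ i j : ℕ, (b : G) ^ i * g ^ j * b * ((b : G) ^ i * g ^ j)⁻¹ = (b : G) ^ (2 ^ j) := fun i j => by
    calc (b : G) ^ i * g ^ j * b * ((b : G) ^ i * g ^ j)⁻¹ =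
          (b : G) ^ i * (g ^ j * b * (g ^ j)⁻¹) * ((b : G) ^ i)⁻¹ := by group
      _ = _ := by rw [hgj, (((Commute.refl (b : G)).pow_pow i (2 ^ j))).eq, mul_inv_cancel_right]
  have hQR : Subgroup.zpowers (b : G) ≤ R := Subgroup.zpowers_le.2 ((hR _).2 ⟨1, 0, by simp⟩)
  have hcard : Nat.card R = 20 := by
    let f : Fin 5 × Fin 4 → R := fun p => ⟨(b : G) ^ p.1.1 * g ^ p.2.1, p.1.1, p.2.1, rfl⟩
    refine (Nat.card_eq_of_bijective f ⟨fun p q e => ?_, fun y => ?_⟩).symm.trans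
      (by rw [Nat.card_prod, Nat.card_fin, Nat.card_fin])
    · have e' : (b : G) ^ p.1.1 * g ^ p.2.1 = (b : G) ^ q.1.1 * g ^ q.2.1 := congrArg Subtype.val e
      have h1 := hconjR p.1.1 p.2.1
      rw [e', hconjR, pow_eq_pow_iff_modEq, X.ord_b] at h1
      have hj : p.2 = q.2 := five_mod _ _ h1.symm
      rw [hj] at e'
      have h2 := mul_right_cancel e'
      rw [pow_eq_pow_iff_modEq, X.ord_b] at h2
      exact Prod.ext (Fin.ext (by have := p.1.2; have := q.1.2; unfold Nat.ModEq at h2; omega)) hj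
    · obtain ⟨i, j, e⟩ := (hR _).1 y.2
      exact ⟨(⟨i % 5, Nat.mod_lt _ (by norm_num)⟩, ⟨j % 4, Nat.mod_lt _ (by norm_num)⟩),
        Subtype.ext (by rw [e, hbmod (j := i % 5) (by omega), hgmod (i := j) (j := j % 4) (by omega)])⟩
  refine ⟨R, hQR, ?_, hcard, ?_⟩
  · intro y hy
    obtain ⟨i, j, rfl⟩ := (hR _).1 hy
    rw [Subgroup.mem_normalizer_iff]
    have hmap : (Subgroup.zpowers (b : G)).map (MulAut.conj ((b : G) ^ i * g ^ j)).toMonoidHom =
        Subgroup.zpowers (b : G) := by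
      refine Subgroup.eq_of_le_of_card_ge ?_ (by rw [Subgroup.card_map_of_injective
        (f := (MulAut.conj ((b : G) ^ i * g ^ j)).toMonoidHom) (MulAut.conj ((b : G) ^ i * g ^ j)).injective])
      rw [MonoidHom.map_zpowers, Subgroup.zpowers_le]
      show (b : G) ^ i * g ^ j * b * ((b : G) ^ i * g ^ j)⁻¹ ∈ _
      rw [hconjR]
      exact pow_mem (Subgroup.mem_zpowers _) _
    intro a
    constructor
    · intro ha; rw [← hmap]; exact ⟨a, ha, rfl⟩
    · intro ha
      rw [← hmap] at ha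
      obtain ⟨a', ha', e⟩ := ha
      exact (MulAut.conj ((b : G) ^ i * g ^ j)).injective e ▸ ha'
  · refine le_antisymm ?_ (le_inf hQR ?_)
    · rintro y ⟨hy, hyc⟩
      obtain ⟨i, j, rfl⟩ := (hR _).1 hy
      rw [cent_zpowers] at hyc
      have h1 := hconjR i j
      rw [mul_inv_eq_iff_eq_mul.2 (Subgroup.mem_centralizer_singleton_iff.1 hyc)] at h1
      have h2 : (b : G) ^ (2 ^ (j % 4)) = (b : G) ^ (2 ^ (0 : Fin 4).1) := by
        have e3 : g ^ j = g ^ (j % 4) := hgmod (by omega)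
        rw [← hgj, ← e3, hgj, ← h1]; simp
      rw [pow_eq_pow_iff_modEq, X.ord_b] at h2
      have hj : j % 4 = 0 := congrArg Fin.val (five_mod ⟨j % 4, Nat.mod_lt _ (by norm_num)⟩ 0 h2)
      rw [hgmod (i := j) (j := 0) hj, pow_zero, mul_one]
      exact pow_mem (Subgroup.mem_zpowers _) _
    · rw [cent_zpowers, Subgroup.zpowers_le, Subgroup.mem_centralizer_singleton_iff]

theorem exists_direct : ∃ J : Subgroup G,
    Cfsg.IsInternalDirectProduct (Subgroup.zpowers (b : G)) J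
      (Subgroup.centralizer (Subgroup.zpowers (b : G) : Set G)) ∧
      ∃ (E : Subgroup ↥J) (_ : E.Normal), Cfsg.IsElementaryAbelian 2 E ∧ Nat.card ↥E = 8 ∧
        Nonempty (↥J ⧸ E ≃* Matrix.SpecialLinearGroup (Fin 3) (ZMod 2)) ∧
        ∀ K : Subgroup ↥J, ¬ E.IsComplement' K := by
  classical
  rw [cent_zpowers]
  set C := Subgroup.centralizer ({(b : G)} : Set G) with hC
  have hQC : Subgroup.zpowers (b : G) ≤ C := Subgroup.zpowers_le.2 (X.mem_cent.2 (Commute.refl _))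
  have hcent : ∀ a ∈ Subgroup.zpowers (b : G), ∀ c ∈ C, a * c = c * a := by
    rintro _ ⟨i, rfl⟩ c hc
    exact ((X.mem_cent.1 hc).zpow_right i).eq.symm
  set Qs := (Subgroup.zpowers (b : G)).subgroupOf C with hQs
  have hQn : Qs.Normal := ⟨fun a ha c => by
    rw [Subgroup.mem_subgroupOf] at ha ⊢
    show (c : G) * a * (c : G)⁻¹ ∈ _
    rw [← hcent _ ha _ c.2, mul_inv_cancel_right]
    exact ha⟩
  have hQc : Nat.card Qs = 5 := by rw [Nat.card_congr (Subgroup.subgroupOfEquivOfLe hQC).toEquiv, X.card_Q]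
  have hidx : Qs.index = 1344 := by
    have h := Qs.card_mul_index
    rw [hQc, X.card_M] at h
    omega
  obtain ⟨J0, hJ0⟩ := Subgroup.exists_right_complement'_of_coprime (N := Qs) (by
    rw [hQc, hidx]; decide +kernel)
  set J := J0.map C.subtype with hJdef
  have hJC : J ≤ C := Subgroup.map_subtype_le _
  have hJc : Nat.card J = 1344 := by
    rw [hJdef, Subgroup.card_map_of_injective C.subtype_injective, ← hidx]
    exact hJ0.symm.index_eq_card.symm
  have hdec : ∀ c ∈ C, ∃ q ∈ Subgroup.zpowers (b : G), ∃ h ∈ J, c = q * h := fun c hc => by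
    obtain ⟨⟨q, h⟩, e, -⟩ := hJ0.existsUnique ⟨c, hc⟩
    exact ⟨_, q.2, _, ⟨_, h.2, rfl⟩, (congrArg Subtype.val e).symm⟩
  have hdisj : Subgroup.zpowers (b : G) ⊓ J = ⊥ := by
    rw [eq_bot_iff]
    rintro a ⟨ha, hb'⟩
    have h1 : orderOf a ∣ 5 := by rw [← X.card_Q]; exact Subgroup.orderOf_dvd_natCard _ ha
    have h2 : orderOf a ∣ 1344 := by rw [← hJc]; exact Subgroup.orderOf_dvd_natCard _ hb'
    exact orderOf_eq_one_iff.1 (Nat.dvd_one.1 (by simpa using Nat.dvd_gcd h1 h2))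
  have hFJ : ∀ f ∈ X.Fsub, f ∈ J := fun f hf => by
    obtain ⟨q, hq, h, hh, e⟩ := hdec f (X.mem_cent.2 (X.F_commute hf).symm)
    obtain ⟨i, hi⟩ : ∃ i : ℕ, (b : G) ^ i = q := by
      rw [← mem_powers_iff_mem_zpowers] at hq; exact hq
    have h2 : q ^ 2 * h ^ 2 = 1 := by
      rw [← (show Commute q h from hcent q hq h (hJC hh)).mul_pow, ← e, pow_two, X.F_sq hf]
    have hq2 : q ^ 2 ∈ Subgroup.zpowers (b : G) ⊓ J :=
      Subgroup.mem_inf.2 ⟨pow_mem hq 2, by rw [eq_inv_of_mul_eq_one_left h2]; exact inv_mem (pow_mem hh 2)⟩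
    rw [hdisj, Subgroup.mem_bot] at hq2
    have h5 : q ^ 5 = 1 := by rw [← hi, ← pow_mul, mul_comm, pow_mul, X.b_pow5, one_pow]
    have : q = 1 := by simpa using pow_gcd_eq_one.2 ⟨hq2, h5⟩
    rw [e, this, one_mul]; exact hh
  refine ⟨J, ⟨hQC, hJC, fun a ha c hc => hcent a ha c (hJC hc), hdisj, le_antisymm (sup_le hQC hJC) ?_⟩, ?_⟩
  · intro c hc
    obtain ⟨q, hq, h, hh, rfl⟩ := hdec c hc
    exact Subgroup.mul_mem_sup hq hh
  obtain ⟨ρ, hsur, hρ⟩ := X.exists_rho
  set ρJ := ρ.comp (Subgroup.inclusion hJC) with hρJ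
  have hkJ : ρJ.ker = X.Fsub.subgroupOf J := by
    ext h
    rw [MonoidHom.mem_ker, Subgroup.mem_subgroupOf]
    show ρ _ = 1 ↔ _
    rw [hρ]
    constructor
    · rintro ⟨f, hf, i, e⟩
      have e' : (h : G) = (b : G) ^ i * f := e
      have hbi : (b : G) ^ i ∈ Subgroup.zpowers (b : G) ⊓ J :=
        Subgroup.mem_inf.2 ⟨pow_mem (Subgroup.mem_zpowers _) _, by
          rw [eq_mul_inv_of_mul_eq e'.symm]; exact mul_mem h.2 (inv_mem (hFJ f hf))⟩
      rw [hdisj, Subgroup.mem_bot] at hbi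
      rw [e', hbi, one_mul]; exact hf
    · intro hf
      exact ⟨_, hf, 0, by simp [Subgroup.inclusion]⟩
  have hsurJ : Function.Surjective ρJ := fun m => by
    obtain ⟨c, rfl⟩ := hsur m
    obtain ⟨q, hq, h, hh, e⟩ := hdec c c.2
    obtain ⟨i, hi⟩ : ∃ i : ℕ, (b : G) ^ i = q := by
      rw [← mem_powers_iff_mem_zpowers] at hq; exact hq
    refine ⟨⟨h, hh⟩, ?_⟩
    show ρ _ = ρ c
    rw [show c = ⟨q, hQC hq⟩ * ⟨h, hJC hh⟩ from Subtype.ext e, map_mul,
      (hρ ⟨q, hQC hq⟩).2 ⟨1, one_mem _, i, by simp [hi]⟩, one_mul]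
    rfl
  refine ⟨ρJ.ker, inferInstance, ⟨⟨⟨fun a c => ?_⟩⟩, fun a ha => ?_⟩, ?_,
    ⟨QuotientGroup.quotientKerEquivOfSurjective ρJ hsurJ⟩, fun K hK => ?_⟩
  · have h1 : (((a : ↥J) : G)) ∈ X.Fsub := Subgroup.mem_subgroupOf.1 (hkJ.le a.2)
    have h2 : (((c : ↥J) : G)) ∈ X.Fsub := Subgroup.mem_subgroupOf.1 (hkJ.le c.2)
    exact Subtype.ext (Subtype.ext (X.F_comm h1 h2))
  · rw [hkJ, Subgroup.mem_subgroupOf] at ha
    rw [pow_two]; exact Subtype.ext (X.F_sq ha)
  · rw [hkJ, Nat.card_congr (Subgroup.subgroupOfEquivOfLe hFJ).toEquiv, X.card_F]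
  -- no complement
  set K' : Subgroup G := K.map J.subtype with hK'
  have hKJ : K' ≤ J := Subgroup.map_subtype_le _
  have hKF : ∀ a ∈ K', a ∈ X.Fsub → a = 1 := by
    rintro _ ⟨a, ha, rfl⟩ haF
    have h1 : a ∈ ρJ.ker := by rw [hkJ, Subgroup.mem_subgroupOf]; exact haF
    have := hK.disjoint.le_bot ⟨h1, ha⟩
    rw [Subgroup.mem_bot] at this
    rw [this]; rfl
  have hcover : ∀ c ∈ J, ∃ f ∈ X.Fsub, ∃ k ∈ K', c = f * k := fun c hc => by
    obtain ⟨⟨f, k⟩, e, -⟩ := hK.existsUnique ⟨c, hc⟩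
    have hf : ((f : ↥J) : G) ∈ X.Fsub := Subgroup.mem_subgroupOf.1 (hkJ.le f.2)
    exact ⟨_, hf, _, ⟨_, k.2, rfl⟩, (congrArg Subtype.val e).symm⟩
  set E := Cfsg.twoCoreOfCentralizer z with hE
  have hb := X.J.base
  -- elements of the two-core in the complement
  have hEK : ∀ v ∈ fC, ∃ k ∈ K', k ∈ E ∧ Commute (b : G) k ∧ ∃ f ∈ (0 :: fW), enc (π k) = v ^^^ f := by
    intro v hv
    obtain ⟨a, ha, hae⟩ := hb.π_surj (dec v)
    have hav : enc (π a) = v := by rw [hae, enc_dec (fC_lt hv)]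
    have hab : Commute (b : G) a := (X.commute_iff ha).2 (hav ▸ hv)
    obtain ⟨q, hq, h, hh, e⟩ := hdec a (X.mem_cent.2 hab.symm)
    obtain ⟨i, hi⟩ : ∃ i : ℕ, (b : G) ^ i = q := by
      rw [← mem_powers_iff_mem_zpowers] at hq; exact hq
    have ha4 : a ^ 4 = 1 := by
      rw [show 4 = 2 * 2 from rfl, pow_mul, pow_two a]
      rcases hb.extra.sq_cases ha with e1 | e1 <;> rw [e1]
      · exact one_pow 2
      · rw [pow_two, hb.extra.z_sq]
    have h4 : q ^ 4 * h ^ 4 = 1 := by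
      rw [← (show Commute q h from hcent q hq h (hJC hh)).mul_pow, ← e, ha4]
    have hq4 : q ^ 4 ∈ Subgroup.zpowers (b : G) ⊓ J :=
      Subgroup.mem_inf.2 ⟨pow_mem hq 4, by rw [eq_inv_of_mul_eq_one_left h4]; exact inv_mem (pow_mem hh 4)⟩
    rw [hdisj, Subgroup.mem_bot] at hq4
    have h5 : q ^ 5 = 1 := by rw [← hi, ← pow_mul, mul_comm, pow_mul, X.b_pow5, one_pow]
    have hq1 : q = 1 := by simpa using pow_gcd_eq_one.2 ⟨hq4, h5⟩
    rw [hq1, one_mul] at e
    obtain ⟨f, hf, k, hk, e2⟩ := hcover a (e ▸ hh)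
    have hkE : k = f⁻¹ * a := by rw [e2, inv_mul_cancel_left]
    refine ⟨k, hk, hkE ▸ mul_mem (inv_mem hf.1) ha, hkE ▸ (X.F_commute hf).inv_right.mul_right hab,
      _, hf.2, ?_⟩
    rw [hkE, hb.π_mul _ (inv_mem hf.1) _ ha, hb.π_inv hf.1, enc_add, hav, Nat.xor_comm]
  have hsing : ∀ k ∈ K', k ∈ E → qc (enc (π k)) = false := fun k hk hkE => by
    rw [← X.qs_of, hb.q_iff k hkE]
    refine (hb.extra.sq_cases hkE).resolve_right fun e => hb.extra.z_ne ?_
    exact hKF z (e ▸ mul_mem hk hk) X.z_mem_F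
  have horth : ∀ k ∈ K', ∀ k' ∈ K', k ∈ E → k' ∈ E → bc (enc (π k)) (enc (π k')) = false := by
    intro k hk k' hk' hkE hkE'
    rw [← X.bs_of]
    refine hb.bs_of_commute hkE hkE' (mul_inv_eq_iff_eq_mul.1 ?_)
    refine (hb.extra.conj_cases hkE' hkE).resolve_right fun e => hb.extra.z_ne (hKF z ?_ X.z_mem_F)
    have : z = k'⁻¹ * (k * k' * k⁻¹) := by rw [e, inv_mul_cancel_left]
    rw [this]
    exact mul_mem (inv_mem hk') (mul_mem (mul_mem hk hk') (inv_mem hk))
  have hnotW : ∀ k ∈ K', k ∈ E → k ≠ 1 → enc (π k) ∉ (0 :: fW) :=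
    fun k hk hkE hne h => hne (hKF k hk ⟨hkE, h⟩)
  -- an element of the complement acting as an involution
  obtain ⟨u, hu, hue, huz, hu1⟩ := X.exists_over 0
  obtain ⟨h, rfl, hhb⟩ := X.move (X.isConj_of_mem_F hu hu1) (X.F_commute hu)
  obtain ⟨-, y, -, hyb, -, -, hyj⟩ := X.pair hhb hu huz hue
  obtain ⟨q, hq, y', hy', e⟩ := hdec (y : G) (X.mem_cent.2 (congrArg Subtype.val hyb.eq))
  obtain ⟨f, hf, ky, hky, e2⟩ := hcover y' hy'
  have hconj : ∀ k ∈ K', k ∈ E → Commute (b : G) k →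
      ky * k * ky⁻¹ ∈ K' ∧ ky * k * ky⁻¹ ∈ E ∧ Commute (b : G) (ky * k * ky⁻¹) ∧
        enc (π (ky * k * ky⁻¹)) = lm (jk 0) (enc (π k)) := by
    intro k hk hkE hkb
    have hyE := hb.norm y (Subgroup.mem_centralizer_singleton_iff.1 y.2) k hkE
    have hfc : f * z = z * f := X.F_cent hf
    set y'' := ky * k * ky⁻¹ with hy''
    have e3 : (y : G) * k * (y : G)⁻¹ = f * y'' * f⁻¹ := by
      have hqc : q * (f * y'' * f⁻¹) = f * y'' * f⁻¹ * q := hcent q hq _ (by
        refine hJC (mul_mem (mul_mem (hFJ f hf) (hKJ (mul_mem (mul_mem hky hk) (inv_mem hky)))) (inv_mem (hFJ f hf))))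
      rw [e, e2]
      calc q * (f * ky) * k * (q * (f * ky))⁻¹ = q * (f * y'' * f⁻¹) * q⁻¹ := by rw [hy'']; group
        _ = _ := by rw [hqc, mul_inv_cancel_right]
    have hy''E : y'' ∈ E := by
      have : y'' = f⁻¹ * ((y : G) * k * (y : G)⁻¹) * f := by rw [e3]; group
      rw [this]
      exact mul_mem (mul_mem (inv_mem hf.1) hyE) hf.1
    refine ⟨mul_mem (mul_mem hky hk) (inv_mem hky), hy''E, ?_, ?_⟩
    · have : y'' = f⁻¹ * ((y : G) * k * (y : G)⁻¹) * f := by rw [e3]; group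
      rw [this]
      have hby : Commute (b : G) (y : G) := (congrArg Subtype.val hyb.eq : Commute (y : G) (b : G)).symm
      exact ((X.F_commute hf).inv_right.mul_right ((hby.mul_right hkb).mul_right hby.inv_right)).mul_right
        (X.F_commute hf)
    · rw [← hyj, ← X.enc_conj y hkE, e3, hb.π_mul _ (mul_mem hf.1 hy''E) _ (inv_mem hf.1),
        hb.π_mul _ hf.1 _ hy''E, hb.π_inv hf.1, enc_add, enc_add, Nat.xor_comm (enc (π f)), Nat.xor_assoc,
        Nat.xor_self, Nat.xor_zero]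
  -- two of them spanning a forbidden subspace
  obtain ⟨k1, hk1, hk1E, hk1b, f1, hf1, e1⟩ := hEK 277 (by simp [fC])
  have h1W : ∀ f ∈ (0 :: fW), 277 ^^^ f ∉ (0 :: fW) := by decide +kernel
  have hk1ne : k1 ≠ 1 := fun e0 => h1W f1 hf1 (by
    rw [← e1, e0, hb.π_one, enc_zero]; exact List.mem_cons_self)
  obtain ⟨h1, h2, h3, h4⟩ := hconj k1 hk1 hk1E hk1b
  have no : ∀ k2 ∈ K', k2 ∈ E → Commute (b : G) k2 → k2 ≠ 1 → k2 ≠ k1 →
      lm (jk 0) (enc (π k1)) ∈ [enc (π k1), enc (π k2)] → False := by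
    intro k2 hk2 hk2E hk2b hne hne' hmem
    have hnot12 : enc (π k1) ≠ enc (π k2) := fun e0 => hne' (inv_mul_eq_one.1
      ((X.π_eq_zero (mul_mem (inv_mem hk1E) hk2E) (by
        rw [hb.π_mul _ (inv_mem hk1E) _ hk2E, hb.π_inv hk1E, enc_add, e0, Nat.xor_self])).elim id
        fun ez => absurd (hKF z (ez ▸ mul_mem (inv_mem hk1) hk2) X.z_mem_F) hb.extra.z_ne)).symm
    have hp : enc (π k1) ^^^ enc (π k2) ∉ fW := fun h0 => by
      have h5 : k1 * k2 = 1 := hKF _ (mul_mem hk1 hk2) ⟨mul_mem hk1E hk2E, by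
        rw [hb.π_mul _ hk1E _ hk2E, enc_add]; exact List.mem_cons_of_mem _ h0⟩
      have h6 : k1 * k1 = 1 := by
        rw [← hb.q_iff k1 hk1E, X.qs_of]; exact hsing k1 hk1 hk1E
      exact hne' (mul_left_cancel (h5.trans h6.symm))
    refine no_line_zero _ ((X.commute_iff hk1E).1 hk1b) _ ((X.commute_iff hk2E).1 hk2b) (hsing k1 hk1 hk1E)
      (hsing k2 hk2 hk2E) (horth k1 hk1 k2 hk2 hk1E hk2E) (hnotW k1 hk1 hk1E hk1ne) (hnotW k2 hk2 hk2E hne) hp
      hnot12 hmem
  by_cases hsame : ky * k1 * ky⁻¹ = k1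
  · obtain ⟨v, hv, hv'⟩ : ∃ v ∈ fC, ∀ f ∈ (0 :: fW), v ^^^ f ∉ (0 :: fW) ∧ v ^^^ f ^^^ 277 ∉ (0 :: fW) :=
      ⟨554, by simp [fC], by decide +kernel⟩
    obtain ⟨k2, hk2, hk2E, hk2b, f2, hf2, e2'⟩ := hEK v hv
    refine no k2 hk2 hk2E hk2b (fun e0 => (hv' f2 hf2).1 (by
      rw [← e2', e0, hb.π_one, enc_zero]; exact List.mem_cons_self)) (fun e0 => ?_)
      (by rw [← h4, hsame]; exact List.mem_cons_self)
    rw [e0, e1] at e2'
    refine (hv' _ (fW_xor _ hf1 _ hf2)).2 ?_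
    rw [show v ^^^ (f1 ^^^ f2) ^^^ 277 = (277 ^^^ f1) ^^^ (v ^^^ f2) by
      simp only [Nat.xor_assoc, Nat.xor_comm, Nat.xor_left_comm], ← e2', Nat.xor_self]
    exact List.mem_cons_self
  · refine no _ h1 h2 h3 (fun e0 => hk1ne (conj_eq_one_iff.1 e0)) hsame ?_
    rw [← h4]; simp

theorem concl : Concl (Subgroup.zpowers (b : G)) :=
  ⟨X.not_dvd, X.exists_direct, X.exists_frobenius, X.card_normalizer⟩

end Ctx

/-- Coordinates adapted to a given subgroup of order five. -/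
theorem exists_ctx_of {G : Type*} [Group G] [Finite G] [IsSimpleGroup G] {z : G}
    (hJ : Cfsg.IsOfJankoFourTypeAt z) {Q : Subgroup G} (hQ : Nat.card ↥Q = 5)
    (hQz : Q ≤ Subgroup.centralizer ({z} : Set G)) :
    ∃ π ψ x b, Ctx z π ψ x b ∧ Subgroup.zpowers (b : G) = Q := by
  classical
  obtain ⟨π, ψ, x, J⟩ := exists_jf hJ
  obtain ⟨b, X⟩ := exists_ctx J
  haveI : Fact (Nat.Prime 5) := ⟨by norm_num⟩
  obtain ⟨q, hq⟩ := exists_prime_orderOf_dvd_card' (G := Q) 5 (dvd_of_eq hQ.symm)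
  have hqo : orderOf (⟨(q : G), hQz q.2⟩ : ↥(Subgroup.centralizer ({z} : Set G))) = 5 := by
    rw [Subgroup.orderOf_mk, Subgroup.orderOf_coe, hq]
  obtain ⟨c, m, hcm, -⟩ := exists_conj_pow X.fac_five X.ord hqo
  have hcm' : (c : G) * b * (c : G)⁻¹ = (q : G) ^ m := congrArg Subtype.val hcm
  set cm : ↥(Subgroup.centralizer ({z} : Set G)) := c⁻¹ with hcmdef
  set κ := (MulAut.conj cm).toMonoidHom with hκ
  have hnorm : ∀ a ∈ Cfsg.twoCoreOfCentralizer z, (cm : G) * a * (cm : G)⁻¹ ∈ Cfsg.twoCoreOfCentralizer z :=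
    fun a ha => J.base.norm cm (Subgroup.mem_centralizer_singleton_iff.1 cm.2) a ha
  have hrange : (ψ.comp κ).range = ψ.range := by
    rw [MonoidHom.range_comp, MonoidHom.range_eq_top.2 (MulAut.conj cm).surjective, ← MonoidHom.range_eq_map]
  have h := J.base
  refine ⟨fun a => π ((cm : G) * a * (cm : G)⁻¹), ψ.comp κ, c * x * c⁻¹, c * b * c⁻¹,
    { J :=
        { base :=
            { ord_z := h.ord_z
              extra := h.extra
              card_Q := h.card_Q
              norm := h.norm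
              cent_le := h.cent_le
              π_mul := fun a ha a' ha' => by
                show π ((cm : G) * (a * a') * (cm : G)⁻¹) = _
                rw [show (cm : G) * (a * a') * (cm : G)⁻¹ = (cm : G) * a * (cm : G)⁻¹ * ((cm : G) * a' * (cm : G)⁻¹) by
                  group, h.π_mul _ (hnorm a ha) _ (hnorm a' ha')]
              π_surj := fun v => by
                obtain ⟨a, ha, e⟩ := h.π_surj v
                refine ⟨(c : G) * a * (c : G)⁻¹, h.norm c (Subgroup.mem_centralizer_singleton_iff.1 c.2) a ha, ?_⟩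
                show π ((cm : G) * ((c : G) * a * (c : G)⁻¹) * (cm : G)⁻¹) = v
                rw [hcmdef, Subgroup.coe_inv]
                rw [show (c : G)⁻¹ * ((c : G) * a * (c : G)⁻¹) * (c : G)⁻¹⁻¹ = a by group, e]
              π_ker := fun a ha => by
                rw [h.π_ker _ (hnorm a ha), conj_eq_one_iff]
                refine or_congr Iff.rfl ⟨fun e => ?_, fun e => by rw [e]; exact Fuse.z_conj J cm⟩
                exact mul_left_cancel (mul_right_cancel (e.trans (Fuse.z_conj J cm).symm))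
              q_iff := fun a ha => by
                rw [h.q_iff _ (hnorm a ha), show (cm : G) * a * (cm : G)⁻¹ * ((cm : G) * a * (cm : G)⁻¹) =
                  (cm : G) * (a * a) * (cm : G)⁻¹ by group, conj_eq_one_iff]
              act := fun d a ha => by
                show π ((cm : G) * ((d : G) * a * (d : G)⁻¹) * (cm : G)⁻¹) =
                  ψ (cm * d * cm⁻¹) (π ((cm : G) * a * (cm : G)⁻¹))
                rw [← h.act _ _ (hnorm a ha)]
                congr 1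
                simp [mul_assoc]
              ker := fun d => by
                show ψ (cm * d * cm⁻¹) = 1 ↔ _
                rw [map_mul, map_mul, map_inv ψ cm, conj_eq_one_iff]
                exact h.ker d }
          mem := fun L hL => by rw [hrange]; exact J.mem L hL
          gen := by rw [hrange]; exact J.gen
          card := by rw [hrange]; exact J.card
          special := J.special
          hx := fun v => by
            show ψ (cm * (c * x * c⁻¹) * cm⁻¹) v = omV v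
            rw [hcmdef, show c⁻¹ * (c * x * c⁻¹) * c⁻¹⁻¹ = x by group, J.hx]
          h3 := by rw [conj_pow, J.h3]; group }
      img := by
        show imgs (ψ (cm * (c * b * c⁻¹) * cm⁻¹)) = fY
        rw [hcmdef, show c⁻¹ * (c * b * c⁻¹) * c⁻¹⁻¹ = b by group, X.img]
      ord := (CfsgLib.Involution.Dihedral.orderOf_conj c b).trans X.ord }, ?_⟩
  refine Subgroup.eq_of_le_of_card_ge ?_ ?_
  · rw [Subgroup.zpowers_le]
    show (c : G) * b * (c : G)⁻¹ ∈ Q
    rw [hcm']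
    exact pow_mem q.2 m
  · rw [Nat.card_zpowers, Subgroup.orderOf_coe, (CfsgLib.Involution.Dihedral.orderOf_conj c b).trans X.ord, hQ]

end CfsgLib.Sporadic.J4Type.Five
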