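import Cfsg.Agent.Lib.Sporadic.J4Type.SixNot
import Cfsg.Agent.Lib.Sporadic.LargeFischer.Hexa.Main
import Cfsg.Agent.S3300

/-!
# Groups of fourth Janko type give the setting of the hexacode
-/

set_option autoImplicit false
set_option linter.style.haveILetI false
set_option linter.unusedSectionVars false
set_option maxRecDepth 40000

namespace CfsgLib.Sporadic.J4Type

open CfsgLib.Sporadic.LargeFischer CfsgLib.Sporadic.LargeFischer.Hexa

variable {G : Type*} [Group G] [Finite G] {z : G} {π : G → V6}
  {ψ : ↥(Subgroup.centralizer ({z} : Set G)) →* (V6 ≃ₗ[ZMod 2] V6)}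
  {x : ↥(Subgroup.centralizer ({z} : Set G))} (J : JF z π ψ x)
include J

/-- The elements acting linearly. -/
theorem exists_index_two : ∃ K : Subgroup G, K ≤ Subgroup.centralizer ({z} : Set G) ∧
    (∀ h ∈ Subgroup.centralizer ({z} : Set G), K.map (MulAut.conj h).toMonoidHom = K) ∧
    K.relIndex (Subgroup.centralizer ({z} : Set G)) = 2 := by
  let L : Subgroup ↥(Subgroup.centralizer ({z} : Set G)) :=
    { carrier := {c | ∀ v, ψ c (omV v) = omV (ψ c v)}
      one_mem' := fun v => by rw [map_one]; rfl
      mul_mem' := fun {a b} ha hb v => by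
        rw [map_mul]; show ψ a (ψ b (omV v)) = omV (ψ a (ψ b v)); rw [hb, ha]
      inv_mem' := fun {a} ha v => (ψ a).injective (by
        rw [map_inv]
        show ψ a ((ψ a).symm (omV v)) = ψ a (omV ((ψ a).symm v))
        rw [(ψ a).apply_symm_apply, ha, (ψ a).apply_symm_apply]) }
  obtain ⟨g, ⟨a, rfl⟩, e⟩ := J.mem cT (by simp [gens5])
  have ha : a ∉ L := fun hl => by
    have := (commute_omV_iff (ψ a)).1 hl
    rw [e] at this
    exact absurd this (by decide +kernel)
  have hidx : L.index = 2 := by
    refine Subgroup.index_eq_two_iff.2 ⟨a, fun b => ?_⟩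
    by_cases hb : b ∈ L
    · refine Or.inr ⟨hb, fun hm => ha ?_⟩
      have := mul_mem (inv_mem hb) hm
      rwa [inv_mul_cancel_left] at this
    · refine Or.inl ⟨fun w => ?_, hb⟩
      have h1 := (range_le J ⟨a, rfl⟩ : InJ (ψ a)).1.resolve_left ha
      have h2 := (range_le J ⟨b, rfl⟩ : InJ (ψ b)).1.resolve_left hb
      rw [map_mul]
      show ψ b (ψ a (omV w)) = omV (ψ b (ψ a w))
      rw [h1, h2, h2, omV3]
  haveI : L.Normal := Subgroup.normal_of_index_eq_two hidx
  refine ⟨L.map (Subgroup.centralizer ({z} : Set G)).subtype, Subgroup.map_subtype_le _, fun h hh => ?_, ?_⟩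
  · rw [Subgroup.map_map]
    ext t
    constructor
    · rintro ⟨c, hc, rfl⟩
      exact ⟨⟨h, hh⟩ * c * ⟨h, hh⟩⁻¹, Subgroup.Normal.conj_mem inferInstance c hc _, rfl⟩
    · rintro ⟨c, hc, rfl⟩
      refine ⟨⟨h, hh⟩⁻¹ * c * ⟨h, hh⟩, Subgroup.Normal.conj_mem' inferInstance c hc _, ?_⟩
      show h * (h⁻¹ * (c : G) * h) * h⁻¹ = c
      group
  · rw [Subgroup.relIndex, Subgroup.subgroupOf, Subgroup.comap_map_eq_self_of_injective (Subgroup.subtype_injective _)]
    exact hidx

/-- The setting of the hexacode. -/
theorem frame [IsSimpleGroup G] :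
    Frame z (Cfsg.pCore 2 ↥(Subgroup.centralizer ({z} : Set G))) π ψ x := by
  have h := J.base
  have hres : Cfsg.pResidual 2 G = ⊤ := by
    have hn : (Cfsg.pResidual 2 G).Normal := by
      refine ⟨fun a ha g => ?_⟩
      have hle : Cfsg.pResidual 2 G ≤ (Cfsg.pResidual 2 G).comap (MulAut.conj g).toMonoidHom := by
        rw [Cfsg.pResidual, Subgroup.closure_le]
        intro b hb
        refine Subgroup.subset_closure ?_
        show Nat.Coprime (orderOf ((MulAut.conj g).toMonoidHom b)) 2
        rwa [orderOf_injective (MulAut.conj g).toMonoidHom (MulAut.conj g).injective]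
      exact hle ha
    rcases hn.eq_bot_or_eq_top with e | e
    · exfalso
      have hx1 : (x : G) ≠ 1 := fun e1 => by
        have e2 := J.hx (dec 1)
        rw [show x = 1 from Subtype.ext e1, map_one] at e2
        exact absurd (congrArg enc e2) (by decide +kernel)
      have hord : orderOf (x : G) = 3 :=
        orderOf_eq_prime (hp := ⟨Nat.prime_three⟩) (congrArg Subtype.val J.h3) hx1
      have : (x : G) ∈ Cfsg.pResidual 2 G := Subgroup.subset_closure (by show Nat.Coprime _ 2; rw [hord]; norm_num)
      rw [e] at this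
      exact hx1 this
    · exact e
  obtain ⟨K, hK, hKn, hKi⟩ := exists_index_two J
  have hfused := Cfsg.Agent.S3300.result hres z h.ord_z (Cfsg.twoCoreOfCentralizer z) rfl
    J.special
    (fun c hc => h.cent_le c fun a ha => (hc a ha).symm) 6 (by norm_num) (h.card_Q.trans (by norm_num)) K hK hKn hKi
  refine
    { lf := h
      bel := fun u => ⟨Bel_range J u, bel_lin_all u⟩
      gens := fun j => genLike J j
      stab := fun g hg hfix => stab_pointwise J hg hfix (quad_inv J g hg) bel_lin_all
      stab_card := fun Y hY => card_stab J Y hY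
      four := fun g hu hne => four_exists J hu hne
      six := fun g hu hne => six_ne J hu hne
      hx := J.hx
      h3 := J.h3
      fused := hfused }

end CfsgLib.Sporadic.J4Type
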