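import Cfsg.Agent.Lib.Sporadic.LargeFischer.Hexa.Code

/-!
# Linear maps of the coordinate space through the images of the bits
-/

set_option autoImplicit false

namespace CfsgLib.Sporadic.J4Type

open CfsgLib.Sporadic.LargeFischer CfsgLib.Sporadic.LargeFischer.Hexa

/-- The images of the twelve bits. -/
def imgs (g : V6 ≃ₗ[ZMod 2] V6) : List ℕ := (List.range 12).map fun i => enc (g (dec (2 ^ i)))

theorem imgs_lt (g : V6 ≃ₗ[ZMod 2] V6) : ∀ x ∈ imgs g, x < 2 ^ 12 := by
  intro x hx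
  obtain ⟨i, -, rfl⟩ := List.mem_map.1 hx
  exact enc_lt _

/-- The composite of two lists of images. -/
def cmpL (L K : List ℕ) : List ℕ := K.map (lm L)

/-- The identity. -/
def idL : List ℕ := [1, 2, 4, 8, 16, 32, 64, 128, 256, 512, 1024, 2048]

/-- Powers. -/
def powL (L : List ℕ) : ℕ → List ℕ
  | 0 => idL
  | n + 1 => cmpL L (powL L n)

theorem lm_bit : ∀ (L : List ℕ) (i : ℕ), lm L (2 ^ i) = L.getD i 0
  | [], i => by simp [lm]
  | x :: L, 0 => by simp [lm, lm_zero]
  | x :: L, i + 1 => by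
    rw [lm]
    have h1 : (2 ^ (i + 1)).testBit 0 = false := Nat.testBit_two_pow_of_ne (by omega)
    rw [h1, if_neg Bool.false_ne_true, Nat.zero_xor, show 2 ^ (i + 1) / 2 = 2 ^ i by omega, lm_bit L i,
      List.getD_cons_succ]

theorem imgs_getD (g : V6 ≃ₗ[ZMod 2] V6) {i : ℕ} (hi : i < 12) : (imgs g).getD i 0 = enc (g (dec (2 ^ i))) := by
  simp [imgs, List.getD_eq_getElem?_getD, hi]

theorem apply_dec (g : V6 ≃ₗ[ZMod 2] V6) {n : ℕ} (hn : n < 4096) : g (dec n) = dec (lm (imgs g) n) := by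
  have h : ∀ v, g v = lmV (imgs g) v := by
    refine ext12 (fun v => g v) (lmV (imgs g)) (fun u v => g.map_add u v) (lmV_add _) fun i hi => ?_
    have h2 : 2 ^ i < 4096 := Nat.pow_lt_pow_right (by norm_num : 1 < 2) hi |>.trans_eq (by norm_num)
    rw [lmV, enc_dec h2, lm_bit, imgs_getD g hi, dec_enc]
  rw [h, lmV, enc_dec hn]

theorem enc_apply (g : V6 ≃ₗ[ZMod 2] V6) (v : V6) : enc (g v) = lm (imgs g) (enc v) := by
  conv_lhs => rw [← dec_enc v, apply_dec g (enc_lt v)]
  exact enc_dec (lm_lt (k := 12) _ _ (imgs_lt g))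

theorem imgs_inj {g h : V6 ≃ₗ[ZMod 2] V6} (e : imgs g = imgs h) : g = h :=
  LinearEquiv.ext fun v => by rw [← dec_enc (g v), ← dec_enc (h v), enc_apply, enc_apply, e]

theorem imgs_mul (g h : V6 ≃ₗ[ZMod 2] V6) : imgs (g * h) = cmpL (imgs g) (imgs h) := by
  show _ = List.map (lm (imgs g)) ((List.range 12).map fun i => enc (h (dec (2 ^ i))))
  rw [List.map_map]
  refine List.map_congr_left fun i _ => ?_
  exact enc_apply g (h (dec (2 ^ i)))

theorem imgs_one : imgs (1 : V6 ≃ₗ[ZMod 2] V6) = idL := by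
  show (List.range 12).map (fun i => enc (dec (2 ^ i))) = idL
  decide +kernel

theorem imgs_pow (g : V6 ≃ₗ[ZMod 2] V6) : ∀ n : ℕ, imgs (g ^ n) = powL (imgs g) n
  | 0 => by rw [pow_zero, imgs_one]; rfl
  | n + 1 => by rw [pow_succ', imgs_mul, imgs_pow g n]; rfl

/-- A map with a given list of images. -/
theorem imgs_mkE {L L' : List ℕ} (h) (hlen : (List.range 12).map (fun i => L.getD i 0) = L) :
    imgs (mkE L L' h) = L := by
  conv_rhs => rw [← hlen]
  rw [imgs]
  refine List.map_congr_left fun i hi => ?_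
  have hi' : i < 12 := List.mem_range.1 hi
  have h2 : 2 ^ i < 4096 := Nat.pow_lt_pow_right (by norm_num : 1 < 2) hi' |>.trans_eq (by norm_num)
  rw [mkE_dec _ _ _ h2, enc_dec (lm_lt (k := 12) _ _ h.2.1), lm_bit]

/-- Linearity over the field with four elements, on images. -/
theorem commute_omV_iff (g : V6 ≃ₗ[ZMod 2] V6) :
    (∀ v, g (omV v) = omV (g v)) ↔ ∀ i < 12, lm (imgs g) (omc (2 ^ i)) = omc ((imgs g).getD i 0) := by
  constructor
  · intro h i hi
    have h2 : 2 ^ i < 4096 := Nat.pow_lt_pow_right (by norm_num : 1 < 2) hi |>.trans_eq (by norm_num)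
    have e := congrArg enc (h (dec (2 ^ i)))
    rwa [omV_dec h2, enc_apply, enc_dec (omc_fin ⟨_, h2⟩).1, enc_omV, ← imgs_getD g hi] at e
  · intro h
    refine ext12 (fun v => g (omV v)) (fun v => omV (g v)) (fun u v => by rw [omV_add, map_add])
      (fun u v => by rw [map_add, omV_add]) fun i hi => ?_
    have h2 : 2 ^ i < 4096 := Nat.pow_lt_pow_right (by norm_num : 1 < 2) hi |>.trans_eq (by norm_num)
    rw [omV_dec h2, ← dec_enc (g (dec (omc (2 ^ i)))), ← dec_enc (omV (g (dec (2 ^ i)))), enc_apply,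
      enc_dec (omc_fin ⟨_, h2⟩).1, h i hi, enc_omV, ← imgs_getD g hi]

end CfsgLib.Sporadic.J4Type
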