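import Cfsg.Agent.Lib.Sporadic.J4Type.InvData
import Cfsg.Agent.Lib.Sporadic.J4Type.Eleven

/-!
# Every involution is conjugate into the subgroup of order `2¹¹`

An involution of the normaliser lies over one of two classes of the Mathieu group, both met by elements of `E`; the
involutions over them are conjugate into `E`, and the involutions of `E` are conjugate into the subgroup.
-/

set_option autoImplicit false
set_option linter.style.haveILetI false
set_option linter.unusedSectionVars false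
set_option maxRecDepth 40000

namespace CfsgLib.Sporadic.LargeFischer.Hexa

open Cfsg CfsgLib.Sporadic.LargeFischer CfsgLib.SmallGroups.M24Group CfsgLib.SmallGroups.Golay
open CfsgLib.ThreeTransp.Extraspecial CfsgLib.Sporadic.M24Orbits CfsgLib.ThreeTransp.M24Classes
open CfsgLib.ThreeTransp.ClassData CfsgLib.Sporadic.J4Type

theorem isTbl_conj {a r : Equiv.Perm GolayPt} {K R S : List ℕ} (ha : IsTbl a K) (hr : IsTbl r R)
    (h : conjEq K R S = true) : IsTbl (a * r * a⁻¹) S := by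
  intro p
  have h1 := List.all_eq_true.1 h (idx (a⁻¹ p)) (List.mem_range.2 (idx_lt _))
  rw [beq_iff_eq, ← ha, Equiv.Perm.inv_def, Equiv.apply_symm_apply] at h1
  rw [← h1, Equiv.Perm.mul_apply, Equiv.Perm.mul_apply, ha, hr, Equiv.Perm.inv_def]

theorem elem_map {G : Type*} [Group G] {A : Subgroup G} (hA : Cfsg.IsElementaryAbelian 2 A) (f : G →* G) :
    Cfsg.IsElementaryAbelian 2 (A.map f) := by
  refine ⟨⟨⟨?_⟩⟩, ?_⟩
  · rintro ⟨_, a, ha, rfl⟩ ⟨_, b, hb, rfl⟩
    have := congrArg Subtype.val (hA.1.is_comm.comm (⟨a, ha⟩ : ↥A) ⟨b, hb⟩)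
    exact Subtype.ext ((map_mul _ _ _).symm.trans ((congrArg _ this).trans (map_mul _ _ _)))
  · rintro _ ⟨a, ha, rfl⟩
    rw [← map_pow, hA.2 a ha, map_one]

/-- An element of a two-group is conjugate into the normaliser. -/
theorem exists_conj_normalizer {G : Type*} [Group G] [Finite G] (hU : UniqAb G) {A : Subgroup G}
    (hA : Cfsg.IsElementaryAbelian 2 A) (hc : Nat.card A = 2 ^ 11) {t : G} (ht : t * t = 1) :
    ∃ g : G, g * t * g⁻¹ ∈ Subgroup.normalizer (A : Set G) := by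
  haveI : Fact (Nat.Prime 2) := ⟨Nat.prime_two⟩
  have hp : IsPGroup 2 ↥(Subgroup.zpowers t) := by
    obtain ⟨k, -, hk⟩ := (Nat.dvd_prime_pow Nat.prime_two).1
      ((Nat.card_zpowers t).symm ▸ orderOf_dvd_of_pow_eq_one (pow_two t ▸ ht) : Nat.card (Subgroup.zpowers t) ∣ 2 ^ 1)
    exact IsPGroup.of_card hk
  obtain ⟨T, hT⟩ := hp.exists_le_sylow
  obtain ⟨g, hg⟩ := thompson_eq hU hA hc T
  have hle : A.map (MulAut.conj g).toMonoidHom ≤ (T : Subgroup G) := hg ▸ Subgroup.map_subtype_le _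
  refine ⟨g⁻¹, ?_⟩
  rw [inv_inv]
  have htT : t ∈ (T : Subgroup G) := hT (Subgroup.mem_zpowers t)
  have hle' : A.map (MulAut.conj (t * g)).toMonoidHom ≤ (T : Subgroup G) := by
    rintro _ ⟨a, ha, rfl⟩
    show t * g * a * (t * g)⁻¹ ∈ _
    rw [show t * g * a * (t * g)⁻¹ = t * (g * a * g⁻¹) * t⁻¹ by group]
    exact mul_mem (mul_mem htT (hle ⟨a, ha, rfl⟩)) (inv_mem htT)
  have hcard : ∀ h : G, Nat.card ↥(A.map (MulAut.conj h).toMonoidHom) = 2 ^ 11 := fun h => by
    rw [Subgroup.card_map_of_injective (f := (MulAut.conj h).toMonoidHom) (MulAut.conj h).injective, hc]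
  have heq := (hU T T.isPGroup' _ _ hle hle' (elem_map hA _) (elem_map hA _) (hcard g)).2 (hcard (t * g))
  refine Subgroup.mem_normalizer_iff.2 fun a => ⟨fun ha => ?_, fun ha => ?_⟩
  · obtain ⟨b, hb, eb⟩ := heq.le ⟨a, ha, rfl⟩
    have e : t * g * a * (t * g)⁻¹ = g * b * g⁻¹ := eb.symm
    have : g⁻¹ * t * g * a * (g⁻¹ * t * g)⁻¹ = b := by
      calc g⁻¹ * t * g * a * (g⁻¹ * t * g)⁻¹ = g⁻¹ * (t * g * a * (t * g)⁻¹) * g := by group
        _ = b := by rw [e]; group
    rwa [this]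
  · obtain ⟨b, hb, eb⟩ := heq.ge ⟨_, ha, rfl⟩
    have e : t * g * b * (t * g)⁻¹ = g * (g⁻¹ * t * g * a * (g⁻¹ * t * g)⁻¹) * g⁻¹ := eb
    have hba : b = a := by
      calc b = (t * g)⁻¹ * (t * g * b * (t * g)⁻¹) * (t * g) := by group
        _ = a := by rw [e]; group
    rwa [← hba]

namespace Frame

variable {G : Type*} [Group G] [Finite G] {z : G} {Q : Subgroup (Subgroup.centralizer ({z} : Set G))} [Q.Normal]
  {π : G → V6} {ψ : ↥(Subgroup.centralizer ({z} : Set G)) →* (V6 ≃ₗ[ZMod 2] V6)}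
  {x : ↥(Subgroup.centralizer ({z} : Set G))} (F : Frame z Q π ψ x)
  {c : Fin 4 → ↥(Subgroup.centralizer ({z} : Set G))} (L : Lifts ψ x c)
include F L

/-- The element permutes the codes of pairs as the permutation does. -/
def Coded (m : G) (σ : Equiv.Perm GolayPt) : Prop :=
  ∀ p q, m * F.el L (phi p ^^^ phi q) * m⁻¹ = F.el L (phi (σ p) ^^^ phi (σ q))

theorem coded_unique {m : G} {σ τ : Equiv.Perm GolayPt} (hσ : F.Coded L m σ) (hτ : F.Coded L m τ) : σ = τ := by
  refine Equiv.ext fun p => ?_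
  by_contra hne
  obtain ⟨q, hqp⟩ := exists_ne p
  obtain ⟨r, hr⟩ : ∃ r, r ∉ ({p, q} : Finset GolayPt) :=
    exists_pt_notMem _ (Finset.card_le_two.trans (by norm_num))
  simp only [Finset.mem_insert, Finset.mem_singleton, not_or] at hr
  have h := fun a b : GolayPt => F.el_inj L (phi_lt_xor _ _) (phi_lt_xor _ _) ((hσ a b).symm.trans (hτ a b))
  rcases duad_inj (fun e => hqp (σ.injective e).symm) (fun e => hqp (τ.injective e).symm) (h p q) with ⟨e, -⟩ | ⟨e, -⟩
  · exact hne e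
  rcases duad_inj (fun e => hr.1 (σ.injective e).symm) (fun e => hr.1 (τ.injective e).symm) (h p r) with ⟨e', -⟩ | ⟨e', -⟩
  · exact hne e'
  · exact hr.2 (τ.injective (e'.symm.trans e))

/-- Every element of the normaliser has its permutation, and all permutations of the Mathieu group occur. -/
theorem exists_coded (hN : Normal F L) (hU : UniqAb G) :
    ∃ θ : ↥(Subgroup.normalizer (F.asub L : Set G)) →* ↥Cfsg.M24, Function.Surjective θ ∧
      θ.ker = (F.asub L).subgroupOf (Subgroup.normalizer (F.asub L : Set G)) ∧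
      ∀ m : ↥(Subgroup.normalizer (F.asub L : Set G)), F.Coded L (m : G) (θ m : Equiv.Perm GolayPt) := by
  set A := F.asub L
  set M := Subgroup.normalizer (A : Set G)
  obtain ⟨θ₀, h⟩ : ∃ θ₀ : ↥M →* ↥Cfsg.M24, ToddData z A θ₀ := F.todd_of_normal hN hU
  have hker₀ : θ₀.ker = A.subgroupOf M := h.ker
  have hsurj₀ : Function.Surjective θ₀ := h.surj
  have hsmall : ∀ n, n < 2048 → (inDm n = true ↔ (F.el L n ≠ 1 ∧ ¬ IsConj z (F.el L n))) := by
    intro n hn
    rw [inDm_eq hn, hN.small n hn]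
    refine ⟨fun h => ⟨fun e => ?_, Or.inr h⟩, fun ⟨h1, h⟩ => h.resolve_left fun h0 => h1 (h0 ▸ F.el_zero L)⟩
    have h0 := F.el_inj L hn (by norm_num) (e.trans (F.el_zero L).symm)
    subst h0
    rw [show inD sgnB 0 = false by decide +kernel] at h
    exact Bool.false_ne_true h
  have hex : ∀ m : ↥M, ∃ σ ∈ Cfsg.M24, F.Coded L (m : G) σ := by
    intro m
    have hmem : ∀ n, ∃ k, k < 2048 ∧ (n < 2048 → (m : G) * F.el L n * (m : G)⁻¹ = F.el L k) := by
      intro n
      by_cases hn : n < 2048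
      · obtain ⟨k, hk, e⟩ := (Subgroup.mem_normalizer_iff.1 m.2 (F.el L n)).1 ⟨n, hn, rfl⟩
        exact ⟨k, hk, fun _ => e⟩
      · exact ⟨0, by norm_num, fun h => absurd h hn⟩
    choose f hf hfe using hmem
    have ha : Auto f :=
      { lt := fun n _ => hf n
        add := fun a b ha hb => by
          have hab : a ^^^ b < 2048 := Nat.xor_lt_two_pow (n := 11) ha hb
          refine F.el_inj L (hf _) (Nat.xor_lt_two_pow (n := 11) (hf _) (hf _)) ?_
          rw [F.el_xor L (hf _) (hf _), ← hfe a ha, ← hfe b hb, ← hfe _ hab, F.el_xor L ha hb]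
          group
        inj := fun a b ha hb e => F.el_inj L ha hb
          (mul_left_cancel (mul_right_cancel ((hfe a ha).trans ((congrArg (F.el L) e).trans (hfe b hb).symm))))
        pres := fun n hn h => by
          obtain ⟨h1, h2⟩ := (hsmall n hn).1 h
          refine (hsmall _ (hf n)).2 ?_
          rw [← hfe n hn, isConj_conj_iff]
          exact ⟨fun e => h1 (conj_eq_one_iff.1 e), h2⟩ }
    obtain ⟨σ, hσ⟩ := ha.exists_perm
    exact ⟨σ, ha.perm_mem hσ, fun p q => by rw [hfe _ (phi_lt_xor p q), hσ]⟩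
  choose σ hσM hσ using hex
  let θ : ↥M →* ↥Cfsg.M24 :=
    { toFun := fun m => ⟨σ m, hσM m⟩
      map_one' := Subtype.ext (F.coded_unique L (hσ 1) fun p q => by simp)
      map_mul' := fun a b => Subtype.ext (F.coded_unique L (hσ (a * b)) fun p q => by
        show (a : G) * b * _ * ((a : G) * b)⁻¹ = F.el L (phi (σ a (σ b p)) ^^^ phi (σ a (σ b q)))
        rw [← hσ a, ← hσ b]
        group) }
  have hker : θ.ker = A.subgroupOf M := by
    ext m
    rw [MonoidHom.mem_ker, Subgroup.mem_subgroupOf]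
    constructor
    · intro h1
      have h1' : σ m = 1 := congrArg Subtype.val h1
      have hpair : ∀ j, j < 24 → (m : G) * F.el L (pcode j) * (m : G)⁻¹ = F.el L (pcode j) := fun j hj => by
        have := hσ m (pt j) none
        rw [h1'] at this
        simp only [Equiv.Perm.coe_one, id_eq, phi_none, Nat.xor_zero] at this
        rwa [phi, idx_pt hj] at this
      refine F.centralizer_asub L (Subgroup.mem_centralizer_iff.2 fun a ha => ?_)
      obtain ⟨n, hn, rfl⟩ := ha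
      have hmem : ∀ n, ∃ k, k < 2048 ∧ (n < 2048 → (m : G) * F.el L n * (m : G)⁻¹ = F.el L k) := by
        intro n
        by_cases hn : n < 2048
        · obtain ⟨k, hk, e⟩ := (Subgroup.mem_normalizer_iff.1 m.2 (F.el L n)).1 ⟨n, hn, rfl⟩
          exact ⟨k, hk, fun _ => e⟩
        · exact ⟨0, by norm_num, fun h => absurd h hn⟩
      choose fc hfl hfe using hmem
      have hlt : ∀ j, j < 24 → pcode j < 2048 := fun j hj => by
        have := phi_lt (pt j)
        rwa [phi, idx_pt hj] at this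
      have hfix := eq_on_all (f := fc) (fun a b ha hb => by
          have hab : a ^^^ b < 2048 := Nat.xor_lt_two_pow (n := 11) ha hb
          refine F.el_inj L (hfl _) (Nat.xor_lt_two_pow (n := 11) (hfl _) (hfl _)) ?_
          rw [F.el_xor L (hfl _) (hfl _), ← hfe a ha, ← hfe b hb, ← hfe _ hab, F.el_xor L ha hb]
          group)
        (fun j hj => F.el_inj L (hfl _) (hlt j hj) ((hfe _ (hlt j hj)).symm.trans (hpair j hj))) n hn
      have := hfe n hn
      rw [hfix] at this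
      exact (mul_inv_eq_iff_eq_mul.1 this).symm
    · intro h1
      refine Subtype.ext (F.coded_unique L (hσ m) fun p q => ?_)
      rw [F.asub_comm L h1 ⟨_, phi_lt_xor p q, rfl⟩]
      simp
  refine ⟨θ, ?_, hker, hσ⟩
  have e1 := θ.ker.card_mul_index
  have e0 := θ₀.ker.card_mul_index
  rw [Subgroup.index_ker, MonoidHom.range_eq_top.2 hsurj₀, Subgroup.card_top, hker₀, ← hker] at e0
  rw [Subgroup.index_ker, ← e0] at e1
  exact MonoidHom.range_eq_top.1 (Subgroup.eq_top_of_card_eq _ (Nat.eq_of_mul_eq_mul_left Nat.card_pos e1))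

/-- The canonical lift of a coded vector. -/
noncomputable def lv (_L : Lifts ψ x c) (v : ℕ) : G := F.lf.can F.hx (dec v)

theorem lv_sq {v : ℕ} (hv : v < 4096) (hq : Qb v = false) : F.lv L v * F.lv L v = 1 := by
  rw [lv, F.lf.sq_eq (F.lf.can_mem F.hx _), F.lf.π_can F.hx, qs_eq_bv _ hv, hq]
  rfl

theorem el_mem_qImg {n : ℕ} (hn : n % 16 = 0) : F.el L n ∈ qImg Q := by
  rw [el, cu_eq, hn, show Subtype.val (cpr c 0) = 1 by simp [cpr], one_mul]
  exact mul_mem (F.lf.zp_mem _) (F.rho_mem _)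

theorem el_bit (b : Bool) : F.el L (if b then 16 else 0) = zp z (bv b) := by
  rw [show (if b then 16 else 0) = mkc 0 b 0 by cases b <;> rfl, F.el_mkc L (by norm_num) b (by norm_num),
    show Subtype.val (cpr c 0) = 1 by simp [cpr], one_mul, F.rho_zero, mul_one]

/-- What the data of a vector say. -/
theorem vec_spec {v : ℕ} {K R : List ℕ} (h : vecOK v K R = true) :
    v < 4096 ∧ Qb v = false ∧ (∀ n, n < 2048 → mv v K n < 2048 ∧ F.lv L v * F.el L n * (F.lv L v)⁻¹ = F.el L (mv v K n)) ∧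
      ∀ σ : Equiv.Perm GolayPt, IsTbl σ R → F.Coded L (F.lv L v) σ := by
  simp only [vecOK, Bool.and_eq_true, decide_eq_true_eq, Bool.not_eq_true', List.all_eq_true, List.mem_range,
    Bool.or_eq_true, beq_iff_eq] at h
  obtain ⟨⟨⟨hv, hq⟩, hok⟩, hd⟩ := h
  have hact : ∀ n, n < 2048 → mv v K n < 2048 ∧ F.lv L v * F.el L n * (F.lv L v)⁻¹ = F.el L (mv v K n) := fun n hn =>
    ⟨sT_lt hn (hok _ (cu_lt n)), F.el_transl L hn (hok _ (cu_lt n))⟩
  refine ⟨hv, hq, hact, fun σ hσ p q => ?_⟩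
  by_cases hpq : p = q
  · subst hpq
    rw [Nat.xor_self, Nat.xor_self, F.el_zero L]
    group
  · rw [(hact _ (phi_lt_xor p q)).2]
    have := (hd _ (idx_lt p) _ (idx_lt q)).resolve_left fun e => hpq (idx_injective e)
    unfold duad at this
    rw [← hσ p, ← hσ q] at this
    exact congrArg (F.el L) this

/-- Every involution is conjugate into the subgroup, once the involutions of `E` are. -/
theorem exists_conj_asub (hN : Normal F L) (hU : UniqAb G)
    (hsing : ∀ v : V6, qs v = 0 → v ≠ 0 → ∃ d : ↥(Subgroup.centralizer ({z} : Set G)), ∃ k < 64, ψ d v = dec (wv k))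
    {t : G} (ht : t * t = 1) : ∃ g : G, g * t * g⁻¹ ∈ F.asub L := by
  set A := F.asub L with hA
  -- the involutions of `E`
  have hQ : ∀ e : G, e ∈ qImg Q → e * e = 1 → ∃ g : G, g * e * g⁻¹ ∈ A := by
    intro e he hee
    by_cases h0 : π e = 0
    · refine ⟨1, ?_⟩
      rw [one_mul, inv_one, mul_one]
      rcases (F.lf.π_ker e he).1 h0 with rfl | rfl
      exacts [one_mem _, F.z_mem_asub L]
    · obtain ⟨d, k, hk, ek⟩ := hsing _ ((F.lf.q_iff e he).2 hee) h0
      obtain ⟨hm, hπ⟩ := F.lf.π_conj d he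
      refine ⟨d, ?_⟩
      rcases (F.lf.π_eq_iff (F.rho_mem k) hm).1 ((F.π_rho k).trans (ek.symm.trans hπ.symm)) with e' | e' <;> rw [e']
      exacts [F.rho_mem_asub L hk, mul_mem (F.rho_mem_asub L hk) (F.z_mem_asub L)]
  have hback : ∀ s : G, (∃ g, g * s * g⁻¹ ∈ qImg Q) → s * s = 1 → ∃ g : G, g * s * g⁻¹ ∈ A := by
    rintro s ⟨g, hg⟩ hs
    obtain ⟨g', hg'⟩ := hQ _ hg (by rw [show g * s * g⁻¹ * (g * s * g⁻¹) = g * (s * s) * g⁻¹ by group, hs]; group)
    exact ⟨g' * g, by rwa [show g' * g * s * (g' * g)⁻¹ = g' * (g * s * g⁻¹) * g'⁻¹ by group]⟩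
  set M := Subgroup.normalizer (A : Set G) with hM
  obtain ⟨θ, hsurj, hker, hcode⟩ : ∃ θ : ↥M →* ↥Cfsg.M24, Function.Surjective θ ∧ θ.ker = A.subgroupOf M ∧
      ∀ m : ↥M, F.Coded L (m : G) (θ m : Equiv.Perm GolayPt) := F.exists_coded L hN hU
  obtain ⟨g₀, hg₀⟩ := exists_conj_normalizer hU (F.isElementaryAbelian_asub L) (F.card_asub L) ht
  set s : ↥M := ⟨g₀ * t * g₀⁻¹, hg₀⟩ with hs
  have hss : s * s = 1 := Subtype.ext (show g₀ * t * g₀⁻¹ * (g₀ * t * g₀⁻¹) = 1 by
    rw [show g₀ * t * g₀⁻¹ * (g₀ * t * g₀⁻¹) = g₀ * (t * t) * g₀⁻¹ by group, ht]; group)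
  suffices h : ∃ g : G, g * (s : G) * g⁻¹ ∈ A by
    obtain ⟨g, hg⟩ := h
    exact ⟨g * g₀, by rwa [show g * g₀ * t * (g * g₀)⁻¹ = g * (g₀ * t * g₀⁻¹) * g⁻¹ by group]⟩
  by_cases h1 : θ s = 1
  · rw [← MonoidHom.mem_ker, hker, Subgroup.mem_subgroupOf] at h1
    exact ⟨1, by simpa using h1⟩
  obtain ⟨okA, okB, okKA, okKB, okG, cA, cB, cG⟩ := perm_ok
  -- the lifts of the two vectors
  have key : ∀ (v : ℕ) (K R C S : List ℕ), vecOK v K R = true → okTbl R = true → okTbl C = true →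
      conjEq C R S = true → ∀ k ∈ Cfsg.M24, IsTbl (k * (θ s : Equiv.Perm GolayPt) * k⁻¹) S →
      ∃ (g : G) (n : ℕ), n < 2048 ∧ g * (s : G) * g⁻¹ = F.lv L v * F.el L n ∧ mv v K n = n := by
    intro v K R C S hv hR hC hCR k hk hkS
    obtain ⟨hvlt, hq, hact, hco⟩ := F.vec_spec L hv
    obtain ⟨r, -, hr⟩ := M24Orbits.exists_elt hR
    obtain ⟨a, ha, haC⟩ := M24Orbits.exists_elt hC
    have e : k * (θ s : Equiv.Perm GolayPt) * k⁻¹ = a * r * a⁻¹ := hkS.unique (isTbl_conj haC hr hCR)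
    obtain ⟨m, hm⟩ := hsurj ⟨a⁻¹ * k, mul_mem (inv_mem ha) hk⟩
    have hemem : F.lv L v ∈ M := F.can_mem_normalizer L _
    have hθe : (θ ⟨F.lv L v, hemem⟩ : Equiv.Perm GolayPt) = r := F.coded_unique L (hcode _) (hco r hr)
    have hθ : θ (m * s * m⁻¹) = θ ⟨F.lv L v, hemem⟩ := Subtype.ext (by
      rw [map_mul, map_mul, map_inv, hm, hθe]
      simp only [Subgroup.coe_mul, Subgroup.coe_inv]
      calc a⁻¹ * k * (θ s : Equiv.Perm GolayPt) * (a⁻¹ * k)⁻¹ = a⁻¹ * (k * (θ s : Equiv.Perm GolayPt) * k⁻¹) * a := by group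
        _ = r := by rw [e]; group)
    have hin : (F.lv L v)⁻¹ * ((m : G) * s * (m : G)⁻¹) ∈ A := by
      have : (⟨F.lv L v, hemem⟩ : ↥M)⁻¹ * (m * s * m⁻¹) ∈ θ.ker := by
        rw [MonoidHom.mem_ker, map_mul, map_inv, hθ, inv_mul_cancel]
      rwa [hker, Subgroup.mem_subgroupOf] at this
    obtain ⟨n, hn, en⟩ := hin
    have hse : (m : G) * s * (m : G)⁻¹ = F.lv L v * F.el L n := by rw [← en]; group
    refine ⟨m, n, hn, hse, ?_⟩
    obtain ⟨hm2, hmv⟩ := hact n hn
    refine F.el_inj L hm2 hn ?_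
    rw [← hmv, inv_eq_of_mul_eq_one_left (F.lv_sq L hvlt hq)]
    have h2 : F.lv L v * F.el L n * (F.lv L v * F.el L n) = 1 := by
      rw [← hse, show (m : G) * s * (m : G)⁻¹ * ((m : G) * s * (m : G)⁻¹) = (m : G) * ((s * s : ↥M) : G) * (m : G)⁻¹ by
        push_cast; group, hss]
      simp
    calc F.lv L v * F.el L n * F.lv L v = F.lv L v * F.el L n * (F.lv L v * F.el L n) * (F.el L n)⁻¹ := by group
      _ = F.el L n := by rw [h2, one_mul, inv_eq_of_mul_eq_one_left (F.asub_sq L ⟨n, hn, rfl⟩)]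
  have hgo : ∀ (g : G) (w : G), g * (s : G) * g⁻¹ = w → (∃ g', g' * w * g'⁻¹ ∈ qImg Q) → ∃ g : G, g * (s : G) * g⁻¹ ∈ A := by
    rintro g w rfl ⟨g', hg'⟩
    exact hback _ ⟨g' * g, by rwa [show g' * g * (s : G) * (g' * g)⁻¹ = g' * (g * (s : G) * g⁻¹) * g'⁻¹ by group]⟩
      (congrArg Subtype.val hss)
  obtain ⟨k, hk, hkS | hkS⟩ := two_class (θ s).2 (congrArg Subtype.val ((map_mul θ s s).symm.trans ((congrArg θ hss).trans (map_one θ))))
    fun e => h1 (Subtype.ext e)
  · -- the class with fixed points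
    obtain ⟨g, n, hn, he, hfix⟩ := key vA kdA permA conA repTwoA vecA_ok okA okKA cA k hk hkS
    refine hgo g _ he ?_
    obtain ⟨hvlt, hq, hact, hco⟩ := F.vec_spec L vecA_ok
    have hel : ∀ n, n % 16 = 0 → ∃ g', g' * (F.lv L vA * F.el L n) * g'⁻¹ ∈ qImg Q := fun n h =>
      ⟨1, by simpa [lv] using mul_mem (F.lf.can_mem F.hx _) (F.el_mem_qImg L h)⟩
    obtain ⟨hd0, hd1, hd2⟩ := base_d
    have hreach : ∀ n, n < 2048 → mv vA kdA n = n → n % 16 ≠ 0 →
        ∃ g' : G, g' * (F.lv L vA * F.el L 1) * g'⁻¹ = F.lv L vA * F.el L n := by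
      intro n hn hfix h16
      have h := List.all_eq_true.1 fixA n (List.mem_range.2 hn)
      simp only [hfix, beq_self_eq_true, Bool.not_true, Bool.false_or, Bool.or_eq_true, beq_iff_eq, h16, false_or,
        List.any_eq_true, Bool.and_eq_true, decide_eq_true_eq] at h
      obtain ⟨⟨n', v', kd', n₀⟩, -, ⟨⟨⟨-, hv'⟩, hn₀⟩, htok⟩, hval⟩ := h
      dsimp only at hv' hn₀ htok hval
      set b := bsc vA v'
      set y := sT v' kd' 1
      have hy : y < 2048 := sT_lt hd0 htok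
      have hb : (if b then 16 else 0) < 2048 := by split <;> norm_num
      have hyb : y ^^^ (if b then 16 else 0) < 2048 := Nat.xor_lt_two_pow (n := 11) hy hb
      set e := F.lv L vA
      set e' := F.lv L v'
      have he1 : e' * e * e'⁻¹ = e * F.el L (if b then 16 else 0) := by
        have hsw := F.lf.swap (F.lf.can_mem F.hx (dec vA)) (F.lf.can_mem F.hx (dec v'))
        rw [F.lf.π_can F.hx, F.lf.π_can F.hx, bs_eq_bv _ _ hvlt hv'] at hsw
        have hsw' : e' * e = e * e' * zp z (bv b) := hsw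
        have hzc : zp z (bv b) * e' = e' * zp z (bv b) :=
          (F.zp_commute L _ (F.lf.cent_z (F.lf.can_mem F.hx (dec v')))).eq
        rw [F.el_bit L, hsw', mul_assoc e, ← hzc]
        group
      have he2 : e' * F.el L 1 * e'⁻¹ = F.el L y := F.el_transl L hd0 htok
      obtain ⟨hm0, hmv⟩ := hact n₀ hn₀
      rw [inv_eq_of_mul_eq_one_left (F.lv_sq L hvlt hq)] at hmv
      have hw : F.el L n₀ * F.el L n₀ = 1 := F.asub_sq L ⟨n₀, hn₀, rfl⟩
      refine ⟨F.el L n₀ * e', ?_⟩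
      calc F.el L n₀ * e' * (e * F.el L 1) * (F.el L n₀ * e')⁻¹
          = F.el L n₀ * (e' * e * e'⁻¹ * (e' * F.el L 1 * e'⁻¹)) * (F.el L n₀)⁻¹ := by group
        _ = F.el L n₀ * (e * F.el L (y ^^^ (if b then 16 else 0))) * F.el L n₀ := by
          rw [he1, he2, inv_eq_of_mul_eq_one_left hw, mul_assoc e, ← F.el_xor L hb hy, Nat.xor_comm]
        _ = e * (e * F.el L n₀ * e) * F.el L (y ^^^ (if b then 16 else 0)) * F.el L n₀ := by
          simp only [mul_assoc]
          rw [← mul_assoc e e, F.lv_sq L hvlt hq, one_mul]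
        _ = e * F.el L n := by
          rw [hmv, mul_assoc e, ← F.el_xor L hm0 hyb, mul_assoc, ← F.el_xor L (Nat.xor_lt_two_pow (n := 11) hm0 hyb) hn₀,
            hval]
          congr 2
          ac_rfl
    have hone : ∃ g', g' * (F.lv L vA * F.el L 1) * g'⁻¹ ∈ qImg Q := by
      obtain ⟨gp, hgp, hgG⟩ := M24Orbits.exists_elt okG
      obtain ⟨r, -, hr⟩ := M24Orbits.exists_elt okA
      obtain ⟨m, hm⟩ := hsurj ⟨gp, hgp⟩
      have hemem : F.lv L vA ∈ M := F.can_mem_normalizer L _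
      have hθe : (θ ⟨F.lv L vA, hemem⟩ : Equiv.Perm GolayPt) = r := F.coded_unique L (hcode _) (hco r hr)
      have hθ : θ (m * ⟨F.lv L vA, hemem⟩ * m⁻¹) = θ ⟨F.lv L vA, hemem⟩ := Subtype.ext (by
        rw [map_mul, map_mul, map_inv, hm]
        simp only [Subgroup.coe_mul, Subgroup.coe_inv, hθe]
        exact (isTbl_conj hgG hr cG).unique hr)
      have hin : (F.lv L vA)⁻¹ * ((m : G) * F.lv L vA * (m : G)⁻¹) ∈ A := by
        have : (⟨F.lv L vA, hemem⟩ : ↥M)⁻¹ * (m * ⟨F.lv L vA, hemem⟩ * m⁻¹) ∈ θ.ker := by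
          rw [MonoidHom.mem_ker, map_mul, map_inv, hθ, inv_mul_cancel]
        rwa [hker, Subgroup.mem_subgroupOf] at this
      obtain ⟨a, ha, ea⟩ := hin
      have hme : (m : G) * F.lv L vA * (m : G)⁻¹ = F.lv L vA * F.el L a := by rw [← ea]; group
      have hsq := F.lv_sq L hvlt hq
      have hfixed : ∀ (u : G) (b : ℕ), b < 2048 → u * u = 1 → (m : G) * u * (m : G)⁻¹ = F.lv L vA * F.el L b →
          u ∈ qImg Q → b % 16 ≠ 0 → ∃ g', g' * (F.lv L vA * F.el L 1) * g'⁻¹ ∈ qImg Q := by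
        intro u b hb hu hmu huQ hb16
        have hbfix : mv vA kdA b = b := by
          obtain ⟨hb2, hbv⟩ := hact b hb
          refine F.el_inj L hb2 hb ?_
          rw [← hbv, inv_eq_of_mul_eq_one_left hsq]
          have h2 : F.lv L vA * F.el L b * (F.lv L vA * F.el L b) = 1 := by
            rw [← hmu, show (m : G) * u * (m : G)⁻¹ * ((m : G) * u * (m : G)⁻¹) = (m : G) * (u * u) * (m : G)⁻¹ by group, hu]
            group
          calc F.lv L vA * F.el L b * F.lv L vA = F.lv L vA * F.el L b * (F.lv L vA * F.el L b) * (F.el L b)⁻¹ := by group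
            _ = F.el L b := by rw [h2, one_mul, inv_eq_of_mul_eq_one_left (F.asub_sq L ⟨b, hb, rfl⟩)]
        obtain ⟨g', hg'⟩ := hreach b hb hbfix hb16
        refine ⟨(m : G)⁻¹ * g', ?_⟩
        rw [show (m : G)⁻¹ * g' * (F.lv L vA * F.el L 1) * ((m : G)⁻¹ * g')⁻¹ =
          (m : G)⁻¹ * (g' * (F.lv L vA * F.el L 1) * g'⁻¹) * m by group, hg', ← hmu]
        simpa [mul_assoc] using huQ
      by_cases ha16 : a % 16 = 0
      · obtain ⟨hd, hdfix, hd16, hdout⟩ := moved_duad
        have hlt : duad 5 15 < 2048 := by decide +kernel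
        have hcodem := hcode m (pt 5) (pt 15)
        rw [hm] at hcodem
        simp only [phi, idx_pt (show 5 < 24 by norm_num), idx_pt (show 15 < 24 by norm_num), hgG (pt 5), hgG (pt 15)] at hcodem
        set n₁ := duad 5 15 with hn₁
        set n₂ := duad (tblNat permG 5) (tblNat permG 15) with hn₂
        change (m : G) * F.el L n₁ * (m : G)⁻¹ = F.el L n₂ at hcodem
        have hn₂lt : n₂ < 2048 := by rw [hn₂]; decide +kernel
        rw [← hd] at hdfix hd16
        refine hfixed (F.lv L vA * F.el L n₁) (a ^^^ n₂) (Nat.xor_lt_two_pow (n := 11) ha hn₂lt) ?_ ?_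
          (mul_mem (F.lf.can_mem F.hx _) (F.el_mem_qImg L hd16)) ?_
        · obtain ⟨-, hv1⟩ := hact n₁ hlt
          rw [hdfix, inv_eq_of_mul_eq_one_left hsq] at hv1
          rw [← mul_assoc, hv1, F.asub_sq L ⟨n₁, hlt, rfl⟩]
        · rw [show (m : G) * (F.lv L vA * F.el L n₁) * (m : G)⁻¹ =
            (m : G) * F.lv L vA * (m : G)⁻¹ * ((m : G) * F.el L n₁ * (m : G)⁻¹) by group, hme, hcodem, mul_assoc,
            F.el_xor L ha hn₂lt]
        · rw [show (16 : ℕ) = 2 ^ 4 from rfl, Nat.xor_mod_two_pow, show (2 : ℕ) ^ 4 = 16 from rfl, ha16, Nat.zero_xor]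
          exact hdout
      · exact hfixed (F.lv L vA) a ha hsq hme (F.lf.can_mem F.hx _) ha16
    by_cases h16 : n % 16 = 0
    · exact hel n h16
    · obtain ⟨g₁, hg₁⟩ := hone
      obtain ⟨g₂, hg₂⟩ := hreach n hn hfix h16
      refine ⟨g₁ * g₂⁻¹, ?_⟩
      rw [← hg₂]
      simpa [mul_assoc] using hg₁
  · -- the class without fixed points
    obtain ⟨g, n, hn, he, hfix⟩ := key vB kdB permB conB repTwoB vecB_ok okB okKB cB k hk hkS
    refine hgo g _ he ⟨1, ?_⟩
    have h := List.all_eq_true.1 fixB n (List.mem_range.2 hn)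
    simp only [hfix, beq_self_eq_true, Bool.not_true, Bool.false_or, beq_iff_eq] at h
    simpa [lv] using mul_mem (F.lf.can_mem F.hx _) (F.el_mem_qImg L h)

end Frame

end CfsgLib.Sporadic.LargeFischer.Hexa

namespace CfsgLib.Sporadic.J4Type

open CfsgLib.Sporadic.LargeFischer CfsgLib.Sporadic.LargeFischer.Hexa

theorem singular_marked : (List.range 4096).all (fun n => Qb n || n == 0 ||
    (oc n != (false, false) && (List.range 64).any fun k => oc (wv k) == oc n)) = true := by decide +kernel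

variable {G : Type*} [Group G] [Finite G] {z : G}

/-- The nonzero singular vectors have images in the hexacode. -/
theorem exists_image {π : G → V6} {ψ : ↥(Subgroup.centralizer ({z} : Set G)) →* (V6 ≃ₗ[ZMod 2] V6)}
    {x : ↥(Subgroup.centralizer ({z} : Set G))} (J : JF z π ψ x) (v : V6) (hq : qs v = 0) (h0 : v ≠ 0) :
    ∃ d : ↥(Subgroup.centralizer ({z} : Set G)), ∃ k < 64, ψ d v = dec (wv k) := by
  have hlt := enc_lt v
  have hQ : Qb (enc v) = false := by
    rw [Bool.eq_false_iff]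
    intro e
    have h1 := (Qb_iff v).1 e
    rw [hq] at h1
    exact zero_ne_one h1
  have hne : enc v ≠ 0 := fun e => h0 (by rw [← dec_enc v, e, dec_zero])
  have h := List.all_eq_true.1 singular_marked _ (List.mem_range.2 hlt)
  simp only [hQ, Bool.false_or, Bool.or_eq_true, beq_iff_eq, hne, false_or, Bool.and_eq_true, bne_iff_ne,
    List.any_eq_true, List.mem_range] at h
  obtain ⟨hoc, k, hk, e⟩ := h
  obtain ⟨g, ⟨d, rfl⟩, hg⟩ := transitive J hlt (wv_lt k) e.symm hoc
  exact ⟨d, k, hk, by rwa [dec_enc] at hg⟩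

/-- The subgroup with all the data, and every involution is conjugate into it. -/
theorem exists_inv_data [IsSimpleGroup G] (hJ : Cfsg.IsOfJankoFourTypeAt z) :
    UniqAb G ∧ ∃ (A : Subgroup G) (θ : ↥(Subgroup.normalizer (A : Set G)) →* ↥Cfsg.M24), ToddData z A θ ∧
      ∀ t : G, t * t = 1 → ∃ g : G, g * t * g⁻¹ ∈ A := by
  obtain ⟨π, ψ, x, J⟩ := exists_jf hJ
  have hU : UniqAb G := uniqAb (Q := Cfsg.pCore 2 ↥(Subgroup.centralizer ({z} : Set G))) J.base (maxAb J)
  obtain ⟨c, L, hN⟩ := (frame J).exists_normal hU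
  obtain ⟨θ, h⟩ := (frame J).todd_of_normal hN hU
  exact ⟨hU, _, θ, h, fun t ht => (frame J).exists_conj_asub L hN hU (exists_image J) ht⟩

end CfsgLib.Sporadic.J4Type
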