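import Cfsg.Agent.Lib.Sporadic.LargeFischer.Hexa.ToddModel
import Cfsg.Agent.Lib.ThreeTransp.M24Classes
import Cfsg.Agent.Lib.Sporadic.J4Type.Fast

/-!
# Data for the involutions outside the subgroup of order `2¹¹`

Two vectors of the coordinate space give the two classes of involutions of the Mathieu group.
-/

set_option autoImplicit false
set_option maxRecDepth 40000

namespace CfsgLib.Sporadic.J4Type

open Cfsg CfsgLib.Sporadic.LargeFischer CfsgLib.Sporadic.LargeFischer.Hexa
open CfsgLib.Sporadic.M24Orbits CfsgLib.ThreeTransp.M24Classes CfsgLib.ThreeTransp.ClassData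

/-- The first vector. -/
def vA : ℕ := 5

/-- The second vector. -/
def vB : ℕ := 86

/-- The changes in the hexacode made by the first vector. -/
def kdA : List ℕ := [0, 0, 46, 46, 62, 62, 16, 16, 59, 59, 21, 21, 5, 5, 43, 43]

/-- The changes in the hexacode made by the second vector. -/
def kdB : List ℕ := [0, 48, 40, 24, 8, 56, 32, 16, 36, 20, 12, 60, 44, 28, 4, 52]

/-- The permutation of the points given by the first vector. -/
def permA : List ℕ := [1, 0, 13, 20, 23, 5, 6, 7, 8, 9, 14, 19, 12, 2, 10, 15, 22, 17, 21, 11, 3, 18, 16, 4]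

/-- The permutation of the points given by the second vector. -/
def permB : List ℕ := [22, 16, 23, 20, 13, 17, 7, 6, 12, 15, 14, 19, 8, 4, 10, 9, 1, 5, 21, 11, 3, 18, 0, 2]

/-- A conjugator to the representative. -/
def conA : List ℕ := [3, 9, 6, 12, 23, 13, 1, 22, 20, 16, 8, 10, 18, 5, 21, 17, 19, 7, 4, 11, 14, 2, 15, 0]

/-- A conjugator to the representative. -/
def conB : List ℕ := [21, 7, 5, 15, 6, 16, 23, 0, 18, 12, 11, 19, 22, 1, 4, 14, 8, 17, 2, 10, 9, 3, 13, 20]

/-- A permutation commuting with the first one. -/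
def permG : List ℕ := [0, 1, 11, 14, 4, 15, 9, 5, 8, 17, 22, 18, 12, 19, 16, 7, 3, 6, 2, 21, 10, 13, 20, 23]

/-- The fixed codes outside `E`, each reached from the first: vector, change, and code. -/
def reachD : List (ℕ × ℕ × ℕ × ℕ) :=
  [(1, 0, 0, 0), (17, 0, 0, 64), (33, 34, 42, 14), (49, 34, 42, 78), (129, 34, 42, 2), (145, 34, 42, 66),
   (161, 0, 0, 12), (177, 0, 0, 76), (321, 32, 10, 0), (337, 32, 10, 64), (353, 2, 32, 14), (369, 2, 32, 78),
   (449, 2, 32, 2), (465, 2, 32, 66), (481, 32, 10, 12), (497, 32, 10, 76), (513, 0, 0, 6), (529, 0, 0, 70),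
   (545, 34, 42, 8), (561, 34, 42, 72), (641, 34, 42, 4), (657, 34, 42, 68), (673, 0, 0, 10), (689, 0, 0, 74),
   (833, 32, 10, 6), (849, 32, 10, 70), (865, 2, 32, 8), (881, 2, 32, 72), (961, 2, 32, 4), (977, 2, 32, 68),
   (993, 32, 10, 10), (1009, 32, 10, 74), (1025, 2, 32, 64), (1041, 2, 32, 0), (1057, 32, 10, 78), (1073, 32, 10, 14),
   (1153, 32, 10, 66), (1169, 32, 10, 2), (1185, 2, 32, 76), (1201, 2, 32, 12), (1345, 34, 42, 64), (1361, 34, 42, 0),
   (1377, 0, 0, 78), (1393, 0, 0, 14), (1473, 0, 0, 66), (1489, 0, 0, 2), (1505, 34, 42, 76), (1521, 34, 42, 12),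
   (1537, 2, 32, 70), (1553, 2, 32, 6), (1569, 32, 10, 72), (1585, 32, 10, 8), (1665, 32, 10, 68), (1681, 32, 10, 4),
   (1697, 2, 32, 74), (1713, 2, 32, 10), (1857, 34, 42, 70), (1873, 34, 42, 6), (1889, 0, 0, 72), (1905, 0, 0, 8),
   (1985, 0, 0, 68), (2001, 0, 0, 4), (2017, 34, 42, 74), (2033, 34, 42, 10)]

/-- The action of a vector on the codes. -/
def mv (v : ℕ) (K : List ℕ) (n : ℕ) : ℕ := sT v (K.getD (n % 16) 0) n

/-- Correctness of the data of a vector. -/
def vecOK (v : ℕ) (K R : List ℕ) : Bool :=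
  decide (v < 4096) && !Qb v && ((List.range 16).all fun u => tOK u v (K.getD u 0)) &&
    (List.range 24).all fun i => (List.range 24).all fun j =>
      i == j || mv v K (duad i j) == duad (tblNat R i) (tblNat R j)

theorem vecA_ok : vecOK vA kdA permA = true := by decide +kernel

theorem vecB_ok : vecOK vB kdB permB = true := by decide +kernel

theorem perm_ok : okTbl permA = true ∧ okTbl permB = true ∧ okTbl conA = true ∧ okTbl conB = true ∧ okTbl permG = true ∧
    conjEq conA permA repTwoA = true ∧ conjEq conB permB repTwoB = true ∧ conjEq permG permA permA = true := by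
  decide +kernel

theorem fixB : (List.range 2048).all (fun n => !(mv vB kdB n == n) || n % 16 == 0) = true := by decide +kernel

theorem fixA : (List.range 2048).all (fun n => !(mv vA kdA n == n) || n % 16 == 0 || reachD.any fun r =>
    r.1 == n && decide (r.2.1 < 4096) && decide (r.2.2.2 < 2048) && tOK (1 % 16) r.2.1 r.2.2.1 &&
      n == ((mv vA kdA r.2.2.2 ^^^ r.2.2.2) ^^^ sT r.2.1 r.2.2.1 1) ^^^ (if bsc vA r.2.1 then 16 else 0)) = true := by
  decide +kernel

theorem base_d : 1 < 2048 ∧ mv vA kdA 1 = 1 ∧ 1 % 16 = 1 := by decide +kernel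

theorem moved_duad : duad 5 15 = 1200 ∧ mv vA kdA 1200 = 1200 ∧ 1200 % 16 = 0 ∧
    duad (tblNat permG 5) (tblNat permG 15) % 16 ≠ 0 := by decide +kernel

end CfsgLib.Sporadic.J4Type
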