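import Cfsg.Agent.Lib.Sporadic.J4Type.SylowP
import Cfsg.Agent.Lib.Sporadic.J4Type.FrameJ

/-!
# Groups of fourth Janko type: the elementary abelian subgroup of order `2¹¹` of a Sylow subgroup is unique
-/

set_option autoImplicit false
set_option linter.style.haveILetI false
set_option linter.unusedSectionVars false
set_option maxRecDepth 40000

namespace CfsgLib.Sporadic.J4Type

open CfsgLib.Sporadic.LargeFischer CfsgLib.Sporadic.LargeFischer.Hexa CfsgLib.ThreeTransp.Extraspecial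
open scoped Pointwise

theorem card_totally_isotropic (U : AddSubgroup V6) (hU : ∀ u ∈ U, ∀ w ∈ U, bs u w = 0) : Nat.card U ≤ 64 := by
  let B : LinearMap.BilinForm (ZMod 2) V6 :=
    LinearMap.mk₂ (ZMod 2) bs bs_add_left bs_smul_left bs_add (fun c u w => bs_smul_right c w u)
  have hB : B.Nondegenerate := ⟨fun u h => bs_nondeg fun v => h v, fun u h => bs_nondeg fun v => (bs_comm u v).trans (h v)⟩
  set W := AddSubgroup.toZModSubmodule 2 U with hW
  have hle : W ≤ B.orthogonal W := fun w hw u hu => hU u hu w hw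
  have h1 := Submodule.finrank_mono hle
  rw [LinearMap.BilinForm.finrank_orthogonal hB] at h1
  have h12 : Module.finrank (ZMod 2) V6 = 12 := by
    have e := Module.natCard_eq_pow_finrank (K := ZMod 2) (V := V6)
    rw [Nat.card_zmod, show Nat.card V6 = 2 ^ 12 by
      simp [V6, D4, Nat.card_eq_fintype_card]] at e
    exact (Nat.pow_right_injective le_rfl e).symm
  rw [h12] at h1
  have e := Module.natCard_eq_pow_finrank (K := ZMod 2) (V := W)
  rw [Nat.card_zmod] at e
  calc Nat.card U = Nat.card W := rfl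
    _ ≤ 2 ^ 6 := by rw [e]; exact Nat.pow_le_pow_right (by norm_num) (by omega)

variable {G : Type*} [Group G] [Finite G] [IsSimpleGroup G] {z : G} {π : G → V6}
  {ψ : ↥(Subgroup.centralizer ({z} : Set G)) →* (V6 ≃ₗ[ZMod 2] V6)}
  {x : ↥(Subgroup.centralizer ({z} : Set G))} (J : JF z π ψ x)
include J

/-- Lifts of the four generators. -/
theorem exists_lifts : ∃ c : Fin 4 → ↥(Subgroup.centralizer ({z} : Set G)), Lifts ψ x c := by
  choose c hc hci using fun i : Fin 4 => (frame J).exists_Bel_lift (2 ^ i.1)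
  exact ⟨c, hc, hci⟩

theorem large_subgroups : ∃ (A₀ : Subgroup ↥(Subgroup.centralizer ({z} : Set G)))
    (T₀ : Sylow 2 ↥(Subgroup.centralizer ({z} : Set G))),
    A₀ ≤ (T₀ : Subgroup _) ∧ Cfsg.IsElementaryAbelian 2 A₀ ∧ Nat.card A₀ = 2 ^ 11 ∧
    ∀ A : Subgroup ↥(Subgroup.centralizer ({z} : Set G)), A ≤ (T₀ : Subgroup _) →
      Cfsg.IsElementaryAbelian 2 A → Nat.card A ≤ 2 ^ 11 ∧ (Nat.card A = 2 ^ 11 → A = A₀) := by
  classical
  haveI : Fact (Nat.Prime 2) := ⟨Nat.prime_two⟩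
  haveI := finite_equiv
  set F := frame J with hF
  obtain ⟨c, L⟩ := exists_lifts J
  obtain ⟨P, hPr, hPc, hBelP, hsub⟩ := exists_sylow_range J
  have hb := J.base
  -- the preimage is a Sylow subgroup
  have hker : Nat.card ψ.ker = 8192 := by
    rw [← hb.card_Q]
    exact Nat.card_congr
      { toFun := fun d => ⟨((d : ↥(Subgroup.centralizer ({z} : Set G))) : G), (hb.ker d).1 d.2⟩
        invFun := fun q => ⟨⟨q, hb.mem_cent q.2⟩, (hb.ker ⟨q, hb.mem_cent q.2⟩).2 q.2⟩
        left_inv := fun d => rfl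
        right_inv := fun q => rfl }
  have hC : Nat.card ↥(Subgroup.centralizer ({z} : Set G)) = 2 ^ 21 * 10395 := by
    rw [← ψ.ker.card_mul_index, Subgroup.index_ker, hker, J.card]; norm_num
  have hpre : Nat.card ↥(P.comap ψ) = 2 ^ 21 := by
    have e1 := (ψ.subgroupComap P).ker.card_mul_index
    rw [Subgroup.index_ker, MonoidHom.range_eq_top.2 (fun g => by
      obtain ⟨d, hd⟩ := hPr g.2
      exact ⟨⟨d, show ψ d ∈ P from hd ▸ g.2⟩, Subtype.ext hd⟩), Subgroup.card_top, hPc] at e1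
    have e2 : Nat.card (ψ.subgroupComap P).ker = 8192 := by
      rw [← hker]
      exact Nat.card_congr
        { toFun := fun d => ⟨((d : ↥(P.comap ψ)) : ↥(Subgroup.centralizer ({z} : Set G))), congrArg Subtype.val d.2⟩
          invFun := fun q => ⟨⟨q, show ψ _ ∈ P by rw [show ψ q = 1 from q.2]; exact P.one_mem⟩, Subtype.ext q.2⟩
          left_inv := fun d => rfl
          right_inv := fun q => rfl }
    rw [e2] at e1
    rw [← e1]; norm_num
  have hfac : (Nat.card ↥(Subgroup.centralizer ({z} : Set G))).factorization 2 = 21 := by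
    rw [hC, Nat.factorization_mul (by norm_num) (by norm_num), Nat.Prime.factorization_pow Nat.prime_two]
    simp [Nat.factorization_eq_zero_of_not_dvd (show ¬ 2 ∣ 10395 by norm_num)]
  let T₀ : Sylow 2 ↥(Subgroup.centralizer ({z} : Set G)) := Sylow.ofCard (P.comap ψ) (by rw [hpre, hfac])
  -- the subgroup
  have hAC : F.asub L ≤ Subgroup.centralizer ({z} : Set G) := fun a ha => by
    obtain ⟨n, -, rfl⟩ := ha
    exact Subgroup.mem_centralizer_singleton_iff.2 (F.el_cent L n)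
  set A₀ := (F.asub L).subgroupOf (Subgroup.centralizer ({z} : Set G)) with hA₀
  have hA₀c : Nat.card A₀ = 2 ^ 11 := by
    rw [hA₀, Nat.card_congr (Subgroup.subgroupOfEquivOfLe hAC).toEquiv, F.card_asub L]
  have hA₀T : A₀ ≤ P.comap ψ := by
    rintro a ⟨n, hn, e⟩
    show ψ a ∈ P
    have hq : (zp z (ce n) * F.rho (ck n) : G) ∈ Cfsg.twoCoreOfCentralizer z :=
      mul_mem (by
        rcases z2 (ce n) with e0 | e0 <;> rw [e0]
        · rw [zp_zero]; exact one_mem _
        · rw [zp_one]; exact hb.extra.z_mem) (F.rho_mem _)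
    have e' : a = cpr c (cu n) * ⟨_, hb.mem_cent hq⟩ := Subtype.ext (e.trans (mul_assoc _ _ _))
    rw [e', map_mul, L.cpr_img, (hb.ker _).2 hq, mul_one]
    exact hBelP _ (cu_lt n)
  refine ⟨A₀, T₀, hA₀T, isElementaryAbelian_comap (Subgroup.subtype_injective _) (F.isElementaryAbelian_asub L), hA₀c,
    fun A hA hAe => ?_⟩
  -- the image and the kernel
  set φ := ψ.comp A.subtype with hφ
  have hFP : φ.range ≤ P := by
    rintro _ ⟨a, rfl⟩
    exact hA a.2
  have hAcomm : ∀ a b : ↥A, a * b = b * a := hAe.1.is_comm.comm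
  have hAsq : ∀ a : ↥A, a * a = 1 := fun a => Subtype.ext (by
    have := hAe.2 _ a.2
    rw [pow_two] at this
    exact this)
  obtain ⟨h72, h16⟩ := hsub φ.range hFP
    (by rintro _ ⟨a, rfl⟩; rw [← map_mul, hAsq, map_one])
    (by rintro _ ⟨a, rfl⟩ _ ⟨b, rfl⟩; rw [← map_mul, hAcomm, map_mul])
  have hNQ : ∀ n : φ.ker, (((n : ↥A) : ↥(Subgroup.centralizer ({z} : Set G))) : G) ∈ Cfsg.twoCoreOfCentralizer z :=
    fun n => (hb.ker _).1 n.2
  let U : AddSubgroup V6 :=
    { carrier := {v | ∃ n : φ.ker, π (((n : ↥A) : ↥(Subgroup.centralizer ({z} : Set G))) : G) = v}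
      zero_mem' := ⟨1, by simpa using hb.π_one⟩
      add_mem' := by
        rintro _ _ ⟨m, rfl⟩ ⟨n, rfl⟩
        exact ⟨m * n, hb.π_mul _ (hNQ m) _ (hNQ n)⟩
      neg_mem' := by
        rintro _ ⟨m, rfl⟩
        exact ⟨m, (neg_eq_of_add_eq_zero_left (funext fun i => CharTwo.add_self_eq_zero _)).symm⟩ }
  have hN2 : Nat.card φ.ker ≤ 2 * Nat.card U := by
    have hcan : ∀ n : φ.ker, ∃ e : Bool, (((n : ↥A) : ↥(Subgroup.centralizer ({z} : Set G))) : G) =
        zp z (Hexa.bv e) * hb.can J.hx (π (((n : ↥A) : ↥(Subgroup.centralizer ({z} : Set G))) : G)) := fun n => by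
      rcases (hb.π_eq_iff (hb.can_mem J.hx _) (hNQ n)).1 (hb.π_can J.hx _) with e | e
      · exact ⟨false, by rw [Hexa.bv, if_neg Bool.false_ne_true, zp_zero, one_mul]; exact e⟩
      · exact ⟨true, by rw [Hexa.bv, if_pos rfl, zp_one, ← hb.cent_z (hb.can_mem J.hx _)]; exact e⟩
    choose e he using hcan
    refine (Nat.card_le_card_of_injective
      (fun n => ((e n, ⟨_, n, rfl⟩) : Bool × U)) fun m n h => ?_).trans (by simp [Nat.card_prod])
    obtain ⟨h1, h2⟩ := Prod.ext_iff.1 h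
    simp only [Subtype.mk.injEq] at h1 h2
    exact Subtype.ext (Subtype.ext (Subtype.ext (by rw [he m, he n, h1, h2])))
  have hU64 : Nat.card U ≤ 64 := card_totally_isotropic U (by
    rintro _ ⟨m, rfl⟩ _ ⟨n, rfl⟩
    refine hb.bs_of_commute (hNQ m) (hNQ n) ?_
    exact congrArg (fun a : ↥A => ((a : ↥(Subgroup.centralizer ({z} : Set G))) : G)) (hAcomm m n))
  have hfix : ∀ u ∈ U, FixedBy φ.range u := by
    rintro _ ⟨n, rfl⟩ _ ⟨a, rfl⟩
    show ψ (a : ↥(Subgroup.centralizer ({z} : Set G))) _ = _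
    rw [← hb.act _ _ (hNQ n)]
    refine congrArg π (mul_inv_eq_iff_eq_mul.2 ?_)
    exact congrArg (fun a : ↥A => ((a : ↥(Subgroup.centralizer ({z} : Set G))) : G)) (hAcomm a n)
  have hcard : Nat.card φ.range * Nat.card φ.ker = Nat.card A := by
    rw [mul_comm, ← Subgroup.index_ker, Subgroup.card_mul_index]
  by_cases hsmall : Nat.card φ.range < 16
  · have : Nat.card A < 2 ^ 11 := by
      rw [← hcard]
      calc _ ≤ 15 * 128 := Nat.mul_le_mul (by omega) (by omega)
        _ < _ := by norm_num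
    exact ⟨this.le, fun e => absurd e this.ne⟩
  rcases h16 (not_lt.1 hsmall) with ⟨hBel, hW⟩ | ⟨key, hk8, hkinj⟩
  swap
  · have hU8 : Nat.card U ≤ 8 := by
      refine (Nat.card_le_card_of_injective (fun u : U => (⟨key u, hk8 _⟩ : Fin 8)) fun u w e => ?_).trans (by simp)
      exact Subtype.ext (hkinj _ _ (hfix _ u.2) (hfix _ w.2) (congrArg Fin.val e))
    have : Nat.card A < 2 ^ 11 := by
      rw [← hcard]
      calc _ ≤ 72 * 16 := Nat.mul_le_mul h72 (by omega)
        _ < _ := by norm_num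
    exact ⟨this.le, fun e => absurd e this.ne⟩
  have hF16 : Nat.card φ.range ≤ 16 := by
    choose ui hui hue using fun f : φ.range => hBel f f.2
    refine (Nat.card_le_card_of_injective (fun f => (⟨ui f, hui f⟩ : Fin 16)) fun f f' e => ?_).trans (by simp)
    exact Subtype.ext (by rw [hue f, hue f', show ui f = ui f' from congrArg Fin.val e])
  have hle : Nat.card A ≤ 2 ^ 11 := by
    rw [← hcard]
    calc _ ≤ 16 * 128 := Nat.mul_le_mul hF16 (by omega)
      _ = _ := by norm_num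
  refine ⟨hle, fun hA11 => ?_⟩
  have hN : 128 ≤ Nat.card φ.ker := by
    by_contra hlt
    have : Nat.card A < 2 ^ 11 := by
      rw [← hcard]
      calc _ ≤ 16 * 127 := Nat.mul_le_mul hF16 (by omega)
        _ < _ := by norm_num
    omega
  -- the kernel is everything over the hexacode
  have hform : ∀ n : φ.ker, ∃ ek : Bool × Fin 64,
      (((n : ↥A) : ↥(Subgroup.centralizer ({z} : Set G))) : G) = zp z (Hexa.bv ek.1) * F.rho ek.2.1 := by
    intro n
    obtain ⟨k, hk, e⟩ := (inW_iff _).1 (hW _ (hfix _ ⟨n, rfl⟩))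
    rcases (hb.π_eq_iff (F.rho_mem k) (hNQ n)).1 ((F.π_rho k).trans e.symm) with e1 | e1
    · exact ⟨(false, ⟨k, hk⟩), by rw [Hexa.bv, if_neg Bool.false_ne_true, zp_zero, one_mul]; exact e1⟩
    · exact ⟨(true, ⟨k, hk⟩), by rw [Hexa.bv, if_pos rfl, zp_one, ← F.rho_cent k]; exact e1⟩
  choose ek hek using hform
  have hekinj : Function.Injective ek := fun m n e =>
    Subtype.ext (Subtype.ext (Subtype.ext (by rw [hek m, hek n, e])))
  have heksurj : Function.Surjective ek :=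
    (Finite.injective_iff_surjective_of_equiv (Nat.equivFinOfCardPos Nat.card_pos.ne' |>.trans
      ((finCongr (le_antisymm ((Nat.card_le_card_of_injective ek hekinj).trans (by simp [Nat.card_prod])) hN)).trans
        (Fintype.equivFinOfCardEq (α := Bool × Fin 64) (by simp)).symm))).1 hekinj
  have hmem : ∀ (e : Bool) k, k < 64 → ∃ a ∈ A, ((a : ↥(Subgroup.centralizer ({z} : Set G))) : G) = zp z (Hexa.bv e) * F.rho k :=
    fun e k hk => by
      obtain ⟨n, hn⟩ := heksurj (e, ⟨k, hk⟩)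
      exact ⟨(n : ↥A), (n : ↥A).2, by rw [hek n, hn]⟩
  have hle' : A ≤ A₀ := by
    intro a ha
    refine F.mem_of_commute L (F.z_comm' a) fun k hk => ?_
    obtain ⟨b, hbA, eb⟩ := hmem false k hk
    rw [Hexa.bv, if_neg Bool.false_ne_true, zp_zero, one_mul] at eb
    rw [← eb]
    exact congrArg (fun t : ↥A => ((t : ↥(Subgroup.centralizer ({z} : Set G))) : G)) (hAcomm ⟨a, ha⟩ ⟨b, hbA⟩)
  exact Subgroup.eq_of_le_of_card_ge hle' (by rw [hA11, hA₀c])

theorem maxAb : MaxAb z := by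
  haveI : Fact (Nat.Prime 2) := ⟨Nat.prime_two⟩
  obtain ⟨A₀, T₀, hA₀, hA₀e, hA₀c, huniq⟩ := large_subgroups J
  intro T
  obtain ⟨g, hg⟩ := MulAction.exists_smul_eq ↥(Subgroup.centralizer ({z} : Set G)) T₀ T
  set f : ↥(T : Subgroup ↥(Subgroup.centralizer ({z} : Set G))) →* ↥(Subgroup.centralizer ({z} : Set G)) :=
    (MulAut.conj g⁻¹).toMonoidHom.comp (T : Subgroup ↥(Subgroup.centralizer ({z} : Set G))).subtype with hf
  have hinj : Function.Injective f := fun a b e => Subtype.ext ((MulAut.conj g⁻¹).injective e)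
  have hTmem : ∀ t ∈ (T₀ : Subgroup ↥(Subgroup.centralizer ({z} : Set G))), g * t * g⁻¹ ∈ (T : Subgroup _) := fun t ht => by
    rw [← hg, Sylow.coe_subgroup_smul]
    exact ⟨t, ht, rfl⟩
  have hrange : ∀ a, f a ∈ (T₀ : Subgroup ↥(Subgroup.centralizer ({z} : Set G))) := fun a => by
    have ha := a.2
    have hh : (a : ↥(Subgroup.centralizer ({z} : Set G))) ∈
        (MulAut.conj g • (T₀ : Subgroup ↥(Subgroup.centralizer ({z} : Set G)))) := by
      rw [← Sylow.coe_subgroup_smul]; exact hg.symm ▸ ha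
    obtain ⟨t, ht, e⟩ := hh
    show g⁻¹ * (a : ↥(Subgroup.centralizer ({z} : Set G))) * g⁻¹⁻¹ ∈ _
    rw [← show g * t * g⁻¹ = a from e]
    rw [show g⁻¹ * (g * t * g⁻¹) * g⁻¹⁻¹ = t by group]
    exact ht
  have hA₀le : A₀ ≤ f.range := fun a ha =>
    ⟨⟨_, hTmem a (hA₀ ha)⟩, show g⁻¹ * (g * a * g⁻¹) * g⁻¹⁻¹ = a by group⟩
  refine ⟨A₀.comap f, ?_, by rw [card_comap_of_le hinj hA₀le, hA₀c]⟩
  have key : ∀ B : Subgroup ↥(T : Subgroup ↥(Subgroup.centralizer ({z} : Set G))), Cfsg.IsElementaryAbelian 2 B →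
      Nat.card B ≤ 2 ^ 11 ∧ (Nat.card B = 2 ^ 11 → B = A₀.comap f) := by
    intro B hB
    have hBe : Cfsg.IsElementaryAbelian 2 (B.map f) := by
      refine ⟨⟨⟨?_⟩⟩, ?_⟩
      · rintro ⟨_, a, ha, rfl⟩ ⟨_, b, hb, rfl⟩
        have := congrArg Subtype.val (hB.1.is_comm.comm (⟨a, ha⟩ : ↥B) ⟨b, hb⟩)
        exact Subtype.ext ((map_mul _ _ _).symm.trans ((congrArg _ this).trans (map_mul _ _ _)))
      · rintro _ ⟨a, ha, rfl⟩
        rw [← map_pow, hB.2 a ha, map_one]
    obtain ⟨h1, h2⟩ := huniq _ (by rintro _ ⟨a, -, rfl⟩; exact hrange a) hBe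
    rw [Subgroup.card_map_of_injective hinj] at h1 h2
    exact ⟨h1, fun e => by rw [← h2 e, Subgroup.comap_map_eq_self_of_injective hinj]⟩
  have hc : Nat.card ↥(A₀.comap f) = 2 ^ 11 := by rw [card_comap_of_le hinj hA₀le, hA₀c]
  have he := isElementaryAbelian_comap hinj hA₀e
  ext B
  refine ⟨fun hB => (key B hB.1).2 (le_antisymm (key B hB.1).1 (hc ▸ hB.2 _ he)), fun hB => ?_⟩
  rw [Set.mem_singleton_iff] at hB
  subst hB
  exact ⟨he, fun B hB => hc ▸ (key B hB).1⟩

end CfsgLib.Sporadic.J4Type
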