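import Cfsg.Agent.Lib.Sporadic.J4Type.Companion

/-!
# Maps semicommuting with the element of order eleven
-/

set_option autoImplicit false
set_option maxRecDepth 40000

namespace CfsgLib.Sporadic.J4Type

open CfsgLib.Sporadic.LargeFischer CfsgLib.Sporadic.LargeFischer.Hexa

/-- Images along an orbit. -/
def orbitL (A : List ℕ) (om : ℕ → ℕ) : ℕ → ℕ → List ℕ
  | 0, _ => []
  | k + 1, w => w :: om w :: orbitL A om k (lm A w)

/-- The images of a map determined by the images of two vectors. -/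
def mlist (A : List ℕ) (om : ℕ → ℕ) (m : ℕ) : List ℕ :=
  orbitL A om 5 (m % 1024) ++ [m / 1024 * 1024, om (m / 1024 * 1024)]

theorem xC_facts : (∀ i : Fin 4, lm xC (2 ^ (2 * i.1)) = 2 ^ (2 * (i.1 + 1))) ∧
    (∃ n : Fin 4096, lm xC n.1 ^^^ n.1 = 1) ∧ lm xC 1024 = 1024 ∧
    (∀ i : Fin 6, omc (2 ^ (2 * i.1)) = 2 ^ (2 * i.1 + 1)) := by decide +kernel

theorem imgs_getD' (g : V6 ≃ₗ[ZMod 2] V6) {i : ℕ} (hi : i < 12) : lm (imgs g) (2 ^ i) = (imgs g).getD i 0 := lm_bit _ _

/-- A map semicommuting with `xC` is determined by two images. -/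
theorem imgs_mlist (g X : V6 ≃ₗ[ZMod 2] V6) (hX : imgs X = xC) (k : ℕ) (om : ℕ → ℕ)
    (hg : g * X = X ^ k * g) (hom : ∀ n, n < 4096 → lm (imgs g) (omc n) = om (lm (imgs g) n))
    (hc : ∀ n, n < 4096 → lm (powL xC k) n ^^^ n < 1024)
    (hf : ∀ n, n < 4096 → lm (powL xC k) n = n → n % 1024 = 0) :
    ∃ m < 4096, imgs g = mlist (powL xC k) om m := by
  obtain ⟨hb, ⟨w, hw⟩, hfx, hod⟩ := xC_facts
  set L := imgs g with hL
  have hrel : ∀ n, n < 4096 → lm L (lm xC n) = lm (powL xC k) (lm L n) := by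
    intro n hn
    have e := congrArg enc (LinearEquiv.congr_fun hg (dec n))
    simp only [LinearEquiv.mul_apply, enc_apply, imgs_pow, hX, enc_dec hn] at e
    exact e
  have hlt : ∀ n, lm L n < 4096 := fun n => lm_lt (k := 12) _ _ (imgs_lt g)
  have h0 : lm L 1 < 1024 := by
    rw [← hw, lm_xor, hrel w.1 w.2]
    exact hc _ (hlt _)
  have h5 : lm L 1024 % 1024 = 0 := hf _ (hlt _) (by rw [← hrel 1024 (by norm_num), hfx])
  refine ⟨lm L 1 + lm L 1024, ?_, ?_⟩
  · have := hlt 1024; omega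
  · rw [show (lm L 1 + lm L 1024) = lm L 1024 + lm L 1 by ring]
    have e1 : (lm L 1024 + lm L 1) % 1024 = lm L 1 := by omega
    have e2 : (lm L 1024 + lm L 1) / 1024 * 1024 = lm L 1024 := by omega
    rw [mlist, e1, e2]
    have hstep : ∀ i : Fin 4, lm L (2 ^ (2 * (i.1 + 1))) = lm (powL xC k) (lm L (2 ^ (2 * i.1))) := fun i => by
      rw [← hb i, hrel _ (Nat.pow_lt_pow_right (by norm_num : 1 < 2) (show 2 * i.1 < 12 by omega) |>.trans_eq (by norm_num))]
    have hodd : ∀ i : Fin 6, lm L (2 ^ (2 * i.1 + 1)) = om (lm L (2 ^ (2 * i.1))) := fun i => by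
      rw [← hod i, hom _ (Nat.pow_lt_pow_right (by norm_num : 1 < 2) (show 2 * i.1 < 12 by omega) |>.trans_eq (by norm_num))]
    have hLl : L = (List.range 12).map fun i => lm L (2 ^ i) :=
      List.ext_getElem (by simp [hL, imgs]) fun j hj hj' => by
        rw [List.getElem_map, List.getElem_range, lm_bit, List.getD_eq_getElem _ _ hj]
    have s0 := hstep 0; have s1 := hstep 1; have s2 := hstep 2; have s3 := hstep 3
    have o0 := hodd 0; have o1 := hodd 1; have o2 := hodd 2; have o3 := hodd 3; have o4 := hodd 4; have o5 := hodd 5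
    norm_num at s0 s1 s2 s3 o0 o1 o2 o3 o4 o5
    conv_lhs => rw [hLl]
    simp only [orbitL, List.range, List.range.loop, List.map, List.cons_append, List.nil_append]
    norm_num [o0, o1, o2, o3, o4, o5, s0, s1, s2, s3]

theorem imgs_omc (g : V6 ≃ₗ[ZMod 2] V6) (hg : ∀ v, g (omV v) = omV (g v)) {n : ℕ} (hn : n < 4096) :
    lm (imgs g) (omc n) = omc (lm (imgs g) n) := by
  have e := congrArg enc (hg (dec n))
  rwa [omV_dec hn, enc_apply, enc_dec (omc_fin ⟨n, hn⟩).1, enc_omV, enc_apply, enc_dec hn] at e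

theorem imgs_omc_semi (g : V6 ≃ₗ[ZMod 2] V6) (hg : ∀ v, g (omV v) = omV (omV (g v))) {n : ℕ} (hn : n < 4096) :
    lm (imgs g) (omc n) = omc (omc (lm (imgs g) n)) := by
  have e := congrArg enc (hg (dec n))
  rwa [omV_dec hn, enc_apply, enc_dec (omc_fin ⟨n, hn⟩).1, enc_omV, enc_omV, enc_apply, enc_dec hn] at e

/-- Two maps with images multiplying to the identity. -/
theorem imgs_conj (C g : V6 ≃ₗ[ZMod 2] V6) : imgs (C⁻¹ * g * C) = cmpL (imgs C⁻¹) (cmpL (imgs g) (imgs C)) := by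
  rw [mul_assoc, imgs_mul, imgs_mul]

theorem cmpL_lt {L K : List ℕ} (hL : ∀ x ∈ L, x < 4096) : ∀ x ∈ cmpL L K, x < 4096 := by
  intro x hx
  obtain ⟨k, -, rfl⟩ := List.mem_map.1 hx
  exact lm_lt (k := 12) _ _ hL

/-- A map with prescribed images commuting with the scalar, from a Boolean check. -/
def linL (L : List ℕ) : Bool := (List.range 12).all fun i => lm L (omc (2 ^ i)) == omc (L.getD i 0)

theorem linL_spec {g : V6 ≃ₗ[ZMod 2] V6} (h : linL (imgs g) = true) : ∀ v, g (omV v) = omV (g v) :=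
  (commute_omV_iff g).2 fun i hi => beq_iff_eq.1 (List.all_eq_true.1 h i (List.mem_range.2 hi))

end CfsgLib.Sporadic.J4Type
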