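import Cfsg.Agent.Lib.Sporadic.J4Type.ModuleU

/-!
# The invariant quadratic form
-/

set_option autoImplicit false
set_option maxRecDepth 40000

namespace CfsgLib.Sporadic.J4Type

open CfsgLib.Sporadic.LargeFischer CfsgLib.Sporadic.LargeFischer.Hexa

/-- The generators, as lists. -/
def gensL : List (List ℕ) :=
  [xC, yC, uC, [2, 3, 8, 12, 32, 48, 128, 192, 512, 768, 2048, 3072]]

/-- The entry of a vector. -/
def row (n : ℕ) : ℕ := (orbWord.getD (n / 256) []).getD (n % 256) 0

/-- The orbit of a vector. -/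
def orbI (n : ℕ) : ℕ := row n / 2 ^ 28

/-- Follow a word. -/
def follow : ℕ → ℕ → ℕ → ℕ
  | 0, _, a => a
  | k + 1, c, a => frc (lm (gensL.getD (c % 4) []) a) fun b => follow k (c / 4) b

/-- The word of a vector leads to it. -/
def rowOK (n : ℕ) : Bool :=
  frc (row n) fun r => decide (r / 2 ^ 28 < 4) &&
    follow (r / 2 ^ 24 % 16) (r % 2 ^ 24) (orbRep.getD (r / 2 ^ 28) 0) == n

theorem rows_ok : (List.range 4096).all rowOK = true := by decide +kernel

/-- A candidate form on the orbits. -/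
def cand (a b c : ZMod 2) (n : ℕ) : ZMod 2 :=
  if orbI n = 1 then a else if orbI n = 2 then b else if orbI n = 3 then c else 0

/-- Its polar. -/
def candB (a b c : ZMod 2) (m n : ℕ) : ZMod 2 := cand a b c (m ^^^ n) + cand a b c m + cand a b c n

theorem cand_bad : ∀ a b c : ZMod 2, (a = 0 ∧ b = 0 ∧ c = 0) ∨ (a = 0 ∧ b = 0 ∧ c = 1) ∨
    (fun t : ℕ × ℕ × ℕ => t.1 < 4096 ∧ t.2.1 < 4096 ∧ t.2.2 < 4096 ∧
      candB a b c t.1 (t.2.1 ^^^ t.2.2) ≠ candB a b c t.1 t.2.1 + candB a b c t.1 t.2.2)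
      (badTriple.getD (a.val + 2 * b.val + 4 * c.val) (0, 0, 0)) := by decide +kernel

theorem cand_qs : (List.range 4096).all (fun n => cand 0 0 1 n == qs (dec (lm chgL n))) = true := by decide +kernel

theorem chg_pair : okPair chgL chgI = true ∧ chgL.length = 12 ∧ chgI.length = 12 ∧ linL chgL = true := by decide +kernel

/-- The change of coordinates to the hexacode. -/
def chg : V6 ≃ₗ[ZMod 2] V6 := mkE chgL chgI (okPair_spec chg_pair.1)

theorem imgs_chg : imgs chg = chgL ∧ imgs chg⁻¹ = chgI :=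
  ⟨imgs_mkE _ (list_twelve chg_pair.2.1), imgs_mkE_inv _ chg_pair.2.2.1⟩

theorem chg_lin : ∀ v, chg (omV v) = omV (chg v) := linL_spec (by rw [imgs_chg.1]; exact chg_pair.2.2.2)

/-- An invariant form is the standard one. -/
theorem form_unique (X Y U : V6 ≃ₗ[ZMod 2] V6) (hX : imgs X = xC) (hY : imgs Y = yC) (hU : imgs U = uC)
    (q : V6 → ZMod 2) (hq : ∀ v, q (X v) = q v ∧ q (Y v) = q v ∧ q (U v) = q v ∧ q (omV v) = q v)
    (h0 : q 0 = 0) (hadd : ∀ u v w, q (u + (v + w)) + q u + q (v + w) =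
      (q (u + v) + q u + q v) + (q (u + w) + q u + q w))
    (hnd : ∀ u, (∀ v, q (u + v) + q u + q v = 0) → u = 0) :
    ∀ v, q v = qs (chg v) := by
  have hstep : ∀ j, j < 4 → ∀ n, n < 4096 → q (dec (lm (gensL.getD j []) n)) = q (dec n) := by
    intro j hj n hn
    interval_cases j
    · rw [show gensL.getD 0 [] = imgs X from hX.symm, ← apply_dec X hn]; exact (hq _).1
    · rw [show gensL.getD 1 [] = imgs Y from hY.symm, ← apply_dec Y hn]; exact (hq _).2.1
    · rw [show gensL.getD 2 [] = imgs U from hU.symm, ← apply_dec U hn]; exact (hq _).2.2.1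
    · rw [show dec (lm (gensL.getD 3 []) n) = omV (dec n) from ?_]
      · exact (hq _).2.2.2
      · have e : ∀ v : V6, lmV (gensL.getD 3 []) v = omV v := ext12 _ _ (lmV_add _) omV_add fun i hi => by
          interval_cases i <;> decide +kernel
        rw [← e, lmV, enc_dec hn]
  have hfol : ∀ k c a, a < 4096 → follow k c a < 4096 ∧ q (dec (follow k c a)) = q (dec a) := by
    intro k
    induction k with
    | zero => exact fun c a ha => ⟨ha, rfl⟩
    | succ k ih =>
      intro c a ha
      rw [follow, frc_eq]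
      have hl : lm (gensL.getD (c % 4) []) a < 4096 := lm_lt (k := 12) _ _ fun x hx => by
        have hc : c % 4 < 4 := Nat.mod_lt _ (by norm_num)
        generalize c % 4 = j at hc hx
        exact (by decide +kernel : ∀ j : Fin 4, ∀ x ∈ gensL.getD j.1 [], x < 2 ^ 12) ⟨j, hc⟩ x hx
      obtain ⟨h1, h2⟩ := ih (c / 4) _ hl
      exact ⟨h1, h2.trans (hstep _ (Nat.mod_lt _ (by norm_num)) a ha)⟩
  set a := q (dec 1) with ha
  set b := q (dec 6) with hb
  set c := q (dec 17) with hc
  have hval : ∀ n, n < 4096 → q (dec n) = cand a b c n := by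
    intro n hn
    have h := List.all_eq_true.1 rows_ok n (List.mem_range.2 hn)
    rw [rowOK, frc_eq, Bool.and_eq_true, decide_eq_true_eq, beq_iff_eq] at h
    have hr : orbRep.getD (orbI n) 0 < 4096 := by
      have : orbI n < 4 := h.1
      interval_cases orbI n <;> decide
    have h2 := (hfol (row n / 2 ^ 24 % 16) (row n % 2 ^ 24) _ hr).2
    rw [show row n / 2 ^ 28 = orbI n from rfl] at h
    rw [h.2] at h2
    rw [h2]
    have h4 : orbI n < 4 := h.1
    unfold cand
    interval_cases orbI n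
    · exact (congrArg q dec_zero).trans h0
    · exact ha.symm
    · exact hb.symm
    · exact hc.symm
  have hB : ∀ m n, m < 4096 → n < 4096 → q (dec m + dec n) + q (dec m) + q (dec n) = candB a b c m n := by
    intro m n hm hn
    rw [candB, ← dec_xor, hval _ hm, hval _ hn, hval _ (Nat.xor_lt_two_pow (n := 12) hm hn)]
  rcases cand_bad a b c with ⟨e1, e2, e3⟩ | ⟨e1, e2, e3⟩ | h
  · exfalso
    have h1 : ∀ v, q v = 0 := fun v => by
      rw [← dec_enc v, hval _ (enc_lt v), e1, e2, e3]
      unfold cand; split_ifs <;> rfl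
    have := hnd (dec 1) fun v => by rw [h1, h1, h1]; rfl
    exact absurd (congrArg enc this) (by decide +kernel)
  · intro v
    rw [← dec_enc v, hval _ (enc_lt v), e1, e2, e3,
      beq_iff_eq.1 (List.all_eq_true.1 cand_qs _ (List.mem_range.2 (enc_lt v)))]
    rw [apply_dec chg (enc_lt v), imgs_chg.1]
  · exfalso
    obtain ⟨t1, t2, t3, hne⟩ := h
    refine hne ?_
    rw [← hB _ _ t1 (Nat.xor_lt_two_pow (n := 12) t2 t3), ← hB _ _ t1 t2, ← hB _ _ t1 t3, dec_xor]
    exact hadd _ _ _

end CfsgLib.Sporadic.J4Type
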