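import Cfsg.Agent.Lib.Sporadic.J4Type.Fast

/-!
# The normaliser of order five
-/

set_option autoImplicit false
set_option maxRecDepth 40000

namespace CfsgLib.Sporadic.J4Type

open CfsgLib.Sporadic.LargeFischer CfsgLib.Sporadic.LargeFischer.Hexa

/-- The fourth power of `xC`. -/
def xFour : List ℕ := [256, 512, 857, 430, 915, 481, 187, 221, 748, 884, 1024, 2048]

theorem xFour_eq : powL xC 4 = xFour := by decide +kernel

/-- A candidate for the element of order five. -/
def ylist (m : ℕ) : List ℕ := mlist xFour omc m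

/-- An element commuting with `xC`. -/
def clist (m : ℕ) : List ℕ := mlist xC omc m

/-- A witness conjugates the standard element to a candidate. -/
def yOK (m : ℕ) : Bool :=
  let L := mlistF xFour omc m
  !(itF L 5 1 == 1) || !fixBits L 5 || L == idL || yWit.any fun w =>
    (w.1 == m) && okPair (mlistF xC omc w.2.1) (mlistF xC omc w.2.2) && linL (mlistF xC omc w.2.1) &&
      (cmpF (mlistF xC omc w.2.1) xC == cmpF xC (mlistF xC omc w.2.1)) && (mlistF xC omc w.2.1).length == 12 &&
      (cmpF (mlistF xC omc w.2.2) (cmpF L (mlistF xC omc w.2.1)) == yC)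

theorem y_all : (List.range 4096).all yOK = true := by decide +kernel

theorem x4_facts : ((List.range 4096).all fun n => decide (lm xFour n ^^^ n < 1024) && (!(lm xFour n == n) || n % 1024 == 0)) = true := by
  decide +kernel

theorem list12 {L : List ℕ} (h : L.length = 12) : (List.range 12).map (fun i => L.getD i 0) = L :=
  List.ext_getElem (by simp [h]) fun j hj hj' => by
    rw [List.getElem_map, List.getElem_range, List.getD_eq_getElem _ _ hj']

/-- The element of order five is standard after a change commuting with the element of order eleven. -/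
theorem exists_y (X Y : V6 ≃ₗ[ZMod 2] V6) (hX : imgs X = xC) (hlin : ∀ v, Y (omV v) = omV (Y v))
    (h5 : Y ^ 5 = 1) (h1 : Y ≠ 1) (hr : Y * X = X ^ 4 * Y) :
    ∃ C : V6 ≃ₗ[ZMod 2] V6, (∀ v, C (omV v) = omV (C v)) ∧ C * X = X * C ∧ imgs (C⁻¹ * Y * C) = yC := by
  obtain ⟨m, hm, e⟩ := imgs_mlist Y X hX 4 omc hr (fun n hn => imgs_omc Y hlin hn)
    (fun n hn => by
      rw [xFour_eq]
      have := List.all_eq_true.1 x4_facts n (List.mem_range.2 hn)
      rw [Bool.and_eq_true, decide_eq_true_eq] at this
      exact this.1)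
    (fun n hn hfix => by
      rw [xFour_eq] at hfix
      have := List.all_eq_true.1 x4_facts n (List.mem_range.2 hn)
      rw [Bool.and_eq_true, Bool.or_eq_true] at this
      rcases this.2 with h | h
      · rw [Bool.not_eq_true', beq_eq_false_iff_ne] at h
        exact absurd hfix h
      · exact beq_iff_eq.1 h)
  rw [xFour_eq] at e
  change imgs Y = ylist m at e
  have hne : ylist m ≠ idL := fun h => h1 (imgs_inj (by rw [e, h, imgs_one]))
  have hfix : fixBits (ylist m) 5 = true := e ▸ fixBits_of Y h5
  have hone : itF (ylist m) 5 1 = 1 := e ▸ itF_one Y h5 (by norm_num)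
  have h := List.all_eq_true.1 y_all m (List.mem_range.2 hm)
  simp only [yOK, mlistF_eq, cmpF_eq] at h
  change (!(itF (ylist m) 5 1 == 1) || !fixBits (ylist m) 5 || ylist m == idL || _) = true at h
  rw [hfix, hone, beq_eq_false_iff_ne.2 hne] at h
  simp only [beq_self_eq_true, Bool.not_true, Bool.false_or, beq_iff_eq, List.any_eq_true, Bool.and_eq_true] at h
  obtain ⟨w, -, ⟨⟨⟨⟨-, hok⟩, hl⟩, hcx⟩, hlen⟩, hconj⟩ := h
  set C := mkE (mlist xC omc w.2.1) (mlist xC omc w.2.2) (okPair_spec hok) with hC
  have hCi : imgs C = mlist xC omc w.2.1 := imgs_mkE _ (list12 hlen)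
  have hCs : imgs C⁻¹ = mlist xC omc w.2.2 := by
    have hlen' : (mlist xC omc w.2.2).length = 12 := by simp [mlist, orbitL]
    refine List.ext_getElem (by simp [imgs, hlen']) fun j hj hj' => ?_
    simp only [imgs, List.getElem_map, List.getElem_range]
    show enc (lmV (mlist xC omc w.2.2) _) = _
    have hj12 : j < 12 := by rwa [hlen'] at hj'
    rw [lmV, enc_dec (Nat.pow_lt_pow_right (by norm_num : 1 < 2) hj12 |>.trans_eq (by norm_num)),
      enc_dec (lm_lt (k := 12) _ _ (okPair_spec hok).2.2), lm_bit, List.getD_eq_getElem _ _ hj']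
  refine ⟨C, linL_spec (by rw [hCi]; exact hl), imgs_inj ?_, ?_⟩
  · rw [imgs_mul, imgs_mul, hCi, hX, hcx]
  · rw [imgs_conj, hCi, hCs, e]
    exact hconj

end CfsgLib.Sporadic.J4Type
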