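import Cfsg.Agent.Lib.Sporadic.J4Type.ModuleForm
import Cfsg.Agent.Lib.Sporadic.J4Type.ModuleY

/-!
# Standard coordinates for the module of the triple cover of `M₂₂`
-/

set_option autoImplicit false
set_option maxRecDepth 40000

namespace CfsgLib.Sporadic.J4Type

open CfsgLib.Sporadic.LargeFischer CfsgLib.Sporadic.LargeFischer.Hexa

variable {V : Type*} [AddCommGroup V] [Module (ZMod 2) V]

/-- Transport to coordinates. -/
def cj (T : V6 ≃ₗ[ZMod 2] V) : (V ≃ₗ[ZMod 2] V) →* (V6 ≃ₗ[ZMod 2] V6) where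
  toFun g := (T.trans g).trans T.symm
  map_one' := LinearEquiv.ext fun v => T.symm_apply_apply v
  map_mul' g h := LinearEquiv.ext fun v => by
    show T.symm (g (h (T v))) = T.symm (g (T (T.symm (h (T v)))))
    rw [T.apply_symm_apply]

theorem cj_apply (T : V6 ≃ₗ[ZMod 2] V) (g : V ≃ₗ[ZMod 2] V) (v : V6) : cj T g v = T.symm (g (T v)) := rfl

theorem cj_trans (T : V6 ≃ₗ[ZMod 2] V) (C : V6 ≃ₗ[ZMod 2] V6) (g : V ≃ₗ[ZMod 2] V) :
    cj (C.trans T) g = C⁻¹ * cj T g * C := rfl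

/-- The element of order eleven in the final coordinates. -/
def cX : List ℕ := cmpL chgL (cmpL xC chgI)

/-- The element of order five in the final coordinates. -/
def cY : List ℕ := cmpL chgL (cmpL yC chgI)

/-- The element of order four in the final coordinates. -/
def cU : List ℕ := cmpL chgL (cmpL uC chgI)

/-- Semilinearity for one of the two identifications. -/
def SemiT (T : V6 ≃ₗ[ZMod 2] V) (w : V ≃ₗ[ZMod 2] V) : Prop :=
  (∀ u, T (omV u) = w (T u)) ∨ ∀ u, T (omV u) = w (w (T u))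

theorem SemiT.trans {T : V6 ≃ₗ[ZMod 2] V} {w : V ≃ₗ[ZMod 2] V} (h : SemiT T w) {C : V6 ≃ₗ[ZMod 2] V6}
    (hC : ∀ v, C (omV v) = omV (C v)) : SemiT (C.trans T) w :=
  h.imp (fun h u => by show T (C (omV u)) = _; rw [hC, h]; rfl) fun h u => by show T (C (omV u)) = _; rw [hC, h]; rfl

theorem SemiT.lin {T : V6 ≃ₗ[ZMod 2] V} {w : V ≃ₗ[ZMod 2] V} (h : SemiT T w) {g : V ≃ₗ[ZMod 2] V}
    (hg : ∀ v, g (w v) = w (g v)) : ∀ v, cj T g (omV v) = omV (cj T g v) := fun v => T.injective (by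
  rw [cj_apply, cj_apply, T.apply_symm_apply]
  rcases h with h | h <;> simp only [h, hg, T.apply_symm_apply])

theorem SemiT.scal_mem {T : V6 ≃ₗ[ZMod 2] V} {w : V ≃ₗ[ZMod 2] V} (h : SemiT T w) (hw : Scal w) (j : ℕ) :
    imgs (cj T (w ^ j)) ∈ scalL := by
  have hom : ∀ g : V6 ≃ₗ[ZMod 2] V6, ∀ f : ℕ → ℕ, (∀ n, n < 4096 → g (dec n) = dec (f n)) →
      (∀ i, i < 12 → f (2 ^ i) < 4096) → imgs g = (List.range 12).map fun i => f (2 ^ i) := fun g f hgf hlt =>
    List.map_congr_left fun i hi => by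
      have h2 : 2 ^ i < 4096 := Nat.pow_lt_pow_right (by norm_num : 1 < 2) (List.mem_range.1 hi) |>.trans_eq (by norm_num)
      rw [hgf _ h2, enc_dec (hlt i (List.mem_range.1 hi))]
  have hone : imgs (cj T w) ∈ scalL := by
    rcases h with h | h
    · have e : ∀ v, cj T w v = omV v := fun v => T.injective (by rw [cj_apply, T.apply_symm_apply, h])
      rw [hom (cj T w) omc (fun n hn => by rw [e, omV_dec hn]) fun i hi => (omc_fin ⟨2 ^ i,
        Nat.pow_lt_pow_right (by norm_num : 1 < 2) hi |>.trans_eq (by norm_num)⟩).1]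
      simp [scalL]
    · have e : ∀ v, cj T w v = omV (omV v) := fun v => T.injective (by
        rw [cj_apply, T.apply_symm_apply, h, h, hw.cube])
      have hl : ∀ i, i < 12 → omc (omc (2 ^ i)) < 4096 := fun i hi => (omc_fin ⟨_, (omc_fin ⟨2 ^ i,
        Nat.pow_lt_pow_right (by norm_num : 1 < 2) hi |>.trans_eq (by norm_num)⟩).1⟩).1
      rw [hom (cj T w) (fun n => omc (omc n))
        (fun n hn => by rw [e, omV_dec hn, omV_dec (omc_fin ⟨n, hn⟩).1]) hl]
      simp [scalL]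
  induction j with
  | zero => rw [pow_zero, map_one, imgs_one]; simp [scalL]
  | succ j ih =>
    rw [pow_succ, map_mul, imgs_mul]
    exact (by decide +kernel : ∀ a ∈ scalL, ∀ b ∈ scalL, cmpL a b ∈ scalL) _ ih _ hone

variable [Finite V]

/-- The module has standard coordinates. -/
theorem exists_coords (hV : Nat.card V = 4096) {w : V ≃ₗ[ZMod 2] V} (hw : Scal w) (X Y U : V ≃ₗ[ZMod 2] V)
    (hX : ∀ v, X (w v) = w (X v)) (hY : ∀ v, Y (w v) = w (Y v)) (hU : ∀ v, U (w v) = w (U v))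
    (hX11 : X ^ 11 = 1) (hX1 : X ≠ 1) (hY5 : Y ^ 5 = 1) (hY1 : Y ≠ 1) (hU4 : U ^ 4 = 1)
    (hYX : Y * X = X ^ 4 * Y) (hUY : U * Y = Y ^ 2 * U) (hXU : ∃ j : ℕ, (X * U) ^ 5 = w ^ j)
    (q : V → ZMod 2) (hqX : ∀ v, q (X v) = q v) (hqY : ∀ v, q (Y v) = q v) (hqU : ∀ v, q (U v) = q v)
    (hqw : ∀ v, q (w v) = q v) (h0 : q 0 = 0)
    (hadd : ∀ u v t, q (u + (v + t)) + q u + q (v + t) = (q (u + v) + q u + q v) + (q (u + t) + q u + q t))
    (hnd : ∀ u, (∀ v, q (u + v) + q u + q v = 0) → u = 0) :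
    ∃ T : V6 ≃ₗ[ZMod 2] V, SemiT T w ∧ imgs (cj T X) = cX ∧ imgs (cj T Y) = cY ∧ imgs (cj T U) = cU ∧
      ∀ u, q (T u) = qs u := by
  obtain ⟨T₀, hT₀, hx₀⟩ := exists_companion_std hV hw X hX11 hX1 hX
  replace hT₀ : SemiT T₀ w := hT₀
  change imgs (cj T₀ X) = xC at hx₀
  have hY1' : cj T₀ Y ≠ 1 := fun e => hY1 (LinearEquiv.ext fun v => by
    have := congrArg T₀ (LinearEquiv.congr_fun e (T₀.symm v))
    rw [cj_apply, T₀.apply_symm_apply, LinearEquiv.coe_one, id_eq, T₀.apply_symm_apply] at this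
    exact this)
  obtain ⟨C, hC, hCX, hCy⟩ := exists_y (cj T₀ X) (cj T₀ Y) hx₀ (hT₀.lin hY) (by rw [← map_pow, hY5, map_one]) hY1'
    (by rw [← map_mul, hYX, map_mul, map_pow])
  set T₁ := C.trans T₀
  have hT₁ : SemiT T₁ w := hT₀.trans hC
  have hx₁ : cj T₁ X = cj T₀ X := by rw [cj_trans, mul_assoc, ← hCX, inv_mul_cancel_left]
  obtain ⟨j, hj⟩ := hXU
  obtain ⟨D, hD, hDX, hDY, hDu⟩ := exists_u (cj T₁ X) (cj T₁ Y) (cj T₁ U) (by rw [hx₁, hx₀])
    (by rw [cj_trans]; exact hCy) (hT₁.lin hU) (by rw [← map_pow, hU4, map_one])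
    (by rw [← map_mul, hUY, map_mul, map_pow]) (by rw [← map_mul, ← map_pow, hj]; exact hT₁.scal_mem hw j)
  set T₂ := D.trans T₁
  have hT₂ : SemiT T₂ w := hT₁.trans hD
  have hx₂ : imgs (cj T₂ X) = xC := by rw [cj_trans, mul_assoc, ← hDX, inv_mul_cancel_left, hx₁, hx₀]
  have hy₂ : imgs (cj T₂ Y) = yC := by rw [cj_trans, mul_assoc, ← hDY, inv_mul_cancel_left, cj_trans]; exact hCy
  have hu₂ : imgs (cj T₂ U) = uC := by rw [cj_trans]; exact hDu
  have hform := form_unique (cj T₂ X) (cj T₂ Y) (cj T₂ U) hx₂ hy₂ hu₂ (fun v => q (T₂ v))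
    (fun v => ⟨by simp only [cj_apply, T₂.apply_symm_apply, hqX], by simp only [cj_apply, T₂.apply_symm_apply, hqY],
      by simp only [cj_apply, T₂.apply_symm_apply, hqU], by
        rcases hT₂ with h | h <;> simp only [h, hqw]⟩)
    (by simp only [map_zero, h0]) (fun u v t => by simp only [map_add]; exact hadd _ _ _)
    (fun u hu => T₂.map_eq_zero_iff.1 (hnd _ fun v => by simpa [map_add] using hu (T₂.symm v)))
  have hcinv : ∀ v, chg⁻¹ (omV v) = omV (chg⁻¹ v) := fun v => chg.injective (by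
    show chg (chg.symm (omV v)) = chg (omV (chg.symm v))
    rw [chg_lin, chg.apply_symm_apply, chg.apply_symm_apply])
  refine ⟨(chg⁻¹).trans T₂, hT₂.trans hcinv, ?_, ?_, ?_, fun u => ?_⟩
  · rw [cj_trans, inv_inv, mul_assoc, imgs_mul, imgs_mul, imgs_chg.1, imgs_chg.2, hx₂]; rfl
  · rw [cj_trans, inv_inv, mul_assoc, imgs_mul, imgs_mul, imgs_chg.1, imgs_chg.2, hy₂]; rfl
  · rw [cj_trans, inv_inv, mul_assoc, imgs_mul, imgs_mul, imgs_chg.1, imgs_chg.2, hu₂]; rfl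
  · show q (T₂ (chg.symm u)) = qs u
    rw [show q (T₂ (chg.symm u)) = qs (chg (chg.symm u)) from hform _, chg.apply_symm_apply]

end CfsgLib.Sporadic.J4Type
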