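import Cfsg.Agent.Lib.Sporadic.J4Type.Fast

/-!
# The element of order four
-/

set_option autoImplicit false
set_option maxRecDepth 40000

namespace CfsgLib.Sporadic.J4Type

open CfsgLib.Sporadic.LargeFischer CfsgLib.Sporadic.LargeFischer.Hexa

theorem list_twelve {L : List ℕ} (h : L.length = 12) : (List.range 12).map (fun i => L.getD i 0) = L :=
  List.ext_getElem (by simp [h]) fun j hj hj' => by
    rw [List.getElem_map, List.getElem_range, List.getD_eq_getElem _ _ hj']

theorem imgs_mkE_inv {L L' : List ℕ} (h) (hlen : L'.length = 12) : imgs (mkE L L' h)⁻¹ = L' := by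
  refine List.ext_getElem (by simp [imgs, hlen]) fun j hj hj' => ?_
  simp only [imgs, List.getElem_map, List.getElem_range]
  show enc (lmV L' _) = _
  have hj12 : j < 12 := by rwa [hlen] at hj'
  rw [lmV, enc_dec (Nat.pow_lt_pow_right (by norm_num : 1 < 2) hj12 |>.trans_eq (by norm_num)),
    enc_dec (lm_lt (k := 12) _ _ h.2.2), lm_bit, List.getD_eq_getElem _ _ hj']

/-- The square of the element of order five in adapted coordinates. -/
def yB2 : List ℕ := [1, 2, 4, 8, 144, 224, 160, 240, 3328, 1536, 3840, 1280]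

/-- The scalars. -/
def scalL : List (List ℕ) :=
  [idL, (List.range 12).map (fun i => omc (2 ^ i)), (List.range 12).map (fun i => omc (omc (2 ^ i)))]

theorem chg_ok : okPair bChg bChgI = true ∧ linL bChg = true ∧ bChg.length = 12 ∧ bChgI.length = 12 ∧
    cmpL bChgI (cmpL yC bChg) = yB ∧ cmpL yB yB = yB2 ∧
    lm yB 1 = 1 ∧ lm yB 4 = 4 ∧ lm yB 16 = 64 ∧ lm yB 256 = 1024 ∧
    lm yB2 16 = omc 64 ^^^ 16 ∧ lm yB2 256 = omc (omc 1024) ^^^ 256 ∧
    omc 1 = 2 ∧ omc 4 = 8 ∧ omc 16 = 32 ∧ omc 64 = 128 ∧ omc 256 = 512 ∧ omc 1024 = 2048 := by decide +kernel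

theorem y2_facts : ((List.range 4096).all fun n =>
    (!(lm yB2 n == n) || decide (n < 16)) &&
    (!(lm yB2 (lm yB2 n) == (omc (lm yB2 n) ^^^ n)) || n % 256 == 0) &&
    (!(lm yB2 (lm yB2 n) == (omc (omc (lm yB2 n)) ^^^ n)) || (decide (n < 256) && n % 16 == 0))) = true := by
  decide +kernel

/-- A candidate for the element of order four. -/
def ulist (g ab : ℕ) : List ℕ :=
  frc (ab % 16 * 256) fun a => frc (ab / 16 * 16) fun b => frc (lm yB2 a) fun a' => frc (lm yB2 b) fun b' =>
    [g % 16, omc (g % 16), g / 16, omc (g / 16), a, omc a, a', omc a', b, omc b, b', omc b']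

/-- The fourth power fixes some bits. -/
def fourBits (L : List ℕ) (is : List ℕ) : Bool := is.all fun i => itF L 4 (2 ^ i) == 2 ^ i

theorem g_all : ((List.range 256).all fun g =>
    !(fourBits (ulist g 0) [0, 2]) || gList.contains g) = true := by decide +kernel

theorem ab_all : ((List.range 256).all fun ab =>
    !(fourBits (ulist 0 ab) [4, 6, 8, 10]) || abList.contains ab) = true := by decide +kernel

/-- A witness conjugates the standard element to a candidate. -/
def uOK (g ab : ℕ) : Bool :=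
  let L := cmpF bChg (cmpF (ulist g ab) bChgI)
  !(fixBits (ulist g ab) 4) || !(scalL.any fun s => (List.range 12).all fun i => itF (cmpF xC L) 5 (2 ^ i) == s.getD i 0) ||
    uWit.any fun w => (w.1 == g) && (w.2.1 == ab) && okPair (mlistF xC omc w.2.2.1) (mlistF xC omc w.2.2.2) &&
      linL (mlistF xC omc w.2.2.1) && (cmpF (mlistF xC omc w.2.2.1) xC == cmpF xC (mlistF xC omc w.2.2.1)) &&
      (cmpF (mlistF xC omc w.2.2.1) yC == cmpF yC (mlistF xC omc w.2.2.1)) &&
      (cmpF (mlistF xC omc w.2.2.2) (cmpF L (mlistF xC omc w.2.2.1)) == uC)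

theorem u_all : (gList.all fun g => abList.all fun ab => uOK g ab) = true := by decide +kernel

theorem lm_take : ∀ (L : List ℕ) (k n : ℕ), n < 2 ^ k → lm L n = lm (L.take k) n
  | [], _, _, _ => by simp [lm]
  | x :: L, 0, n, hn => by
    have : n = 0 := by simpa using hn
    subst this
    simp [lm_zero]
  | x :: L, k + 1, n, hn => by
    have h2 : n / 2 < 2 ^ k := by rw [pow_succ] at hn; omega
    rw [List.take_succ_cons, lm, lm, lm_take L k (n / 2) h2]

theorem lm_drop : ∀ (L : List ℕ) (k n : ℕ), lm L (n * 2 ^ k) = lm (L.drop k) n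
  | L, 0, n => by simp
  | [], k + 1, n => by simp [lm]
  | x :: L, k + 1, n => by
    rw [List.drop_succ_cons, lm, show n * 2 ^ (k + 1) = 2 * (n * 2 ^ k) by ring,
      Nat.mul_div_cancel_left _ (by norm_num : 0 < 2), lm_drop L k n]
    simp

theorem lm_mod16 : ∀ (L : List ℕ) (n : ℕ), (∀ x ∈ L, x % 16 = 0) → lm L n % 16 = 0
  | [], _, _ => rfl
  | x :: L, n, h => by
    rw [lm, show 16 = 2 ^ 4 from rfl, Nat.xor_mod_two_pow, show 2 ^ 4 = 16 from rfl, lm_mod16 L (n / 2) fun y hy => h y (List.mem_cons_of_mem _ hy)]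
    split
    · rw [h x List.mem_cons_self]; rfl
    · rfl

theorem ab_mod : ((List.range 256).all fun ab => ((ulist 0 ab).drop 4).all fun x => x % 16 == 0) = true := by
  decide +kernel

theorem g_lt : ((List.range 256).all fun g => ((ulist g 0).take 4).all fun x => decide (x < 16)) = true := by
  decide +kernel

theorem four_split {g ab : ℕ} (hg : g < 256) (hab : ab < 256) (h : fixBits (ulist g ab) 4 = true) :
    g ∈ gList ∧ ab ∈ abList := by
  have h' : ∀ i, i < 12 → itF (ulist g ab) 4 (2 ^ i) = 2 ^ i := fun i hi =>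
    beq_iff_eq.1 (List.all_eq_true.1 h i (List.mem_range.2 hi))
  have htake : (ulist g ab).take 4 = (ulist g 0).take 4 := by simp [ulist, frc_eq]
  have hdrop : (ulist g ab).drop 4 = (ulist 0 ab).drop 4 := by simp [ulist, frc_eq]
  have hsmall : ∀ k n, n < 16 → itF (ulist g ab) k n = itF (ulist g 0) k n ∧ itF (ulist g 0) k n < 16 := by
    intro k
    induction k with
    | zero => exact fun n hn => ⟨rfl, hn⟩
    | succ k ih =>
      intro n hn
      obtain ⟨e1, e2⟩ := ih n hn
      rw [itF_succ, itF_succ, e1, lm_take _ 4 _ e2, lm_take (ulist g 0) 4 _ e2, htake]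
      refine ⟨rfl, lm_lt (k := 4) _ _ fun x hx => ?_⟩
      exact of_decide_eq_true (List.all_eq_true.1 (List.all_eq_true.1 g_lt g (List.mem_range.2 hg)) x hx)
  have hbig : ∀ k n, n % 16 = 0 → itF (ulist g ab) k n = itF (ulist 0 ab) k n ∧ itF (ulist 0 ab) k n % 16 = 0 := by
    intro k
    induction k with
    | zero => exact fun n hn => ⟨rfl, hn⟩
    | succ k ih =>
      intro n hn
      obtain ⟨e1, e2⟩ := ih n hn
      obtain ⟨q, hq⟩ : ∃ q, itF (ulist 0 ab) k n = q * 2 ^ 4 := ⟨_, (Nat.div_mul_cancel (Nat.dvd_of_mod_eq_zero e2)).symm⟩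
      rw [itF_succ, itF_succ, e1, hq, lm_drop, lm_drop, hdrop]
      refine ⟨rfl, lm_mod16 _ _ fun x hx => ?_⟩
      exact beq_iff_eq.1 (List.all_eq_true.1 (List.all_eq_true.1 ab_mod ab (List.mem_range.2 hab)) x hx)
  constructor
  · have e := List.all_eq_true.1 g_all g (List.mem_range.2 hg)
    have hf : fourBits (ulist g 0) [0, 2] = true := List.all_eq_true.2 fun i hi => by
      have hi' : i < 4 := by simp at hi; omega
      have h2 : 2 ^ i < 16 := (Nat.pow_lt_pow_right (by norm_num : 1 < 2) hi').trans_eq (by norm_num)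
      rw [beq_iff_eq, ← (hsmall 4 _ h2).1, h' i (by omega)]
    rw [hf] at e
    simpa using e
  · have e := List.all_eq_true.1 ab_all ab (List.mem_range.2 hab)
    have hf : fourBits (ulist 0 ab) [4, 6, 8, 10] = true := List.all_eq_true.2 fun i hi => by
      have hi' : 4 ≤ i ∧ i < 12 := by simp at hi; omega
      have h2 : 2 ^ i % 16 = 0 := by
        rw [show i = 4 + (i - 4) by omega, pow_add]; exact Nat.mul_mod_right _ _
      rw [beq_iff_eq, ← (hbig 4 _ h2).1, h' i hi'.2]
    rw [hf] at e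
    simpa using e

/-- The element of order four is standard after a change commuting with the two others. -/
theorem exists_u (X Y U : V6 ≃ₗ[ZMod 2] V6) (hX : imgs X = xC) (hY : imgs Y = yC)
    (hlin : ∀ v, U (omV v) = omV (U v)) (h4 : U ^ 4 = 1) (hr : U * Y = Y ^ 2 * U)
    (hxu : imgs ((X * U) ^ 5) ∈ scalL) :
    ∃ C : V6 ≃ₗ[ZMod 2] V6, (∀ v, C (omV v) = omV (C v)) ∧ C * X = X * C ∧ C * Y = Y * C ∧
      imgs (C⁻¹ * U * C) = uC := by
  obtain ⟨hok, hSl, hS12, hSI12, hyB, hyB2, f1, f4, f16, f256, a16, a256, o1, o4, o16, o64, o256, o1024⟩ := chg_ok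
  set S := mkE bChg bChgI (okPair_spec hok) with hSdef
  have hS : imgs S = bChg := imgs_mkE _ (list_twelve hS12)
  have hSi : imgs S⁻¹ = bChgI := imgs_mkE_inv _ hSI12
  have hSlin : ∀ v, S (omV v) = omV (S v) := linL_spec (by rw [hS]; exact hSl)
  have hSilin : ∀ v, S⁻¹ (omV v) = omV (S⁻¹ v) := fun v => S.injective (by
    show S (S.symm (omV v)) = S (omV (S.symm v))
    rw [hSlin, S.apply_symm_apply, S.apply_symm_apply])
  set Z := S⁻¹ * U * S with hZ
  set B := S⁻¹ * Y * S with hB
  have hBi : imgs B = yB := by rw [hB, imgs_conj, hY, hS, hSi, hyB]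
  have hB2 : imgs (B ^ 2) = yB2 := by rw [pow_two, imgs_mul, hBi, hyB2]
  have hrel : Z * B = B ^ 2 * Z := by
    rw [hZ, hB, pow_two, show S⁻¹ * U * S * (S⁻¹ * Y * S) = S⁻¹ * (U * Y) * S by group, hr, pow_two]
    group
  have hZlin : ∀ v, Z (omV v) = omV (Z v) := fun v => by
    show S⁻¹ (U (S (omV v))) = omV (S⁻¹ (U (S v)))
    rw [hSlin, hlin, hSilin]
  have hZ4 : Z ^ 4 = 1 := by
    rw [hZ, show S⁻¹ * U * S = S⁻¹ * U * (S⁻¹)⁻¹ by rw [inv_inv], conj_pow, h4]; group
  set L := imgs Z with hL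
  have hlt : ∀ n, lm L n < 4096 := fun n => lm_lt (k := 12) _ _ (imgs_lt Z)
  have hLB : ∀ n, n < 4096 → lm L (lm yB n) = lm yB2 (lm L n) := fun n hn => by
    have e := congrArg enc (LinearEquiv.congr_fun hrel (dec n))
    simp only [LinearEquiv.mul_apply, enc_apply, hBi, hB2, enc_dec hn] at e
    exact e
  have hom : ∀ n, n < 4096 → lm L (omc n) = omc (lm L n) := fun n hn => imgs_omc Z hZlin hn
  have key := fun n => List.all_eq_true.1 y2_facts _ (List.mem_range.2 (hlt n))
  simp only [Bool.and_eq_true, Bool.or_eq_true, Bool.not_eq_true', beq_eq_false_iff_ne, ne_eq, beq_iff_eq,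
    decide_eq_true_eq] at key
  have n1 : lm L 1 < 16 := (key 1).1.1.resolve_left fun e => e (by rw [← hLB 1 (by norm_num), f1])
  have n4 : lm L 4 < 16 := (key 4).1.1.resolve_left fun e => e (by rw [← hLB 4 (by norm_num), f4])
  have e16 : lm L (lm yB2 16) = lm yB2 (lm yB2 (lm L 16)) := by
    rw [show lm yB2 16 = lm yB (lm yB 16) by rw [f16]; decide +kernel, hLB _ (by rw [f16]; norm_num), hLB 16 (by norm_num)]
  have e256 : lm L (lm yB2 256) = lm yB2 (lm yB2 (lm L 256)) := by
    rw [show lm yB2 256 = lm yB (lm yB 256) by rw [f256]; decide +kernel, hLB _ (by rw [f256]; norm_num),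
      hLB 256 (by norm_num)]
  have n16 : lm L 16 % 256 = 0 := (key 16).1.2.resolve_left fun e => e (by
    rw [← e16, a16, lm_xor, hom 64 (by norm_num), ← f16, hLB 16 (by norm_num)])
  have n256 : lm L 256 < 256 ∧ lm L 256 % 16 = 0 := (key 256).2.resolve_left fun e => e (by
    rw [← e256, a256, lm_xor, hom (omc 1024) (by rw [o1024]; norm_num), hom 1024 (by norm_num), ← f256,
      hLB 256 (by norm_num)])
  set g := lm L 1 + 16 * lm L 4 with hg
  set ab := lm L 16 / 256 + 16 * (lm L 256 / 16) with hab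
  have h16 := hlt 16
  have hLeq : L = ulist g ab := by
    have g1 : g % 16 = lm L 1 := by omega
    have g2 : g / 16 = lm L 4 := by omega
    have a1 : ab % 16 * 256 = lm L 16 := by omega
    have b1 : ab / 16 * 16 = lm L 256 := by omega
    rw [ulist, frc_eq, frc_eq, frc_eq, frc_eq, g1, g2, a1, b1]
    have hLl : L = (List.range 12).map fun i => lm L (2 ^ i) :=
      List.ext_getElem (by simp [hL, imgs]) fun j hj hj' => by
        rw [List.getElem_map, List.getElem_range, lm_bit, List.getD_eq_getElem _ _ hj]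
    have p2 : lm L 2 = omc (lm L 1) := by rw [← o1, hom 1 (by norm_num)]
    have p8 : lm L 8 = omc (lm L 4) := by rw [← o4, hom 4 (by norm_num)]
    have p32 : lm L 32 = omc (lm L 16) := by rw [← o16, hom 16 (by norm_num)]
    have p64 : lm L 64 = lm yB2 (lm L 16) := by rw [← f16, hLB 16 (by norm_num)]
    have p128 : lm L 128 = omc (lm yB2 (lm L 16)) := by rw [← o64, hom 64 (by norm_num), p64]
    have p512 : lm L 512 = omc (lm L 256) := by rw [← o256, hom 256 (by norm_num)]
    have p1024 : lm L 1024 = lm yB2 (lm L 256) := by rw [← f256, hLB 256 (by norm_num)]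
    have p2048 : lm L 2048 = omc (lm yB2 (lm L 256)) := by rw [← o1024, hom 1024 (by norm_num), p1024]
    conv_lhs => rw [hLl]
    simp only [List.range, List.range.loop, List.map]
    norm_num [p2, p8, p32, p64, p128, p512, p1024, p2048]
  have hfix : fixBits (ulist g ab) 4 = true := hLeq ▸ fixBits_of Z hZ4
  obtain ⟨hgm, habm⟩ := four_split (by omega) (by omega) hfix
  have h := List.all_eq_true.1 (List.all_eq_true.1 u_all g hgm) ab habm
  have hU : imgs U = cmpF bChg (cmpF (ulist g ab) bChgI) := by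
    rw [cmpF_eq, cmpF_eq, ← hLeq, hL, ← hS, ← hSi, ← imgs_mul, ← imgs_mul, hZ]
    congr 1
    group
  have hsc : (scalL.any fun s => (List.range 12).all fun i => itF (cmpF xC (imgs U)) 5 (2 ^ i) == s.getD i 0) = true := by
    refine List.any_eq_true.2 ⟨_, hxu, List.all_eq_true.2 fun i hi => ?_⟩
    have hi' := List.mem_range.1 hi
    rw [cmpF_eq, ← hX, ← imgs_mul, beq_iff_eq, imgs_getD _ hi',
      itF_imgs _ (Nat.pow_lt_pow_right (by norm_num : 1 < 2) hi' |>.trans_eq (by norm_num))]
  rw [uOK] at h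
  simp only [← hU] at h
  rw [hfix, hsc] at h
  simp only [Bool.not_true, Bool.false_or, List.any_eq_true, Bool.and_eq_true, beq_iff_eq, mlistF_eq, cmpF_eq] at h
  obtain ⟨w, -, ⟨⟨⟨⟨⟨-, -⟩, hwok⟩, hl⟩, hcx⟩, hcy⟩, hconj⟩ := h
  set C := mkE (mlist xC omc w.2.2.1) (mlist xC omc w.2.2.2) (okPair_spec hwok) with hC
  have hlen : ∀ m, (mlist xC omc m).length = 12 := fun m => by simp [mlist, orbitL]
  have hCi : imgs C = mlist xC omc w.2.2.1 := imgs_mkE _ (list_twelve (hlen _))
  have hCs : imgs C⁻¹ = mlist xC omc w.2.2.2 := imgs_mkE_inv _ (hlen _)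
  refine ⟨C, linL_spec (by rw [hCi]; exact hl), imgs_inj ?_, imgs_inj ?_, ?_⟩
  · rw [imgs_mul, imgs_mul, hCi, hX, hcx]
  · rw [imgs_mul, imgs_mul, hCi, hY, hcy]
  · rw [imgs_conj, hCi, hCs, hconj]

end CfsgLib.Sporadic.J4Type
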