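import Cfsg.Agent.Lib.Sporadic.J4Type.OneClassThree
import Cfsg.Prelude.Def_JankoFourType

/-!
# Groups of fourth Janko type: fusion of the elements of order three through `SL₅(2)`
-/

set_option autoImplicit false

namespace CfsgLib.Sporadic.J4Type.OneClassThree

open Subgroup
open scoped Classical

abbrev SL5 : Type := Matrix.SpecialLinearGroup (Fin 5) (ZMod 2)

/-- An element of order three on the first two coordinates. -/
def am : SL5 :=
  ⟨!![0, 1, 0, 0, 0; 1, 1, 0, 0, 0; 0, 0, 1, 0, 0; 0, 0, 0, 1, 0; 0, 0, 0, 0, 1], by decide +kernel⟩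

/-- An element of order three on the next two coordinates. -/
def bm : SL5 :=
  ⟨!![1, 0, 0, 0, 0; 0, 1, 0, 0, 0; 0, 0, 0, 1, 0; 0, 0, 1, 1, 0; 0, 0, 0, 0, 1], by decide +kernel⟩

/-- The exchange of the two pairs. -/
def um : SL5 :=
  ⟨!![0, 0, 1, 0, 0; 0, 0, 0, 1, 0; 1, 0, 0, 0, 0; 0, 1, 0, 0, 0; 0, 0, 0, 0, 1], by decide +kernel⟩

/-- The exchange inside the second pair. -/
def vm : SL5 :=
  ⟨!![1, 0, 0, 0, 0; 0, 1, 0, 0, 0; 0, 0, 0, 1, 0; 0, 0, 1, 0, 0; 0, 0, 0, 0, 1], by decide +kernel⟩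

theorem facts : am ^ 3 = 1 ∧ bm ^ 3 = 1 ∧ am * bm = bm * am ∧ (∀ i : Fin 3, bm ≠ am ^ i.1) ∧
    um * am = bm * um ∧ vm * am = am * vm ∧ bm * vm * bm = vm ∧ am ≠ 1 := by decide +kernel

/-- The glue. -/
theorem glue {G : Type*} [Group G] [Finite G] (z : G) (P : Subgroup G) (hJ : Cfsg.IsOfJankoFourTypeWith z P)
    (hperf : ⁅(centralizer ({z} : Set G) ⊓ centralizer (P : Set G)),
      (centralizer ({z} : Set G) ⊓ centralizer (P : Set G))⁆ = centralizer ({z} : Set G) ⊓ centralizer (P : Set G))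
    (hcz : Nat.card ↥(center ↥(centralizer ({z} : Set G) ⊓ centralizer (P : Set G))) = 6)
    (hq : Cfsg.Spor.IsoM22 (↥(centralizer ({z} : Set G) ⊓ centralizer (P : Set G)) ⧸
      center ↥(centralizer ({z} : Set G) ⊓ centralizer (P : Set G))))
    (hN : normalizer (P : Set G) ≤ centralizer ({z} : Set G))
    {B : Subgroup G} (e : ↥B ≃* SL5) : ∀ x y : G, orderOf x = 3 → orderOf y = 3 → IsConj x y := by
  obtain ⟨hz, -, -, -, ⟨N, -, hNC, -, -, -, hPN⟩, hP, -, hne, -⟩ := hJ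
  set C := centralizer ({z} : Set G) ⊓ centralizer (P : Set G) with hC
  have hcomm : ∀ p ∈ P, ∀ q ∈ P, p * q = q * p := by
    haveI : Fact (Nat.Prime (Nat.card ↥P)) := ⟨by rw [hP]; norm_num⟩
    haveI : IsCyclic ↥P := isCyclic_of_prime_card rfl
    intro p hp q hq'
    exact congrArg Subtype.val (IsCyclic.commGroup.mul_comm (⟨p, hp⟩ : ↥P) ⟨q, hq'⟩)
  have hcent : ∀ g, g ∈ C ↔ ∀ p ∈ P, g * p = p * g := by
    intro g
    refine ⟨fun hg p hp => (mem_centralizer_iff.1 hg.2 p hp).symm, fun hg => ?_⟩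
    have h2 : g ∈ centralizer (P : Set G) := mem_centralizer_iff.2 fun p hp => (hg p hp).symm
    exact ⟨hN (centralizer_le_normalizer _ h2), h2⟩
  have hinv : ∃ g p, p ∈ P ∧ g ∈ normalizer (P : Set G) ∧ g * p * g⁻¹ ≠ p := by
    by_contra hcon
    push Not at hcon
    refine hne (le_antisymm (fun g hg => ⟨hg.1, mem_centralizer_iff.2 fun p hp => ?_⟩)
      (inf_le_inf_left _ (centralizer_le_normalizer _)))
    exact (mul_inv_eq_iff_eq_mul.1 (hcon g p hp hg.2)).symm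
  have h : Hyp C P := ⟨hP, fun p hp => (hcent p).2 fun q hq' => hcomm p hp q hq', hcent, hperf, hcz, hq, hinv⟩
  let f : SL5 →* G := B.subtype.comp e.symm.toMonoidHom
  have hf : Function.Injective f := B.subtype_injective.comp e.symm.injective
  obtain ⟨fa, fb, fc, find, fu, fva, fvb, fne⟩ := facts
  refine h.one_class (a := f am) (b := f bm) (u := f um) (v := f vm) ?_ ?_ ?_ ?_ ?_ ?_ ?_ ?_
  · rw [← map_pow, fa, map_one]
  · rw [← map_pow, fb, map_one]
  · rw [← map_mul, ← map_mul, fc]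
  · intro i e'; exact find i (hf (by rw [map_pow]; exact e'))
  · rw [mul_inv_eq_iff_eq_mul, ← map_mul, ← map_mul, fu]
  · rw [mul_inv_eq_iff_eq_mul, ← map_mul, ← map_mul, fva]
  · rw [mul_inv_eq_iff_eq_mul, eq_inv_mul_iff_mul_eq, ← map_mul, ← map_mul, ← mul_assoc, fvb]
  · intro e'; exact fne (hf (e'.trans (map_one f).symm))

end CfsgLib.Sporadic.J4Type.OneClassThree
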