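import Cfsg.Agent.Lib.Sporadic.J4Type.OneClassThree
import Cfsg.Agent.Lib.Sporadic.J4Type.Eleven
import Cfsg.Agent.Lib.Sporadic.M24Orbits
import Cfsg.Prelude.Def_JankoFourType

/-!
# Groups of fourth Janko type: fusion of the elements of order three through `2¹¹.M₂₄`

`M₂₄` has two commuting elements of order three exchanged by an element that normalises the group they generate,
with a further element centralising the first and inverting the second; they lift through a kernel of 2-power order.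
-/

set_option autoImplicit false

namespace CfsgLib.Sporadic.J4Type.OneClassThree

open Subgroup
open Cfsg CfsgLib.SmallGroups.Golay CfsgLib.Sporadic.M24Orbits
open scoped Classical

/-- Lifting through a kernel of 2-power order: a commutative 3-group normal in the image has an isomorphic copy
whose normaliser covers the image. -/
theorem exists_lift {M Q : Type*} [Group M] [Finite M] [Group Q] (θ : M →* Q) (hθ : Function.Surjective θ)
    (hker : IsPGroup 2 ↥θ.ker) (E : Subgroup Q) [E.Normal] (hE : IsPGroup 3 ↥E)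
    (hcomm : ∀ x ∈ E, ∀ y ∈ E, x * y = y * x) :
    ∃ R : Subgroup M, (∀ r ∈ R, θ r ∈ E) ∧ (∀ r ∈ R, θ r = 1 → r = 1) ∧ (∀ e ∈ E, ∃ r ∈ R, θ r = e) ∧
      ∀ q : Q, ∃ m ∈ normalizer (R : Set M), ∃ e ∈ E, θ m = e * q := by
  haveI : Fact (Nat.Prime 3) := ⟨by norm_num⟩
  haveI : (E.comap θ).Normal := inferInstance
  obtain ⟨S⟩ : Nonempty (Sylow 3 ↥(E.comap θ)) := inferInstance
  set R : Subgroup M := (S : Subgroup ↥(E.comap θ)).map (E.comap θ).subtype with hR
  have hRle : R ≤ E.comap θ := map_subtype_le _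
  have hR3 : IsPGroup 3 ↥R := S.2.map _
  have hinj : ∀ r ∈ R, θ r = 1 → r = 1 := by
    intro r hr h1
    obtain ⟨a, ha⟩ := hR3 ⟨r, hr⟩
    obtain ⟨b, hb⟩ := hker ⟨r, h1⟩
    have ha' : r ^ 3 ^ a = 1 := congrArg Subtype.val ha
    have hb' : r ^ 2 ^ b = 1 := congrArg Subtype.val hb
    rw [← orderOf_eq_one_iff]
    exact Nat.eq_one_of_dvd_coprimes (Nat.Coprime.pow a b (by norm_num))
      (orderOf_dvd_of_pow_eq_one ha') (orderOf_dvd_of_pow_eq_one hb')
  have hf : Function.Surjective (θ.subgroupComap E) :=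
    MonoidHom.subgroupComap_surjective_of_surjective θ E hθ
  have htop : ((S.mapSurjective hf : Sylow 3 ↥E) : Subgroup ↥E) = ⊤ :=
    (hE.to_subgroup ⊤ |> fun h => (S.mapSurjective hf).3 h le_top).symm
  refine ⟨R, fun r hr => hRle hr, hinj, fun e he => ?_, fun q => ?_⟩
  · have : (⟨e, he⟩ : ↥E) ∈ ((S.mapSurjective hf : Sylow 3 ↥E) : Subgroup ↥E) := by rw [htop]; trivial
    obtain ⟨s, hs, hse⟩ := this
    exact ⟨(s : M), ⟨s, hs, rfl⟩, congrArg Subtype.val hse⟩
  · obtain ⟨g, rfl⟩ := hθ q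
    have hg : g ∈ normalizer (R : Set M) ⊔ E.comap θ := by
      rw [hR, Sylow.normalizer_sup_eq_top S]; trivial
    rw [sup_comm] at hg
    obtain ⟨k, hk, m, hm, rfl⟩ := mem_sup_of_normal_left.1 hg
    exact ⟨m, hm, (θ k)⁻¹, inv_mem hk, by rw [map_mul, inv_mul_cancel_left]⟩

/-- The two elements of order three, their exchange, and the element inverting only the second. -/
def ta : List ℕ := [19, 0, 6, 3, 4, 15, 7, 2, 12, 10, 17, 11, 13, 8, 5, 14, 18, 9, 22, 1, 20, 21, 16, 23]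
/-- The second element of order three. -/
def tb : List ℕ := [0, 1, 5, 3, 23, 12, 15, 14, 7, 10, 17, 11, 2, 6, 8, 13, 22, 9, 16, 19, 4, 21, 18, 20]
/-- The exchange. -/
def tu : List ℕ := [4, 20, 5, 11, 19, 15, 12, 2, 7, 10, 17, 3, 14, 8, 6, 13, 22, 9, 18, 23, 0, 21, 16, 1]
/-- The element inverting only the second. -/
def tv : List ℕ := [0, 1, 2, 11, 20, 12, 6, 7, 14, 22, 16, 3, 5, 15, 8, 13, 10, 18, 17, 19, 4, 21, 9, 23]

theorem tables_ok : okTbl ta = true ∧ okTbl tb = true ∧ okTbl tu = true ∧ okTbl tv = true := by decide +kernel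

theorem rels_ok :
    (∀ i : Fin 24, tblNat ta (tblNat ta (tblNat ta i)) = i ∧ tblNat tb (tblNat tb (tblNat tb i)) = i ∧
      tblNat ta (tblNat tb i) = tblNat tb (tblNat ta i) ∧ tblNat tu (tblNat ta i) = tblNat tb (tblNat tu i) ∧
      tblNat tu (tblNat tb i) = tblNat ta (tblNat tu i) ∧ tblNat tv (tblNat ta i) = tblNat ta (tblNat tv i) ∧
      tblNat tb (tblNat tv (tblNat tb i)) = tblNat tv i) ∧
    tblNat ta 4 = 4 ∧ tblNat tb 4 ≠ 4 ∧ tblNat ta 0 ≠ 0 := by decide +kernel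

/-- The configuration in `M₂₄`. -/
theorem exists_config : ∃ a b u v : ↥Cfsg.M24, a ^ 3 = 1 ∧ b ^ 3 = 1 ∧ a * b = b * a ∧ u * a = b * u ∧
    u * b = a * u ∧ v * a = a * v ∧ b * v * b = v ∧ (∀ i : Fin 3, b ≠ a ^ i.1) ∧ a ≠ 1 := by
  obtain ⟨oa, ob, ou, ov⟩ := tables_ok
  obtain ⟨h, h4, h4', h0⟩ := rels_ok
  obtain ⟨a, ha, fa⟩ := exists_elt oa
  obtain ⟨b, hb, fb⟩ := exists_elt ob
  obtain ⟨u, hu, fu⟩ := exists_elt ou
  obtain ⟨v, hv, fv⟩ := exists_elt ov
  have H : ∀ p : GolayPt, _ := fun p => h ⟨idx p, idx_lt p⟩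
  refine ⟨⟨a, ha⟩, ⟨b, hb⟩, ⟨u, hu⟩, ⟨v, hv⟩, ?_, ?_, ?_, ?_, ?_, ?_, ?_, fun i e => ?_, fun e => ?_⟩
  · refine Subtype.ext (Equiv.ext fun p => idx_injective ?_)
    show idx ((a ^ 3) p) = idx p
    simp only [pow_succ, pow_zero, one_mul, Equiv.Perm.mul_apply, fa]
    exact (H p).1
  · refine Subtype.ext (Equiv.ext fun p => idx_injective ?_)
    show idx ((b ^ 3) p) = idx p
    simp only [pow_succ, pow_zero, one_mul, Equiv.Perm.mul_apply, fb]
    exact (H p).2.1
  · refine Subtype.ext (Equiv.ext fun p => idx_injective ?_)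
    show idx ((a * b) p) = idx ((b * a) p)
    simp only [Equiv.Perm.mul_apply, fa, fb]
    exact (H p).2.2.1
  · refine Subtype.ext (Equiv.ext fun p => idx_injective ?_)
    show idx ((u * a) p) = idx ((b * u) p)
    simp only [Equiv.Perm.mul_apply, fa, fb, fu]
    exact (H p).2.2.2.1
  · refine Subtype.ext (Equiv.ext fun p => idx_injective ?_)
    show idx ((u * b) p) = idx ((a * u) p)
    simp only [Equiv.Perm.mul_apply, fa, fb, fu]
    exact (H p).2.2.2.2.1
  · refine Subtype.ext (Equiv.ext fun p => idx_injective ?_)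
    show idx ((v * a) p) = idx ((a * v) p)
    simp only [Equiv.Perm.mul_apply, fa, fv]
    exact (H p).2.2.2.2.2.1
  · refine Subtype.ext (Equiv.ext fun p => idx_injective ?_)
    show idx ((b * v * b) p) = idx (v p)
    simp only [Equiv.Perm.mul_apply, fb, fv]
    exact (H p).2.2.2.2.2.2
  · have e' : b = a ^ i.1 := congrArg Subtype.val e
    have hp : idx (pt 4) = 4 := idx_pt (by norm_num)
    have hfix : ∀ n : ℕ, idx ((a ^ n) (pt 4)) = 4 := by
      intro n
      induction n with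
      | zero => exact hp
      | succ n ih => rw [pow_succ', Equiv.Perm.mul_apply, fa, ih]; exact h4
    apply h4'
    have := fb (pt 4)
    rw [e', hfix, hp] at this
    exact this.symm
  · have e' : a = 1 := congrArg Subtype.val e
    apply h0
    have := fa (pt 0)
    rw [e', Equiv.Perm.one_apply, idx_pt (by norm_num : 0 < 24)] at this
    exact this.symm

/-- All elements of order three are conjugate. -/
theorem glue24 {G : Type*} [Group G] [Finite G] [IsSimpleGroup G] (z : G) (P : Subgroup G)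
    (hJ : Cfsg.IsOfJankoFourTypeWith z P)
    (hperf : ⁅(centralizer ({z} : Set G) ⊓ centralizer (P : Set G)),
      (centralizer ({z} : Set G) ⊓ centralizer (P : Set G))⁆ = centralizer ({z} : Set G) ⊓ centralizer (P : Set G))
    (hcz : Nat.card ↥(center ↥(centralizer ({z} : Set G) ⊓ centralizer (P : Set G))) = 6)
    (hq : Cfsg.Spor.IsoM22 (↥(centralizer ({z} : Set G) ⊓ centralizer (P : Set G)) ⧸
      center ↥(centralizer ({z} : Set G) ⊓ centralizer (P : Set G))))
    (hN : normalizer (P : Set G) ≤ centralizer ({z} : Set G)) :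
    ∀ x y : G, orderOf x = 3 → orderOf y = 3 → IsConj x y := by
  obtain ⟨-, A, θ, hA, -⟩ := exists_data z ⟨P, hJ⟩
  obtain ⟨hz, -, -, -, ⟨N, -, hNC, -, -, -, hPN⟩, hP, -, hne, -⟩ := hJ
  set C := centralizer ({z} : Set G) ⊓ centralizer (P : Set G) with hC
  have hcomm : ∀ p ∈ P, ∀ q ∈ P, p * q = q * p := by
    haveI : Fact (Nat.Prime (Nat.card ↥P)) := ⟨by rw [hP]; norm_num⟩
    haveI : IsCyclic ↥P := isCyclic_of_prime_card rfl
    intro p hp q hq'
    exact congrArg Subtype.val (IsCyclic.commGroup.mul_comm (⟨p, hp⟩ : ↥P) ⟨q, hq'⟩)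
  have hcent : ∀ g, g ∈ C ↔ ∀ p ∈ P, g * p = p * g := by
    intro g
    refine ⟨fun hg p hp => (mem_centralizer_iff.1 hg.2 p hp).symm, fun hg => ?_⟩
    have h2 : g ∈ centralizer (P : Set G) := mem_centralizer_iff.2 fun p hp => (hg p hp).symm
    exact ⟨hN (centralizer_le_normalizer _ h2), h2⟩
  have hinv : ∃ g p, p ∈ P ∧ g ∈ normalizer (P : Set G) ∧ g * p * g⁻¹ ≠ p := by
    by_contra hcon
    push Not at hcon
    refine hne (le_antisymm (fun g hg => ⟨hg.1, mem_centralizer_iff.2 fun p hp => ?_⟩)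
      (inf_le_inf_left _ (centralizer_le_normalizer _)))
    exact (mul_inv_eq_iff_eq_mul.1 (hcon g p hp hg.2)).symm
  have h : Hyp C P := ⟨hP, fun p hp => (hcent p).2 fun q hq' => hcomm p hp q hq', hcent, hperf, hcz, hq, hinv⟩
  obtain ⟨a₀, b₀, u₀, v₀, ha3, hb3, hab, hua, hub, hva, hvb, hind, hne1⟩ := exists_config
  -- the group generated by the configuration
  set T : Subgroup ↥Cfsg.M24 := closure ({a₀, b₀, u₀, v₀} : Set ↥Cfsg.M24) with hT
  set E : Subgroup ↥Cfsg.M24 := zpowers a₀ ⊔ zpowers b₀ with hEdef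
  have hgen : ∀ x ∈ ({a₀, b₀, u₀, v₀} : Set ↥Cfsg.M24), x * a₀ * x⁻¹ ∈ E ∧ x * b₀ * x⁻¹ ∈ E := by
    have hae : a₀ ∈ E := mem_sup_left (mem_zpowers a₀)
    have hbe : b₀ ∈ E := mem_sup_right (mem_zpowers b₀)
    intro x hx
    rcases hx with rfl | rfl | rfl | rfl
    · exact ⟨by rwa [mul_inv_cancel_right], by rwa [hab, mul_inv_cancel_right]⟩
    · exact ⟨by rwa [← hab, mul_inv_cancel_right], by rwa [mul_inv_cancel_right]⟩
    · exact ⟨by rwa [hua, mul_inv_cancel_right], by rwa [hub, mul_inv_cancel_right]⟩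
    · refine ⟨by rwa [hva, mul_inv_cancel_right], ?_⟩
      rw [show x * b₀ * x⁻¹ = b₀⁻¹ by
        rw [mul_inv_eq_iff_eq_mul, eq_inv_mul_iff_mul_eq, ← mul_assoc, hvb]]
      exact inv_mem hbe
  have hEc : ∀ x ∈ E, ∀ y ∈ E, x * y = y * x := by
    haveI : IsMulCommutative ↥(closure ({a₀, b₀} : Set ↥Cfsg.M24)) := isMulCommutative_closure (by
      rintro x (rfl | rfl) y (rfl | rfl) <;> first | rfl | exact hab | exact hab.symm)
    intro x hx y hy
    have hle : E ≤ closure ({a₀, b₀} : Set ↥Cfsg.M24) :=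
      sup_le (zpowers_le.2 (subset_closure (Set.mem_insert _ _)))
        (zpowers_le.2 (subset_closure (Set.mem_insert_of_mem _ rfl)))
    exact congrArg Subtype.val (mul_comm' (⟨x, hle hx⟩ : ↥(closure ({a₀, b₀} : Set ↥Cfsg.M24))) ⟨y, hle hy⟩)
  have hE3 : ∀ x ∈ E, x ^ 3 = 1 := by
    intro x hx
    have hle : E ≤ closure ({a₀, b₀} : Set ↥Cfsg.M24) :=
      sup_le (zpowers_le.2 (subset_closure (Set.mem_insert _ _)))
        (zpowers_le.2 (subset_closure (Set.mem_insert_of_mem _ rfl)))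
    refine closure_induction (p := fun y _ => y ∈ E ∧ y ^ 3 = 1) ?_ ?_ ?_ ?_
      (hle hx) |>.2
    · rintro y (rfl | rfl)
      · exact ⟨mem_sup_left (mem_zpowers _), ha3⟩
      · exact ⟨mem_sup_right (mem_zpowers _), hb3⟩
    · exact ⟨one_mem _, one_pow _⟩
    · intro y w _ _ hy hw
      exact ⟨mul_mem hy.1 hw.1, by rw [(show Commute y w from hEc y hy.1 w hw.1).mul_pow, hy.2, hw.2, one_mul]⟩
    · intro y _ hy
      exact ⟨inv_mem hy.1, by rw [inv_pow, hy.2, inv_one]⟩
  haveI hnorm : (E.subgroupOf T).Normal := by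
    refine ⟨fun x hx g => ?_⟩
    rw [mem_subgroupOf] at hx ⊢
    have key : T ≤ normalizer (E : Set ↥Cfsg.M24) := by
      rw [hT, closure_le]
      intro y hy
      have hmap : E.map (MulAut.conj y).toMonoidHom ≤ E := by
        rw [hEdef, Subgroup.map_sup, MonoidHom.map_zpowers, MonoidHom.map_zpowers]
        exact sup_le (zpowers_le.2 (hgen y hy).1) (zpowers_le.2 (hgen y hy).2)
      have heq : E.map (MulAut.conj y).toMonoidHom = E :=
        eq_of_le_of_card_ge hmap (card_map_of_injective (MulEquiv.injective _)).ge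
      refine mem_normalizer_iff.2 fun w => ⟨fun hw => hmap ⟨w, hw, rfl⟩, fun hw => ?_⟩
      rw [← heq] at hw
      obtain ⟨w', hw', e⟩ := hw
      rwa [← (MulAut.conj y).injective e]
    simpa using (mem_normalizer_iff.1 (key g.2) _).1 hx
  have hET : E ≤ T := sup_le (zpowers_le.2 (subset_closure (Or.inl rfl)))
    (zpowers_le.2 (subset_closure (Or.inr (Or.inl rfl))))
  have hker : IsPGroup 2 ↥(θ.subgroupComap T).ker := by
    intro x
    have hx : ((x : ↥(T.comap θ)) : ↥(normalizer (A : Set G))) ∈ θ.ker := congrArg Subtype.val x.2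
    rw [hA.ker, mem_subgroupOf] at hx
    exact ⟨1, Subtype.ext (Subtype.ext (Subtype.ext (by
      simpa using hA.elem.2 _ hx)))⟩
  obtain ⟨R, hRE, hRinj, hRsurj, hRnorm⟩ := exists_lift (θ.subgroupComap T)
    (MonoidHom.subgroupComap_surjective_of_surjective θ T hA.surj) hker (E.subgroupOf T)
    (fun x => ⟨1, Subtype.ext (Subtype.ext (by simpa using hE3 _ x.2))⟩)
    (fun x hx y hy => Subtype.ext (hEc _ hx _ hy))
  set ψ := θ.subgroupComap T
  let f : ↥(T.comap θ) →* G := (normalizer (A : Set G)).subtype.comp (T.comap θ).subtype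
  have hf : Function.Injective f := Subtype.val_injective.comp Subtype.val_injective
  let aT : ↥T := ⟨a₀, hET (mem_sup_left (mem_zpowers a₀))⟩
  let bT : ↥T := ⟨b₀, hET (mem_sup_right (mem_zpowers b₀))⟩
  obtain ⟨a, haR, hψa⟩ := hRsurj aT (mem_sup_left (mem_zpowers a₀))
  obtain ⟨b, hbR, hψb⟩ := hRsurj bT (mem_sup_right (mem_zpowers b₀))
  have huniq : ∀ {r s}, r ∈ R → s ∈ R → ψ r = ψ s → r = s := fun {r s} hr hs e => by
    refine mul_inv_eq_one.1 (hRinj _ (mul_mem hr (inv_mem hs)) ?_)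
    rw [map_mul, map_inv, e, mul_inv_cancel]
  have hconj : ∀ {q : ↥T}, ∃ m ∈ normalizer (R : Set ↥(T.comap θ)), ∀ r ∈ R, ψ (m * r * m⁻¹) = q * ψ r * q⁻¹ := by
    intro q
    obtain ⟨m, hm, e, he, hme⟩ := hRnorm q
    refine ⟨m, hm, fun r hr => ?_⟩
    have hc : q * ψ r * q⁻¹ ∈ E.subgroupOf T := hnorm.conj_mem _ (hRE r hr) q
    have h2 : e * (q * ψ r * q⁻¹) = (q * ψ r * q⁻¹) * e := Subtype.ext (hEc _ he _ hc)
    rw [map_mul, map_mul, map_inv, hme, mul_inv_rev]
    calc e * q * ψ r * (q⁻¹ * e⁻¹) = e * (q * ψ r * q⁻¹) * e⁻¹ := by simp only [mul_assoc]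
      _ = _ := by rw [h2, mul_inv_cancel_right]
  obtain ⟨u, huR, hu⟩ := hconj (q := ⟨u₀, subset_closure (by simp)⟩)
  obtain ⟨v, hvR, hv⟩ := hconj (q := ⟨v₀, subset_closure (by simp)⟩)
  have e1 : u * a * u⁻¹ = b := huniq ((mem_normalizer_iff.1 huR a).1 haR) hbR (by
    rw [hu a haR, hψa, hψb]; exact Subtype.ext (by simp [aT, bT, mul_inv_eq_iff_eq_mul, hua]))
  have e2 : v * a * v⁻¹ = a := huniq ((mem_normalizer_iff.1 hvR a).1 haR) haR (by
    rw [hv a haR, hψa]; exact Subtype.ext (by simp [aT, mul_inv_eq_iff_eq_mul, hva]))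
  have e3 : v * b * v⁻¹ = b⁻¹ := huniq ((mem_normalizer_iff.1 hvR b).1 hbR) (inv_mem hbR) (by
    rw [hv b hbR, map_inv, hψb]; exact Subtype.ext (by
      simp [bT, mul_inv_eq_iff_eq_mul, eq_inv_mul_iff_mul_eq, ← mul_assoc, hvb]))
  have hpow : ∀ {r}, r ∈ R → r ^ 3 = 1 := fun {r} hr => hRinj _ (pow_mem hr 3) (by
    rw [map_pow]; exact Subtype.ext (by simpa using hE3 _ (hRE r hr)))
  refine h.one_class (a := f a) (b := f b) (u := f u) (v := f v) ?_ ?_ ?_ ?_ ?_ ?_ ?_ ?_
  · rw [← map_pow, hpow haR, map_one]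
  · rw [← map_pow, hpow hbR, map_one]
  · rw [← map_mul, ← map_mul, huniq (mul_mem haR hbR) (mul_mem hbR haR) (by
      rw [map_mul, map_mul, hψa, hψb]; exact Subtype.ext hab)]
  · intro i e
    have e' : b = a ^ i.1 := hf (by rw [map_pow]; exact e)
    exact hind i (by simpa [aT, bT, e'] using congrArg Subtype.val (show bT = aT ^ i.1 by
      rw [← hψb, e', map_pow, hψa]))
  · rw [← map_inv, ← map_mul, ← map_mul, e1]
  · rw [← map_inv, ← map_mul, ← map_mul, e2]
  · rw [← map_inv, ← map_mul, ← map_mul, e3, map_inv]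
  · intro e
    have e' : a = 1 := hf (e.trans (map_one f).symm)
    exact hne1 (congrArg Subtype.val (show aT = 1 by rw [← hψa, e', map_one]))

end CfsgLib.Sporadic.J4Type.OneClassThree
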