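import Cfsg.Agent.Lib.KGroups.M22Count
import Cfsg.Agent.Lib.KGroups.M22Elements
import Cfsg.Agent.Lib.KGroups.M22Column

/-!
# Groups of fourth Janko type: one class of elements of order three

If `C` is a perfect centraliser of a subgroup `P` of order three with centre of order six and central quotient
`M₂₂`, and the normaliser of `P` moves it into itself nontrivially, then a subgroup of order 27 of `C` is a
Sylow subgroup of the whole group and there are at most two classes of elements of order three; a pair of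
commuting elements of order three whose normaliser moves every line of the pair fuses them.
-/

set_option autoImplicit false

namespace CfsgLib.Sporadic.J4Type.OneClassThree

open Subgroup
open scoped Classical

/-- All elements of order three of `M₂₂` are conjugate. -/
theorem m22_three {g h : ↥Cfsg.Spor.M22} (hg : orderOf g = 3) (hh : orderOf h = 3) : IsConj g h := by
  obtain ⟨hsimp, hcard⟩ := CfsgLib.KGroups.M22Count.simple_card
  cases nonempty_fintype ↥Cfsg.Spor.M22
  obtain ⟨T⟩ := CfsgLib.KGroups.M22Column.exists_table hcard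
  exact CfsgLib.KGroups.M22Elements.three_conj (T := T) hcard hg hh

variable {G : Type*} [Group G] [Finite G]

/-- The configuration. -/
structure Hyp (C P : Subgroup G) : Prop where
  cardP : Nat.card ↥P = 3
  PC : P ≤ C
  cent : ∀ g, g ∈ C ↔ ∀ p ∈ P, g * p = p * g
  perfect : ⁅C, C⁆ = C
  cardZ : Nat.card ↥(center ↥C) = 6
  quot : Nonempty (↥C ⧸ center ↥C ≃* ↥Cfsg.Spor.M22)
  inv : ∃ g p, p ∈ P ∧ g ∈ normalizer (P : Set G) ∧ g * p * g⁻¹ ≠ p

variable {C P : Subgroup G} (h : Hyp C P)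

namespace Hyp

include h

theorem card_C : Nat.card ↥C = 27 * 98560 := by
  obtain ⟨e⟩ := h.quot
  have h1 : Nat.card (↥C ⧸ center ↥C) = 443520 := by
    rw [Nat.card_congr e.toEquiv, (CfsgLib.KGroups.M22Count.simple_card).2]
  rw [card_eq_card_quotient_mul_card_subgroup (center ↥C), h1, h.cardZ]

/-- A subgroup of order 27. -/
theorem exists_S : ∃ S : Subgroup G, S ≤ C ∧ Nat.card ↥S = 27 := by
  haveI : Fact (Nat.Prime 3) := ⟨by norm_num⟩
  obtain ⟨K, hK⟩ := Sylow.exists_subgroup_card_pow_prime (G := ↥C) 3 (n := 3) (by rw [h.card_C]; norm_num)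
  refine ⟨K.map C.subtype, map_subtype_le K, ?_⟩
  rw [card_map_of_injective C.subtype_injective, hK]
  norm_num

variable {S : Subgroup G} (hS : S ≤ C) (hcard : Nat.card ↥S = 27)

include hS hcard

omit [Finite G] in
theorem isPGroup_S : IsPGroup 3 ↥S := IsPGroup.of_card (n := 3) (by rw [hcard]; norm_num)

/-- A 3-element of `C` normalising `S` lies in it. -/
theorem absorb {g : G} (hg : g ∈ C) (hn : g ∈ normalizer (S : Set G)) {k : ℕ} (hk : g ^ 3 ^ k = 1) :
    g ∈ S := by
  haveI : Fact (Nat.Prime 3) := ⟨by norm_num⟩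
  have hz : IsPGroup 3 ↥(zpowers g) := by
    intro x
    refine ⟨k, Subtype.ext ?_⟩
    obtain ⟨i, hi⟩ := mem_zpowers_iff.1 x.2
    rw [SubmonoidClass.coe_pow, ← hi, OneMemClass.coe_one, ← zpow_natCast, ← zpow_mul, mul_comm i, zpow_mul,
      zpow_natCast, hk, one_zpow]
  have hp : IsPGroup 3 ↥(zpowers g ⊔ S : Subgroup G) :=
    hz.to_sup_of_normal_right' (h.isPGroup_S hS hcard) (zpowers_le.2 hn)
  obtain ⟨n, hn'⟩ := IsPGroup.iff_card.1 hp
  have hdvd : Nat.card ↥(zpowers g ⊔ S : Subgroup G) ∣ 27 * 98560 := by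
    rw [← h.card_C]; exact card_dvd_of_le (sup_le (zpowers_le.2 hg) hS)
  rw [hn'] at hdvd
  have h3 : (3 ^ n).Coprime 98560 := Nat.Coprime.pow_left _ (by norm_num)
  have h27 : 3 ^ n ≤ 27 := Nat.le_of_dvd (by norm_num) (h3.dvd_of_dvd_mul_right hdvd)
  have heq : S = zpowers g ⊔ S := eq_of_le_of_card_ge le_sup_right (by rw [hn', hcard]; exact h27)
  rw [heq]
  exact mem_sup_left (mem_zpowers g)

theorem P_le : P ≤ S := by
  intro p hp
  have hpc : ∀ s ∈ S, p * s = s * p := fun s hs => ((h.cent s).1 (hS hs) p hp).symm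
  refine h.absorb hS hcard (h.PC hp) ?_ (k := 1) ?_
  · refine mem_normalizer_iff.2 fun s => ⟨fun hs => ?_, fun hs => ?_⟩
    · rw [hpc s hs, mul_inv_cancel_right]; exact hs
    · have h1 := hpc _ hs
      have h2 : p * s * p⁻¹ = s := by
        have h3 : p * s * p⁻¹ * p = p * (p * s * p⁻¹) := h1.symm
        rw [inv_mul_cancel_right] at h3
        exact (mul_left_cancel h3).symm
      rwa [h2] at hs
  · have h1 : (⟨p, hp⟩ : ↥P) ^ 3 = 1 := by rw [← h.cardP]; exact pow_card_eq_one'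
    simpa using congrArg Subtype.val h1

theorem not_comm : ¬ ∀ a b : ↥S, a * b = b * a := by
  intro hc
  haveI : IsMulCommutative ↥S := ⟨⟨hc⟩⟩
  letI : CommGroup ↥S := { (inferInstance : Group ↥S) with mul_comm := hc }
  set S' : Subgroup ↥C := S.subgroupOf C with hS'
  let φ : ↥S' →* ↥S := (subgroupOfEquivOfLe hS).toMonoidHom
  set t : ↥C →* ↥S := MonoidHom.transfer φ with ht
  have hker : ∀ x : ↥C, t x = 1 := by
    intro x
    have hle : ⁅(⊤ : Subgroup ↥C), (⊤ : Subgroup ↥C)⁆ ≤ t.ker := commutator_le.2 fun a _ b _ => by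
      rw [MonoidHom.mem_ker, map_commutatorElement, commutatorElement_eq_one_iff_mul_comm]
      exact hc _ _
    have htop : ⁅(⊤ : Subgroup ↥C), (⊤ : Subgroup ↥C)⁆ = ⊤ := by
      apply map_injective C.subtype_injective
      rw [map_commutator, ← MonoidHom.range_eq_map, C.range_subtype]
      exact h.perfect
    exact hle (htop.ge (mem_top _))
  obtain ⟨p, hp, hp1⟩ := P.ne_bot_iff_exists_ne_one.1 (by
    intro hb
    have := h.cardP
    rw [hb, Subgroup.card_bot] at this
    omega) |> fun ⟨⟨p, hp⟩, hne⟩ => (⟨p, hp, fun e => hne (Subtype.ext e)⟩ : ∃ p, p ∈ P ∧ p ≠ 1)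
  let p' : ↥C := ⟨p, h.PC hp⟩
  have hcen : ∀ c : ↥C, c * p' = p' * c := fun c => Subtype.ext ((h.cent c).1 c.2 p hp)
  have key : ∀ (k : ℕ) (g₀ : ↥C), g₀⁻¹ * p' ^ k * g₀ ∈ S' → g₀⁻¹ * p' ^ k * g₀ = p' ^ k := fun k g₀ _ => by
    have := (Commute.pow_right (show Commute g₀ p' from hcen g₀) k).eq
    rw [mul_assoc, ← this, inv_mul_cancel_left]
  have h1 := hker p'
  rw [ht, MonoidHom.transfer_eq_pow φ p' key] at h1
  have h2 : p' ^ S'.index = 1 := by
    have h3 := congrArg Subtype.val h1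
    exact Subtype.ext (by simpa [φ, subgroupOfEquivOfLe] using h3)
  have hidx : S'.index = 98560 := by
    have h4 := S'.card_mul_index
    rw [hS', Nat.card_congr (subgroupOfEquivOfLe hS).toEquiv, hcard, h.card_C] at h4
    linarith
  have h5 : p ^ 98560 = 1 := by rw [← hidx]; simpa [p'] using congrArg Subtype.val h2
  have h6 : p ^ 3 = 1 := by
    have h7 : (⟨p, hp⟩ : ↥P) ^ 3 = 1 := by rw [← h.cardP]; exact pow_card_eq_one'
    simpa using congrArg Subtype.val h7
  have h8 : p ^ Nat.gcd 98560 3 = 1 := pow_gcd_eq_one.2 ⟨h5, h6⟩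
  norm_num at h8
  exact hp1 h8

/-- The centre of `S` is `P`. -/
theorem center_eq {x : G} (hx : x ∈ S) (hc : ∀ s ∈ S, x * s = s * x) : x ∈ P := by
  haveI : Fact (Nat.Prime 3) := ⟨by norm_num⟩
  set K := center ↥S
  have hPK : P.subgroupOf S ≤ K := fun a ha => mem_center_iff.2 fun s => Subtype.ext
    ((h.cent s).1 (hS s.2) a (mem_subgroupOf.1 ha))
  have hcardP : Nat.card ↥(P.subgroupOf S) = 3 := by
    rw [Nat.card_congr (subgroupOfEquivOfLe (h.P_le hS hcard)).toEquiv, h.cardP]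
  obtain ⟨i, hi3, hi⟩ := (Nat.dvd_prime_pow (m := 3) (i := Nat.card ↥K) Nat.prime_three).1
    (by rw [show (3 : ℕ) ^ 3 = 27 by norm_num, ← hcard]; exact card_subgroup_dvd_card K)
  have h3 : 3 ≤ Nat.card ↥K := by rw [← hcardP]; exact card_le_of_le hPK
  rw [hi] at h3
  have hK : Nat.card ↥K ≤ 3 := by
    rw [hi]
    interval_cases i
    · norm_num
    · norm_num
    · exfalso
      have hq : Nat.card (↥S ⧸ K) = 3 := by
        have := card_eq_card_quotient_mul_card_subgroup K
        rw [hcard, hi] at this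
        omega
      haveI := isCyclic_of_prime_card hq
      exact h.not_comm hS hcard fun a b =>
        commutative_of_cyclic_center_quotient (QuotientGroup.mk' K) (by rw [QuotientGroup.ker_mk']) a b
    · exfalso
      have htop : K = ⊤ := eq_top_of_card_eq K (by rw [hi, hcard]; norm_num)
      exact h.not_comm hS hcard fun a b => (mem_center_iff.1 (htop.ge (mem_top b)) a)
  have heq : P.subgroupOf S = K := eq_of_le_of_card_ge hPK (by rw [hcardP]; exact hK)
  have : (⟨x, hx⟩ : ↥S) ∈ K := mem_center_iff.2 fun s => Subtype.ext (hc s s.2).symm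
  rw [← heq] at this
  exact mem_subgroupOf.1 this

/-- `S` is a Sylow subgroup of the whole group. -/
theorem sylow (R : Sylow 3 G) (hSR : S ≤ (R : Subgroup G)) : (R : Subgroup G) = S := by
  haveI : Fact (Nat.Prime 3) := ⟨by norm_num⟩
  by_contra hne
  have hlt : S.subgroupOf (R : Subgroup G) < ⊤ := lt_top_iff_ne_top.2 fun e =>
    hne (le_antisymm (subgroupOf_eq_top.1 e) hSR)
  haveI := R.isPGroup'.isNilpotent
  obtain ⟨g, hg, hgS⟩ := SetLike.exists_of_lt (normalizerCondition_of_isNilpotent _ hlt)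
  have hgn : (g : G) ∈ normalizer (S : Set G) := by
    refine mem_normalizer_iff.2 fun s => ⟨fun hs => ?_, fun hs => ?_⟩
    · exact mem_subgroupOf.1 ((mem_normalizer_iff.1 hg ⟨s, hSR hs⟩).1 (mem_subgroupOf.2 hs))
    · have hsR : s ∈ (R : Subgroup G) := by
        have := (R : Subgroup G).mul_mem ((R : Subgroup G).mul_mem ((R : Subgroup G).inv_mem g.2) (hSR hs)) g.2
        simpa [mul_assoc] using this
      exact mem_subgroupOf.1 ((mem_normalizer_iff.1 hg ⟨s, hsR⟩).2 (mem_subgroupOf.2 hs))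
  have hP : ∀ p ∈ P, (g : G) * p * (g : G)⁻¹ ∈ P := fun p hp => by
    refine h.center_eq hS hcard ((mem_normalizer_iff.1 hgn p).1 (h.P_le hS hcard hp)) fun s hs => ?_
    have hs' : (g : G)⁻¹ * s * g ∈ S := (mem_normalizer_iff.1 hgn _).2 (by simpa [mul_assoc] using hs)
    have h1 := (h.cent _).1 (hS hs') p hp
    calc (g : G) * p * (g : G)⁻¹ * s = g * (p * ((g : G)⁻¹ * s * g)) * (g : G)⁻¹ := by group
      _ = g * ((g : G)⁻¹ * s * g * p) * (g : G)⁻¹ := by rw [h1]
      _ = s * (g * p * (g : G)⁻¹) := by group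
  obtain ⟨k, hk⟩ := R.isPGroup' g
  have hk' : (g : G) ^ 3 ^ k = 1 := by simpa using congrArg Subtype.val hk
  have hcomm : ∀ p ∈ P, (g : G) * p = p * g := by
    intro p hp
    let σ : ↥P → ↥P := fun q => ⟨(g : G) * q.1 * (g : G)⁻¹, hP q.1 q.2⟩
    have hbij : Function.Injective σ := fun a b e => Subtype.ext (by
      have := congrArg Subtype.val e; simpa [σ] using this)
    have hone : σ 1 = 1 := Subtype.ext (by simp [σ])
    have h2 : ∀ q : ↥P, σ (σ q) = q := by
      intro q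
      by_cases hq : q = 1
      · rw [hq, hone, hone]
      by_contra hne'
      have ha : σ q ≠ 1 := fun e => hq (hbij (e.trans hone.symm))
      have hb : σ (σ q) ≠ 1 := fun e => ha (hbij (e.trans hone.symm))
      have hc' : σ q ≠ q := fun e => hne' (by rw [e, e])
      have hd : σ (σ q) ≠ σ q := fun e => hc' (hbij e)
      have h4 : ({1, q, σ q, σ (σ q)} : Finset ↥P).card = 4 := by
        rw [Finset.card_insert_of_notMem, Finset.card_insert_of_notMem, Finset.card_pair hd.symm] <;>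
          simp [Ne.symm hq, Ne.symm ha, Ne.symm hb, Ne.symm hne', Ne.symm hc']
      cases nonempty_fintype ↥P
      have h5 := Finset.card_le_univ ({1, q, σ q, σ (σ q)} : Finset ↥P)
      rw [h4, ← Nat.card_eq_fintype_card, h.cardP] at h5
      omega
    have h6 : Commute ((g : G) ^ 2) p := by
      have h7 := congrArg Subtype.val (h2 ⟨p, hp⟩)
      simp only [σ] at h7
      have h8 : (g : G) ^ 2 * p * ((g : G) ^ 2)⁻¹ = p := by
        rw [pow_two, mul_inv_rev]; simpa [mul_assoc] using h7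
      exact mul_inv_eq_iff_eq_mul.1 h8
    have h9 : Commute ((g : G) ^ 3 ^ k) p := by rw [hk']; exact Commute.one_left p
    obtain ⟨m, hm⟩ : Odd (3 ^ k) := Odd.pow (by decide)
    rw [hm, pow_succ] at h9
    have h10 : Commute (((g : G) ^ (2 * m))⁻¹) p := (by rw [pow_mul]; exact h6.pow_left m :
      Commute ((g : G) ^ (2 * m)) p).inv_left
    have h11 := h10.mul_left h9
    rw [inv_mul_cancel_left] at h11
    exact h11
  exact hgS (mem_subgroupOf.2 (h.absorb hS hcard ((h.cent _).2 hcomm) hgn hk'))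

omit hS hcard in
/-- The elements of `P` of order three are conjugate. -/
theorem conj_P {p q : G} (hp : p ∈ P) (hp1 : p ≠ 1) (hq : q ∈ P) (hq1 : q ≠ 1) : IsConj p q := by
  obtain ⟨g, r, hr, hg, hgr⟩ := h.inv
  have hr1 : r ≠ 1 := fun e => hgr (by rw [e, mul_one, mul_inv_cancel])
  have hr' : g * r * g⁻¹ ∈ P := (mem_normalizer_iff.1 hg r).1 hr
  have hr'1 : g * r * g⁻¹ ≠ 1 := fun e => hr1 (by
    have := congrArg (fun x => g⁻¹ * x * g) e
    simpa [mul_assoc] using this)
  have hall : ∀ a, a ∈ P → a ≠ 1 → IsConj r a := by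
    intro a ha ha1
    by_cases h1 : a = r
    · rw [h1]
    by_cases h2 : a = g * r * g⁻¹
    · rw [h2]; exact isConj_iff.2 ⟨g, rfl⟩
    exfalso
    let A : Finset ↥P := {1, ⟨a, ha⟩, ⟨r, hr⟩, ⟨_, hr'⟩}
    have h4 : A.card = 4 := by
      rw [Finset.card_insert_of_notMem, Finset.card_insert_of_notMem, Finset.card_pair] <;>
        simp [Subtype.ext_iff, Ne.symm ha1, Ne.symm hr1, Ne.symm hr'1, h1, h2, Ne.symm hgr]
    cases nonempty_fintype ↥P
    have h5 := Finset.card_le_univ A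
    rw [h4, ← Nat.card_eq_fintype_card, h.cardP] at h5
    omega
  exact (hall p hp hp1).symm.trans (hall q hq hq1)

/-- The elements of order three of `S` outside `P` are conjugate. -/
theorem conj_out {x y : G} (hx : x ∈ S) (hy : y ∈ S) (hxP : x ∉ P) (hyP : y ∉ P) (hx3 : x ^ 3 = 1)
    (hy3 : y ^ 3 = 1) : IsConj x y := by
  haveI : Fact (Nat.Prime 3) := ⟨by norm_num⟩
  obtain ⟨e⟩ := h.quot
  set π : ↥C →* ↥Cfsg.Spor.M22 := e.toMonoidHom.comp (QuotientGroup.mk' (center ↥C)) with hπ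
  have hord : ∀ a : G, ∀ ha : a ∈ S, a ∉ P → a ^ 3 = 1 → orderOf (π ⟨a, hS ha⟩) = 3 := by
    intro a ha haP ha3
    refine orderOf_eq_prime (by rw [← map_pow]; exact (congrArg π (Subtype.ext ha3)).trans (map_one π))
      fun e1 => ?_
    have hm : (⟨a, hS ha⟩ : ↥C) ∈ center ↥C := by
      have h2 : e (QuotientGroup.mk' (center ↥C) ⟨a, hS ha⟩) = e 1 := by rw [map_one]; exact e1
      exact (QuotientGroup.eq_one_iff _).1 (e.injective h2)
    exact haP (h.center_eq hS hcard ha fun s hs =>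
      (congrArg Subtype.val (mem_center_iff.1 hm ⟨s, hS hs⟩)).symm)
  obtain ⟨d, hd⟩ := isConj_iff.1 (m22_three (hord x hx hxP hx3) (hord y hy hyP hy3))
  obtain ⟨c, hc⟩ : ∃ c : ↥C, π c = d := by
    obtain ⟨c, hc⟩ := QuotientGroup.mk'_surjective (center ↥C) (e.symm d)
    exact ⟨c, by rw [hπ]; show e (QuotientGroup.mk' _ c) = d; rw [hc, e.apply_symm_apply]⟩
  set v : G := (c : G) * x * (c : G)⁻¹ with hv
  set w : ↥C := (⟨y, hS hy⟩ : ↥C)⁻¹ * (c * ⟨x, hS hx⟩ * c⁻¹) with hw
  have hwc : w ∈ center ↥C := by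
    have h1 : π w = 1 := by rw [hw, map_mul, map_inv, map_mul, map_mul, map_inv, hc, hd, inv_mul_cancel]
    have h2 : e (QuotientGroup.mk' (center ↥C) w) = e 1 := by rw [map_one]; exact h1
    exact (QuotientGroup.eq_one_iff _).1 (e.injective h2)
  have hwC : ∀ s ∈ C, (w : G) * s = s * w := fun s hs =>
    (congrArg Subtype.val (mem_center_iff.1 hwc ⟨s, hs⟩)).symm
  have hw' : (w : G) = y⁻¹ * v := rfl
  have hyw : Commute y (w : G) := (hwC y (hS hy)).symm
  have hveq : v = y * (w : G) := by rw [hw', mul_inv_cancel_left]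
  have hw3 : (w : G) ^ 3 = 1 := by
    have h1 : v ^ 3 = 1 := by rw [hv, conj_pow, hx3, mul_one, mul_inv_cancel]
    rw [hveq, hyw.mul_pow, hy3, one_mul] at h1
    exact h1
  have hwn : (w : G) ∈ normalizer (S : Set G) := mem_normalizer_iff.2 fun s => ⟨fun hs => by
      rw [hwC s (hS hs), mul_inv_cancel_right]; exact hs, fun hs => by
      have h1 := hwC _ (hS hs)
      have h2 : (w : G) * s * (w : G)⁻¹ * w = w * (w * s * (w : G)⁻¹) := h1.symm
      rw [inv_mul_cancel_right] at h2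
      have h3 := mul_left_cancel h2
      rwa [← h3] at hs⟩
  have hwP : (w : G) ∈ P := h.center_eq hS hcard
    (h.absorb hS hcard w.2 hwn (k := 1) (by simpa using hw3)) fun s hs => hwC s (hS hs)
  obtain ⟨s, hs, hsy⟩ : ∃ s ∈ S, s * y ≠ y * s := by
    by_contra hcon
    push Not at hcon
    exact hyP (h.center_eq hS hcard hy fun s hs => (hcon s hs).symm)
  have hu : y⁻¹ * (s * y * s⁻¹) ∈ P := by
    set K := center ↥S
    set s' : ↥S := ⟨s, hs⟩
    set y' : ↥S := ⟨y, hy⟩
    have hK : Nat.card ↥K = 3 := by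
      have heq : K = P.subgroupOf S := le_antisymm (fun a ha => mem_subgroupOf.2 (h.center_eq hS hcard a.2
        fun t ht => (congrArg Subtype.val (mem_center_iff.1 ha ⟨t, ht⟩)).symm))
        (fun a ha => mem_center_iff.2 fun t => Subtype.ext ((h.cent t).1 (hS t.2) a (mem_subgroupOf.1 ha)))
      rw [heq, Nat.card_congr (subgroupOfEquivOfLe (h.P_le hS hcard)).toEquiv, h.cardP]
    have hq : Nat.card (↥S ⧸ K) = 3 ^ 2 := by
      have := card_eq_card_quotient_mul_card_subgroup K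
      rw [hcard, hK] at this
      omega
    have hab : ∀ a b : ↥S ⧸ K, a * b = b * a :=
      (IsPGroup.isMulCommutative_of_card_eq_prime_sq hq).is_comm.comm
    have hm : y'⁻¹ * (s' * y' * s'⁻¹) ∈ K := by
      rw [← QuotientGroup.eq_one_iff]
      simp only [QuotientGroup.mk_mul, QuotientGroup.mk_inv]
      rw [hab ((s' : ↥S) : ↥S ⧸ K) ((y' : ↥S) : ↥S ⧸ K), mul_inv_cancel_right, inv_mul_cancel]
    exact h.center_eq hS hcard (mul_mem (inv_mem hy) (mul_mem (mul_mem hs hy) (inv_mem hs))) fun t ht =>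
      (congrArg Subtype.val (mem_center_iff.1 hm ⟨t, ht⟩)).symm
  set u := y⁻¹ * (s * y * s⁻¹) with hu'
  have hu1 : u ≠ 1 := fun e => hsy (by
    rw [hu', inv_mul_eq_one] at e
    exact (mul_inv_eq_iff_eq_mul.1 e.symm))
  have hgen : ∃ k : ℕ, u ^ k = (w : G) := by
    haveI : Fact (Nat.Prime (Nat.card ↥P)) := ⟨by rw [h.cardP]; norm_num⟩
    have h1 : zpowers (⟨u, hu⟩ : ↥P) = ⊤ :=
      (eq_bot_or_eq_top_of_prime_card _).resolve_left (fun e => hu1 (congrArg Subtype.val (zpowers_eq_bot.1 e)))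
    have h2 : (⟨w, hwP⟩ : ↥P) ∈ Submonoid.powers (⟨u, hu⟩ : ↥P) :=
      mem_powers_iff_mem_zpowers.2 (h1.ge (mem_top _))
    obtain ⟨k, hk⟩ := Submonoid.mem_powers_iff _ _ |>.1 h2
    exact ⟨k, by simpa using congrArg Subtype.val hk⟩
  obtain ⟨k, hk⟩ := hgen
  have hpow : ∀ j : ℕ, s ^ j * y * (s ^ j)⁻¹ = y * u ^ j := by
    intro j
    induction j with
    | zero => simp
    | succ j ih =>
      have huc : s * u ^ j * s⁻¹ = u ^ j := by
        rw [(h.cent s).1 (hS hs) (u ^ j) (pow_mem hu j), mul_inv_cancel_right]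
      calc s ^ (j + 1) * y * (s ^ (j + 1))⁻¹ = s * (s ^ j * y * (s ^ j)⁻¹) * s⁻¹ := by rw [pow_succ']; group
        _ = (s * y * s⁻¹) * (s * u ^ j * s⁻¹) := by rw [ih]; group
        _ = y * u ^ (j + 1) := by rw [huc, pow_succ', ← mul_assoc, hu', mul_inv_cancel_left]
  refine isConj_iff.2 ⟨(s ^ k)⁻¹ * (c : G), ?_⟩
  have h1 : v = s ^ k * y * (s ^ k)⁻¹ := by rw [hveq, hpow k, hk]
  calc (s ^ k)⁻¹ * (c : G) * x * ((s ^ k)⁻¹ * (c : G))⁻¹ = (s ^ k)⁻¹ * v * s ^ k := by rw [hv]; group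
    _ = y := by rw [h1]; group

omit hS hcard in
/-- Two commuting elements of order three whose normaliser moves all four lines. -/
theorem one_class {a b u v : G} (ha : a ^ 3 = 1) (hb : b ^ 3 = 1) (hab : a * b = b * a)
    (hind : ∀ i : Fin 3, b ≠ a ^ i.1) (hu : u * a * u⁻¹ = b) (hva : v * a * v⁻¹ = a) (hvb : v * b * v⁻¹ = b⁻¹)
    (ha1 : a ≠ 1) : ∀ x y : G, orderOf x = 3 → orderOf y = 3 → IsConj x y := by
  haveI : Fact (Nat.Prime 3) := ⟨by norm_num⟩
  obtain ⟨S, hS, hcard⟩ := h.exists_S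
  obtain ⟨R, hSR⟩ := (h.isPGroup_S hS hcard).exists_le_sylow
  have hRS := h.sylow hS hcard R hSR
  haveI : Nontrivial ↥P := Finite.one_lt_card_iff_nontrivial.1 (by rw [h.cardP]; norm_num)
  obtain ⟨⟨p, hp⟩, hp1'⟩ := exists_ne (1 : ↥P)
  have hp1 : p ≠ 1 := fun e => hp1' (Subtype.ext e)
  have hA : IsPGroup 3 ↥(zpowers a ⊔ zpowers b : Subgroup G) := by
    have h1 : ∀ c : G, c ^ 3 = 1 → IsPGroup 3 ↥(zpowers c) := fun c hc x => ⟨1, Subtype.ext (by
      obtain ⟨i, hi⟩ := mem_zpowers_iff.1 x.2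
      rw [SubmonoidClass.coe_pow, ← hi, OneMemClass.coe_one, ← zpow_natCast, ← zpow_mul, mul_comm i, zpow_mul,
        zpow_natCast, pow_one, hc, one_zpow])⟩
    refine (h1 a ha).to_sup_of_normal_right' (h1 b hb) (zpowers_le.2 ?_)
    refine mem_normalizer_iff.2 fun x => ?_
    constructor
    · intro hx
      obtain ⟨i, rfl⟩ := mem_zpowers_iff.1 hx
      rw [((show Commute a b from hab).zpow_right i).eq, mul_inv_cancel_right]
      exact zpow_mem (mem_zpowers b) i
    · intro hx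
      obtain ⟨i, hi⟩ := mem_zpowers_iff.1 hx
      have : x = b ^ i := by
        have h2 := congrArg (fun t => a⁻¹ * t * a) hi
        simp only [mul_assoc] at h2
        rw [show (b ^ i) * a = a * b ^ i from ((show Commute a b from hab).zpow_right i).eq.symm] at h2
        simpa [mul_assoc] using h2.symm
      rw [this]
      exact zpow_mem (mem_zpowers b) i
  obtain ⟨T, hAT⟩ := hA.exists_le_sylow
  obtain ⟨g, hg⟩ := MulAction.exists_smul_eq G T R
  have hin : ∀ c : G, c ∈ (zpowers a ⊔ zpowers b : Subgroup G) → g * c * g⁻¹ ∈ S := by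
    intro c hc
    rw [← hRS, ← hg, Sylow.coe_subgroup_smul]
    exact ⟨c, hAT hc, rfl⟩
  set a' := g * a * g⁻¹ with ha'
  set b' := g * b * g⁻¹ with hb'
  have haS : a' ∈ S := hin a (mem_sup_left (mem_zpowers a))
  have hbS : b' ∈ S := hin b (mem_sup_right (mem_zpowers b))
  have ha'3 : a' ^ 3 = 1 := by rw [ha', conj_pow, ha, mul_one, mul_inv_cancel]
  have hb'3 : b' ^ 3 = 1 := by rw [hb', conj_pow, hb, mul_one, mul_inv_cancel]
  have hab' : Commute a' b' := by
    show a' * b' = b' * a'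
    rw [ha', hb']
    simp only [conj_mul]
    rw [hab]
  have hau : IsConj a' b' := ((isConj_iff.2 ⟨g, rfl⟩ : IsConj a a').symm.trans
    (isConj_iff.2 ⟨u, hu⟩)).trans (isConj_iff.2 ⟨g, rfl⟩)
  have habv : IsConj (a' * b') (a' * b'⁻¹) := by
    refine isConj_iff.2 ⟨g * v * g⁻¹, ?_⟩
    calc g * v * g⁻¹ * (a' * b') * (g * v * g⁻¹)⁻¹ = g * ((v * a * v⁻¹) * (v * b * v⁻¹)) * g⁻¹ := by
          rw [ha', hb']; group
      _ = a' * b'⁻¹ := by rw [hva, hvb, ha', hb']; group
  -- some element of `S` outside `P` is conjugate to `p`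
  obtain ⟨y, hyS, hyP, hy3, hyp⟩ : ∃ y ∈ S, y ∉ P ∧ y ^ 3 = 1 ∧ IsConj p y := by
    have ha'1 : a' ≠ 1 := fun e => ha1 (by simpa [ha'] using e)
    have hb'1 : b' ≠ 1 := fun e => ha1 (by
      have hb1 : b = 1 := by simpa [hb'] using e
      have := hu
      rw [hb1] at this
      simpa using this)
    have hind' : ∀ i : Fin 3, b' ≠ a' ^ i.1 := fun i e => hind i (by
      rw [ha', hb', conj_pow] at e
      exact mul_left_cancel (mul_right_cancel e))
    have hboth : ¬ (a' ∈ P ∧ b' ∈ P) := by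
      rintro ⟨h1, h2⟩
      haveI : Fact (Nat.Prime (Nat.card ↥P)) := ⟨by rw [h.cardP]; norm_num⟩
      have h3 : zpowers (⟨a', h1⟩ : ↥P) = ⊤ := (eq_bot_or_eq_top_of_prime_card _).resolve_left
        (fun e => ha'1 (congrArg Subtype.val (zpowers_eq_bot.1 e)))
      obtain ⟨i, hi⟩ := mem_zpowers_iff.1 (h3.ge (mem_top (⟨b', h2⟩ : ↥P)))
      have hi' : a' ^ i = b' := by simpa using congrArg Subtype.val hi
      refine hind' ⟨(i % 3).toNat, by omega⟩ (hi'.symm.trans ?_)
      rw [← zpow_natCast a', Int.toNat_of_nonneg (Int.emod_nonneg i (by norm_num))]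
      conv_lhs => rw [← Int.emod_add_ediv_mul i 3]
      rw [zpow_add, mul_comm (i / 3), zpow_mul, show a' ^ (3 : ℤ) = a' ^ (3 : ℕ) from zpow_natCast a' 3,
        ha'3, one_zpow, mul_one]
    by_cases h1 : a' ∈ P
    · exact ⟨b', hbS, fun e => hboth ⟨h1, e⟩, hb'3, (h.conj_P hp hp1 h1 ha'1).trans hau⟩
    by_cases h2 : b' ∈ P
    · exact ⟨a', haS, h1, ha'3, (h.conj_P hp hp1 h2 hb'1).trans hau.symm⟩
    have hprod : a' * b' ∈ P ∨ a' * b'⁻¹ ∈ P := by
      set L : Subgroup G := S ⊓ centralizer ({a'} : Set G) with hL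
      have hlt : Nat.card ↥L ≤ 9 := by
        obtain ⟨i, hi3, hi⟩ := (Nat.dvd_prime_pow (m := 3) (i := Nat.card ↥L) Nat.prime_three).1
          (by rw [show (3 : ℕ) ^ 3 = 27 by norm_num, ← hcard]; exact card_dvd_of_le inf_le_left)
        rw [hi]
        interval_cases i <;> try norm_num
        exfalso
        have heq : L = S := eq_of_le_of_card_ge inf_le_left (by rw [hi, hcard]; norm_num)
        refine h1 (h.center_eq hS hcard haS fun s hs => ?_)
        exact mem_centralizer_singleton_iff.1 (heq.ge hs).2 |>.symm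
      have hmem : ∀ (i : ℕ) (q : G), q ∈ P → a' ^ i * q ∈ L := fun i q hq =>
        ⟨mul_mem (pow_mem haS i) (h.P_le hS hcard hq), mem_centralizer_singleton_iff.2
          ((Commute.pow_self a' i).mul_left (((h.cent a').1 (hS haS) q hq).symm)).eq⟩
      let f : Fin 3 × ↥P → ↥L := fun iq => ⟨a' ^ iq.1.1 * iq.2.1, hmem _ _ iq.2.2⟩
      have hord : orderOf a' = 3 := orderOf_eq_prime ha'3 ha'1
      have hfi : Function.Injective f := by
        rintro ⟨i, q⟩ ⟨i', q'⟩ e
        have e' : a' ^ i.1 * (q : G) = a' ^ i'.1 * q' := congrArg Subtype.val e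
        have e2 : (q : G) * (q' : G)⁻¹ = a' ^ (3 - i.1 + i'.1) := by
          have e3 : a' ^ (3 - i.1) * (a' ^ i.1 * (q : G)) = a' ^ (3 - i.1) * (a' ^ i'.1 * q') := by rw [e']
          rw [← mul_assoc, ← mul_assoc, ← pow_add, ← pow_add, Nat.sub_add_cancel i.2.le, ha'3, one_mul] at e3
          rw [e3, mul_inv_cancel_right]
        have hm : a' ^ (3 - i.1 + i'.1) ∈ P := e2 ▸ mul_mem q.2 (inv_mem q'.2)
        have hii : i = i' := by
          rw [pow_eq_pow_mod _ ha'3] at hm
          rcases (show (3 - i.1 + i'.1) % 3 = 0 ∨ (3 - i.1 + i'.1) % 3 = 1 ∨ (3 - i.1 + i'.1) % 3 = 2 by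
            omega) with hz | hz | hz
          · exact Fin.ext (by omega)
          · rw [hz, pow_one] at hm; exact absurd hm h1
          · rw [hz] at hm
            have hm' := mul_mem hm hm
            rw [← pow_add, pow_eq_pow_mod (2 + 2) ha'3] at hm'
            exact absurd (by simpa using hm') h1
        subst hii
        exact Prod.ext rfl (Subtype.ext (mul_left_cancel e'))
      have hfb : Function.Bijective f := by
        cases nonempty_fintype ↥L
        cases nonempty_fintype ↥P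
        refine (Fintype.bijective_iff_injective_and_card f).2 ⟨hfi, le_antisymm
          (Fintype.card_le_of_injective f hfi) ?_⟩
        rw [Fintype.card_prod, Fintype.card_fin, ← Nat.card_eq_fintype_card, ← Nat.card_eq_fintype_card,
          h.cardP]
        exact hlt
      obtain ⟨⟨i, q⟩, hiq⟩ := hfb.2 ⟨b', hbS, mem_centralizer_singleton_iff.2 hab'.symm.eq⟩
      have hb'' : a' ^ i.1 * (q : G) = b' := congrArg Subtype.val hiq
      rcases (show i.1 = 0 ∨ i.1 = 1 ∨ i.1 = 2 by omega) with hz | hz | hz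
      · rw [hz, pow_zero, one_mul] at hb''
        exact absurd (hb'' ▸ q.2) h2
      · rw [hz, pow_one] at hb''
        refine Or.inr ?_
        rw [← hb'', mul_inv_rev, show a' * ((q : G)⁻¹ * a'⁻¹) = a' * (q : G)⁻¹ * a'⁻¹ from (mul_assoc _ _ _).symm,
          (h.cent a').1 (hS haS) _ (inv_mem q.2), mul_inv_cancel_right]
        exact inv_mem q.2
      · refine Or.inl ?_
        rw [← hb'', hz, ← mul_assoc, ← pow_succ', ha'3, one_mul]
        exact q.2
    have hab3 : (a' * b') ^ 3 = 1 := by rw [hab'.mul_pow, ha'3, hb'3, one_mul]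
    have hab3' : (a' * b'⁻¹) ^ 3 = 1 := by rw [hab'.inv_right.mul_pow, ha'3, inv_pow, hb'3, inv_one, one_mul]
    have hne1 : a' * b' ≠ 1 := fun e => hind' ⟨2, by norm_num⟩ (by
      show b' = a' ^ 2
      rw [eq_inv_of_mul_eq_one_right e, eq_comm]
      exact eq_inv_of_mul_eq_one_left (by rw [← pow_succ]; exact ha'3))
    have hne2 : a' * b'⁻¹ ≠ 1 := fun e => hind' ⟨1, by norm_num⟩ (by
      show b' = a' ^ 1
      rw [pow_one, mul_inv_eq_one.1 e])
    have hsame : ¬ (a' * b' ∈ P ∧ a' * b'⁻¹ ∈ P) := by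
      rintro ⟨h3, h4⟩
      have h5 := mul_mem h3 h4
      rw [show a' * b' * (a' * b'⁻¹) = a' * (b' * a') * b'⁻¹ by group, ← hab'.eq,
        show a' * (a' * b') * b'⁻¹ = a' * a' by group] at h5
      exact h1 (by
        have h6 := inv_mem h5
        rwa [show (a' * a')⁻¹ = a' from inv_eq_of_mul_eq_one_right (by rw [← pow_two, ← pow_succ]; exact ha'3)] at h6)
    rcases hprod with h3 | h3
    · exact ⟨_, mul_mem haS (inv_mem hbS), fun e => hsame ⟨h3, e⟩, hab3', (h.conj_P hp hp1 h3 hne1).trans habv⟩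
    · exact ⟨_, mul_mem haS hbS, fun e => hsame ⟨e, h3⟩, hab3, (h.conj_P hp hp1 h3 hne2).trans habv.symm⟩
  have hall : ∀ x : G, orderOf x = 3 → IsConj p x := by
    intro x hx
    have hx3 : x ^ 3 = 1 := hx ▸ pow_orderOf_eq_one x
    have hxz : IsPGroup 3 ↥(zpowers x) := IsPGroup.of_card (n := 1) (by rw [Nat.card_zpowers, hx, pow_one])
    obtain ⟨T', hxT⟩ := hxz.exists_le_sylow
    obtain ⟨k, hk⟩ := MulAction.exists_smul_eq G T' R
    have hxS : k * x * k⁻¹ ∈ S := by
      rw [← hRS, ← hk, Sylow.coe_subgroup_smul]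
      exact ⟨x, hxT (mem_zpowers x), rfl⟩
    have hconj : IsConj x (k * x * k⁻¹) := isConj_iff.2 ⟨k, rfl⟩
    refine IsConj.trans ?_ hconj.symm
    by_cases hxP : k * x * k⁻¹ ∈ P
    · refine h.conj_P hp hp1 hxP fun e => ?_
      have : x = 1 := by simpa using e
      rw [this, orderOf_one] at hx
      omega
    · exact hyp.trans (h.conj_out hS hcard hyS hxS hyP hxP hy3 (by rw [conj_pow, hx3, mul_one, mul_inv_cancel]))
  intro x y hx hy
  exact (hall x hx).symm.trans (hall y hy)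

end Hyp

end CfsgLib.Sporadic.J4Type.OneClassThree
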