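import Cfsg.Agent.Lib.Sporadic.J4Type.Setup
import Cfsg.Agent.Lib.Sporadic.J4Type.StabData
import Cfsg.Agent.Lib.Sporadic.LargeFischer.Hexa.StabCount
import Cfsg.Agent.Lib.Sporadic.LargeFischer.Hexa.Model

/-!
# The orbits of the centraliser on `E/⟨z⟩`, and words in its generators
-/

set_option autoImplicit false
set_option linter.unusedSectionVars false
set_option maxRecDepth 40000

namespace CfsgLib.Sporadic.J4Type

open CfsgLib.Sporadic.LargeFischer CfsgLib.Sporadic.LargeFischer.Hexa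

/-- The generators, spelled out. -/
def L5 : List (List ℕ) :=
  [[1835, 2365, 3811, 1905, 3303, 1145, 2428, 3732, 3718, 1995, 743, 889],
   [1824, 2352, 2511, 3653, 2972, 3556, 375, 665, 1126, 2235, 3032, 3436],
   [1393, 2706, 3897, 1310, 1683, 3041, 644, 968, 3409, 1698, 1118, 2215],
   [2, 3, 8, 12, 32, 48, 128, 192, 512, 768, 2048, 3072],
   [985, 695, 1606, 3533, 1777, 3491, 1207, 3182, 43, 22, 84, 252]]

/-- Orbit markers. -/
def oc (n : ℕ) : Bool × Bool := (maskA.testBit n, maskB.testBit n)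

theorem L5_eq : gens5 = L5 := by decide +kernel

theorem L5_facts : (L5.all fun L => L.all (· < 4096) &&
    (List.range 4096).all fun n => frc (lm L n) fun a => oc a == oc n) = true := by decide +kernel

theorem L5_lin : ∀ j : Fin 5, (∀ i : Fin 12, lm (L5.getD j.1 []) (omc (2 ^ i.1)) = omc ((L5.getD j.1 []).getD i.1 0)) ∨
    ∀ i : Fin 12, lm (L5.getD j.1 []) (omc (2 ^ i.1)) = omc (omc ((L5.getD j.1 []).getD i.1 0)) := by decide +kernel

/-- Linear or semilinear, preserving the orbit markers. -/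
def InJ (g : V6 ≃ₗ[ZMod 2] V6) : Prop :=
  ((∀ v, g (omV v) = omV (g v)) ∨ ∀ v, g (omV v) = omV (omV (g v))) ∧ ∀ v, oc (enc (g v)) = oc (enc v)

/-- The group of such maps. -/
def JSub : Subgroup (V6 ≃ₗ[ZMod 2] V6) where
  carrier := {g | InJ g}
  one_mem' := ⟨Or.inl fun _ => rfl, fun _ => rfl⟩
  mul_mem' := by
    rintro a b ⟨ha, ha'⟩ ⟨hb, hb'⟩
    refine ⟨?_, fun v => (ha' (b v)).trans (hb' v)⟩
    rcases ha with ha | ha <;> rcases hb with hb | hb
    · exact Or.inl fun v => by show a (b _) = omV (a (b v)); rw [hb, ha]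
    · exact Or.inr fun v => by show a (b _) = omV (omV (a (b v))); rw [hb, ha, ha]
    · exact Or.inr fun v => by show a (b _) = omV (omV (a (b v))); rw [hb, ha]
    · exact Or.inl fun v => by show a (b _) = omV (a (b v)); rw [hb, ha, ha, omV3]
  inv_mem' := by
    rintro a ⟨ha, ha'⟩
    refine ⟨?_, fun v => by
      have := ha' (a.symm v)
      rw [a.apply_symm_apply] at this
      exact this.symm⟩
    rcases ha with ha | ha
    · exact Or.inl fun v => a.injective (by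
        show a (a.symm _) = a (omV (a.symm v)); rw [a.apply_symm_apply, ha, a.apply_symm_apply])
    · exact Or.inr fun v => a.injective (by
        show a (a.symm _) = a (omV (omV (a.symm v))); rw [a.apply_symm_apply, ha, ha, omV3, a.apply_symm_apply])

theorem inJ_of_imgs {g : V6 ≃ₗ[ZMod 2] V6} (hg : imgs g ∈ gens5) : g ∈ JSub := by
  rw [L5_eq] at hg
  obtain ⟨j, hj, e⟩ := List.mem_iff_getElem.1 hg
  refine ⟨?_, fun v => ?_⟩
  · have hd : L5.getD j [] = imgs g := (List.getD_eq_getElem _ _ hj).trans e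
    rcases L5_lin ⟨j, hj⟩ with h | h <;> simp only [hd] at h
    · exact Or.inl ((commute_omV_iff g).2 fun i hi => h ⟨i, hi⟩)
    · refine Or.inr (ext12 _ _ (fun a b => by rw [omV_add, map_add]) (fun a b => by rw [map_add, omV_add, omV_add])
        fun i hi => ?_)
      have h2 : 2 ^ i < 4096 := Nat.pow_lt_pow_right (by norm_num : 1 < 2) hi |>.trans_eq (by norm_num)
      have hl : lm (imgs g) (2 ^ i) < 4096 := lm_lt (k := 12) _ _ (imgs_lt g)
      rw [omV_dec h2, apply_dec g (omc_fin ⟨_, h2⟩).1, apply_dec g h2, omV_dec hl, omV_dec (omc_fin ⟨_, hl⟩).1]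
      exact congrArg dec ((h ⟨i, hi⟩).trans (congrArg (fun a => omc (omc a)) (lm_bit _ i).symm))
  · have h := List.all_eq_true.1 L5_facts _ hg
    simp only [Bool.and_eq_true, List.all_eq_true, List.mem_range, frc_eq, beq_iff_eq] at h
    rw [enc_apply]
    exact h.2 _ (enc_lt v)

/-- The digits of a coded word. -/
def wDig : ℕ → ℕ → List ℕ
  | 0, _ => []
  | k + 1, c => c % 5 :: wDig k (c / 5)

/-- The letters of a coded word. -/
def wLet (c : ℕ) : List ℕ := wDig (c % 32) (c / 32)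

/-- Apply a word. -/
def appW : List ℕ → ℕ → ℕ
  | [], n => n
  | i :: w, n => frc (appW w n) fun a => lm (L5.getD i []) a

theorem wDig_lt : ∀ k c, ∀ i ∈ wDig k c, i < 5
  | 0, _, _, h => by simp [wDig] at h
  | k + 1, c, i, h => by
    rcases List.mem_cons.1 h with rfl | h
    · exact Nat.mod_lt _ (by norm_num)
    · exact wDig_lt k _ i h

variable {G : Type*} [Group G] [Finite G] {z : G} {π : G → V6}
  {ψ : ↥(Subgroup.centralizer ({z} : Set G)) →* (V6 ≃ₗ[ZMod 2] V6)}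
  {x : ↥(Subgroup.centralizer ({z} : Set G))} (J : JF z π ψ x)
include J

theorem range_le : ψ.range ≤ JSub := J.gen.trans ((Subgroup.closure_le _).2 fun _ hg => inJ_of_imgs hg)

theorem exists_word : ∀ w : List ℕ, (∀ i ∈ w, i < 5) →
    ∃ g ∈ ψ.range, ∀ n, n < 4096 → appW w n < 4096 ∧ g (dec n) = dec (appW w n)
  | [], _ => ⟨1, one_mem _, fun _ hn => ⟨hn, rfl⟩⟩
  | i :: w, hw => by
    obtain ⟨g, hg, hgn⟩ := exists_word w fun j hj => hw j (List.mem_cons_of_mem _ hj)
    have hi : i < 5 := hw i List.mem_cons_self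
    have hm : L5.getD i [] ∈ gens5 := by
      rw [L5_eq, List.getD_eq_getElem _ _ (show i < L5.length from hi)]; exact List.getElem_mem _
    obtain ⟨a, ha, e⟩ := J.mem _ hm
    refine ⟨a * g, mul_mem ha hg, fun n hn => ?_⟩
    obtain ⟨h1, h2⟩ := hgn n hn
    rw [appW, frc_eq]
    refine ⟨lm_lt (k := 12) _ _ (e ▸ imgs_lt a), ?_⟩
    show a (g _) = _
    rw [h2, apply_dec a h1, e]

theorem exists_wLet (c : ℕ) :
    ∃ g ∈ ψ.range, ∀ n, n < 4096 → appW (wLet c) n < 4096 ∧ g (dec n) = dec (appW (wLet c) n) :=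
  exists_word J _ (wDig_lt _ _)

omit J in
theorem trans_facts :
    (∀ j : Fin 4, ∀ i : Fin 12, lm (L5.getD j.1 []) (lm chgL (2 ^ i.1)) = lm chgL ((gensL.getD j.1 []).getD i.1 0)) ∧
    ((List.range 4096).all fun a => decide (lm chgI a < 4096) && (lm chgL (lm chgI a) == a) &&
      frc (lm chgI a) fun b => oc a == (orbI b == 1, orbI b == 2)) = true := by decide +kernel

theorem follow_mem : ∀ k c a, a < 4096 →
    follow k c a < 4096 ∧ ∃ g ∈ ψ.range, g (dec (lm chgL a)) = dec (lm chgL (follow k c a)) := by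
  intro k
  induction k with
  | zero => exact fun c a ha => ⟨ha, 1, one_mem _, rfl⟩
  | succ k ih =>
    intro c a ha
    rw [follow, frc_eq]
    set j := c % 4 with hjdef
    have hj : j < 4 := Nat.mod_lt _ (by norm_num)
    have hl : lm (gensL.getD j []) a < 4096 := lm_lt (k := 12) _ _ fun y hy =>
      (by decide +kernel : ∀ j : Fin 4, ∀ y ∈ gensL.getD j.1 [], y < 2 ^ 12) ⟨j, hj⟩ y hy
    obtain ⟨h1, g, hg, hga⟩ := ih (c / 4) _ hl
    have hm : L5.getD j [] ∈ gens5 := by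
      rw [L5_eq, List.getD_eq_getElem _ _ (show j < L5.length by simp [L5]; omega)]; exact List.getElem_mem _
    obtain ⟨b, hb, e⟩ := J.mem _ hm
    refine ⟨h1, g * b, mul_mem hg hb, ?_⟩
    show g (b _) = _
    rw [← hga]
    refine congrArg g ?_
    have hgl : ∀ y ∈ gensL.getD j [], y < 4096 :=
      (by decide +kernel : ∀ j : Fin 4, ∀ y ∈ gensL.getD j.1 [], y < 4096) ⟨j, hj⟩
    have hadd : ∀ v, b (lmV chgL v) = lmV chgL (lmV (gensL.getD j []) v) := by
      refine ext12 _ _ (fun u v => by rw [lmV_add, map_add]) (fun u v => by rw [lmV_add, lmV_add]) fun i hi => ?_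
      have h2 : 2 ^ i < 4096 := Nat.pow_lt_pow_right (by norm_num : 1 < 2) hi |>.trans_eq (by norm_num)
      have hc : lm chgL (2 ^ i) < 4096 := lm_lt (k := 12) _ _ (okPair_spec chg_pair.1).2.1
      rw [lmV, lmV, lmV, enc_dec h2, apply_dec b hc, e, enc_dec (lm_lt (k := 12) _ _ hgl),
        trans_facts.1 ⟨j, hj⟩ ⟨i, hi⟩, lm_bit]
    have := hadd (dec a)
    rwa [lmV, lmV, lmV, enc_dec ha, enc_dec (lm_lt (k := 12) _ _ hgl)] at this

/-- Vectors with one marker are in one orbit. -/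
theorem transitive {m n : ℕ} (hm : m < 4096) (hn : n < 4096) (e : oc m = oc n) (h : oc m ≠ (false, false)) :
    ∃ g ∈ ψ.range, g (dec m) = dec n := by
  have key : ∀ a, a < 4096 → oc a ≠ (false, false) →
      ∃ g ∈ ψ.range, g (dec (lm chgL (if (oc a).1 then 1 else 6))) = dec a := by
    intro a ha hne
    have h1 := List.all_eq_true.1 trans_facts.2 a (List.mem_range.2 ha)
    simp only [Bool.and_eq_true, decide_eq_true_eq, beq_iff_eq, frc_eq] at h1
    obtain ⟨⟨hlt, hinv⟩, hoc⟩ := h1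
    have h2 := List.all_eq_true.1 rows_ok _ (List.mem_range.2 hlt)
    rw [rowOK, frc_eq, Bool.and_eq_true, decide_eq_true_eq, beq_iff_eq] at h2
    set b := lm chgI a
    have h4 : orbI b < 4 := h2.1
    have hrep : orbRep.getD (orbI b) 0 = if (oc a).1 then 1 else 6 := by
      rw [hoc] at hne ⊢
      interval_cases orbI b <;> simp_all [orbRep]
    obtain ⟨-, g, hg, hga⟩ := follow_mem J (row b / 2 ^ 24 % 16) (row b % 2 ^ 24) (orbRep.getD (orbI b) 0)
      (by rw [hrep]; split <;> norm_num)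
    refine ⟨g, hg, ?_⟩
    rw [← hrep, hga, show follow (row b / 2 ^ 24 % 16) (row b % 2 ^ 24) (orbRep.getD (orbI b) 0) = b from h2.2, hinv]
  obtain ⟨g, hg, e1⟩ := key m hm h
  obtain ⟨g', hg', e2⟩ := key n hn (e ▸ h)
  refine ⟨g' * g⁻¹, mul_mem hg' (inv_mem hg), ?_⟩
  show g' (g.symm _) = _
  rw [← e1, g.symm_apply_apply, e, e2]

omit J in
/-- A single test. -/
theorem single_facts : ∀ k : Fin 64,
    (((List.range 64).all fun j => oc (1 ^^^ wv k.1 ^^^ wv j) == oc (1 ^^^ wv j)) = true → k.1 % 4 = 0) ∧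
    (((List.range 64).all fun j => oc (4 ^^^ wv k.1 ^^^ wv j) == oc (4 ^^^ wv j)) = true → k.1 % 16 < 4) ∧
    (((List.range 64).all fun j => oc (16 ^^^ wv k.1 ^^^ wv j) == oc (16 ^^^ wv j)) = true → k.1 < 16) := by
  decide +kernel

omit J in
theorem pointwise_facts : ∀ a b c : Fin 16,
    oc (omc (1 ^^^ wv (4 * a.1)) ^^^ ((4 ^^^ wv (b.1 % 4 + 16 * (b.1 / 4))) ^^^ omc (4 ^^^ wv (b.1 % 4 + 16 * (b.1 / 4)))) ^^^ wv 5) =
      oc (omc 1 ^^^ (4 ^^^ omc 4) ^^^ wv 5) →
    oc ((4 ^^^ wv (b.1 % 4 + 16 * (b.1 / 4))) ^^^ (16 ^^^ wv c.1) ^^^ wv 4) = oc (4 ^^^ 16 ^^^ wv 4) →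
    oc ((1 ^^^ wv (4 * a.1)) ^^^ ((4 ^^^ wv (b.1 % 4 + 16 * (b.1 / 4))) ^^^ omc (4 ^^^ wv (b.1 % 4 + 16 * (b.1 / 4)))) ^^^
        ((16 ^^^ wv c.1) ^^^ omc (16 ^^^ wv c.1)) ^^^ wv 29) =
      oc (1 ^^^ (4 ^^^ omc 4) ^^^ (16 ^^^ omc 16) ^^^ wv 29) →
    ∃ u : Fin 16, lm (bL u.1) 1 = 1 ^^^ wv (4 * a.1) ∧ lm (bL u.1) 4 = 4 ^^^ wv (b.1 % 4 + 16 * (b.1 / 4)) ∧
      lm (bL u.1) 16 = 16 ^^^ wv c.1 := by
  decide +kernel

/-- The pointwise stabiliser of the hexacode. -/
theorem stab_pointwise {g : V6 ≃ₗ[ZMod 2] V6} (hg : g ∈ ψ.range)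
    (hfix : ∀ k, k < 64 → g (dec (wv k)) = dec (wv k)) (hq : ∀ v, qs (g v) = qs v)
    (hbel : ∀ u v, Bel u (omV v) = omV (Bel u v)) : ∃ u < 16, g = Bel u := by
  obtain ⟨hscal, hoc⟩ := range_le J hg
  have hlin : ∀ v, g (omV v) = omV (g v) := by
    refine hscal.resolve_right fun e => ?_
    have e1 := e (dec (wv 1))
    obtain ⟨hk, ek⟩ := omV_wv (by norm_num : 1 < 64)
    rw [hfix 1 (by norm_num), ek, hfix _ hk, ← ek] at e1
    have e2 : dec (wv 1) = 0 := funext fun i => by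
      have := congrFun e1 i
      change om _ = om (om _) at this
      show _ = (0 : D4)
      revert this
      generalize dec (wv 1) i = d
      revert d; decide
    exact absurd (congrArg enc e2) (by decide +kernel)
  set f := fun n => enc (g (dec n)) with hf
  have hadd : ∀ a b, f (a ^^^ b) = f a ^^^ f b := fun a b => by simp only [f, dec_xor, map_add, enc_add]
  have hW : ∀ k, k < 64 → f (wv k) = wv k := fun k hk => by simp only [f, hfix k hk, enc_dec (wv_lt k)]
  have hom : ∀ a, a < 4096 → f (omc a) = omc (f a) := fun a ha => by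
    simp only [f]; rw [← omV_dec ha, hlin, enc_omV]
  have hinv : ∀ a, a < 4096 → oc (f a) = oc a := fun a ha => (hoc (dec a)).trans (by rw [enc_dec ha])
  have hd : ∀ e, e < 4096 → ∃ k < 64, f e = e ^^^ wv k := fun e he => by
    have hin : InW (g (dec e) + dec e) := inW_of_perp fun k hk => by
      have h0 : ∀ t, qs (g t + dec (wv k)) = qs (t + dec (wv k)) := fun t => by
        rw [← hfix k hk, ← map_add, hq, hfix k hk]
      obtain ⟨-, hqw, -⟩ := bs_wv hk hk
      have hb : bs (g (dec e)) (dec (wv k)) = bs (dec e) (dec (wv k)) := by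
        show qs _ + qs _ + qs _ = qs _ + qs _ + qs _
        rw [h0, hq]
      rw [bs_comm, bs_add, bs_comm, hb, bs_comm (dec (wv k))]; exact CharTwo.add_self_eq_zero _
    obtain ⟨k, hk, ek⟩ := (inW_iff _).1 hin
    refine ⟨k, hk, ?_⟩
    have h1 := congrArg enc ek
    rw [enc_add, enc_dec he, enc_dec (wv_lt k)] at h1
    rw [← h1, Nat.xor_comm, Nat.xor_assoc, Nat.xor_self, Nat.xor_zero]
  obtain ⟨ka, hka, ea⟩ := hd 1 (by norm_num)
  obtain ⟨kb, hkb, eb⟩ := hd 4 (by norm_num)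
  obtain ⟨kc, hkc, ec⟩ := hd 16 (by norm_num)
  have hb12 : ∀ a b, a < 4096 → b < 4096 → a ^^^ b < 4096 := fun a b ha hb => Nat.xor_lt_two_pow (n := 12) ha hb
  have single : ∀ e k, e < 4096 → f e = e ^^^ wv k →
      ((List.range 64).all fun j => oc (e ^^^ wv k ^^^ wv j) == oc (e ^^^ wv j)) = true := fun e k he h =>
    List.all_eq_true.2 fun j hj => by
      rw [beq_iff_eq, ← hinv _ (hb12 _ _ he (wv_lt j)), hadd, hW j (List.mem_range.1 hj), h]
  have m1 := (single_facts ⟨ka, hka⟩).1 (single 1 ka (by norm_num) ea)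
  have m4 := (single_facts ⟨kb, hkb⟩).2.1 (single 4 kb (by norm_num) eb)
  have m16 := (single_facts ⟨kc, hkc⟩).2.2 (single 16 kc (by norm_num) ec)
  simp only at m1 m4 m16
  obtain ⟨a', rfl⟩ : ∃ a' : Fin 16, ka = 4 * a'.1 := ⟨⟨ka / 4, by omega⟩, by simp only; omega⟩
  obtain ⟨b', rfl⟩ : ∃ b' : Fin 16, kb = b'.1 % 4 + 16 * (b'.1 / 4) :=
    ⟨⟨kb % 4 + 4 * (kb / 16), by omega⟩, by simp only; omega⟩
  obtain ⟨c', rfl⟩ : ∃ c' : Fin 16, kc = c'.1 := ⟨⟨kc, m16⟩, rfl⟩
  obtain ⟨u, h1, h4, h16⟩ := pointwise_facts a' b' c'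
    (by
      rw [← hinv (omc 1 ^^^ (4 ^^^ omc 4) ^^^ wv 5) (by decide +kernel), hadd, hadd, hadd, hW 5 (by norm_num),
        hom 1 (by norm_num), hom 4 (by norm_num), ea, eb])
    (by rw [← hinv (4 ^^^ 16 ^^^ wv 4) (by decide +kernel), hadd, hadd, hW 4 (by norm_num), eb, ec])
    (by
      rw [← hinv (1 ^^^ (4 ^^^ omc 4) ^^^ (16 ^^^ omc 16) ^^^ wv 29) (by decide +kernel), hadd, hadd, hadd, hadd,
        hadd, hW 29 (by norm_num), hom 4 (by norm_num), hom 16 (by norm_num), ea, eb, ec])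
  refine ⟨u.1, u.2, ?_⟩
  refine (inv_mul_eq_one (G := V6 ≃ₗ[ZMod 2] V6)).1 (eq_one_of_fix (g := g⁻¹ * Bel u.1)
    (wBasis ++ [1, omc 1, 4, omc 4, 16, omc 16]) wCoef (fun y hy => ?_) ?_)
  · show g.symm (Bel u.1 (dec y)) = dec y
    rw [g.symm_apply_eq]
    have hgd : ∀ a, a < 4096 → g (dec a) = dec (f a) := fun a _ => (dec_enc _).symm
    rcases List.mem_append.1 hy with hy | hy
    · obtain ⟨k, hk, rfl⟩ : ∃ k < 64, y = wv k :=
        (by decide +kernel : ∀ y ∈ wBasis, ∃ k < 64, y = wv k) y hy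
      rw [Bel_fix u.2 hk, hfix k hk]
    · have homb : ∀ a, a < 4096 → Bel u.1 (dec (omc a)) = dec (omc (lm (bL u.1) a)) := fun a ha => by
        rw [← omV_dec ha, hbel, Bel_dec u.2 ha, omV_dec (lm_lt (k := 12) _ _ (bL_lt u.2))]
      simp only [List.mem_cons, List.not_mem_nil, or_false] at hy
      rcases hy with rfl | rfl | rfl | rfl | rfl | rfl
      · rw [Bel_dec u.2 (by norm_num), h1, hgd _ (by norm_num), ea]
      · rw [homb _ (by norm_num), h1, hgd _ (by decide +kernel), hom 1 (by norm_num), ea]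
      · rw [Bel_dec u.2 (by norm_num), h4, hgd _ (by norm_num), eb]
      · rw [homb _ (by norm_num), h4, hgd _ (by decide +kernel), hom 4 (by norm_num), eb]
      · rw [Bel_dec u.2 (by norm_num), h16, hgd _ (by norm_num), ec]
      · rw [homb _ (by norm_num), h16, hgd _ (by decide +kernel), hom 16 (by norm_num), ec]
  · intro i hi
    have := wChain_ok.2.2 i hi
    rw [show wBasis ++ dbl (wChain.map fun e => e.1).reverse = wBasis ++ [1, omc 1, 4, omc 4, 16, omc 16] by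
      decide +kernel] at this
    exact this

end CfsgLib.Sporadic.J4Type
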