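import Cfsg.Agent.Lib.Sporadic.J4Type.Setup
import Cfsg.Agent.Lib.Sporadic.LargeFischer.Hexa.Rows
import Cfsg.Agent.Lib.Sporadic.MathieuOutTwo
import Cfsg.Agent.S5599

/-!
# The stabiliser of a pair of points and the automorphisms of the Mathieu group of degree 22
-/

set_option autoImplicit false
set_option linter.unusedSectionVars false

namespace CfsgLib.Sporadic.J4Type

open Cfsg CfsgLib.Sporadic.MathieuOutTwo CfsgLib.Sporadic.LargeFischer.Hexa
open scoped Pointwise

/-- The stabiliser of the pair is the automorphism group. -/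
theorem pair_stabilizer_aut :
    Nonempty (↥(Cfsg.M24 ⊓ MulAction.stabilizer (Equiv.Perm GolayPt) ({none, some 0} : Set GolayPt)) ≃* MulAut ↥Cfsg.Spor.M22) := by
  set S := Cfsg.M24 ⊓ MulAction.stabilizer (Equiv.Perm GolayPt) ({none, some 0} : Set GolayPt) with hS
  have hdich : ∀ c : ↥S, ((c : Equiv.Perm GolayPt) none = none ∧ (c : Equiv.Perm GolayPt) (some 0) = some 0) ∨
      ((c : Equiv.Perm GolayPt) none = some 0 ∧ (c : Equiv.Perm GolayPt) (some 0) = none) := fun c =>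
    mem_pair_stabilizer.1 c.2.2
  have hnorm : ∀ c : ↥S, ∀ y ∈ Cfsg.Spor.M22, (c : Equiv.Perm GolayPt) * y * (c : Equiv.Perm GolayPt)⁻¹ ∈ Cfsg.Spor.M22 := by
    intro c y hy
    rcases hdich c with ⟨h1, h2⟩ | ⟨h1, h2⟩
    · have hc : (c : Equiv.Perm GolayPt) ∈ Cfsg.Spor.M22 := ⟨⟨c.2.1, h1⟩, h2⟩
      exact mul_mem (mul_mem hc hy) (inv_mem hc)
    · exact (Cfsg.Agent.S5599.result _ c.2.1 h1 h2).2.1 y hy
  let Φ : ↥S →* MulAut ↥Cfsg.Spor.M22 :=
    { toFun := fun c =>
        { toFun := fun y => ⟨(c : Equiv.Perm GolayPt) * y * (c : Equiv.Perm GolayPt)⁻¹, hnorm c y y.2⟩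
          invFun := fun y => ⟨(c⁻¹ : ↥S) * (y : Equiv.Perm GolayPt) * ((c⁻¹ : ↥S) : Equiv.Perm GolayPt)⁻¹, hnorm _ y y.2⟩
          left_inv := fun y => Subtype.ext (by simp [mul_assoc])
          right_inv := fun y => Subtype.ext (by simp [mul_assoc])
          map_mul' := fun a b => Subtype.ext (by simp [mul_assoc]) }
      map_one' := MulEquiv.ext fun y => Subtype.ext (by simp)
      map_mul' := fun a b => MulEquiv.ext fun y => Subtype.ext (by simp [mul_assoc]) }
  refine ⟨MulEquiv.ofBijective Φ ⟨(injective_iff_map_eq_one Φ).2 fun c hc => ?_, fun α => ?_⟩⟩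
  · have hcomm : ∀ y ∈ Cfsg.Spor.M22, (c : Equiv.Perm GolayPt) * y * (c : Equiv.Perm GolayPt)⁻¹ = y := fun y hy =>
      congrArg Subtype.val (MulEquiv.congr_fun hc ⟨y, hy⟩)
    rcases hdich c with ⟨h1, h2⟩ | ⟨h1, h2⟩
    · have hc22 : (c : Equiv.Perm GolayPt) ∈ Cfsg.Spor.M22 := ⟨⟨c.2.1, h1⟩, h2⟩
      have h : MulAut.conj (⟨_, hc22⟩ : Schur.MTwoTwo.G) = MulAut.conj (1 : Schur.MTwoTwo.G) :=
        MulEquiv.ext fun y => Subtype.ext (by
          show (c : Equiv.Perm GolayPt) * y * (c : Equiv.Perm GolayPt)⁻¹ = _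
          rw [hcomm _ y.2]
          simp)
      have h' : (c : Equiv.Perm GolayPt) = 1 := congrArg (fun y : Schur.MTwoTwo.G => (y : Equiv.Perm GolayPt)) (conj_injective h)
      exact Subtype.ext h'
    · exact absurd ⟨1, one_mem _, fun y hy => by rw [hcomm y hy]; simp⟩ (Cfsg.Agent.S5599.result _ c.2.1 h1 h2).2.2
  · obtain ⟨w, hw, hp, hα⟩ := aut_induced α
    have hmap : ∀ p ∈ pair, w p ∈ pair := fun p hp' => by
      have := Finset.smul_mem_smul_finset (a := w) hp'
      rwa [hp] at this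
    have hn := hmap none (by simp)
    have h0 := hmap (some 0) (by simp)
    simp only [Finset.mem_insert, Finset.mem_singleton] at hn h0
    have hne : w none ≠ w (some 0) := fun e => by simpa using w.injective e
    refine ⟨⟨w, hw, mem_pair_stabilizer.2 ?_⟩, MulEquiv.ext fun y => Subtype.ext (hα y).symm⟩
    rcases hn with e | e
    · exact Or.inl ⟨e, h0.resolve_left fun e' => hne (e.trans e'.symm)⟩
    · exact Or.inr ⟨e, h0.resolve_right fun e' => hne (e.trans e'.symm)⟩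

end CfsgLib.Sporadic.J4Type
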