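import Cfsg.Agent.Lib.Schur.MTwoTwo.Model
import Cfsg.Agent.Lib.Sporadic.J4Type.ModuleData

/-!
# Three elements of `M₂₂`, relations between them, and an outer automorphism
-/

set_option autoImplicit false
set_option linter.unusedSectionVars false
set_option maxRecDepth 100000

namespace CfsgLib.Sporadic.J4Type

open CfsgLib.Schur.MTwoTwo CfsgLib.Sporadic.OutCert CfsgLib.SmallGroups CfsgLib.SmallGroups.Golay
open CfsgLib.SmallGroups.GolayOctads CfsgLib.Sporadic.MathieuOutTwo
open scoped Pointwise

/-- The product of a word in the two generators. -/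
noncomputable def pw (w : List ℕ) : Schur.MTwoTwo.G := ((letters w).map Schur.MTwoTwo.gen).prod

theorem pw_append (v w : List ℕ) : pw (v ++ w) = pw v * pw w := by
  simp [pw, letters]

/-- Repetition of a word. -/
def rep (n : ℕ) (w : List ℕ) : List ℕ := (List.replicate n w).flatten

theorem pw_rep (w : List ℕ) : ∀ n, pw (rep n w) = pw w ^ n
  | 0 => rfl
  | n + 1 => by
    rw [show rep (n + 1) w = w ++ rep n w from rfl, pw_append, pw_rep w n, pow_succ']

/-- Equality of the permutations of two words. -/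
noncomputable def sameW (v w : List ℕ) : Bool :=
  (v.all fun m => Nat.blt m 2) && (w.all fun m => Nat.blt m 2) && allF (fun i => Nat.beq (wordImg v i) (wordImg w i)) 24

theorem pw_eq {v w : List ℕ} (h : sameW v w = true) : pw v = pw w := by
  simp only [sameW, Bool.and_eq_true] at h
  refine psi_injective (Equiv.ext fun i => Fin.ext ?_)
  rw [pw, pw, ← wordImg_psi, ← wordImg_psi, letters_val h.1.1, letters_val h.1.2]
  exact Nat.eq_of_beq_eq_true (allF_iff.1 h.2 i i.2)

/-- The word of the element of order eleven. -/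
def wX : List ℕ := wordXYU.getD 0 []

/-- The word of the element of order five. -/
def wY : List ℕ := wordXYU.getD 1 []

/-- The word of the element of order four. -/
def wU : List ℕ := wordXYU.getD 2 []

/-- The element of order eleven. -/
noncomputable def px : Schur.MTwoTwo.G := pw wX

/-- The element of order five. -/
noncomputable def py : Schur.MTwoTwo.G := pw wY

/-- The element of order four. -/
noncomputable def pu : Schur.MTwoTwo.G := pw wU

theorem rel_words : sameW (rep 11 wX) [] = true ∧ sameW (rep 5 wY) [] = true ∧ sameW (rep 4 wU) [] = true ∧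
    sameW (wY ++ wX) (rep 4 wX ++ wY) = true ∧ sameW (wU ++ wY) (rep 2 wY ++ wU) = true ∧
    sameW (rep 5 (wX ++ wU)) [] = true ∧ sameW wX [] = false ∧ sameW wY [] = false := by decide +kernel

theorem pw_nil : pw [] = 1 := rfl

theorem rels : px ^ 11 = 1 ∧ py ^ 5 = 1 ∧ pu ^ 4 = 1 ∧ py * px = px ^ 4 * py ∧ pu * py = py ^ 2 * pu ∧
    (px * pu) ^ 5 = 1 := by
  obtain ⟨h1, h2, h3, h4, h5, h6, -, -⟩ := rel_words
  refine ⟨?_, ?_, ?_, ?_, ?_, ?_⟩
  · rw [px, ← pw_rep, pw_eq h1, pw_nil]
  · rw [py, ← pw_rep, pw_eq h2, pw_nil]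
  · rw [pu, ← pw_rep, pw_eq h3, pw_nil]
  · rw [px, py, ← pw_rep, ← pw_append, ← pw_append, pw_eq h4]
  · rw [py, pu, ← pw_rep, ← pw_append, ← pw_append, pw_eq h5]
  · rw [px, pu, ← pw_append, ← pw_rep, pw_eq h6, pw_nil]

theorem pw_ne_one {w : List ℕ} (hl : (w.all fun m => Nat.blt m 2) = true)
    (h : allF (fun i => Nat.beq (wordImg w i) i) 24 = false) : pw w ≠ 1 := by
  intro e
  have : allF (fun i => Nat.beq (wordImg w i) i) 24 = true := allF_iff.2 fun i hi => by
    have h1 := wordImg_psi (letters w) ⟨i, hi⟩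
    rw [letters_val hl] at h1
    rw [h1, show ((letters w).map Schur.MTwoTwo.gen).prod = pw w from rfl, e, map_one]
    exact Nat.beq_refl _
  rw [h] at this
  exact Bool.false_ne_true this

theorem moved : ((wX.all fun m => Nat.blt m 2) = true ∧ allF (fun i => Nat.beq (wordImg wX i) i) 24 = false) ∧
    (wY.all fun m => Nat.blt m 2) = true ∧ allF (fun i => Nat.beq (wordImg wY i) i) 24 = false := by decide +kernel

theorem px_ne : px ≠ 1 := pw_ne_one moved.1.1 moved.1.2

theorem py_ne : py ≠ 1 := pw_ne_one moved.2.1 moved.2.2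

/-- The words of the generators, spelled out. -/
def genSpelled (j : ℕ) : List ℕ := ((wordGen.getD j []).map fun k => wordXYU.getD k []).flatten

theorem gen_spelled : ∀ j : Fin 2, sameW (genSpelled j.1) [j.1] = true := by decide +kernel

theorem letters_lt : (wordGen.all fun w => w.all fun k => Nat.blt k 3) = true := by decide +kernel

/-- The three elements generate. -/
theorem closure_xyu : Subgroup.closure ({px, py, pu} : Set Schur.MTwoTwo.G) = ⊤ := by
  refine top_le_iff.1 (gen_closure ▸ ?_)
  rw [Subgroup.closure_le]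
  rintro _ ⟨j, rfl⟩
  have hj : pw [j.1] = Schur.MTwoTwo.gen j := by
    show ((letters [j.1]).map Schur.MTwoTwo.gen).prod = _
    simp only [letters, List.map_cons, List.map_nil, List.prod_singleton]
    exact congrArg _ (Fin.ext (Nat.mod_eq_of_lt j.2))
  rw [← hj, ← pw_eq (gen_spelled j), genSpelled]
  have key : ∀ l : List ℕ, (∀ k ∈ l, k < 3) →
      pw ((l.map fun k => wordXYU.getD k []).flatten) ∈ Subgroup.closure ({px, py, pu} : Set Schur.MTwoTwo.G) := by
    intro l
    induction l with
    | nil => intro _; exact one_mem _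
    | cons k l ih =>
      intro hl
      rw [List.map_cons, List.flatten_cons, pw_append]
      refine mul_mem ?_ (ih fun i hi => hl i (List.mem_cons_of_mem _ hi))
      have hk := hl k List.mem_cons_self
      interval_cases k
      · exact Subgroup.subset_closure (by simp [px, wX])
      · exact Subgroup.subset_closure (by simp [py, wY])
      · exact Subgroup.subset_closure (by simp [pu, wU])
  refine key _ fun k hk => ?_
  have h1 := List.all_eq_true.1 letters_lt (wordGen.getD j.1 []) (by fin_cases j <;> simp [wordGen])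
  exact Nat.blt_eq.mp (List.all_eq_true.1 h1 k hk)

/-- The outer permutation, as a function. -/
noncomputable def afun (p : Cfsg.GolayPt) : Cfsg.GolayPt := pt (alphaL.getD (idx p) 0)

theorem afun_facts : (∀ p, afun (afun p) = p) ∧
    (∀ i < 12, isCW (mask fun p => word (bas i) (afun p)) = true) ∧ afun none = some 0 ∧ afun (some 0) = none := by
  decide +kernel

/-- The outer permutation. -/
noncomputable def aperm : Equiv.Perm Cfsg.GolayPt where
  toFun := afun
  invFun := afun
  left_inv := afun_facts.1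
  right_inv := afun_facts.1

theorem aperm_mem : aperm ∈ Cfsg.M24 :=
  M24Group.mem_M24_of_basis (g := aperm) (f := afun) (fun _ => rfl) afun_facts.2.1

theorem aperm_words : allF (fun i => Nat.beq (wordImg wX (alphaL.getD (wordImg wX i) 0)) (alphaL.getD i 0)) 24 = true ∧
    allF (fun i => Nat.beq (wordImg wY (alphaL.getD i 0)) (alphaL.getD (wordImg wY i) 0)) 24 = true ∧
    allF (fun i => Nat.beq (wordImg wU (alphaL.getD i 0)) (alphaL.getD (wordImg wU i) 0)) 24 = true ∧
    allF (fun i => Nat.blt (alphaL.getD i 0) 24) 24 = true := by decide +kernel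

theorem pw_idx {w : List ℕ} (hl : (w.all fun m => Nat.blt m 2) = true) (p : Cfsg.GolayPt) :
    idx ((pw w : Equiv.Perm Cfsg.GolayPt) p) = wordImg w (idx p) := by
  have h1 := wordImg_psi (letters w) ⟨idx p, idx_lt p⟩
  rw [letters_val hl, psi_apply] at h1
  simp only [pt_idx] at h1
  exact h1.symm

theorem idx_aperm (p : Cfsg.GolayPt) : idx (aperm p) = alphaL.getD (idx p) 0 :=
  idx_pt (Nat.blt_eq.mp (allF_iff.1 aperm_words.2.2.2 _ (idx_lt p)))

theorem aperm_x : (px : Equiv.Perm Cfsg.GolayPt) * aperm * (px : Equiv.Perm Cfsg.GolayPt) = aperm := by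
  refine Equiv.ext fun p => idx_injective ?_
  simp only [Equiv.Perm.mul_apply]
  rw [px, pw_idx moved.1.1, idx_aperm, pw_idx moved.1.1, idx_aperm]
  exact Nat.eq_of_beq_eq_true (allF_iff.1 aperm_words.1 _ (idx_lt p))

theorem wU_ok : (wU.all fun m => Nat.blt m 2) = true := by decide +kernel

theorem aperm_yu : Commute (py : Equiv.Perm Cfsg.GolayPt) aperm ∧ Commute (pu : Equiv.Perm Cfsg.GolayPt) aperm := by
  refine ⟨Equiv.ext fun p => idx_injective ?_, Equiv.ext fun p => idx_injective ?_⟩ <;>
    simp only [Equiv.Perm.mul_apply]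
  · rw [py, pw_idx moved.2.1, idx_aperm, idx_aperm, pw_idx moved.2.1]
    exact Nat.eq_of_beq_eq_true (allF_iff.1 aperm_words.2.1 _ (idx_lt p))
  · rw [pu, pw_idx wU_ok, idx_aperm, idx_aperm, pw_idx wU_ok]
    exact Nat.eq_of_beq_eq_true (allF_iff.1 aperm_words.2.2.1 _ (idx_lt p))

/-- Up to inner automorphisms there is only one other automorphism. -/
theorem aut_cases (α : MulAut Schur.MTwoTwo.G) : (∃ m : Schur.MTwoTwo.G, α = MulAut.conj m) ∨
    ∃ m : Schur.MTwoTwo.G, ∀ g : Schur.MTwoTwo.G, (α g : Equiv.Perm Cfsg.GolayPt) = m * aperm * g * aperm⁻¹ * (m : Equiv.Perm Cfsg.GolayPt)⁻¹ := by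
  obtain ⟨x, hx, hp, hα⟩ := aut_induced α
  have hmap : ∀ p ∈ pair, x p ∈ pair := fun p hp' => by
    have : x • p ∈ x • pair := Finset.smul_mem_smul_finset hp'
    rwa [hp] at this
  have hn := hmap none (by simp)
  have h0 := hmap (some 0) (by simp)
  simp only [Finset.mem_insert, Finset.mem_singleton] at hn h0
  have hne : x none ≠ x (some 0) := fun e => by simpa using x.injective e
  rcases hn with hn | hn
  · have h0' : x (some 0) = some 0 := h0.resolve_left fun e => hne (hn.trans e.symm)
    refine Or.inl ⟨⟨x, (mem_M22 x).2 ⟨hx, fun p hp' => ?_⟩⟩, MulEquiv.ext fun g => Subtype.ext (hα g)⟩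
    simp only [Finset.mem_insert, Finset.mem_singleton] at hp'
    rcases hp' with rfl | rfl
    exacts [hn, h0']
  · have h0' : x (some 0) = none := h0.resolve_right fun e => hne (hn.trans e.symm)
    refine Or.inr ⟨⟨x * aperm⁻¹, (mem_M22 _).2 ⟨mul_mem hx (inv_mem aperm_mem), fun p hp' => ?_⟩⟩, fun g => ?_⟩
    · simp only [Finset.mem_insert, Finset.mem_singleton] at hp'
      have ha : ∀ p, aperm⁻¹ p = aperm p := fun p => rfl
      rw [Equiv.Perm.mul_apply, ha]
      rcases hp' with rfl | rfl
      · rw [show aperm none = some 0 from afun_facts.2.2.1, h0']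
      · rw [show aperm (some 0) = none from afun_facts.2.2.2, hn]
    · rw [hα g]; group

/-- An automorphism that is not inner becomes the standard one after an inner change. -/
theorem outer_normal (α : MulAut Schur.MTwoTwo.G) (h : ∀ m, α ≠ MulAut.conj m) :
    ∃ m : Schur.MTwoTwo.G, α px = m * px⁻¹ * m⁻¹ ∧ α py = m * py * m⁻¹ ∧ α pu = m * pu * m⁻¹ := by
  rcases aut_cases α with ⟨m, e⟩ | ⟨m, e⟩
  · exact absurd e (h m)
  refine ⟨m, Subtype.ext ?_, Subtype.ext ?_, Subtype.ext ?_⟩
  · rw [e]
    simp only [Subgroup.coe_mul, Subgroup.coe_inv]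
    have h1 := aperm_x
    rw [show (m : Equiv.Perm Cfsg.GolayPt) * aperm * px * aperm⁻¹ =
      m * (px : Equiv.Perm Cfsg.GolayPt)⁻¹ * ((px : Equiv.Perm Cfsg.GolayPt) * aperm * px) * aperm⁻¹ by group, h1]
    group
  · rw [e]
    simp only [Subgroup.coe_mul, Subgroup.coe_inv]
    rw [mul_assoc (m : Equiv.Perm Cfsg.GolayPt) aperm, ← aperm_yu.1.eq]
    group
  · rw [e]
    simp only [Subgroup.coe_mul, Subgroup.coe_inv]
    rw [mul_assoc (m : Equiv.Perm Cfsg.GolayPt) aperm, ← aperm_yu.2.eq]
    group

/-- Any two automorphisms that are not inner differ by an inner one. -/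
theorem outer_eq (α β : MulAut Schur.MTwoTwo.G) (ha : ∀ m, α ≠ MulAut.conj m) (hb : ∀ m, β ≠ MulAut.conj m) :
    ∃ m, α = MulAut.conj m * β := by
  rcases aut_cases α with ⟨m, e⟩ | ⟨m, ea⟩
  · exact absurd e (ha m)
  rcases aut_cases β with ⟨n, e⟩ | ⟨n, eb⟩
  · exact absurd e (hb n)
  refine ⟨m * n⁻¹, MulEquiv.ext fun g => Subtype.ext ?_⟩
  show (α g : Equiv.Perm Cfsg.GolayPt) = ((m * n⁻¹ * β g * (m * n⁻¹)⁻¹ : Schur.MTwoTwo.G) : Equiv.Perm Cfsg.GolayPt)
  simp only [Subgroup.coe_mul, Subgroup.coe_inv, ea, eb]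
  group

end CfsgLib.Sporadic.J4Type
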