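import Cfsg.Agent.Lib.Sporadic.LargeFischer.Setup
import Cfsg.Agent.Lib.Sporadic.J4Type.ModuleMain
import Cfsg.Agent.Lib.Sporadic.J4Type.Perm
import Cfsg.Prelude.Def_JankoFourType

/-!
# Groups of fourth Janko type: coordinates on `E/⟨z⟩`
-/

set_option autoImplicit false
set_option linter.style.haveILetI false
set_option linter.unusedSectionVars false
set_option maxRecDepth 40000

namespace CfsgLib.Sporadic.J4Type

open CfsgLib.Sporadic.LargeFischer CfsgLib.Sporadic.LargeFischer.Hexa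
open CfsgLib.ThreeTransp.Extraspecial CfsgLib.ThreeTransp.ExtraspecialOut

/-- The scalar in the final coordinates. -/
def cOm : List ℕ := [2, 3, 8, 12, 32, 48, 128, 192, 512, 768, 2048, 3072]

/-- The semilinear element in the final coordinates. -/
def cT : List ℕ := cmpL chgL (cmpL tauC chgI)

/-- The generators in the final coordinates. -/
def gens5 : List (List ℕ) := [cX, cY, cU, cOm, cT]

/-- A configuration of fourth Janko type in coordinates. -/
structure JF {G : Type*} [Group G] [Finite G] (z : G) (π : G → V6)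
    (ψ : ↥(Subgroup.centralizer ({z} : Set G)) →* (V6 ≃ₗ[ZMod 2] V6))
    (x : ↥(Subgroup.centralizer ({z} : Set G))) : Prop where
  base : LFBase z (Cfsg.twoCoreOfCentralizer z) π ψ
  mem : ∀ L ∈ gens5, ∃ g ∈ ψ.range, imgs g = L
  gen : ψ.range ≤ Subgroup.closure {g | imgs g ∈ gens5}
  card : Nat.card ψ.range = 2661120
  special : Cfsg.IsExtraspecial 2 ↥(Cfsg.twoCoreOfCentralizer z)
  hx : ∀ v, ψ x v = omV v
  h3 : x ^ 3 = 1

theorem cOm_eq {g : V6 ≃ₗ[ZMod 2] V6} : imgs g = cOm ↔ ∀ v, g v = omV v := by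
  have hl : ∀ v, omV v = lmV cOm v := ext12 _ _ omV_add (lmV_add _) fun i hi => by interval_cases i <;> decide +kernel
  constructor
  · intro e v
    rw [hl, ← dec_enc v, apply_dec g (enc_lt v), e, lmV, enc_dec (enc_lt v)]
  · intro e
    refine List.ext_getElem (by simp [imgs, cOm]) fun j hj hj' => ?_
    simp only [imgs, List.getElem_map, List.getElem_range]
    have hj12 : j < 12 := by simpa [imgs] using hj
    rw [e, enc_omV, enc_dec (Nat.pow_lt_pow_right (by norm_num : 1 < 2) hj12 |>.trans_eq (by norm_num))]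
    interval_cases j <;> rfl

theorem tau_rels : okPair tauC tauC = true ∧ tauC.length = 12 ∧
    cmpL tauC (cmpL xC tauC) = powL xC 10 ∧ cmpL tauC (cmpL yC tauC) = yC ∧ cmpL tauC (cmpL uC tauC) = uC ∧
    ∀ i : Fin 12, lm tauC (omc (2 ^ i.1)) = omc (omc (tauC.getD i.1 0)) := by decide +kernel

theorem omV3 (v : V6) : omV (omV (omV v)) = v :=
  funext fun i => (by decide : ∀ d : D4, om (om (om d)) = d) (v i)

/-- The semilinear map. -/
def tau0 : V6 ≃ₗ[ZMod 2] V6 := mkE tauC tauC (okPair_spec tau_rels.1)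

theorem imgs_tau0 : imgs tau0 = tauC ∧ tau0⁻¹ = tau0 :=
  ⟨imgs_mkE _ (list_twelve tau_rels.2.1),
    imgs_inj (by rw [show imgs tau0 = tauC from imgs_mkE _ (list_twelve tau_rels.2.1),
      show imgs tau0⁻¹ = tauC from imgs_mkE_inv _ tau_rels.2.1])⟩

theorem tau0_semi : ∀ v, tau0 (omV v) = omV (omV (tau0 v)) := by
  refine ext12 _ _ (fun a b => by rw [omV_add, map_add]) (fun a b => by rw [map_add, omV_add, omV_add]) fun i hi => ?_
  have h2 : 2 ^ i < 4096 := Nat.pow_lt_pow_right (by norm_num : 1 < 2) hi |>.trans_eq (by norm_num)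
  have hl : lm tauC (2 ^ i) < 4096 := lm_lt (k := 12) _ _ (okPair_spec tau_rels.1).2.1
  rw [omV_dec h2, apply_dec tau0 (omc_fin ⟨_, h2⟩).1, apply_dec tau0 h2, imgs_tau0.1, omV_dec hl,
    omV_dec (omc_fin ⟨_, hl⟩).1]
  exact congrArg dec ((tau_rels.2.2.2.2.2 ⟨i, hi⟩).trans (congrArg (fun a => omc (omc a)) (lm_bit tauC i).symm))

/-- Maps commuting with the three elements are scalars. -/
def centOK (m : ℕ) : Bool :=
  let L := mlistF xC omc m
  !(cmpF L yC == cmpF yC L) || !(cmpF L uC == cmpF uC L) || L == List.replicate 12 0 || scalL.contains L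

theorem cent_all : (List.range 4096).all centOK = true := by decide +kernel

theorem xC_one : ((List.range 4096).all fun n =>
    decide (lm xC n ^^^ n < 1024) && (!(lm xC n == n) || n % 1024 == 0)) = true := by decide +kernel

theorem commutant {C X Y U : V6 ≃ₗ[ZMod 2] V6} (hX : imgs X = xC) (hY : imgs Y = yC) (hU : imgs U = uC)
    (hl : ∀ v, C (omV v) = omV (C v)) (h1 : C * X = X * C) (h2 : C * Y = Y * C) (h3 : C * U = U * C) :
    imgs C ∈ scalL := by
  have hpx : powL xC 1 = xC := by decide +kernel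
  obtain ⟨m, hm, e⟩ := imgs_mlist C X hX 1 omc (by rw [pow_one, h1]) (fun n hn => imgs_omc C hl hn)
    (fun n hn => by
      rw [hpx]
      have := List.all_eq_true.1 xC_one n (List.mem_range.2 hn)
      rw [Bool.and_eq_true, decide_eq_true_eq] at this
      exact this.1)
    (fun n hn hfix => by
      rw [hpx] at hfix
      have := List.all_eq_true.1 xC_one n (List.mem_range.2 hn)
      rw [Bool.and_eq_true, Bool.or_eq_true] at this
      rcases this.2 with h | h
      · rw [Bool.not_eq_true', beq_eq_false_iff_ne] at h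
        exact absurd hfix h
      · exact beq_iff_eq.1 h)
  rw [hpx] at e
  have h := List.all_eq_true.1 cent_all m (List.mem_range.2 hm)
  simp only [centOK, mlistF_eq, cmpF_eq, ← e] at h
  rw [← hY, ← hU, ← imgs_mul, ← imgs_mul, ← imgs_mul, ← imgs_mul, h2, h3] at h
  simp only [beq_self_eq_true, Bool.not_true, Bool.false_or, Bool.or_eq_true, beq_iff_eq, List.contains_iff_mem] at h
  refine h.resolve_left fun hz => ?_
  have h0 : C (dec 1) = 0 := by
    rw [apply_dec C (by norm_num), hz]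
    exact (congrArg dec (by decide +kernel : lm (List.replicate 12 0) 1 = 0)).trans dec_zero
  exact absurd (congrArg enc (C.map_eq_zero_iff.1 h0)) (by decide +kernel)

theorem imgs_chg_conj (g : V6 ≃ₗ[ZMod 2] V6) : imgs (chg * g * chg⁻¹) = cmpL chgL (cmpL (imgs g) chgI) := by
  rw [mul_assoc, imgs_mul, imgs_mul, imgs_chg.1, imgs_chg.2]

theorem scalL_words : ∀ L ∈ scalL, ∃ k : Fin 3, L = powL cOm k.1 ∧ cmpL chgL (cmpL L chgI) = powL cOm k.1 := by
  decide +kernel

/-- A semilinear map acting as the outer automorphism is a scalar times the standard one. -/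
theorem exists_scal_tau {X Y U φ : V6 ≃ₗ[ZMod 2] V6} (hX : imgs X = cX) (hY : imgs Y = cY) (hU : imgs U = cU)
    (hs : ∀ v, φ (omV v) = omV (omV (φ v))) (h1 : φ * X = X⁻¹ * φ) (h2 : φ * Y = Y * φ) (h3 : φ * U = U * φ)
    (hX11 : X ^ 11 = 1) :
    ∃ k : Fin 3, ∀ S : V6 ≃ₗ[ZMod 2] V6, imgs S = cOm → imgs (S⁻¹ ^ k.1 * φ) = cT := by
  have hcinv : ∀ v, chg⁻¹ (omV v) = omV (chg⁻¹ v) := fun v => chg.injective (by
    show chg (chg.symm (omV v)) = chg (omV (chg.symm v))
    rw [chg_lin, chg.apply_symm_apply, chg.apply_symm_apply])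
  set X0 := chg⁻¹ * X * chg with hX0d
  set Y0 := chg⁻¹ * Y * chg with hY0d
  set U0 := chg⁻¹ * U * chg with hU0d
  set p0 := chg⁻¹ * φ * chg with hp0d
  have key : cmpL chgI (cmpL cX chgL) = xC ∧ cmpL chgI (cmpL cY chgL) = yC ∧ cmpL chgI (cmpL cU chgL) = uC := by
    decide +kernel
  have hX0 : imgs X0 = xC := by rw [hX0d, imgs_conj, hX, imgs_chg.1, imgs_chg.2, key.1]
  have hY0 : imgs Y0 = yC := by rw [hY0d, imgs_conj, hY, imgs_chg.1, imgs_chg.2, key.2.1]
  have hU0 : imgs U0 = uC := by rw [hU0d, imgs_conj, hU, imgs_chg.1, imgs_chg.2, key.2.2]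
  have hX0' : X0 ^ 11 = 1 := by
    rw [hX0d, show chg⁻¹ * X * chg = chg⁻¹ * X * (chg⁻¹)⁻¹ by rw [inv_inv], conj_pow, hX11]; group
  have t1 : tau0 * X0 * tau0 = X0 ^ 10 := imgs_inj (by
    rw [mul_assoc, imgs_mul, imgs_mul, imgs_pow, imgs_tau0.1, hX0, tau_rels.2.2.1])
  have t2 : tau0 * Y0 * tau0 = Y0 := imgs_inj (by rw [mul_assoc, imgs_mul, imgs_mul, imgs_tau0.1, hY0, tau_rels.2.2.2.1])
  have t3 : tau0 * U0 * tau0 = U0 := imgs_inj (by rw [mul_assoc, imgs_mul, imgs_mul, imgs_tau0.1, hU0, tau_rels.2.2.2.2.1])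
  have htt : tau0 * tau0 = 1 := by conv_lhs => arg 1; rw [← imgs_tau0.2]
                                   exact inv_mul_cancel _
  have q1 : p0 * X0 = X0⁻¹ * p0 := by
    rw [hp0d, hX0d, show chg⁻¹ * φ * chg * (chg⁻¹ * X * chg) = chg⁻¹ * (φ * X) * chg by group, h1]; group
  have q2 : p0 * Y0 = Y0 * p0 := by
    rw [hp0d, hY0d, show chg⁻¹ * φ * chg * (chg⁻¹ * Y * chg) = chg⁻¹ * (φ * Y) * chg by group, h2]; group
  have q3 : p0 * U0 = U0 * p0 := by
    rw [hp0d, hU0d, show chg⁻¹ * φ * chg * (chg⁻¹ * U * chg) = chg⁻¹ * (φ * U) * chg by group, h3]; group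
  have hsp : ∀ v, p0 (omV v) = omV (omV (p0 v)) := fun v => by
    show chg⁻¹ (φ (chg (omV v))) = omV (omV (chg⁻¹ (φ (chg v))))
    rw [chg_lin, hs, hcinv, hcinv]
  have hC : imgs (p0 * tau0) ∈ scalL := by
    refine commutant hX0 hY0 hU0 (fun v => ?_) ?_ ?_ ?_
    · show p0 (tau0 (omV v)) = omV (p0 (tau0 v))
      rw [tau0_semi, hsp, hsp, omV3]
    · have e : tau0 * X0 = X0 ^ 10 * tau0 := by rw [← t1, mul_assoc _ tau0 tau0, htt, mul_one]
      have hinv : X0⁻¹ = X0 ^ 10 := inv_eq_of_mul_eq_one_right (by rw [← pow_succ', hX0'])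
      have e10 : p0 * X0 ^ 10 = (X0⁻¹) ^ 10 * p0 := by
        have : SemiconjBy p0 X0 X0⁻¹ := q1
        exact this.pow_right 10
      calc p0 * tau0 * X0 = p0 * X0 ^ 10 * tau0 := by rw [mul_assoc, e, ← mul_assoc]
        _ = (X0⁻¹) ^ 10 * p0 * tau0 := by rw [e10]
        _ = X0 * (p0 * tau0) := by rw [inv_pow, ← hinv, inv_inv, mul_assoc]
    · have e : tau0 * Y0 = Y0 * tau0 := by conv_rhs => rw [← t2, mul_assoc _ tau0 tau0, htt, mul_one]
      rw [mul_assoc, e, ← mul_assoc, q2, mul_assoc]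
    · have e : tau0 * U0 = U0 * tau0 := by conv_rhs => rw [← t3, mul_assoc _ tau0 tau0, htt, mul_one]
      rw [mul_assoc, e, ← mul_assoc, q3, mul_assoc]
  obtain ⟨k, -, hk⟩ := scalL_words _ hC
  refine ⟨k, fun S hS => ?_⟩
  have hφ : φ = S ^ k.1 * (chg * tau0 * chg⁻¹) := by
    have e : chg * (p0 * tau0) * chg⁻¹ = S ^ k.1 := imgs_inj (by rw [imgs_chg_conj, hk, imgs_pow, hS])
    rw [← e, hp0d, show chg * (chg⁻¹ * φ * chg * tau0) * chg⁻¹ * (chg * tau0 * chg⁻¹) =
      φ * chg * (tau0 * tau0) * chg⁻¹ by group, htt]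
    group
  rw [hφ, inv_pow, inv_mul_cancel_left, imgs_chg_conj, imgs_tau0.1]
  rfl

theorem eq_of_pow_coprime {Γ : Type*} [Group Γ] {c a b : Γ} {n : ℕ} (hn : Nat.Coprime 3 n) (hc : Commute c a)
    (e : b = c * a) (hc3 : c ^ 3 = 1) (ha : a ^ n = 1) (hb : b ^ n = 1) : b = a := by
  have : c ^ n = 1 := by rw [e, hc.mul_pow, ha, mul_one] at hb; exact hb
  have h1 : c ^ Nat.gcd 3 n = 1 := pow_gcd_eq_one.2 ⟨hc3, this⟩
  rw [hn.gcd_eq_one, pow_one] at h1
  rw [e, h1, one_mul]

theorem pInv_eq_inner {H : Subgroup (MulAut Schur.MTwoTwo.G)} (hH : H.Normal) (hi : H.index ≤ 2) :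
    ∀ m, MulAut.conj m ∈ H := by
  haveI := Schur.MTwoTwo.isSimple_G
  haveI : H.Normal := hH
  rcases (inferInstance : (H.comap (MulAut.conj (G := Schur.MTwoTwo.G))).Normal).eq_bot_or_eq_top with e | e
  · exfalso
    have h1 := (H.comap (MulAut.conj (G := Schur.MTwoTwo.G))).card_mul_index
    rw [e, Subgroup.card_bot, one_mul] at h1
    have h3 : (H.comap (MulAut.conj (G := Schur.MTwoTwo.G))).index ≤ 2 := by
      rw [Subgroup.index_comap]
      haveI : Finite Schur.MTwoTwo.G := Subtype.finite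
      exact le_trans (Subgroup.relIndex_le_of_le_right le_top (by
        rw [Subgroup.relIndex_top_right]; exact Subgroup.index_ne_zero_of_finite)) (by rwa [Subgroup.relIndex_top_right])
    rw [Schur.MTwoTwo.card_G] at h1
    rw [e] at h3
    omega
  · intro m
    have : m ∈ H.comap (MulAut.conj (G := Schur.MTwoTwo.G)) := by rw [e]; trivial
    exact this

theorem conj_injective : Function.Injective (MulAut.conj (G := Schur.MTwoTwo.G)) := by
  haveI := Schur.MTwoTwo.isSimple_G
  refine (MonoidHom.ker_eq_bot_iff _).1 ?_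
  rcases (inferInstance : (MulAut.conj (G := Schur.MTwoTwo.G)).ker.Normal).eq_bot_or_eq_top with e | e
  · exact e
  · exfalso
    refine px_ne ?_
    have hc : ∀ g : Schur.MTwoTwo.G, g * px = px * g := fun g => by
      have h1 : MulAut.conj g = 1 := by
        have : g ∈ (MulAut.conj (G := Schur.MTwoTwo.G)).ker := by rw [e]; trivial
        exact this
      have h2 := MulEquiv.congr_fun h1 px
      exact mul_inv_eq_iff_eq_mul.1 h2
    have h := rels.2.2.2.1
    rw [hc py, show px * py = px ^ 1 * py by rw [pow_one]] at h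
    have h1 : px ^ 1 = px ^ 4 := mul_right_cancel h
    have h3 : px ^ 3 = 1 := by
      have : px ^ 1 * px ^ 3 = px ^ 1 * 1 := by rw [mul_one, ← pow_add]; exact h1.symm
      exact mul_left_cancel this
    have := pow_gcd_eq_one.2 ⟨h3, rels.1⟩
    simpa using this

/-- The abstract data of the quotient acting on the module. -/
structure Gam (Γ : Type*) [Group Γ] (ρ : Γ →* (W12 ≃ₗ[ZMod 2] W12)) (θ : Γ →* MulAut Schur.MTwoTwo.G) (p : Γ)
    (q : W12 → ZMod 2) : Prop where
  inj : Function.Injective ρ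
  surj : Function.Surjective θ
  ker : θ.ker = Subgroup.zpowers p
  cube : p ^ 3 = 1
  fpf : ∀ v, ρ p v = v → v = 0
  inv : ∃ c, c * p * c⁻¹ ≠ p
  pres : ∀ g v, q (ρ g v) = q v
  q_zero : q 0 = 0
  badd : ∀ u v w, q (u + (v + w)) + q u + q (v + w) =
    (q (u + v) + q u + q v) + (q (u + w) + q u + q w)
  nondeg : ∀ u, (∀ v, q (u + v) + q u + q v = 0) → u = 0

namespace Gam

variable {Γ : Type*} [Group Γ] [Finite Γ] {ρ : Γ →* (W12 ≃ₗ[ZMod 2] W12)} {θ : Γ →* MulAut Schur.MTwoTwo.G} {p : Γ}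
  {q : W12 → ZMod 2} (h : Gam Γ ρ θ p q)
include h

theorem p_ne : p ≠ 1 := fun e => by
  obtain ⟨c, hc⟩ := h.inv
  exact hc (by rw [e]; group)

theorem p_pow_cases {a : Γ} (ha : a ∈ Subgroup.zpowers p) : a = 1 ∨ a = p ∨ a = p ^ 2 := by
  rw [← mem_powers_iff_mem_zpowers] at ha
  obtain ⟨i, rfl⟩ := ha
  show p ^ i = 1 ∨ p ^ i = p ∨ p ^ i = p ^ 2
  rw [show p ^ i = p ^ (i % 3) from pow_eq_pow_mod i h.cube]
  rcases (show i % 3 = 0 ∨ i % 3 = 1 ∨ i % 3 = 2 by omega) with e | e | e <;> rw [e] <;> simp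

theorem conj_p (c : Γ) : c * p * c⁻¹ = p ∨ c * p * c⁻¹ = p ^ 2 := by
  have hm : c * p * c⁻¹ ∈ θ.ker := (inferInstance : θ.ker.Normal).conj_mem p (h.ker ▸ Subgroup.mem_zpowers p) c
  rcases h.p_pow_cases (h.ker ▸ hm) with e | e | e
  · exact absurd (conj_eq_one_iff.1 e) h.p_ne
  · exact Or.inl e
  · exact Or.inr e

/-- The centraliser of `p`, an index two subgroup. -/
theorem cent_index : (Subgroup.centralizer ({p} : Set Γ)).index = 2 := by
  obtain ⟨c, hc⟩ := h.inv
  have hmem : ∀ b, b ∈ Subgroup.centralizer ({p} : Set Γ) ↔ b * p * b⁻¹ = p := fun b => by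
    rw [Subgroup.mem_centralizer_singleton_iff, mul_inv_eq_iff_eq_mul]
  have hc2 : c * p * c⁻¹ = p ^ 2 := (h.conj_p c).resolve_left hc
  refine Subgroup.index_eq_two_iff.2 ⟨c, fun b => ?_⟩
  rw [hmem, hmem, show b * c * p * (b * c)⁻¹ = b * (c * p * c⁻¹) * b⁻¹ by group, hc2, ← conj_pow]
  have hne : p ^ 2 ≠ p := fun e => h.p_ne (by rw [pow_two] at e; exact mul_eq_left.1 e)
  rcases h.conj_p b with e | e <;> rw [e]
  · exact Or.inr ⟨rfl, hne⟩
  · exact Or.inl ⟨by rw [← pow_mul, show 2 * 2 = 3 + 1 from rfl, pow_add, h.cube, pow_one, one_mul], hne⟩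

theorem inner_iff (c : Γ) : (∃ m, θ c = MulAut.conj m) ↔ c * p = p * c := by
  set C := Subgroup.centralizer ({p} : Set Γ) with hC
  haveI : C.Normal := Subgroup.normal_of_index_eq_two h.cent_index
  have hkC : θ.ker ≤ C := by
    rw [h.ker, Subgroup.zpowers_le, hC, Subgroup.mem_centralizer_singleton_iff]
  have hall := pInv_eq_inner (H := C.map θ) (Subgroup.Normal.map inferInstance θ h.surj)
    (le_of_eq ((Subgroup.index_map_eq C h.surj hkC).trans h.cent_index))
  have hback : ∀ b, θ b ∈ C.map θ → b ∈ C := fun b ⟨a, ha, e⟩ => by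
    have : a⁻¹ * b ∈ C := hkC (by rw [MonoidHom.mem_ker, map_mul, map_inv, e, inv_mul_cancel])
    simpa using mul_mem ha this
  constructor
  · rintro ⟨m, hm⟩
    exact Subgroup.mem_centralizer_singleton_iff.1 (hback c (hm ▸ hall m))
  · intro hc
    by_contra hno
    push Not at hno
    obtain ⟨d, hd⟩ := h.inv
    have hdC : ∀ m, θ d ≠ MulAut.conj m := fun m e => hd (mul_inv_eq_iff_eq_mul.2
      (Subgroup.mem_centralizer_singleton_iff.1 (hback d (e ▸ hall m))))
    obtain ⟨m, hm⟩ := outer_eq (θ d) (θ c) hdC hno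
    refine hd (mul_inv_eq_iff_eq_mul.2 (Subgroup.mem_centralizer_singleton_iff.1 (hback d ?_)))
    rw [hm]
    exact mul_mem (hall m) ⟨c, Subgroup.mem_centralizer_singleton_iff.2 hc, rfl⟩

/-- A lift of the same order. -/
theorem exists_lift (m : Schur.MTwoTwo.G) {n k : ℕ} (hm : m ^ n = 1) (hk : k % n = 1) (hk3 : k % 3 = 0) :
    ∃ a : Γ, θ a = MulAut.conj m ∧ a ^ n = 1 ∧ a * p = p * a := by
  obtain ⟨a, ha⟩ := h.surj (MulAut.conj m)
  have hap : a * p = p * a := (h.inner_iff a).1 ⟨m, ha⟩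
  refine ⟨a ^ k, ?_, ?_, (Commute.pow_left hap k).eq⟩
  · rw [map_pow, ha, ← map_pow, pow_eq_pow_mod k hm, hk, pow_one]
  · have : a ^ n ∈ θ.ker := by rw [MonoidHom.mem_ker, map_pow, ha, ← map_pow, hm, map_one]
    have h3 : (a ^ n) ^ 3 = 1 := by
      rcases h.p_pow_cases (h.ker ▸ this) with e | e | e <;> rw [e]
      · exact one_pow 3
      · exact h.cube
      · rw [← pow_mul, mul_comm, pow_mul, h.cube, one_pow]
    obtain ⟨j, hj⟩ := Nat.dvd_of_mod_eq_zero hk3
    rw [← pow_mul, show k * n = n * 3 * j by rw [hj]; ring, pow_mul, pow_mul, h3, one_pow]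

theorem eq_of_θ {a b : Γ} {n : ℕ} (hn : Nat.Coprime 3 n) (hap : a * p = p * a) (e : θ b = θ a) (ha : a ^ n = 1)
    (hb : b ^ n = 1) : b = a := by
  have hk : b * a⁻¹ ∈ θ.ker := by rw [MonoidHom.mem_ker, map_mul, map_inv, e, mul_inv_cancel]
  have hcp : Commute p a := hap.symm
  rw [h.ker] at hk
  obtain ⟨i, hi⟩ := hk
  refine eq_of_pow_coprime hn (c := b * a⁻¹) (hi ▸ hcp.zpow_left i) (by group) ?_ ha hb
  rw [← hi, ← zpow_natCast, ← zpow_mul, mul_comm, zpow_mul, zpow_natCast, h.cube, one_zpow]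

set_option maxHeartbeats 1000000 in
/-- Coordinates in which the quotient is generated by the standard elements. -/
theorem exists_std : ∃ (Φ : V6 ≃ₗ[ZMod 2] W12) (x : Γ), x ^ 3 = 1 ∧ (∀ v, cj Φ (ρ x) v = omV v) ∧
    (∀ u, q (Φ u) = qs u) ∧
    (∀ L ∈ gens5, ∃ g, imgs (cj Φ (ρ g)) = L) ∧
    (∀ g, cj Φ (ρ g) ∈ Subgroup.closure {k | imgs k ∈ gens5}) ∧
    Nat.card Γ = 2661120 := by
  obtain ⟨r1, r2, r3, r4, r5, r6⟩ := rels
  obtain ⟨X, hX, hX11, hXp⟩ := h.exists_lift px (n := 11) (k := 12) r1 rfl rfl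
  obtain ⟨Y, hY, hY5, hYp⟩ := h.exists_lift py (n := 5) (k := 6) r2 rfl rfl
  obtain ⟨U, hU, hU4, hUp⟩ := h.exists_lift pu (n := 4) (k := 9) r3 rfl rfl
  have hYX : Y * X = X ^ 4 * Y := by
    have e : Y * X * Y⁻¹ = X ^ 4 := h.eq_of_θ (n := 11) (by norm_num) ((Commute.pow_left hXp 4).eq)
      (by rw [map_mul, map_mul, map_inv, map_pow, hX, hY, ← map_inv, ← map_mul, ← map_mul, ← map_pow, r4,
        mul_inv_cancel_right])
      (by rw [← pow_mul, mul_comm, pow_mul, hX11, one_pow]) (by rw [conj_pow, hX11]; group)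
    rw [← e]; group
  have hUY : U * Y = Y ^ 2 * U := by
    have e : U * Y * U⁻¹ = Y ^ 2 := h.eq_of_θ (n := 5) (by norm_num) ((Commute.pow_left hYp 2).eq)
      (by rw [map_mul, map_mul, map_inv, map_pow, hY, hU, ← map_inv, ← map_mul, ← map_mul, ← map_pow, r5,
        mul_inv_cancel_right])
      (by rw [← pow_mul, mul_comm, pow_mul, hY5, one_pow]) (by rw [conj_pow, hY5]; group)
    rw [← e]; group
  have hXU : ∃ j : ℕ, (X * U) ^ 5 = p ^ j := by
    have : (X * U) ^ 5 ∈ θ.ker := by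
      rw [MonoidHom.mem_ker, map_pow, map_mul, hX, hU, ← map_mul, ← map_pow, r6, map_one]
    rcases h.p_pow_cases (h.ker ▸ this) with e | e | e
    · exact ⟨0, by rw [e, pow_zero]⟩
    · exact ⟨1, by rw [e, pow_one]⟩
    · exact ⟨2, e⟩
  have hw : Scal (ρ p) := ⟨h.fpf, fun v => by
    show (ρ p * (ρ p * ρ p)) v = v
    rw [← map_mul, ← map_mul, show p * (p * p) = p ^ 3 by rw [pow_succ, pow_two]; group, h.cube, map_one]; rfl⟩
  have hcomm : ∀ {a : Γ}, a * p = p * a → ∀ v, ρ a (ρ p v) = ρ p (ρ a v) := fun {a} e v => by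
    show (ρ a * ρ p) v = (ρ p * ρ a) v
    rw [← map_mul, e, map_mul]
  have hne : ∀ {a : Γ} {m : Schur.MTwoTwo.G}, θ a = MulAut.conj m → m ≠ 1 → ρ a ≠ 1 := fun {a m} e hm hr =>
    hm (conj_injective (by rw [← e, h.inj (hr.trans (map_one ρ).symm), map_one, map_one]))
  obtain ⟨j, hj⟩ := hXU
  obtain ⟨Φ, hΦ, gX, gY, gU, hq⟩ := exists_coords (V := W12) (by simp [Nat.card_fun]) hw (ρ X) (ρ Y) (ρ U)
    (hcomm hXp) (hcomm hYp) (hcomm hUp) (by rw [← map_pow, hX11, map_one]) (hne hX px_ne)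
    (by rw [← map_pow, hY5, map_one]) (hne hY py_ne) (by rw [← map_pow, hU4, map_one])
    (by rw [← map_mul, hYX, map_mul, map_pow]) (by rw [← map_mul, hUY, map_mul, map_pow])
    ⟨j, by rw [← map_mul, ← map_pow, hj, map_pow]⟩ q (h.pres X) (h.pres Y) (h.pres U) (h.pres p) h.q_zero h.badd h.nondeg
  -- the scalar
  obtain ⟨x, hx3, hxk, hxv⟩ : ∃ x : Γ, x ^ 3 = 1 ∧ x ∈ Subgroup.zpowers p ∧ ∀ v, cj Φ (ρ x) v = omV v := by
    rcases hΦ with e | e
    · exact ⟨p, h.cube, Subgroup.mem_zpowers p, fun v => Φ.injective (by rw [cj_apply, Φ.apply_symm_apply, e])⟩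
    · refine ⟨p ^ 2, by rw [← pow_mul, mul_comm, pow_mul, h.cube, one_pow], pow_mem (Subgroup.mem_zpowers p) 2,
        fun v => Φ.injective ?_⟩
      rw [cj_apply, Φ.apply_symm_apply, e, map_pow, pow_two]; rfl
  have hxp : p ∈ Subgroup.zpowers x := by
    rcases h.p_pow_cases hxk with e | e | e
    · exfalso
      have := hxv (dec 1)
      rw [e, map_one, map_one] at this
      exact absurd (congrArg enc this) (by decide +kernel)
    · rw [e]; exact Subgroup.mem_zpowers p
    · exact ⟨2, by show x ^ (2 : ℤ) = p; rw [e, ← zpow_natCast, ← zpow_mul]; exact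
        (by rw [show ((2 : ℕ) : ℤ) * 2 = ((3 + 1 : ℕ) : ℤ) by norm_num, zpow_natCast, pow_add, h.cube, one_mul, pow_one])⟩
  -- the semilinear element
  obtain ⟨d, hd⟩ := h.inv
  have hdo : ∀ m, θ d ≠ MulAut.conj m := fun m e => hd (mul_inv_eq_iff_eq_mul.2 ((h.inner_iff d).1 ⟨m, e⟩))
  obtain ⟨m, mx, my, mu⟩ := outer_normal (θ d) hdo
  obtain ⟨b, hb⟩ := h.surj (MulAut.conj m⁻¹)
  set f := b * d with hf
  have hfp : f * p ≠ p * f := fun e => by
    obtain ⟨m', hm'⟩ := (h.inner_iff f).2 e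
    refine hdo (m * m') ?_
    rw [map_mul (MulAut.conj), ← hm', hf, map_mul, hb, map_inv, mul_inv_cancel_left]
  have hθf : ∀ g, θ f g = m⁻¹ * θ d g * m := fun g => by
    rw [hf, map_mul, hb]; simp
  have hconj : ∀ (g : Schur.MTwoTwo.G), θ f * MulAut.conj g * (θ f)⁻¹ = MulAut.conj (θ f g) := fun g =>
    MulEquiv.ext fun t => by simp
  have fX : f * X = X⁻¹ * f := by
    have e : f * X * f⁻¹ = X⁻¹ := h.eq_of_θ (n := 11) (by norm_num) (Commute.inv_left hXp).eq
      (by rw [map_mul, map_mul, map_inv, map_inv, hX, hconj, hθf, mx,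
          show m⁻¹ * (m * px⁻¹ * m⁻¹) * m = px⁻¹ by group, map_inv])
      (by rw [inv_pow, hX11, inv_one]) (by rw [conj_pow, hX11]; group)
    rw [← e]; group
  have fY : f * Y = Y * f := by
    have e : f * Y * f⁻¹ = Y := h.eq_of_θ (n := 5) (by norm_num) hYp
      (by rw [map_mul, map_mul, map_inv, hY, hconj, hθf, my, show m⁻¹ * (m * py * m⁻¹) * m = py by group])
      hY5 (by rw [conj_pow, hY5]; group)
    conv_rhs => rw [← e]
    group
  have fU : f * U = U * f := by
    have e : f * U * f⁻¹ = U := h.eq_of_θ (n := 4) (by norm_num) hUp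
      (by rw [map_mul, map_mul, map_inv, hU, hconj, hθf, mu, show m⁻¹ * (m * pu * m⁻¹) * m = pu by group])
      hU4 (by rw [conj_pow, hU4]; group)
    conv_rhs => rw [← e]
    group
  have hfsemi : ∀ v, cj Φ (ρ f) (omV v) = omV (omV (cj Φ (ρ f) v)) := fun v => by
    have e : f * x = x * x * f := by
      have hfc : f * p * f⁻¹ = p ^ 2 := (h.conj_p f).resolve_left fun e => hfp (mul_inv_eq_iff_eq_mul.1 e)
      rcases h.p_pow_cases hxk with e | e | e
      · rw [e]; simp
      · rw [e, ← pow_two, ← hfc]; group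
      · rw [e, ← pow_add, show f * p ^ 2 = (f * p * f⁻¹) ^ 2 * f by rw [conj_pow]; group, hfc, ← pow_mul]
    have := congrArg (fun g => cj Φ (ρ g) v) e
    simp only [map_mul, LinearEquiv.mul_apply, hxv] at this
    exact this
  obtain ⟨k, hk⟩ := exists_scal_tau gX gY gU hfsemi (by rw [← map_mul, ← map_mul, fX]; simp)
    (by rw [← map_mul, ← map_mul, fY, map_mul, map_mul]) (by rw [← map_mul, ← map_mul, fU, map_mul, map_mul])
    (by rw [← map_pow, ← map_pow, hX11, map_one, map_one])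
  have hxo : imgs (cj Φ (ρ x)) = cOm := cOm_eq.2 hxv
  have hT : imgs (cj Φ (ρ (x⁻¹ ^ k.1 * f))) = cT := by
    rw [map_mul, map_mul, map_pow, map_pow, map_inv, map_inv]
    exact hk _ hxo
  refine ⟨Φ, x, hx3, hxv, hq, ?_, ?_, ?_⟩
  · intro L hL
    simp only [gens5, List.mem_cons, List.not_mem_nil, or_false] at hL
    rcases hL with rfl | rfl | rfl | rfl | rfl
    exacts [⟨X, gX⟩, ⟨Y, gY⟩, ⟨U, gU⟩, ⟨x, hxo⟩, ⟨_, hT⟩]
  · -- generation
    set φ := (cj Φ).comp ρ with hφ
    set K := Subgroup.closure {k : V6 ≃ₗ[ZMod 2] V6 | imgs k ∈ gens5} with hK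
    set S := K.comap φ
    have sX : X ∈ S := Subgroup.subset_closure (show imgs (cj Φ (ρ X)) ∈ gens5 by rw [gX]; simp [gens5])
    have sY : Y ∈ S := Subgroup.subset_closure (show imgs (cj Φ (ρ Y)) ∈ gens5 by rw [gY]; simp [gens5])
    have sU : U ∈ S := Subgroup.subset_closure (show imgs (cj Φ (ρ U)) ∈ gens5 by rw [gU]; simp [gens5])
    have sx : x ∈ S := Subgroup.subset_closure (show imgs (cj Φ (ρ x)) ∈ gens5 by rw [hxo]; simp [gens5])
    have sT : x⁻¹ ^ k.1 * f ∈ S := Subgroup.subset_closure (show imgs (cj Φ (ρ (x⁻¹ ^ k.1 * f))) ∈ gens5 by rw [hT]; simp [gens5])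
    have sp : θ.ker ≤ S := by
      rw [h.ker, Subgroup.zpowers_le]
      exact (Subgroup.zpowers_le.2 sx) hxp
    have sf : f ∈ S := by simpa using mul_mem (pow_mem sx k.1) sT
    have hin : ∀ m, MulAut.conj m ∈ S.map θ := by
      intro m
      have hle : Subgroup.closure ({px, py, pu} : Set Schur.MTwoTwo.G) ≤ (S.map θ).comap MulAut.conj := by
        rw [Subgroup.closure_le]
        rintro m (rfl | rfl | rfl)
        exacts [⟨X, sX, hX⟩, ⟨Y, sY, hY⟩, ⟨U, sU, hU⟩]
      exact hle (by rw [closure_xyu]; trivial)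
    intro g
    have hg : θ g ∈ S.map θ := by
      by_cases hi : ∃ m, θ g = MulAut.conj m
      · obtain ⟨m, hm⟩ := hi
        exact hm ▸ hin m
      · push Not at hi
        obtain ⟨m', hm'⟩ := outer_eq (θ g) (θ f) hi fun m' e => hfp ((h.inner_iff f).1 ⟨m', e⟩)
        exact hm' ▸ mul_mem (hin m') ⟨f, sf, rfl⟩
    obtain ⟨a, ha, e⟩ := hg
    have : a⁻¹ * g ∈ S := sp (by rw [MonoidHom.mem_ker, map_mul, map_inv, e, inv_mul_cancel])
    have hgS : g ∈ S := by simpa using mul_mem ha this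
    exact hgS
  · -- the order
    set C := Subgroup.centralizer ({p} : Set Γ)
    have e1 := C.card_mul_index
    rw [h.cent_index] at e1
    have e2 := (θ.comp C.subtype).ker.card_mul_index
    rw [Subgroup.index_ker] at e2
    have hr : Nat.card (θ.comp C.subtype).range = 443520 := by
      have : (θ.comp C.subtype).range = (MulAut.conj (G := Schur.MTwoTwo.G)).range := by
        ext t
        constructor
        · rintro ⟨c, rfl⟩
          obtain ⟨m', hm'⟩ := (h.inner_iff c).2 (Subgroup.mem_centralizer_singleton_iff.1 c.2)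
          exact ⟨m', hm'.symm⟩
        · rintro ⟨m', rfl⟩
          obtain ⟨c, hc⟩ := h.surj (MulAut.conj m')
          exact ⟨⟨c, Subgroup.mem_centralizer_singleton_iff.2 ((h.inner_iff c).1 ⟨m', hc⟩)⟩, hc⟩
      rw [this, ← Nat.card_congr (MonoidHom.ofInjective conj_injective).toEquiv, Schur.MTwoTwo.card_G]
    have hker : Nat.card (θ.comp C.subtype).ker = 3 := by
      have : (θ.comp C.subtype).ker = (Subgroup.zpowers p).subgroupOf C := by
        ext c
        rw [MonoidHom.mem_ker, Subgroup.mem_subgroupOf, ← h.ker]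
        rfl
      rw [this, Nat.card_congr (Subgroup.subgroupOfEquivOfLe (Subgroup.zpowers_le.2
        (Subgroup.mem_centralizer_singleton_iff.2 rfl))).toEquiv, Nat.card_zpowers]
      exact orderOf_eq_prime (hp := ⟨Nat.prime_three⟩) h.cube h.p_ne
    rw [hr, hker] at e2
    omega

end Gam

/-- The hypotheses of the statements give coordinates. -/
theorem exists_jf {G : Type*} [Group G] [Finite G] {z : G} (hJ : Cfsg.IsOfJankoFourTypeAt z) :
    ∃ π ψ x, JF z π ψ x := by
  classical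
  obtain ⟨P, hz, hext, hcard, hcent, ⟨N, hEN, hNC, hCN, hNcard, ⟨hNn, ⟨iso⟩⟩, hPN⟩, hP3, hCEP, hNP, -⟩ := hJ
  set C := Subgroup.centralizer ({z} : Set G) with hCdef
  set Q : Subgroup ↥C := Cfsg.pCore 2 ↥C with hQdef
  haveI : Q.Normal := by
    refine ⟨fun a ha g => ?_⟩
    have hle : Q ≤ Q.comap (MulAut.conj g).toMonoidHom := by
      refine sSup_le fun N hN => ?_
      intro b hb
      exact le_sSup (α := Subgroup ↥C) hN (hN.1.conj_mem b hb g)
    exact hle ha
  have hcentz : ∀ c, c ∈ C ↔ c * z = z * c := fun c => Subgroup.mem_centralizer_singleton_iff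
  have hz1 : z ≠ 1 := fun h => by simp [h] at hz
  have hzE : z ∈ qImg Q := (hCEP.ge (Subgroup.mem_zpowers z)).1
  have hQC : qImg Q ≤ C := Subgroup.map_subtype_le _
  have eQ : ↥Q ≃* ↥(qImg Q) := Subgroup.equivMapOfInjective _ _ C.subtype_injective
  have hE' : Cfsg.IsExtraspecial 2 ↥(qImg Q) := hext
  have hextra : Extra (qImg Q) z := by
    obtain ⟨z', hz'⟩ := exists_extra hE'
    rcases hz'.mem_center_cases hzE (fun q hq => ((hcentz q).1 (hQC hq)).symm) with h | h
    · exact absurd h hz1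
    · exact h ▸ hz'
  have hnorm : ∀ c, c * z = z * c → ∀ q ∈ qImg Q, c * q * c⁻¹ ∈ qImg Q := by
    rintro c hc _ ⟨q, hq, rfl⟩
    exact ⟨⟨c, (hcentz c).2 hc⟩ * q * ⟨c, (hcentz c).2 hc⟩⁻¹,
      Subgroup.Normal.conj_mem inferInstance q hq _, rfl⟩
  have hcentle : ∀ c, (∀ q ∈ qImg Q, c * q = q * c) → c ∈ qImg Q := fun c hfix =>
    hcent ⟨(hcentz c).2 (hfix z hzE), fun q hq => (hfix q hq).symm⟩
  have hQcard : Nat.card ↥(qImg Q) = 8192 := hcard.trans (by norm_num)
  -- coordinates
  obtain ⟨k, ⟨f⟩⟩ := exists_frame hE'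
  have hk : k = 12 := by
    have h := card_E f
    rw [hQcard] at h
    exact Nat.pow_right_injective (le_refl 2) (show 2 ^ k = 2 ^ 12 by norm_num; omega)
  subst hk
  have hfz : (f.z : G) = z := by
    rcases hextra.mem_center_cases f.z.2 (fun q hq => congrArg Subtype.val (f.z_comm ⟨q, hq⟩)) with h | h
    · exact absurd (Subtype.ext h) f.z_ne
    · exact h
  let conjC : ↥C →* MulAut ↥(qImg Q) :=
    { toFun := fun c =>
        { toFun := fun x => ⟨c * x * (c : G)⁻¹, hnorm c ((hcentz c).1 c.2) x x.2⟩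
          invFun := fun x => ⟨(c : G)⁻¹ * x * c, by
            have h := hnorm (c⁻¹ : ↥C) ((hcentz _).1 (c⁻¹).2) x x.2
            simpa using h⟩
          left_inv := fun x => Subtype.ext (by simp [mul_assoc])
          right_inv := fun x => Subtype.ext (by simp [mul_assoc])
          map_mul' := fun x y => Subtype.ext (by simp [mul_assoc]) }
      map_one' := MulEquiv.ext fun x => Subtype.ext (by simp)
      map_mul' := fun c d => MulEquiv.ext fun x => Subtype.ext (by simp [mul_assoc]) }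
  let ψ₀ := ((CfsgLib.Orth.orthGroup (CfsgLib.ThreeTransp.ExtraspecialOut.Q f)).subtype).comp ((toO f).comp conjC)
  have hker : ∀ c : ↥C, ψ₀ c = 1 ↔ c ∈ Q := by
    intro c
    constructor
    · intro hc
      have hin : conjC c ∈ Cfsg.Inn ↥(qImg Q) := by rw [← ker_toO f]; exact Subtype.ext hc
      obtain ⟨a, ha⟩ := hin
      have hm : ((a : G))⁻¹ * c ∈ qImg Q := hcentle _ fun q hq => by
        have h := congrArg (fun φ : MulAut ↥(qImg Q) => ((φ ⟨q, hq⟩ : ↥(qImg Q)) : G)) ha
        change (a : G) * q * (a : G)⁻¹ = (c : G) * q * (c : G)⁻¹ at h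
        calc (a : G)⁻¹ * c * q = (a : G)⁻¹ * (c * q * (c : G)⁻¹) * c := by group
          _ = q * ((a : G)⁻¹ * c) := by rw [← h]; group
      exact mem_qImg_coe.1 (by simpa using mul_mem a.2 hm)
    · intro hc
      have h1 : toO f (conjC c) = 1 := by
        show conjC c ∈ (toO f).ker
        rw [ker_toO f]
        exact ⟨⟨(c : G), mem_qImg_coe.2 hc⟩, MulEquiv.ext fun x => rfl⟩
      exact congrArg Subtype.val h1
  let ρ : ↥C ⧸ Q →* (W12 ≃ₗ[ZMod 2] W12) := QuotientGroup.lift Q ψ₀ fun c hc => (hker c).2 hc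
  -- the map onto the automorphisms
  haveI := hNn
  have hQN : Q ≤ N.subgroupOf C := fun c hc => Subgroup.mem_subgroupOf.2 (hEN (mem_qImg_coe.2 hc))
  let θ₀ : ↥C →* MulAut Schur.MTwoTwo.G := iso.toMonoidHom.comp (QuotientGroup.mk' (N.subgroupOf C))
  let θ : ↥C ⧸ Q →* MulAut Schur.MTwoTwo.G := QuotientGroup.lift Q θ₀ fun c hc => by
    show iso (QuotientGroup.mk' (N.subgroupOf C) c) = 1
    rw [show QuotientGroup.mk' (N.subgroupOf C) c = 1 from (QuotientGroup.eq_one_iff c).2 (hQN hc), map_one]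
  have hθk : ∀ c : ↥C, θ (QuotientGroup.mk c) = 1 ↔ (c : G) ∈ N := fun c => by
    show iso (QuotientGroup.mk' (N.subgroupOf C) c) = 1 ↔ _
    rw [MulEquiv.map_eq_one_iff]
    exact (QuotientGroup.eq_one_iff c).trans Subgroup.mem_subgroupOf
  -- the element of order three
  haveI : Fact (Nat.Prime 3) := ⟨Nat.prime_three⟩
  obtain ⟨p, hp⟩ := exists_prime_orderOf_dvd_card' (G := P) 3 (dvd_of_eq hP3.symm)
  have hPC : P ≤ C := hPN.trans hNC
  have hPz : P = Subgroup.zpowers (p : G) := (Subgroup.eq_of_le_of_card_ge (Subgroup.zpowers_le.2 p.2)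
    (by rw [Nat.card_zpowers, Subgroup.orderOf_coe, hp, hP3])).symm
  let pc : ↥C := ⟨p, hPC p.2⟩
  have hp3 : pc ^ 3 = 1 := by
    refine Subtype.ext ?_
    show (p : G) ^ 3 = 1
    rw [← hp, ← Subgroup.orderOf_coe]
    exact pow_orderOf_eq_one _
  have hpQ : ∀ a ∈ qImg Q, ∀ i : ℕ, a = (p : G) ^ i → a = 1 := fun a ha i e => by
    have h1 : orderOf a ∣ 8192 := hQcard ▸ by
      rw [← Subgroup.orderOf_mk a ha]; exact orderOf_dvd_natCard _
    have h2 : orderOf a ∣ 3 := orderOf_dvd_of_pow_eq_one (by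
      rw [e, ← pow_mul, mul_comm, pow_mul, show (p : G) ^ 3 = 1 from congrArg Subtype.val hp3, one_pow])
    exact orderOf_eq_one_iff.1 (Nat.dvd_one.1 (by simpa using Nat.dvd_gcd h1 h2))
  have hpbar : (QuotientGroup.mk pc : ↥C ⧸ Q) ≠ 1 := fun e => by
    have := hpQ (p : G) (mem_qImg_coe.2 ((QuotientGroup.eq_one_iff pc).1 e) : ((pc : ↥C) : G) ∈ qImg Q) 1 (pow_one _).symm
    rw [← Subgroup.orderOf_coe, this, orderOf_one] at hp
    omega
  have hgam : Gam (↥C ⧸ Q) ρ θ (QuotientGroup.mk pc) (qf f) := by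
    refine ⟨?_, ?_, ?_, ?_, ?_, ?_, ?_, qf_zero f, ?_, ?_⟩
    · refine (injective_iff_map_eq_one ρ).2 fun c hc => ?_
      induction c using QuotientGroup.induction_on with | _ c =>
      exact (QuotientGroup.eq_one_iff c).2 ((hker c).1 hc)
    · intro α
      obtain ⟨c, hc⟩ := QuotientGroup.mk'_surjective (N.subgroupOf C) (iso.symm α)
      exact ⟨QuotientGroup.mk c, show iso (QuotientGroup.mk' (N.subgroupOf C) c) = α by rw [hc, iso.apply_symm_apply]⟩
    · symm
      refine Subgroup.eq_of_le_of_card_ge ?_ ?_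
      · rw [Subgroup.zpowers_le, MonoidHom.mem_ker, hθk]
        exact hPN p.2
      · have hm : θ.ker = (N.subgroupOf C).map (QuotientGroup.mk' Q) := by
          ext c
          induction c using QuotientGroup.induction_on with | _ c =>
          rw [MonoidHom.mem_ker, hθk]
          constructor
          · intro hc; exact ⟨c, hc, rfl⟩
          · rintro ⟨d, hd, e⟩
            have : (d⁻¹ * c : ↥C) ∈ N.subgroupOf C := hQN (QuotientGroup.eq.1 e)
            have h2 := mul_mem hd this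
            rw [mul_inv_cancel_left] at h2
            exact Subgroup.mem_subgroupOf.1 h2
        have h1 := ((QuotientGroup.mk' Q).subgroupMap (N.subgroupOf C)).ker.card_mul_index
        rw [Subgroup.index_ker, MonoidHom.range_eq_top.2 (MonoidHom.subgroupMap_surjective _ _), Subgroup.card_top] at h1
        have h2 : Nat.card ((QuotientGroup.mk' Q).subgroupMap (N.subgroupOf C)).ker = 8192 := by
          have e : ((QuotientGroup.mk' Q).subgroupMap (N.subgroupOf C)).ker = Q.subgroupOf (N.subgroupOf C) := by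
            ext n
            rw [MonoidHom.mem_ker, Subgroup.mem_subgroupOf, ← QuotientGroup.eq_one_iff]
            exact Subtype.ext_iff
          rw [e, Nat.card_congr (Subgroup.subgroupOfEquivOfLe hQN).toEquiv, Nat.card_congr eQ.toEquiv, hQcard]
        rw [h2, Nat.card_congr (Subgroup.subgroupOfEquivOfLe hNC).toEquiv, hNcard, hcard] at h1
        rw [hm, Nat.card_zpowers]
        have ho : orderOf (QuotientGroup.mk pc : ↥C ⧸ Q) = 3 :=
          orderOf_eq_prime (by rw [← QuotientGroup.mk_pow, hp3, QuotientGroup.mk_one]) hpbar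
        rw [ho]
        omega
    · rw [← QuotientGroup.mk_pow, hp3, QuotientGroup.mk_one]
    · intro v hv
      obtain ⟨a, rfl⟩ := f.π_surj v
      have h1 : f.π (conjC pc a) = f.π a := (toO_apply f (conjC pc) a).symm.trans hv
      have h0 : f.π ((conjC pc a) * a) = 0 := by
        rw [f.π_mul, h1]; exact funext fun i => CharTwo.add_self_eq_zero _
      have hpa : (p : G) * a * (p : G)⁻¹ * a = 1 ∨ (p : G) * a * (p : G)⁻¹ * a = z := by
        rcases (f.π_ker _).1 h0 with e | e
        · exact Or.inl (congrArg Subtype.val e)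
        · exact Or.inr ((congrArg Subtype.val e).trans hfz)
      have hinv : (a : G)⁻¹ = a ∨ (a : G)⁻¹ = a * z := by
        rcases hextra.sq_cases a.2 with e | e
        · exact Or.inl (inv_eq_of_mul_eq_one_left e)
        · exact Or.inr (inv_eq_of_mul_eq_one_right (by rw [← mul_assoc, e, hextra.z_sq]))
      have hcase : (p : G) * a * (p : G)⁻¹ = a ∨ (p : G) * a * (p : G)⁻¹ = a * z := by
        have hzA : z * (a : G) = a * z := hextra.z_comm a.2
        rcases hpa with e | e <;> rw [← eq_mul_inv_iff_mul_eq] at e <;> rcases hinv with e' | e' <;> rw [e'] at e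
        · exact Or.inl (e.trans (one_mul _))
        · exact Or.inr (e.trans (one_mul _))
        · exact Or.inr (e.trans hzA)
        · exact Or.inl (e.trans (by rw [← mul_assoc, hzA, mul_assoc, hextra.z_sq, mul_one]))
      have hfix : (p : G) * a * (p : G)⁻¹ = a := by
        refine hcase.resolve_right fun e => hz1 ?_
        have hpz : (p : G) * z = z * (p : G) := (hcentz _).1 pc.2
        have step : ∀ b : G, (p : G) * (b * z) * (p : G)⁻¹ = (p : G) * b * (p : G)⁻¹ * z := fun b => by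
          calc (p : G) * (b * z) * (p : G)⁻¹ = (p : G) * b * (p : G)⁻¹ * ((p : G) * z * (p : G)⁻¹) := by group
            _ = _ := by rw [hpz, mul_inv_cancel_right]
        have e2 : (p : G) ^ 2 * a * ((p : G) ^ 2)⁻¹ = a := by
          calc (p : G) ^ 2 * a * ((p : G) ^ 2)⁻¹ = (p : G) * ((p : G) * a * (p : G)⁻¹) * (p : G)⁻¹ := by
                rw [pow_two]; group
            _ = a := by rw [e, step, e, mul_assoc, hextra.z_sq, mul_one]
        have e3 : (p : G) ^ 3 = 1 := congrArg Subtype.val hp3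
        have e4 : (p : G) ^ 2 = (p : G)⁻¹ := eq_inv_of_mul_eq_one_left (by rw [← pow_succ]; exact e3)
        rw [e4, inv_inv] at e2
        have e5 : (a : G) = (p : G) * a * (p : G)⁻¹ := by
          calc (a : G) = (p : G) * ((p : G)⁻¹ * a * (p : G)) * (p : G)⁻¹ := by group
            _ = _ := by rw [e2]
        rw [e] at e5
        exact mul_eq_left.1 e5.symm
      have hmem : (a : G) ∈ Subgroup.zpowers z := by
        rw [← hCEP]
        refine ⟨a.2, ?_⟩
        rw [hPz]
        rintro _ ⟨i, rfl⟩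
        exact ((Commute.zpow_left (mul_inv_eq_iff_eq_mul.1 hfix : Commute (p : G) (a : G)) i)).eq
      rw [f.π_ker]
      obtain ⟨i, hi⟩ := hmem
      have hzz : z ^ (2 : ℤ) = 1 := by rw [zpow_two]; exact hextra.z_sq
      rcases Int.even_or_odd i with ⟨j, rfl⟩ | ⟨j, rfl⟩
      · left
        refine Subtype.ext (hi.symm.trans ?_)
        show z ^ (j + j) = 1
        rw [← two_mul, zpow_mul, hzz, one_zpow]
      · right
        refine Subtype.ext (hi.symm.trans (Eq.trans ?_ hfz.symm))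
        show z ^ (2 * j + 1) = z
        rw [zpow_add, zpow_mul, hzz, one_zpow, one_mul, zpow_one]
    · by_contra hall
      push Not at hall
      refine hNP (le_antisymm ?_ ?_)
      · rintro c ⟨hc, hcn⟩
        refine ⟨hc, ?_⟩
        have e := hall (QuotientGroup.mk (⟨c, hc⟩ : ↥C))
        rw [← QuotientGroup.mk_inv, ← QuotientGroup.mk_mul, ← QuotientGroup.mk_mul] at e
        have hq : (c * p * c⁻¹)⁻¹ * (p : G) ∈ qImg Q := by
          have := mem_qImg_coe.2 (QuotientGroup.eq.1 e)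
          simpa [pc] using this
        have hm : c * p * c⁻¹ ∈ Subgroup.zpowers (p : G) := hPz ▸ (Subgroup.mem_normalizer_iff.1 hcn p).1 p.2
        rw [← mem_powers_iff_mem_zpowers] at hm
        obtain ⟨i, hi⟩ := hm
        have hi' : (p : G) ^ i = c * p * c⁻¹ := hi
        have h1 : (c * p * c⁻¹)⁻¹ * (p : G) = (p : G) ^ (2 * i + 1) := by
          rw [← hi', pow_succ, mul_comm 2 i, pow_mul]
          congr 1
          refine inv_eq_of_mul_eq_one_right ?_
          rw [← pow_mul, ← pow_add, show i + i * 2 = 3 * i by ring, pow_mul,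
            show (p : G) ^ 3 = 1 from congrArg Subtype.val hp3, one_pow]
        have h2 := hpQ _ hq _ h1
        rw [inv_mul_eq_one, mul_inv_eq_iff_eq_mul] at h2
        rw [hPz]
        rintro _ ⟨j, rfl⟩
        exact (Commute.zpow_right (h2 : Commute c (p : G)) j).eq.symm
      · rintro c ⟨hc, hcc⟩
        refine ⟨hc, Subgroup.mem_normalizer_iff.2 fun a => ?_⟩
        constructor
        · intro ha
          rwa [show c * a * c⁻¹ = a by rw [← hcc a ha, mul_inv_cancel_right]]
        · intro ha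
          have h1 := hcc _ ha
          have : c * a * c⁻¹ = a := by
            have h2 : c * a * c⁻¹ * c = c * (c * a * c⁻¹) := h1
            rw [inv_mul_cancel_right] at h2
            exact (mul_left_cancel h2).symm
          rwa [this] at ha
    · intro c v
      induction c using QuotientGroup.induction_on with | _ c =>
      exact CfsgLib.Orth.apply_quad ((toO f) (conjC c)) v
    · intro u v w
      have h := polar_add_right' f u v w
      simp only [QuadraticMap.polar, ← CharTwo.sub_eq_add] at h ⊢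
      exact h
    · intro u hu
      refine (nondeg f).1 u fun v => ?_
      show QuadraticMap.polar (qf f) u v = 0
      simp only [QuadraticMap.polar, CharTwo.sub_eq_add]
      exact hu v
  obtain ⟨Φ, xb, hx3, hxv, hΦ, hmem, hgen, hΓ⟩ := hgam.exists_std
  let ψ := ((cj Φ).comp ρ).comp (QuotientGroup.mk' Q)
  let π : G → V6 := fun a => if h : a ∈ qImg Q then Φ.symm (f.π ⟨a, h⟩) else 0
  have hπ : ∀ a (h : a ∈ qImg Q), π a = Φ.symm (f.π ⟨a, h⟩) := fun a h => dif_pos h
  have hinjΦ : Function.Injective ((cj Φ).comp ρ) := fun a b e => by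
    refine hgam.inj (LinearEquiv.ext fun v => ?_)
    have := LinearEquiv.congr_fun (e : cj Φ (ρ a) = cj Φ (ρ b)) (Φ.symm v)
    change Φ.symm (ρ a (Φ (Φ.symm v))) = Φ.symm (ρ b (Φ (Φ.symm v))) at this
    rw [Φ.apply_symm_apply] at this
    exact Φ.symm.injective this
  obtain ⟨x₁, hx₁⟩ := QuotientGroup.mk'_surjective Q xb
  have hψx : ∀ v, ψ (x₁ ^ 4) v = omV v := fun v => by
    show cj Φ (ρ (QuotientGroup.mk' Q (x₁ ^ 4))) v = omV v
    rw [map_pow, hx₁, pow_succ, hx3, one_mul, hxv]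
  have hrange : ψ.range = ((cj Φ).comp ρ).range := by
    show (((cj Φ).comp ρ).comp (QuotientGroup.mk' Q)).range = _
    rw [MonoidHom.range_comp, MonoidHom.range_eq_top.2 (QuotientGroup.mk'_surjective Q), ← MonoidHom.range_eq_map]
  -- an element of order three
  have hx₁3 : ((x₁ ^ 4) ^ 3 : ↥C) = 1 := by
    have h3 : ((x₁ ^ 3 : ↥C) : G) ∈ qImg Q := mem_qImg_coe.2 ((QuotientGroup.eq_one_iff _).1 (by
      rw [← QuotientGroup.mk'_apply, map_pow, hx₁, hx3]))
    refine Subtype.ext ?_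
    rw [← pow_mul, show 4 * 3 = 3 * (2 * 2) from rfl, pow_mul, pow_mul]
    push_cast
    set a : G := (x₁ : G) ^ 3
    have h3' : a ∈ qImg Q := by simpa [a] using h3
    rw [pow_two, pow_two a]
    rcases hextra.sq_cases h3' with e | e <;> rw [e]
    · exact one_mul 1
    · exact hextra.z_sq
  refine ⟨π, ψ, x₁ ^ 4,
    { base :=
        { ord_z := hz
          extra := hextra
          card_Q := hQcard
          norm := hnorm
          cent_le := hcentle
          π_mul := fun a ha b hb => by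
            show π (a * b) = π a + π b
            rw [hπ a ha, hπ b hb, hπ _ (mul_mem ha hb), ← map_add, ← f.π_mul]
            rfl
          π_surj := fun v => by
            obtain ⟨a, ha⟩ := f.π_surj (Φ v)
            exact ⟨a, a.2, by rw [hπ _ a.2]; show Φ.symm (f.π a) = v; rw [ha, Φ.symm_apply_apply]⟩
          π_ker := fun a ha => by
            rw [hπ a ha, LinearEquiv.map_eq_zero_iff, f.π_ker]
            constructor
            · rintro (h | h)
              · exact Or.inl (congrArg Subtype.val h)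
              · exact Or.inr ((congrArg Subtype.val h).trans hfz)
            · rintro (h | h)
              · exact Or.inl (Subtype.ext h)
              · exact Or.inr (Subtype.ext (h.trans hfz.symm))
          q_iff := fun a ha => by
            rw [hπ a ha, ← hΦ, Φ.apply_symm_apply, qf_π]
            constructor
            · intro h
              have h' := ε_inj f (sq_cases f ⟨a, ha⟩) (Or.inl rfl) (by rw [h, ε, if_pos rfl])
              exact congrArg Subtype.val h'
            · intro h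
              rw [show (⟨a, ha⟩ : ↥(qImg Q)) * ⟨a, ha⟩ = 1 from Subtype.ext h, ε, if_pos rfl]
          act := fun c a ha => by
            show π (c * a * (c : G)⁻¹) = Φ.symm (ρ (QuotientGroup.mk c) (Φ (π a)))
            rw [hπ a ha, Φ.apply_symm_apply, hπ _ (hnorm c ((hcentz c).1 c.2) a ha)]
            exact congrArg Φ.symm (toO_apply f (conjC c) ⟨a, ha⟩).symm
          ker := fun c => by
            show (cj Φ).comp ρ (QuotientGroup.mk c) = 1 ↔ (c : G) ∈ qImg Q
            rw [map_eq_one_iff _ hinjΦ, QuotientGroup.eq_one_iff, mem_qImg_coe] }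
      mem := fun L hL => by
        obtain ⟨g, hg⟩ := hmem L hL
        exact ⟨cj Φ (ρ g), hrange ▸ ⟨g, rfl⟩, hg⟩
      gen := by rw [hrange]; rintro _ ⟨g, rfl⟩; exact hgen g
      special := hext
      card := by rw [hrange, ← Nat.card_congr (MonoidHom.ofInjective hinjΦ).toEquiv, hΓ]
      hx := hψx
      h3 := hx₁3 }⟩

end CfsgLib.Sporadic.J4Type
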