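import Cfsg.Agent.Lib.Sporadic.J4Type.SevenHData
import Cfsg.Agent.Lib.Sporadic.J4Type.FiveFused

/-!
# Groups of fourth Janko type: an element of order seven of the centraliser

Its centraliser in `H` is generated by it, `z`, an element of order three and an element over the semilinear
involution; no element of `H` inverts it and one squares it.
-/

set_option autoImplicit false
set_option linter.style.haveILetI false
set_option linter.unusedSectionVars false
set_option maxRecDepth 40000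

namespace CfsgLib.Sporadic.J4Type.Seven

open CfsgLib.Sporadic.LargeFischer CfsgLib.Sporadic.LargeFischer.Hexa CfsgLib.Sporadic.J4Type

/-- An element of order seven with the standard image. -/
structure Ctx {G : Type*} [Group G] [Finite G] (z : G) (π : G → V6)
    (ψ : ↥(Subgroup.centralizer ({z} : Set G)) →* (V6 ≃ₗ[ZMod 2] V6))
    (x b : ↥(Subgroup.centralizer ({z} : Set G))) : Prop where
  J : JF z π ψ x
  img : imgs (ψ b) = hB
  ord : orderOf b = 7

variable {G : Type*} [Group G] [Finite G] {z : G} {π : G → V6}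
  {ψ : ↥(Subgroup.centralizer ({z} : Set G)) →* (V6 ≃ₗ[ZMod 2] V6)}
  {x : ↥(Subgroup.centralizer ({z} : Set G))}

/-- An element of the centraliser with the images of a word. -/
theorem exists_img (J : JF z π ψ x) (w : List ℕ) (hw : ∀ i ∈ w, i < 5) :
    ∃ c : ↥(Subgroup.centralizer ({z} : Set G)), imgs (ψ c) = imgW w := by
  obtain ⟨g, ⟨c, rfl⟩, hg⟩ := exists_word J w hw
  refine ⟨c, List.map_congr_left fun i hi => ?_⟩
  have hp : 2 ^ i < 4096 :=
    Nat.pow_lt_pow_right (by norm_num : 1 < 2) (List.mem_range.1 hi) |>.trans_eq (by norm_num)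
  rw [(hg _ hp).2, enc_dec (hg _ hp).1]

theorem exists_ctx (J : JF z π ψ x) : ∃ b, Ctx z π ψ x b := by
  obtain ⟨c, hc⟩ := exists_img J [4, 2, 0] (by decide)
  change imgs (ψ c) = hG at hc
  have h14 : ψ (c ^ 14) = 1 := imgs_inj (by rw [map_pow, imgs_pow, hc, hB_facts.2.2.2.2.2.2.2.2.2.2, imgs_one])
  have hE := (J.base.ker _).1 h14
  have h56 : c ^ 56 = 1 := by
    refine Subtype.ext ?_
    show (c : G) ^ 56 = 1
    have e : ((c ^ 14 : ↥(Subgroup.centralizer ({z} : Set G))) : G) = (c : G) ^ 14 := Subgroup.coe_pow _ _ _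
    rw [e] at hE
    rw [show 56 = 14 * 2 * 2 from rfl, pow_mul, pow_mul, pow_two ((c : G) ^ 14)]
    rcases J.base.extra.sq_cases hE with e1 | e1 <;> rw [e1]
    · exact one_pow 2
    · rw [pow_two]; exact J.base.extra.z_sq
  have himg : imgs (ψ (c ^ 8)) = hB := by rw [map_pow, imgs_pow, hc]; rfl
  haveI : Fact (Nat.Prime 7) := ⟨by norm_num⟩
  refine ⟨c ^ 8, J, himg, orderOf_eq_prime (by rw [← pow_mul, h56]) fun h1 => ?_⟩
  rw [h1, map_one, imgs_one] at himg
  exact hB_facts.2.1 himg.symm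

/-- Conjugate coordinates. -/
theorem exists_conj_jf (J : JF z π ψ x) (c : ↥(Subgroup.centralizer ({z} : Set G))) :
    ∃ π' ψ' x', JF z π' ψ' x' ∧ ∀ d, ψ' (c * d * c⁻¹) = ψ d := by
  set cm : ↥(Subgroup.centralizer ({z} : Set G)) := c⁻¹ with hcmdef
  set κ := (MulAut.conj cm).toMonoidHom with hκ
  have hnorm : ∀ a ∈ Cfsg.twoCoreOfCentralizer z, (cm : G) * a * (cm : G)⁻¹ ∈ Cfsg.twoCoreOfCentralizer z :=
    fun a ha => J.base.norm cm (Subgroup.mem_centralizer_singleton_iff.1 cm.2) a ha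
  have hrange : (ψ.comp κ).range = ψ.range := by
    rw [MonoidHom.range_comp, MonoidHom.range_eq_top.2 (MulAut.conj cm).surjective, ← MonoidHom.range_eq_map]
  have h := J.base
  refine ⟨fun a => π ((cm : G) * a * (cm : G)⁻¹), ψ.comp κ, c * x * c⁻¹,
    { base :=
        { ord_z := h.ord_z
          extra := h.extra
          card_Q := h.card_Q
          norm := h.norm
          cent_le := h.cent_le
          π_mul := fun a ha a' ha' => by
            show π ((cm : G) * (a * a') * (cm : G)⁻¹) = _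
            rw [show (cm : G) * (a * a') * (cm : G)⁻¹ = (cm : G) * a * (cm : G)⁻¹ * ((cm : G) * a' * (cm : G)⁻¹) by
              group, h.π_mul _ (hnorm a ha) _ (hnorm a' ha')]
          π_surj := fun v => by
            obtain ⟨a, ha, e⟩ := h.π_surj v
            refine ⟨(c : G) * a * (c : G)⁻¹, h.norm c (Subgroup.mem_centralizer_singleton_iff.1 c.2) a ha, ?_⟩
            show π ((cm : G) * ((c : G) * a * (c : G)⁻¹) * (cm : G)⁻¹) = v
            rw [hcmdef, Subgroup.coe_inv]
            rw [show (c : G)⁻¹ * ((c : G) * a * (c : G)⁻¹) * (c : G)⁻¹⁻¹ = a by group, e]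
          π_ker := fun a ha => by
            rw [h.π_ker _ (hnorm a ha), conj_eq_one_iff]
            refine or_congr Iff.rfl ⟨fun e => ?_, fun e => by rw [e]; exact Fuse.z_conj J cm⟩
            exact mul_left_cancel (mul_right_cancel (e.trans (Fuse.z_conj J cm).symm))
          q_iff := fun a ha => by
            rw [h.q_iff _ (hnorm a ha), show (cm : G) * a * (cm : G)⁻¹ * ((cm : G) * a * (cm : G)⁻¹) =
              (cm : G) * (a * a) * (cm : G)⁻¹ by group, conj_eq_one_iff]
          act := fun d a ha => by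
            show π ((cm : G) * ((d : G) * a * (d : G)⁻¹) * (cm : G)⁻¹) =
              ψ (cm * d * cm⁻¹) (π ((cm : G) * a * (cm : G)⁻¹))
            rw [← h.act _ _ (hnorm a ha)]
            congr 1
            simp [mul_assoc]
          ker := fun d => by
            show ψ (cm * d * cm⁻¹) = 1 ↔ _
            rw [map_mul, map_mul, map_inv ψ cm, conj_eq_one_iff]
            exact h.ker d }
      mem := fun L hL => by rw [hrange]; exact J.mem L hL
      gen := by rw [hrange]; exact J.gen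
      card := by rw [hrange]; exact J.card
      special := J.special
      hx := fun v => by
        show ψ (cm * (c * x * c⁻¹) * cm⁻¹) v = omV v
        rw [hcmdef, show c⁻¹ * (c * x * c⁻¹) * c⁻¹⁻¹ = x by group, J.hx]
      h3 := by rw [conj_pow, J.h3]; group }, fun d => ?_⟩
  show ψ (cm * (c * d * c⁻¹) * cm⁻¹) = ψ d
  rw [hcmdef, show c⁻¹ * (c * d * c⁻¹) * c⁻¹⁻¹ = d by group]

/-- A map carries the adapted basis to the adapted basis. -/
theorem bas7_map (L T T' : List ℕ) (hL : ∀ a, a < 4096 → lm L a < 4096)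
    (hT : ∀ a, a < 4096 → lm T a < 4096) (hom : ∀ a, a < 4096 → lm L (omc a) = omc (lm L a))
    (hcm : ∀ a, a < 4096 → lm L (lm T a) = lm T' (lm L a)) :
    ∀ n a, a < 4096 → (bas7 T n a).map (lm L) = bas7 T' n (lm L a)
  | 0, a, _ => rfl
  | n + 1, a, ha => by
    simp only [bas7, frc_eq, List.map_cons]
    rw [hom a ha, bas7_map L T T' hL hT hom hcm n _ (hT a ha), hcm a ha]

namespace Ctx

variable {b : ↥(Subgroup.centralizer ({z} : Set G))} (X : Ctx z π ψ x b)
include X

theorem pow_seven : b ^ 7 = 1 := X.ord ▸ pow_orderOf_eq_one b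

theorem fac_seven : (Nat.card ↥(Subgroup.centralizer ({z} : Set G))).factorization 7 = 1 := by
  rw [Fuse.card_cent X.J, show 2 ^ 21 * 10395 = (2 ^ 21 * 1485) * 7 by norm_num,
    Nat.factorization_mul (by norm_num) (by norm_num), Nat.Prime.factorization (by norm_num : Nat.Prime 7)]
  simp only [Finsupp.add_apply, Nat.factorization_eq_zero_of_not_dvd (show ¬ 7 ∣ 2 ^ 21 * 1485 by norm_num),
    Finsupp.single_eq_same, zero_add]

/-- The element centralises only `⟨z⟩` in the two-core. -/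
theorem fix_E {a : G} (ha : a ∈ Cfsg.twoCoreOfCentralizer z) (hc : Commute (b : G) a) : a = 1 ∨ a = z := by
  refine (X.J.base.π_ker a ha).1 ?_
  have e := congrArg enc (Fuse.fix_of_commute X.J ha hc)
  rw [enc_apply, X.img] at e
  have h := List.all_eq_true.1 hB_fix _ (List.mem_range.2 (enc_lt (π a)))
  rw [Bool.or_eq_true, Bool.not_eq_true', beq_eq_false_iff_ne, beq_iff_eq] at h
  rw [← dec_enc (π a), h.resolve_right (fun h => h e), dec_zero]

/-- Elements with the same image commuting with the element differ by a power of `z`. -/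
theorem eq_mul_z {d d' : ↥(Subgroup.centralizer ({z} : Set G))} (hd : Commute d b) (hd' : Commute d' b)
    (e : imgs (ψ d) = imgs (ψ d')) : ∃ j : ℕ, (d : G) = d' * z ^ j := by
  have hE : ((d'⁻¹ * d : ↥(Subgroup.centralizer ({z} : Set G))) : G) ∈ Cfsg.twoCoreOfCentralizer z :=
    (X.J.base.ker _).1 (by rw [map_mul, map_inv, imgs_inj e, inv_mul_cancel])
  have hc : Commute (b : G) ((d'⁻¹ * d : ↥(Subgroup.centralizer ({z} : Set G))) : G) :=
    congrArg Subtype.val ((hd'.symm.inv_right.mul_right hd.symm).eq)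
  rw [Subgroup.coe_mul, Subgroup.coe_inv] at hE hc
  rcases X.fix_E hE hc with h | h
  · exact ⟨0, by rw [pow_zero, mul_one]; exact (inv_mul_eq_one.1 h).symm⟩
  · refine ⟨1, ?_⟩
    rw [pow_one]
    exact (mul_inv_cancel_left _ _).symm.trans (congrArg _ h)

/-- The element over the semilinear involution. -/
theorem exists_s : ∃ s : ↥(Subgroup.centralizer ({z} : Set G)), imgs (ψ s) = hS ∧ Commute s b := by
  obtain ⟨c, hc⟩ := exists_img X.J [4, 2, 0] (by decide)
  change imgs (ψ c) = hG at hc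
  haveI : Fact (Nat.Prime 7) := ⟨by norm_num⟩
  have himg : imgs (ψ (c ^ 7)) = hS := by rw [map_pow, imgs_pow, hc]; rfl
  have e : ψ (c ^ 7) * ψ b * (ψ (c ^ 7))⁻¹ = ψ b ^ 1 := by
    rw [pow_one, mul_inv_eq_iff_eq_mul]
    exact imgs_inj (by rw [imgs_mul, imgs_mul, himg, X.img, hB_facts.2.2.2.1])
  obtain ⟨d, hd, hdb⟩ := Fuse.norm_lift X.J (by norm_num) X.ord e
  rw [pow_one, mul_inv_eq_iff_eq_mul] at hdb
  exact ⟨d, by rw [hd, himg], hdb⟩

/-- The element of order three. -/
theorem exists_w : ∃ w : ↥(Subgroup.centralizer ({z} : Set G)), imgs (ψ w) = hO ∧ Commute w b ∧ w ^ 3 = 1 ∧ w ≠ 1 := by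
  obtain ⟨c, hc⟩ := exists_img X.J [3] (by decide)
  change imgs (ψ c) = hO at hc
  haveI : Fact (Nat.Prime 7) := ⟨by norm_num⟩
  have e : ψ c * ψ b * (ψ c)⁻¹ = ψ b ^ 1 := by
    rw [pow_one, mul_inv_eq_iff_eq_mul]
    exact imgs_inj (by rw [imgs_mul, imgs_mul, hc, X.img, hB_facts.2.2.2.2.1])
  obtain ⟨d, hd, hdb⟩ := Fuse.norm_lift X.J (by norm_num) X.ord e
  rw [pow_one, mul_inv_eq_iff_eq_mul] at hdb
  have hdb' : Commute d b := hdb
  have h3 : imgs (ψ (d ^ 3)) = imgs (ψ (1 : ↥(Subgroup.centralizer ({z} : Set G)))) := by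
    rw [map_pow, imgs_pow, hd, hc, hB_facts.2.2.2.2.2.1, map_one, imgs_one]
  obtain ⟨j, hj⟩ := X.eq_mul_z (hdb'.pow_left 3) (Commute.one_left b) h3
  have h6 : d ^ 6 = 1 := by
    refine Subtype.ext ?_
    rw [show 6 = 3 * 2 from rfl, pow_mul, SubmonoidClass.coe_pow, hj, Subgroup.coe_one, one_mul, ← pow_mul, mul_comm,
      pow_mul, pow_two, X.J.base.extra.z_sq, one_pow]
  have himg : imgs (ψ (d ^ 4)) = hO := by
    rw [show 4 = 3 + 1 from rfl, pow_succ, map_mul, imgs_inj h3, map_one, one_mul, hd, hc]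
  refine ⟨d ^ 4, himg, hdb'.pow_left 4, ?_, fun e => hB_facts.2.2.2.2.2.2.1 ?_⟩
  · rw [← pow_mul, show 4 * 3 = 6 * 2 from rfl, pow_mul, h6, one_pow]
  · rw [← himg, e, map_one, imgs_one]

/-- The image of an element centralising or inverting the element. -/
theorem image_cases {d : ↥(Subgroup.centralizer ({z} : Set G))} {e : Bool} (h : d * b * d⁻¹ = b ^ expo e) :
    e = false ∧ ∃ σ a i : ℕ, σ ≤ 1 ∧ imgs (ψ d) = cmpL (powL hS σ) (comb7 a i) := by
  obtain ⟨s, hs, hsb⟩ := X.exists_s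
  have hψ : ψ d * ψ b = ψ b ^ expo e * ψ d := by
    rw [← map_pow, ← map_mul, ← map_mul]
    exact congrArg ψ (mul_inv_eq_iff_eq_mul.1 h)
  have hssemi : ∀ v, ψ s (omV v) = omV (omV (ψ s v)) := by
    refine (range_le X.J ⟨s, rfl⟩ : InJ (ψ s)).1.resolve_left fun hl => hB_facts.2.2.2.2.2.2.2.2.1 ?_
    have e1 := imgs_omc (ψ s) hl (show (1 : ℕ) < 4096 by norm_num)
    rw [hB_facts.2.2.2.2.2.2.2.2.2.1, hs, show lm hS 1 = hS.getD 0 0 from lm_bit hS 0,
      show lm hS 2 = hS.getD 1 0 from lm_bit hS 1] at e1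
    exact e1
  have hss : ψ s * ψ s = 1 := imgs_inj (by rw [imgs_mul, hs, hB_facts.2.2.1, imgs_one])
  obtain ⟨σ, hσ, hlin⟩ : ∃ σ : ℕ, σ ≤ 1 ∧ ∀ v, (ψ s ^ σ * ψ d) (omV v) = omV ((ψ s ^ σ * ψ d) v) := by
    rcases (range_le X.J ⟨d, rfl⟩ : InJ (ψ d)).1 with h | h
    · exact ⟨0, by norm_num, by simpa using h⟩
    · refine ⟨1, le_rfl, fun v => ?_⟩
      simp only [pow_one, LinearEquiv.mul_apply]
      rw [h, hssemi, hssemi, omV3]
  set g := ψ s ^ σ * ψ d with hg
  have hgb : g * ψ b = ψ b ^ expo e * g := by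
    have hsb' : Commute (ψ s) (ψ b) := hsb.map ψ
    rw [hg, mul_assoc, hψ, ← mul_assoc, ((hsb'.pow_left σ).pow_right (expo e)).eq, mul_assoc]
  set L := imgs g with hLdef
  set T' := powL hB (expo e) with hT'
  have hLlt : ∀ a, lm L a < 4096 := fun a => lm_lt (k := 12) _ _ (imgs_lt g)
  have hBlt : ∀ a, lm hB a < 4096 := fun a => lm_lt (k := 12) _ _ (X.img ▸ imgs_lt (ψ b))
  have hcm : ∀ a, a < 4096 → lm L (lm hB a) = lm T' (lm L a) := fun a ha => by
    have e1 := congrArg enc (LinearEquiv.congr_fun hgb (dec a))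
    simp only [LinearEquiv.mul_apply, enc_apply, enc_dec ha, imgs_pow, X.img] at e1
    exact e1
  have hom : ∀ a, a < 4096 → lm L (omc a) = omc (lm L a) := fun a ha => imgs_omc g hlin ha
  have hgm : g ∈ ψ.range := mul_mem (pow_mem (MonoidHom.mem_range.2 ⟨s, rfl⟩) _) (MonoidHom.mem_range.2 ⟨d, rfl⟩)
  have hoc : ∀ a, a < 4096 → oc (lm L a) = oc a := fun a ha => by
    have := (range_le X.J hgm : InJ g).2 (dec a)
    rwa [enc_apply, enc_dec ha] at this
  have hmap := bas7_map L hB T' (fun a _ => hLlt a) (fun a _ => hBlt a) hom hcm 6 6 (by norm_num)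
  have hL : L = candL T' (lm L 6) := by
    have h1 : candL T' (lm L 6) = idL.map (lm L) := by
      rw [candL, ← hmap, ← base7, List.map_map]
      refine List.map_congr_left fun k _ => ?_
      exact Five.lm_map (lm L) (lm_zero L) (lm_xor L) _ _
    rw [h1]
    refine List.ext_getElem (by simp [hLdef, imgs, idL]) fun j hj hj' => ?_
    have hj12 : j < 12 := by simpa [hLdef, imgs] using hj
    rw [List.getElem_map, ← List.getD_eq_getElem _ 0 hj,
      show idL[j]'(by simp [idL]; omega) = 2 ^ j by interval_cases j <;> rfl, lm_bit]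
  have hc := List.all_eq_true.1 cand7_all _ (List.mem_range.2 (hLlt 6))
  rw [Bool.and_eq_true] at hc
  have hce : cand7 e (lm L 6) = true := by cases e; exacts [hc.1, hc.2]
  simp only [cand7, ← hT', ← hL, test7, hoc 6 (by norm_num), hoc 17 (by norm_num), hoc 24 (by norm_num),
    beq_self_eq_true, Bool.not_true, Bool.false_or, Bool.and_eq_true, Bool.not_eq_true', List.any_eq_true,
    List.mem_range, beq_iff_eq] at hce
  obtain ⟨he, a, -, i, -, hai⟩ := hce
  refine ⟨he, σ, a, i, hσ, ?_⟩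
  have hd : ψ d = ψ s ^ σ * g := by
    rw [hg, ← mul_assoc, ← pow_add, ← two_mul, pow_mul, pow_two, hss, one_pow, one_mul]
  rw [hd, imgs_mul, imgs_pow, hs, ← hLdef, hai]

/-- An element inducing squaring. -/
theorem exists_power_two : ∃ d : ↥(Subgroup.centralizer ({z} : Set G)), d * b * d⁻¹ = b ^ 2 := by
  obtain ⟨c, hc⟩ := exists_img X.J [2, 0, 2, 0, 0, 2, 0, 4, 2, 0, 1] (by decide)
  change imgs (ψ c) = hP at hc
  haveI : Fact (Nat.Prime 7) := ⟨by norm_num⟩
  have e : ψ c * ψ b * (ψ c)⁻¹ = ψ b ^ 2 := by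
    rw [mul_inv_eq_iff_eq_mul]
    exact imgs_inj (by rw [imgs_mul, imgs_mul, imgs_pow, hc, X.img, hB_facts.2.2.2.2.2.2.2.1])
  obtain ⟨d, -, hd⟩ := Fuse.norm_lift X.J (by norm_num) X.ord e
  exact ⟨d, hd⟩

/-- The centraliser of the element in the centraliser of `z`. -/
theorem span_H {w s : ↥(Subgroup.centralizer ({z} : Set G))} (hw : imgs (ψ w) = hO) (hwb : Commute w b)
    (hs : imgs (ψ s) = hS) (hsb : Commute s b) {d : ↥(Subgroup.centralizer ({z} : Set G))} (hd : Commute d b) :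
    ∃ σ a i j : ℕ, σ ≤ 1 ∧ (d : G) = (s : G) ^ σ * ((w : G) ^ a * (b : G) ^ i * z ^ j) := by
  obtain ⟨-, σ, a, i, hσ, himg⟩ := X.image_cases (d := d) (e := false) (by
    rw [expo, pow_one, mul_inv_eq_iff_eq_mul]; exact hd.eq)
  set d' := s ^ σ * (w ^ a * b ^ i) with hd'
  have hd'b : Commute d' b := (hsb.pow_left _).mul_left ((hwb.pow_left _).mul_left ((Commute.refl b).pow_left _))
  have himg' : imgs (ψ d) = imgs (ψ d') := by
    rw [himg, hd', map_mul, map_mul, map_pow, map_pow, map_pow, imgs_mul, imgs_mul, imgs_pow, imgs_pow, imgs_pow, hs,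
      hw, X.img]
    rfl
  obtain ⟨j, hj⟩ := X.eq_mul_z hd hd'b himg'
  refine ⟨σ, a, i, j, hσ, ?_⟩
  rw [hj, hd']
  simp only [Subgroup.coe_mul, SubmonoidClass.coe_pow, mul_assoc]

end Ctx

end CfsgLib.Sporadic.J4Type.Seven
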