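import Cfsg.Agent.Lib.Sporadic.J4Type.InvClasses

/-!
# Data at the prime seven: a permutation of order seven and its centraliser in the Mathieu group

The permutation commutes with the involution given by the first vector and fixes the points `0`, `1` and `15`.
-/

set_option autoImplicit false
set_option maxRecDepth 40000

namespace CfsgLib.Sporadic.J4Type.Seven

open Cfsg CfsgLib.Sporadic.LargeFischer CfsgLib.Sporadic.LargeFischer.Hexa
open CfsgLib.Sporadic.M24Orbits CfsgLib.ThreeTransp.M24Classes

/-- The permutation of order seven. -/
def permR : List ℕ :=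
  [0, 1, 3, 4, 16, 17, 7, 5, 9, 12, 21, 2, 6, 20, 18, 15, 14, 8, 11, 13, 23, 19, 10, 22]

/-- An element of order three of its centraliser, moving the fixed points. -/
def permK : List ℕ :=
  [1, 15, 10, 21, 19, 3, 11, 2, 16, 14, 12, 22, 18, 5, 20, 0, 13, 4, 23, 7, 17, 6, 9, 8]

/-- The position of a point in the cycles, and the exponent. -/
def cycPos : List (ℕ × ℕ) :=
  [(3, 0), (3, 1), (0, 0), (0, 1), (0, 2), (1, 0), (1, 5), (1, 6), (1, 2), (1, 3), (2, 0), (0, 6),
   (1, 4), (2, 3), (0, 4), (3, 15), (0, 3), (1, 1), (0, 5), (2, 2), (2, 4), (2, 1), (2, 6), (2, 5)]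

/-- The value at a point of the permutation commuting with the first and with the given values at the three
representatives of the cycles. -/
def candT (y : List ℕ) (i : ℕ) : ℕ :=
  if (cycPos.getD i (3, 0)).1 == 3 then i else iter (cycPos.getD i (3, 0)).2 permR (y.getD (cycPos.getD i (3, 0)).1 0)

/-- The representatives of the cycles. -/
def reps : List ℕ := [2, 5, 10]

/-- The moved points. -/
def moved7 : List ℕ := (List.range 24).filter fun i => tblNat permR i != i

/-- The sum of the codes of the images of a set of points. -/
def xl (t : ℕ → ℕ) (K : ℕ) : ℕ :=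
  (List.range 24).foldr (fun j acc => (if K.testBit j then pcode (t j) ^^^ pcode (t 23) else 0) ^^^ acc) 0

/-- Two sets of eight points with sum zero. -/
def words7 : List ℕ := [5279, 10558]

/-- Whether a list of values gives only a power. -/
def candOK (y : List ℕ) : Bool :=
  !(words7.all fun K => xl (candT y) K == 0) ||
    (List.range 7).any fun k => (List.range 24).all fun i => candT y i == iter k permR i

theorem cand_all : (moved7.all fun a => moved7.all fun b => moved7.all fun c => candOK [a, b, c]) = true := by
  decide +kernel

theorem words_zero : words7.all (fun K => xl id K == 0) = true := by decide +kernel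

theorem cyc_ok : (List.range 24).all (fun i =>
    if (cycPos.getD i (3, 0)).1 == 3 then (i == 0 || i == 1 || i == 15) && tblNat permR i == i
    else decide ((cycPos.getD i (3, 0)).1 < 3) &&
      iter (cycPos.getD i (3, 0)).2 permR (reps.getD (cycPos.getD i (3, 0)).1 0) == i && tblNat permR i != i) = true := by
  decide +kernel

theorem perm7_ok : okTbl permR = true ∧ okTbl permK = true ∧
    conjEq permA permR permR = true ∧ conjEq permK permR permR = true ∧
    (List.range 24).all (fun i => iter 7 permR i == i && iter 2 permA i == i) = true ∧
    tblNat permA 0 = 1 ∧ tblNat permA 1 = 0 ∧ tblNat permA 15 = 15 ∧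
    tblNat permK 0 = 1 ∧ tblNat permK 1 = 15 ∧ tblNat permK 15 = 0 ∧ tblNat permR 2 = 3 := by
  decide +kernel

/-- The fixed codes in `E`. -/
def fixE : List ℕ := (List.range 2048).filter fun n => n % 16 == 0 && mv vA kdA n == n

/-- The vector of such an element. -/
def vecE (n : ℕ) : ℕ := vA ^^^ wv (n / 32)

theorem fixE_facts : (fixE.filter fun n => oc (vecE n) == (false, true)).length = 16 ∧
    fixE.all (fun n => decide (vecE n < 4096) && vecE n != 0) = true := by decide +kernel

theorem fix_out_card :
    ((List.range 2048).filter fun n => !(n % 16 == 0) && mv vA kdA n == n).length = 64 := by decide +kernel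

end CfsgLib.Sporadic.J4Type.Seven
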