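import Cfsg.Agent.Lib.Sporadic.J4Type.StabW
import Cfsg.Agent.Lib.Sporadic.J4Type.Images
import Cfsg.Agent.Lib.Sporadic.J4Type.Fast

/-!
# Data at the prime seven: an element of order seven of the centraliser, on coordinates

The vector `6` and its image under the scalar generate the module under the element, so a linear map commuting with
it or inverting it is given by the image of that vector.
-/

set_option autoImplicit false
set_option maxRecDepth 40000

namespace CfsgLib.Sporadic.J4Type.Seven

open CfsgLib.Sporadic.LargeFischer CfsgLib.Sporadic.LargeFischer.Hexa CfsgLib.Sporadic.J4Type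

/-- The images under a word. -/
def imgW (w : List ℕ) : List ℕ := (List.range 12).map fun i => appW w (2 ^ i)

/-- An element of order fourteen. -/
def hG : List ℕ := imgW [4, 2, 0]

/-- The element of order seven. -/
def hB : List ℕ := powL hG 8

/-- A semilinear involution commuting with it. -/
def hS : List ℕ := powL hG 7

/-- The scalar. -/
def hO : List ℕ := imgW [3]

/-- An element inducing squaring. -/
def hP : List ℕ := imgW [2, 0, 2, 0, 0, 2, 0, 4, 2, 0, 1]

/-- The images of the adapted basis. -/
def bas7 (T : List ℕ) : ℕ → ℕ → List ℕ
  | 0, _ => []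
  | n + 1, m => frc m fun a => a :: omc a :: bas7 T n (lm T a)

/-- The coefficients of the unit vectors in the adapted basis. -/
def coef7 : List ℕ := [2542, 3703, 3702, 1947, 3153, 1186, 2044, 2388, 517, 778, 1510, 2683]

/-- The exponent, either one or six. -/
def expo : Bool → ℕ
  | false => 1
  | true => 6

/-- The map with the given image of the vector. -/
def candL (T : List ℕ) (m : ℕ) : List ℕ := coef7.map (lm (bas7 T 6 m))

/-- The products of the scalar and the element. -/
def comb7 (a i : ℕ) : List ℕ := cmpL (powL hO a) (powL hB i)

/-- Whether a map is known or does not keep the orbits of two vectors. -/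
def test7 (e : Bool) (L : List ℕ) : Bool :=
  !(oc (lm L 17) == oc 17) || !(oc (lm L 24) == oc 24) ||
    (!e && (List.range 3).any fun a => (List.range 7).any fun i => L == comb7 a i)

/-- Whether an image gives only the known maps. -/
def cand7 (e : Bool) (m : ℕ) : Bool :=
  !(oc m == oc 6) || test7 e (candL (powL hB (expo e)) m)

theorem cand7_all : (List.range 4096).all (fun m => cand7 false m && cand7 true m) = true := by decide +kernel

theorem base7 : coef7.map (lm (bas7 hB 6 6)) = idL := by decide +kernel

theorem hB_facts : powL hB 7 = idL ∧ hB ≠ idL ∧ cmpL hS hS = idL ∧ cmpL hS hB = cmpL hB hS ∧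
    cmpL hO hB = cmpL hB hO ∧ powL hO 3 = idL ∧ hO ≠ idL ∧ cmpL hP hB = cmpL (powL hB 2) hP ∧
    hS.getD 1 0 ≠ omc (hS.getD 0 0) ∧ omc 1 = 2 ∧ powL hG 14 = idL := by decide +kernel

theorem hB_fix : (List.range 4096).all (fun v => v == 0 || !(lm hB v == v)) = true := by decide +kernel

theorem hO_omc : (List.range 12).all (fun i => hO.getD i 0 == omc (2 ^ i)) = true := by decide +kernel

theorem comb7_facts : ∀ a : Fin 3, ∀ i : Fin 7, ((a.1 == 0 && i.1 == 0) || !(comb7 a.1 i.1 == idL)) = true := by
  decide +kernel

end CfsgLib.Sporadic.J4Type.Seven
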