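import Cfsg.Agent.Lib.Sporadic.J4Type.SevenTodd
import Cfsg.Agent.Lib.Sporadic.J4Type.SevenCtx
import Cfsg.Agent.Lib.Involution.SymFive
import Cfsg.Agent.Lib.Sporadic.JankoFourType.Fusion
import Cfsg.Prelude.Def_TwoFusion

/-!
# Groups of fourth Janko type: the local structure at the prime seven

The quotient of the centraliser of a subgroup of order seven by it is recognised as symmetric of degree five.
-/

set_option autoImplicit false
set_option linter.style.haveILetI false
set_option linter.unusedSectionVars false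
set_option maxRecDepth 40000

namespace CfsgLib.Sporadic.J4Type.Seven

open Cfsg CfsgLib.Sporadic.LargeFischer CfsgLib.Sporadic.LargeFischer.Hexa CfsgLib.Sporadic.J4Type

/-- The conclusion, for a subgroup of order seven. -/
def Concl {G : Type*} [Group G] (S : Subgroup G) : Prop :=
  ¬ (49 ∣ Nat.card G) ∧
    (∃ I : Subgroup G, Cfsg.IsInternalDirectProduct S I (Subgroup.centralizer (S : Set G)) ∧
      Nonempty (↥I ≃* Equiv.Perm (Fin 5))) ∧
    Nat.card ↥(Subgroup.normalizer (S : Set G)) = 3 * Nat.card ↥(Subgroup.centralizer (S : Set G)) ∧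
    Nat.card ↥(Subgroup.normalizer (S : Set G)) = 2 ^ 3 * 3 ^ 2 * 5 * 7

variable {G : Type*} [Group G] [Finite G] [IsSimpleGroup G] {z : G}

/-- What the subgroup of order `2¹¹` gives. -/
theorem todd_facts (hJ : Cfsg.IsOfJankoFourTypeAt z) :
    (∀ S : Subgroup G, Nat.card ↥S = 7 → ∀ u : G, u * u = 1 → u ≠ 1 → ¬ IsConj z u →
      u ∈ Subgroup.centralizer (S : Set G) → ∃ a e, Local z S u a e) ∧
    ∃ τ t e : G, orderOf τ = 7 ∧ t * t = 1 ∧ t ≠ 1 ∧ ¬ IsConj z t ∧ IsConj z e ∧
      τ * t = t * τ ∧ τ * e = e * τ ∧ t * e = e * t := by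
  obtain ⟨π, ψ, x, J⟩ := exists_jf hJ
  have hU : UniqAb G := uniqAb (Q := Cfsg.pCore 2 ↥(Subgroup.centralizer ({z} : Set G))) J.base (maxAb J)
  obtain ⟨c, L, hN⟩ := (frame J).exists_normal hU
  obtain ⟨θ, hT, hsmall, hact⟩ := (frame J).todd_labelled hN hU
  obtain ⟨hU', z', θ', f, hzz, h'⟩ :=
    exists_duads_at z hJ ((frame J).isElementaryAbelian_asub L) ((frame J).card_asub L)
  have T : TCtx (frame J) L θ :=
    { jf := J, core := rfl, todd := hT, small := hsmall, coded := hact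
      cent_t := fun t ht ht1 hnc => by
        obtain ⟨p, q, hpq, e⟩ := h'.surj' t ht ht1 fun c => hnc (hzz.trans c)
        rw [e]
        exact h'.cent_small hU hpq
      conj_in := fun t ht => (frame J).exists_conj_asub L hN hU (exists_image J) ht
      fixed_z := ?_ }
  · exact ⟨fun S hS u => T.exists_local hS, T.exists_pair⟩
  intro a ha hza y hy h7 hya
  letI : MulAction ↥(Subgroup.normalizer ((frame J).asub L : Set G)) G := MulAction.compHom G
    (MonoidHom.comp (MulAut.conj (G := G)) (Subgroup.normalizer ((frame J).asub L : Set G)).subtype)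
  have horb : (MulAction.orbit ↥(Subgroup.normalizer ((frame J).asub L : Set G)) a).ncard = 1771 := by
    have e1 : MulAction.orbit ↥(Subgroup.normalizer ((frame J).asub L : Set G)) a = {v : G | ∃ n ∈ (Subgroup.normalizer ((frame J).asub L : Set G)), n * a * n⁻¹ = v} := by
      ext v
      exact ⟨fun ⟨m, hm⟩ => ⟨m, m.2, hm⟩, fun ⟨n, hn, e⟩ => ⟨⟨n, hn⟩, e⟩⟩
    have ha1 : a ≠ 1 := fun e => J.base.extra.z_ne (by
      rw [e] at hza; exact isConj_one_right.1 hza.symm)
    rw [e1, h'.orbit_eq ha ha1, ← h'.orbit_z, h'.orbit_eq h'.zmem h'.z_ne]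
    congr 1
    ext v
    exact ⟨fun ⟨p, q, r⟩ => ⟨p, q, r.trans (iff_of_true (hzz.symm.trans hza) (IsConj.refl z'))⟩,
      fun ⟨p, q, r⟩ => ⟨p, q, r.trans (iff_of_true (IsConj.refl z') (hzz.symm.trans hza))⟩⟩
  have h := (MulAction.stabilizer ↥(Subgroup.normalizer ((frame J).asub L : Set G)) a).card_mul_index
  rw [MulAction.index_stabilizer, horb] at h
  have hdvd : 7 ∣ Nat.card (MulAction.stabilizer ↥(Subgroup.normalizer ((frame J).asub L : Set G)) a) := by
    have hmem : (⟨y, hy⟩ : ↥(Subgroup.normalizer ((frame J).asub L : Set G))) ∈ MulAction.stabilizer ↥(Subgroup.normalizer ((frame J).asub L : Set G)) a := by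
      show y * a * y⁻¹ = a
      rw [hya, mul_inv_cancel_right]
    have := Subgroup.orderOf_dvd_natCard _ hmem
    rwa [Subgroup.orderOf_mk, h7] at this
  have hM' := θ.ker.card_mul_index
  rw [Subgroup.index_ker, MonoidHom.range_eq_top.2 hT.surj, Subgroup.card_top,
    CfsgLib.SmallGroups.M24Group.card_M24, hT.ker,
    Nat.card_congr (Subgroup.subgroupOfEquivOfLe Subgroup.le_normalizer).toEquiv, (frame J).card_asub L] at hM'
  rw [← hM'] at h
  obtain ⟨k, hk⟩ := hdvd
  rw [hk] at h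
  omega

/-- The theorem for the standard element. -/
theorem concl (hJ : Cfsg.IsOfJankoFourTypeAt z) {π : G → V6}
    {ψ : ↥(Subgroup.centralizer ({z} : Set G)) →* (V6 ≃ₗ[ZMod 2] V6)}
    {x b : ↥(Subgroup.centralizer ({z} : Set G))} (X : Ctx z π ψ x b) :
    Concl (Subgroup.zpowers (b : G)) := by
  classical
  haveI : Fact (Nat.Prime 7) := ⟨by norm_num⟩
  obtain ⟨hloc, τ, t, e, hτ, htt, ht1, htn, hez, hτt, hτe, hte⟩ := todd_facts hJ
  obtain ⟨s₀, hs₀, hs₀b⟩ := X.exists_s
  obtain ⟨w, hw, hwb, hw3, hw1⟩ := X.exists_w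
  set β := (b : G) with hβ
  have hβ7 : β ^ 7 = 1 := congrArg Subtype.val X.pow_seven
  have hβo : orderOf β = 7 := by rw [hβ, Subgroup.orderOf_coe, X.ord]
  have hzz : z * z = 1 := X.J.base.extra.z_sq
  have hz1 : z ≠ 1 := X.J.base.extra.z_ne
  have hzH : ∀ d : ↥(Subgroup.centralizer ({z} : Set G)), Commute z (d : G) := fun d =>
    (Subgroup.mem_centralizer_singleton_iff.1 d.2).symm
  set C := Subgroup.centralizer (Subgroup.zpowers β : Set G) with hC
  have memC : ∀ {g : G}, g ∈ C ↔ Commute g β := fun {g} => by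
    rw [hC, Subgroup.mem_centralizer_iff]
    exact ⟨fun h => (h β (Subgroup.mem_zpowers β)).symm, fun h => by
      rintro _ ⟨i, rfl⟩; exact ((h : Commute g β).zpow_right i).eq.symm⟩
  have hzC : Commute z β := hzH b
  set wG := (w : G) with hwG
  set σG := (s₀ : G) with hσG
  have hwβ : Commute wG β := congrArg Subtype.val hwb.eq
  have hσβ : Commute σG β := congrArg Subtype.val hs₀b.eq
  have hwz : Commute z wG := hzH w
  -- the involution outside the class in the centraliser of `z`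
  obtain ⟨y, hyy, hy1, hyn, hyz, hyβ⟩ :
      ∃ y : G, y * y = 1 ∧ y ≠ 1 ∧ ¬ IsConj z y ∧ y * z = z * y ∧ Commute y β := by
    obtain ⟨g, hg⟩ := isConj_iff.1 hez.symm
    have hτH : g * τ * g⁻¹ ∈ Subgroup.centralizer ({z} : Set G) := by
      rw [Subgroup.mem_centralizer_singleton_iff, ← hg, conj_mul, conj_mul, hτe]
    have ho : orderOf (⟨g * τ * g⁻¹, hτH⟩ : ↥(Subgroup.centralizer ({z} : Set G))) = 7 := by
      rw [Subgroup.orderOf_mk, CfsgLib.Involution.Dihedral.orderOf_conj, hτ]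
    obtain ⟨d, m, hdm, hm⟩ := Five.exists_conj_pow X.fac_seven ho X.ord
    set h := (d : G) * g with hh
    have hd' : h * τ * h⁻¹ = β ^ m := by
      have := congrArg Subtype.val hdm
      simp only [Subgroup.coe_mul, Subgroup.coe_inv, SubmonoidClass.coe_pow] at this
      rw [hh, hβ, ← this]; group
    have hdz : (d : G) * z * (d : G)⁻¹ = z := Fuse.z_conj X.J d
    refine ⟨h * t * h⁻¹, by rw [conj_mul, htt, mul_one, mul_inv_cancel], fun e' => ht1 (conj_eq_one_iff.1 e'),
      fun hc => htn (hc.trans (isConj_iff.2 ⟨h⁻¹, by group⟩)), ?_, ?_⟩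
    · have hez' : h * e * h⁻¹ = z := by
        rw [hh, show (d : G) * g * e * ((d : G) * g)⁻¹ = (d : G) * (g * e * g⁻¹) * (d : G)⁻¹ by group, hg, hdz]
      rw [← hez', conj_mul, conj_mul, hte]
    · have h1 : Commute (h * t * h⁻¹) (β ^ m) := by
        rw [← hd']
        show h * t * h⁻¹ * (h * τ * h⁻¹) = h * τ * h⁻¹ * (h * t * h⁻¹)
        rw [conj_mul, conj_mul, hτt]
      obtain ⟨j, -, hj⟩ := Nat.exists_mul_mod_eq_one_of_coprime
        ((Nat.Prime.coprime_iff_not_dvd (by norm_num : Nat.Prime 7)).2 hm).symm (by norm_num : 1 < 7)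
      have h2 := h1.pow_right j
      rwa [← pow_mul, ← pow_mod_orderOf, hβo, hj, pow_one] at h2
  set yH : ↥(Subgroup.centralizer ({z} : Set G)) := ⟨y, Subgroup.mem_centralizer_singleton_iff.2 hyz⟩ with hyH
  obtain ⟨σ, a₀, i₀, j₀, hσ, hyform⟩ := X.span_H hw hwb hs₀ hs₀b (d := yH) (Subtype.ext hyβ.eq)
  have hcwb : Commute wG β := hwβ
  have hpow21 : ∀ a i j : ℕ, (wG ^ a * β ^ i * z ^ j) ^ 21 = z ^ j := by
    intro a i j
    have hz21 : (z ^ j) ^ 21 = z ^ j := by
      rw [← pow_mul, mul_comm, pow_mul, show z ^ 21 = z by rw [pow_succ, show 20 = 2 * 10 from rfl, pow_mul, pow_two,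
        hzz, one_pow, one_mul]]
    have hw21 : (wG ^ a) ^ 21 = 1 := by
      rw [← pow_mul, mul_comm, pow_mul, show 21 = 3 * 7 from rfl, pow_mul,
        show wG ^ 3 = 1 from congrArg Subtype.val hw3, one_pow, one_pow]
    have hb21 : (β ^ i) ^ 21 = 1 := by
      rw [← pow_mul, mul_comm, pow_mul, show 21 = 7 * 3 from rfl, pow_mul, hβ7, one_pow, one_pow]
    have c1 : Commute (wG ^ a * β ^ i) (z ^ j) := ((hwz.pow_pow j a).symm).mul_left ((hzC.pow_pow j i).symm)
    rw [c1.mul_pow, (hcwb.pow_pow a i).mul_pow, hw21, hb21, hz21, one_mul, one_mul]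
  have hσ1 : σ = 1 := by
    rcases Nat.le_one_iff_eq_zero_or_eq_one.1 hσ with h | h
    · exfalso
      subst h
      rw [pow_zero, one_mul, ← hwG, ← hβ] at hyform
      have h21 : y ^ 21 = y := by
        rw [pow_succ, show 20 = 2 * 10 from rfl, pow_mul, pow_two, hyy, one_pow, one_mul]
      have h := congrArg (· ^ 21) hyform
      simp only [show (yH : G) = y from rfl, hpow21, h21] at h
      rcases Nat.even_or_odd' j₀ with ⟨k, rfl | rfl⟩
      · exact hy1 (by rw [h, pow_mul, pow_two, hzz, one_pow])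
      · exact hyn (by rw [h, pow_succ, pow_mul, pow_two, hzz, one_pow, one_mul])
    · exact h
  subst hσ1
  rw [pow_one, ← hwG, ← hβ, ← hσG, show (yH : G) = y from rfl] at hyform
  obtain ⟨sG, hsG⟩ : ∃ sG : G, sG = y * z := ⟨_, rfl⟩
  have hss : sG * sG = 1 := by
    rw [hsG, (show Commute z y from hyz.symm).mul_mul_mul_comm, hyy, hzz, one_mul]
  have hsz' : sG * z = y := by rw [hsG, mul_assoc, hzz, mul_one]
  have hzs : z * sG = sG * z := by rw [hsG, ← mul_assoc, ← hyz]
  have hsβ : Commute sG β := hsG ▸ hyβ.mul_left hzC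
  -- the class of `y z`
  have hsZ : IsConj z sG := by
    obtain ⟨a, c, h⟩ := hloc _ (by rw [Nat.card_zpowers, hβo]) y hyy hy1 hyn (memC.2 hyβ)
    obtain ⟨_, ⟨n, rfl⟩, i, j, k, e'⟩ := h.span z (memC.2 hzC) hyz.symm
    have hyc : Commute y c := h.uc
    have hya : Commute y a := h.ua
    have hbn : Commute (β ^ n) (y ^ i.1 * a ^ j.1 * c ^ k.1) :=
      (((hyβ.pow_left i.1).mul_left ((memC.1 h.aS).pow_left j.1)).mul_left ((memC.1 h.cS).pow_left k.1)).symm.zpow_left n
    set v := y ^ i.1 * a ^ j.1 * c ^ k.1 with hv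
    have hx2 : ∀ i j : Fin 2, (y ^ i.1 * a ^ j.1) * (y ^ i.1 * a ^ j.1) = 1 := fun i j => by
      rw [← pow_two, (hya.pow_pow i.1 j.1).mul_pow, ← pow_mul, ← pow_mul, mul_comm i.1, mul_comm j.1, pow_mul,
        pow_mul, pow_two, pow_two, hyy, h.aa, one_pow, one_pow, one_mul]
    have hv2 : v * v = if k = 0 then 1 else y ^ j.1 := by
      fin_cases k
      · simpa [hv] using hx2 i j
      · simp only [hv, pow_one, Fin.mk_one, Fin.isValue, one_ne_zero, if_false]
        have e2 : c * (y ^ i.1 * a ^ j.1) = y ^ (i.1 + j.1) * a ^ j.1 * c := by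
          rw [← mul_assoc, ((hyc.pow_left i.1)).symm.eq]
          fin_cases j
          · simp
          · simp only [pow_one]
            rw [mul_assoc, show c * a = a * y * c by rw [← h.cac, mul_assoc _ c c, h.cc, mul_one], pow_succ,
              ← hya.eq]
            group
        calc y ^ i.1 * a ^ j.1 * c * (y ^ i.1 * a ^ j.1 * c)
            = y ^ i.1 * a ^ j.1 * (c * (y ^ i.1 * a ^ j.1)) * c := by group
          _ = y ^ i.1 * a ^ j.1 * (y ^ (i.1 + j.1) * a ^ j.1) * (c * c) := by rw [e2]; group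
          _ = y ^ j.1 := by
            rw [h.cc, mul_one, (hya.pow_pow (i.1 + j.1) j.1).symm.mul_mul_mul_comm, ← pow_add, ← pow_add,
              show a ^ (j.1 + j.1) = 1 by rw [← two_mul, pow_mul, pow_two, h.aa, one_pow], mul_one,
              ← add_assoc, ← two_mul, pow_add, pow_mul, pow_two, hyy, one_pow, one_mul]
    have hzv : z = v := by
      have h49 : z ^ 49 = z := by rw [pow_succ, show 48 = 2 * 24 from rfl, pow_mul, pow_two, hzz, one_pow, one_mul]
      have h4 : v ^ 4 = 1 := by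
        rw [show 4 = 2 * 2 from rfl, pow_mul, pow_two v, hv2]
        split
        · exact one_pow 2
        · rw [← pow_mul, mul_comm, pow_mul, pow_two, hyy, one_pow]
      have hb49 : (β ^ n) ^ 49 = 1 := by
        rw [← zpow_natCast, ← zpow_mul, mul_comm, zpow_mul, zpow_natCast, show 49 = 7 * 7 from rfl, pow_mul, hβ7,
          one_pow, one_zpow]
      rw [← h49, e', hbn.mul_pow, hb49, one_mul, show 49 = 4 * 12 + 1 from rfl, pow_succ, pow_mul, h4, one_pow,
        one_mul]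
    have haun : ¬ IsConj z (a * y) := by
      rw [← h.cac]
      nth_rw 2 [← inv_eq_of_mul_eq_one_right h.cc]
      exact fun hc => h.hna (hc.trans (isConj_iff.2 ⟨c⁻¹, by group⟩))
    have hk : k = 1 := by
      by_contra hk
      have hk0 : k = 0 := by omega
      subst hk0
      simp only [hv, Fin.val_zero, pow_zero, mul_one] at hzv
      fin_cases i <;> fin_cases j <;> simp only [pow_zero, pow_one, one_mul, mul_one] at hzv
      · exact hz1 hzv
      · exact h.hna (hzv ▸ IsConj.refl z)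
      · exact hyn (hzv ▸ IsConj.refl z)
      · rw [hya.eq] at hzv
        exact haun (hzv ▸ IsConj.refl z)
    have hj : j = 0 := by
      by_contra hj
      have hj1 : j = 1 := by omega
      rw [hk, if_neg (by decide), ← hzv, hzz, hj1] at hv2
      exact hy1 (by simpa using hv2.symm)
    subst hk hj
    simp only [hv, Fin.val_zero, pow_zero, mul_one, Fin.val_one, pow_one] at hzv
    have hcy : IsConj z (c * y) := by
      refine h.hc.trans (isConj_iff.2 ⟨a, ?_⟩)
      rw [inv_eq_of_mul_eq_one_right h.aa]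
      calc a * c * a = c * c * a * c * a := by rw [h.cc, one_mul]
        _ = c * (c * a * c) * a := by group
        _ = c * (y * a) * a := by rw [h.cac, ← h.ua]
        _ = c * y * (a * a) := by group
        _ = c * y := by rw [h.aa, mul_one]
    have e : sG = y * (y ^ i.1 * c) := by rw [hsG]; exact congrArg (y * ·) hzv
    rw [e]
    fin_cases i
    · simpa [← hyc.eq] using hcy
    · simp only [pow_one, ← mul_assoc, hyy, one_mul]
      exact h.hc
  -- conjugation of the element of order three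
  have hswG : sG * wG * sG⁻¹ = wG⁻¹ := by
    have hsemi : imgs (ψ (s₀ * w)) = imgs (ψ (w ^ 2 * s₀)) := by
      rw [map_mul, map_mul, map_pow, imgs_mul, imgs_mul, imgs_pow, hs₀, hw]
      decide +kernel
    obtain ⟨j, hj⟩ := X.eq_mul_z (hs₀b.mul_left hwb) ((hwb.pow_left 2).mul_left hs₀b) hsemi
    simp only [Subgroup.coe_mul, SubmonoidClass.coe_pow, ← hσG, ← hwG] at hj
    have hw3' : wG ^ 3 = 1 := congrArg Subtype.val hw3
    have h1 : σG * wG * σG⁻¹ = wG ^ 2 * z ^ j := by
      rw [hj, mul_assoc _ σG, ← ((hzH s₀).pow_left j).eq, ← hσG]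
      group
    have h2 : z ^ j = 1 := by
      have e3 := congrArg (· ^ 3) h1
      simp only [conj_pow, hw3', mul_one, mul_inv_cancel] at e3
      rw [((hwz.pow_pow j 2).symm).mul_pow, ← pow_mul, mul_comm 2, pow_mul, hw3', one_pow, one_mul, ← pow_mul, mul_comm,
        pow_mul, pow_succ, pow_two, hzz, one_mul] at e3
      exact e3.symm
    have hcm : Commute (wG ^ a₀ * β ^ i₀ * z ^ j₀ * z) wG :=
      ((((Commute.refl wG).pow_left a₀).mul_left (hcwb.symm.pow_left i₀)).mul_left (hwz.pow_left j₀)).mul_left hwz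
    calc sG * wG * sG⁻¹ = σG * ((wG ^ a₀ * β ^ i₀ * z ^ j₀ * z) * wG * (wG ^ a₀ * β ^ i₀ * z ^ j₀ * z)⁻¹) * σG⁻¹ := by
          rw [hsG, hyform]; group
      _ = σG * wG * σG⁻¹ := by rw [hcm.eq, mul_inv_cancel_right]
      _ = wG⁻¹ := by
        rw [h1, h2, mul_one]
        exact eq_inv_of_mul_eq_one_left (by rw [← pow_succ]; exact hw3')
  -- the quotient
  set N := (Subgroup.zpowers β).subgroupOf C with hN
  have hβC : Subgroup.zpowers β ≤ C := Subgroup.zpowers_le.2 (memC.2 (Commute.refl β))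
  haveI hNn : N.Normal := ⟨fun a ha c => by
    rw [hN, Subgroup.mem_subgroupOf] at ha ⊢
    show (c : G) * a * (c : G)⁻¹ ∈ _
    obtain ⟨n, hn⟩ := ha
    rw [← hn, ((memC.1 c.2).zpow_right n).eq, mul_inv_cancel_right]
    exact ⟨n, rfl⟩⟩
  let q : ↥C →* ↥C ⧸ N := QuotientGroup.mk' N
  have hqs : Function.Surjective q := QuotientGroup.mk'_surjective N
  have hq : ∀ g h : ↥C, q g = q h ↔ ∃ n : ℕ, (h : G) = g * β ^ n := fun g h => by
    rw [show q g = q h ↔ g⁻¹ * h ∈ N from QuotientGroup.eq, hN, Subgroup.mem_subgroupOf,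
      ← mem_powers_iff_mem_zpowers]
    simp only [Subgroup.coe_mul, Subgroup.coe_inv]
    exact ⟨fun ⟨n, hn⟩ => ⟨n, by rw [show β ^ n = _ from hn, mul_inv_cancel_left]⟩,
      fun ⟨n, hn⟩ => ⟨n, by show β ^ n = _; rw [hn, inv_mul_cancel_left]⟩⟩
  have huniq : ∀ g h : ↥C, (g : G) * g = 1 → (h : G) * h = 1 → q g = q h → (g : G) = h := by
    intro g h hg hh e'
    obtain ⟨n, hn⟩ := (hq g h).1 e'
    have h2 : β ^ n * β ^ n = 1 := by
      rw [hn, ((memC.1 g.2).pow_right n).symm.mul_mul_mul_comm, hg, one_mul] at hh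
      exact hh
    have h3 : β ^ n = 1 := by
      calc β ^ n = (β ^ n * β ^ n) ^ 4 := by
            rw [← pow_add, ← pow_mul, show (n + n) * 4 = 7 * n + n by ring, pow_add, pow_mul, hβ7, one_pow, one_mul]
        _ = 1 := by rw [h2, one_pow]
    rw [hn, h3, mul_one]
  have hconjC : ∀ {g h : ↥C}, q g = q h → (g : G) * g = 1 → (h : G) * h = 1 → (g : G) = h :=
    fun e' a b => huniq _ _ a b e'
  have hzsq : ∀ {g : G}, IsConj z g → g * g = 1 := fun {g} hg => by
    obtain ⟨k, rfl⟩ := isConj_iff.1 hg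
    rw [conj_mul, hzz, mul_one, mul_inv_cancel]
  let Z : ↥C ⧸ N → Prop := fun x => ∃ g : ↥C, q g = x ∧ IsConj z (g : G)
  let zq := q ⟨z, memC.2 hzC⟩
  let wq := q ⟨wG, memC.2 hwβ⟩
  let sq := q ⟨sG, memC.2 hsβ⟩
  have hsqz : sq * zq = q ⟨y, memC.2 hyβ⟩ := by
    show q _ * q _ = q _
    rw [← map_mul]
    exact congrArg q (Subtype.ext hsz')
  have D : CfsgLib.Involution.SymFive.Data Z zq wq sq := by
    refine
      { inv := ?_, sq := ?_, one := ?_, hz := ⟨_, rfl, IsConj.refl z⟩, hs := ⟨_, rfl, hsZ⟩, hsz := ?_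
        w3 := ?_, w1 := ?_, zw := ?_, zs := ?_, sw := ?_, span_z := ?_, loc := ?_ }
    · rintro _ k ⟨g, rfl, hg⟩
      obtain ⟨k, rfl⟩ := hqs k
      exact ⟨k * g * k⁻¹, by simp only [map_mul, map_inv], hg.trans (isConj_iff.2 ⟨(k : G), by simp⟩)⟩
    · rintro _ ⟨g, rfl, hg⟩
      rw [← map_mul, show g * g = 1 from Subtype.ext (hzsq hg), map_one]
    · rintro ⟨g, hg1, hg⟩
      have e1 := hconjC (hg1.trans (map_one q).symm) (hzsq hg) (by simp)
      rw [OneMemClass.coe_one] at e1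
      exact hz1 (isConj_one_right.1 (e1 ▸ hg).symm)
    · rintro ⟨g, hg1, hg⟩
      rw [show (g : G) = y from hconjC (hg1.trans hsqz) (hzsq hg) hyy] at hg
      exact hyn hg
    · show q _ ^ 3 = 1
      rw [← map_pow, show (⟨wG, memC.2 hwβ⟩ : ↥C) ^ 3 = 1 from Subtype.ext (congrArg Subtype.val hw3 :), map_one]
    · intro h
      obtain ⟨n, hn⟩ := (hq _ _).1 (h.trans (map_one q).symm)
      have e1 : wG * β ^ n = 1 := hn.symm
      have h3 : wG ^ 7 = 1 := by
        rw [eq_inv_of_mul_eq_one_left e1, inv_pow, ← pow_mul, mul_comm, pow_mul, hβ7, one_pow, inv_one]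
      have hwG1 : wG = 1 := by
        calc wG = wG ^ 7 := by
              rw [show 7 = 3 * 2 + 1 from rfl, pow_succ, pow_mul, show wG ^ 3 = 1 from congrArg Subtype.val hw3,
                one_pow, one_mul]
          _ = 1 := h3
      exact hw1 (Subtype.ext hwG1)
    · show q _ * q _ = q _ * q _
      rw [← map_mul, ← map_mul]
      exact congrArg q (Subtype.ext hwz.eq)
    · show q _ * q _ = q _ * q _
      rw [← map_mul, ← map_mul]
      exact congrArg q (Subtype.ext hzs)
    · show q _ * q _ * (q _)⁻¹ = (q _)⁻¹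
      rw [← map_inv, ← map_inv, ← map_mul, ← map_mul]
      exact congrArg q (Subtype.ext hswG)
    · intro k hk
      obtain ⟨g, rfl⟩ := hqs k
      have hgz : (g : G) * z = z * g := by
        have e1 := hconjC (g := g * ⟨z, memC.2 hzC⟩ * g⁻¹) (h := ⟨z, memC.2 hzC⟩)
          (by rw [map_mul, map_mul, map_inv]; exact mul_inv_eq_iff_eq_mul.2 hk)
          (by show (g : G) * z * (g : G)⁻¹ * ((g : G) * z * (g : G)⁻¹) = 1; rw [conj_mul, hzz]; group) hzz
        exact mul_inv_eq_iff_eq_mul.1 e1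
      obtain ⟨σ', a', i', j', hσ', hgf⟩ := X.span_H hw hwb hs₀ hs₀b
        (d := ⟨g, Subgroup.mem_centralizer_singleton_iff.2 hgz⟩) (Subtype.ext (memC.1 g.2).eq)
      rw [← hσG, ← hwG, ← hβ] at hgf
      change (g : G) = _ at hgf
      -- a normal form
      have hw3' : wG ^ 3 = 1 := congrArg Subtype.val hw3
      obtain ⟨m, a, i, k', hm⟩ : ∃ m a : ℕ, ∃ i : ℕ, ∃ k' : Fin 2, (g : G) = z ^ m * wG ^ a * sG ^ k'.1 * β ^ i := by
        let T : ℕ → ℕ → ℕ → G := fun p r n => z ^ p * wG ^ r * β ^ n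
        have hT : ∀ p r n p' r' n', T p r n * T p' r' n' = T (p + p') (r + r') (n + n') := by
          intro p r n p' r' n'
          have c1 : Commute (β ^ n) (z ^ p' * wG ^ r') :=
            ((hzC.pow_pow p' n).symm).mul_right ((hwβ.pow_pow r' n).symm)
          show z ^ p * wG ^ r * β ^ n * (z ^ p' * wG ^ r' * β ^ n') = _
          rw [c1.mul_mul_mul_comm, ((hwz.pow_pow p' r).symm).mul_mul_mul_comm, ← pow_add, ← pow_add, ← pow_add]
        have hT' : ∀ a i j, wG ^ a * β ^ i * z ^ j = T j a i := fun a i j => by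
          show _ = z ^ j * wG ^ a * β ^ i
          rw [((hwz.pow_pow j a).symm.mul_left (hzC.pow_pow j i).symm).eq, mul_assoc]
        have hTi : ∀ p r n, (T p r n)⁻¹ = T p (2 * r) (6 * n) := fun p r n => inv_eq_of_mul_eq_one_right (by
          rw [hT]
          show z ^ (p + p) * wG ^ (r + 2 * r) * β ^ (n + 6 * n) = 1
          rw [← two_mul p, pow_mul, pow_two, hzz, one_pow, show r + 2 * r = 3 * r by ring, pow_mul, hw3', one_pow,
            show n + 6 * n = 7 * n by ring, pow_mul, hβ7, one_pow, one_mul, one_mul])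
        rcases Nat.le_one_iff_eq_zero_or_eq_one.1 hσ' with rfl | rfl
        · refine ⟨j', a', i', 0, ?_⟩
          rw [hgf, pow_zero, one_mul, hT', Fin.val_zero, pow_zero, mul_one]
        · have hσ2 : σG = sG * T (1 + j₀) (2 * a₀) (6 * i₀) := by
            have e1 : σG = y * (wG ^ a₀ * β ^ i₀ * z ^ j₀)⁻¹ := by rw [hyform]; group
            have e2 : T (1 + j₀) (2 * a₀) (6 * i₀) = z * T j₀ (2 * a₀) (6 * i₀) := by
              show z ^ (1 + j₀) * _ * _ = z * (z ^ j₀ * _ * _)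
              rw [pow_add, pow_one]
              group
            rw [e1, hT', hTi, e2, ← mul_assoc sG, hsz']
          have hsw2 : ∀ n : ℕ, sG * wG ^ n = wG ^ (2 * n) * sG := by
            intro n
            have h := CfsgLib.Involution.Dihedral.conj_pow hswG n
            rw [mul_inv_eq_iff_eq_mul] at h
            rw [h, inv_eq_of_mul_eq_one_right
              (show wG ^ n * wG ^ (2 * n) = 1 by
                rw [← pow_add, show n + 2 * n = 3 * n by ring, pow_mul, hw3', one_pow])]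
          refine ⟨1 + j₀ + j', 2 * (2 * a₀ + a'), 6 * i₀ + i', 1, ?_⟩
          rw [hgf, pow_one, hσ2, hT', mul_assoc, hT, Fin.val_one, pow_one]
          show sG * (z ^ (1 + j₀ + j') * wG ^ (2 * a₀ + a') * β ^ (6 * i₀ + i')) = _
          rw [← mul_assoc, ← mul_assoc, ((show Commute sG z from hzs.symm).pow_right _).eq, mul_assoc (z ^ _), hsw2,
            ← mul_assoc]
      refine ⟨⟨m % 2, Nat.mod_lt _ two_pos⟩, ⟨a % 3, Nat.mod_lt _ (by norm_num)⟩, k', ?_⟩
      have hz2 : z ^ 2 = 1 := by rw [pow_two, hzz]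
      show q g = (q _) ^ (m % 2) * (q _) ^ (a % 3) * (q _) ^ k'.1
      rw [← map_pow, ← map_pow, ← map_pow, ← map_mul, ← map_mul]
      refine ((hq _ _).2 ⟨i, ?_⟩).symm
      simp only [Subgroup.coe_mul, SubmonoidClass.coe_pow]
      rw [hm, pow_eq_pow_mod m hz2, pow_eq_pow_mod a hw3']
    · intro u hu hu1 hun
      obtain ⟨g, rfl⟩ := hqs u
      set g' := g ^ 7 with hg'
      have hgg : q g' = q g := by
        rw [hg', map_pow, pow_succ, show 6 = 2 * 3 from rfl, pow_mul, pow_two, hu, one_pow, one_mul]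
      have h2 : (g' : G) * g' = 1 := by
        obtain ⟨n, hn⟩ := (hq _ _).1 ((map_one q).trans (hu.symm.trans (map_mul q g g).symm))
        rw [hg', SubmonoidClass.coe_pow, ← (Commute.refl (g : G)).mul_pow]
        rw [OneMemClass.coe_one, one_mul] at hn
        rw [show (g : G) * g = β ^ n from hn, ← pow_mul, mul_comm, pow_mul, hβ7, one_pow]
      rw [← hgg] at hu1 hun ⊢
      obtain ⟨a, c, hl⟩ := hloc _ (by rw [Nat.card_zpowers, hβo]) (g' : G) h2
        (fun e1 => hu1 (by rw [show g' = 1 from Subtype.ext e1, map_one])) (fun hc => hun ⟨g', rfl, hc⟩) g'.2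
      refine ⟨q ⟨a, hl.aS⟩, q ⟨c, hl.cS⟩, ?_⟩
      refine
        { aa := by rw [← map_mul, show (⟨a, hl.aS⟩ : ↥C) * ⟨a, hl.aS⟩ = 1 from Subtype.ext hl.aa, map_one]
          cc := by rw [← map_mul, show (⟨c, hl.cS⟩ : ↥C) * ⟨c, hl.cS⟩ = 1 from Subtype.ext hl.cc, map_one]
          a1 := fun e1 => hl.a1 (hconjC (e1.trans (map_one q).symm) hl.aa (by simp))
          au := fun e1 => hl.au (hconjC e1 hl.aa h2)
          hna := ?_, hc := ⟨_, rfl, hl.hc⟩
          ua := by rw [← map_mul, ← map_mul]; exact congrArg q (Subtype.ext hl.ua)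
          uc := by rw [← map_mul, ← map_mul]; exact congrArg q (Subtype.ext hl.uc)
          cac := by rw [← map_mul, ← map_mul, ← map_mul]; exact congrArg q (Subtype.ext hl.cac)
          span := ?_ }
      · rintro ⟨k, hk, hkc⟩
        rw [show (k : G) = a from hconjC hk (hzsq hkc) hl.aa] at hkc
        exact hl.hna hkc
      · intro k hk
        obtain ⟨k, rfl⟩ := hqs k
        have e1 := hconjC (g := k * g' * k⁻¹) (h := g')
          (by rw [map_mul, map_mul, map_inv]; exact mul_inv_eq_iff_eq_mul.2 hk)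
          (by show (k : G) * g' * (k : G)⁻¹ * ((k : G) * g' * (k : G)⁻¹) = 1; rw [conj_mul, h2]; group) h2
        obtain ⟨v, hv, i, j, l, e2⟩ := hl.span k k.2 (mul_inv_eq_iff_eq_mul.1 e1)
        rw [← mem_powers_iff_mem_zpowers] at hv
        obtain ⟨n, rfl⟩ := hv
        refine ⟨i, j, l, ?_⟩
        rw [← map_pow, ← map_pow, ← map_pow, ← map_mul, ← map_mul]
        refine ((hq _ _).2 ⟨n, ?_⟩).symm
        simp only [Subgroup.coe_mul, SubmonoidClass.coe_pow]
        rw [e2]
        exact ((((memC.1 g'.2).pow_pow i.1 n).mul_left ((memC.1 hl.aS).pow_pow j.1 n)).mul_left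
          ((memC.1 hl.cS).pow_pow l.1 n)).eq.symm
  obtain ⟨iso⟩ := D.nonempty_iso
  have hNc : Nat.card N = 7 := by
    rw [hN, Nat.card_congr (Subgroup.subgroupOfEquivOfLe hβC).toEquiv, Nat.card_zpowers, hβo]
  have hidx : N.index = 120 := D.card_eq_120
  have hCc : Nat.card C = 840 := by rw [← N.card_mul_index, hNc, hidx]
  -- the Sylow subgroup
  have h49 : ¬ 49 ∣ Nat.card G := by
    intro h
    obtain ⟨P, hP, hle⟩ := Sylow.exists_subgroup_card_pow_succ (p := 7) (n := 1) (G := G)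
      (by simpa using h) (show Nat.card (Subgroup.zpowers β) = 7 ^ 1 by rw [Nat.card_zpowers, hβo, pow_one])
    have hPC : P ≤ C := fun g hg => memC.2
      (congrArg Subtype.val ((IsPGroup.isMulCommutative_of_card_eq_prime_sq (p := 7) hP).is_comm.comm (⟨g, hg⟩ : ↥P) ⟨β, hle (Subgroup.mem_zpowers β)⟩))
    have := Subgroup.card_dvd_of_le hPC
    rw [hP, hCc] at this
    norm_num at this
  -- the complement
  obtain ⟨I0, hI0⟩ := Subgroup.exists_right_complement'_of_coprime (N := N) (by rw [hNc, hidx]; norm_num)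
  set I := I0.map C.subtype with hI
  have hIC : I ≤ C := Subgroup.map_subtype_le _
  have hcent : ∀ a ∈ Subgroup.zpowers β, ∀ c ∈ C, a * c = c * a := by
    rintro _ ⟨i, rfl⟩ c hc
    exact ((memC.1 hc).zpow_right i).eq.symm
  have hIc : Nat.card I = 120 := by
    rw [hI, Subgroup.card_map_of_injective C.subtype_injective, ← hidx]
    exact hI0.symm.index_eq_card.symm
  have hdisj : Subgroup.zpowers β ⊓ I = ⊥ := by
    rw [eq_bot_iff]
    rintro a ⟨ha, hb'⟩
    have h1 : orderOf a ∣ 7 := by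
      have h := Subgroup.orderOf_dvd_natCard _ ha
      rwa [Nat.card_zpowers, hβo] at h
    have h2 : orderOf a ∣ 120 := by rw [← hIc]; exact Subgroup.orderOf_dvd_natCard _ hb'
    exact orderOf_eq_one_iff.1 (Nat.dvd_one.1 (by simpa using Nat.dvd_gcd h1 h2))
  have hdir : Cfsg.IsInternalDirectProduct (Subgroup.zpowers β) I C := by
    refine ⟨hβC, hIC, fun a ha c hc => hcent a ha c (hIC hc), hdisj, le_antisymm (sup_le hβC hIC) fun c hc => ?_⟩
    obtain ⟨⟨u, h⟩, e1, -⟩ := hI0.existsUnique ⟨c, hc⟩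
    rw [show c = ((u : ↥C) : G) * ((h : ↥C) : G) from (congrArg Subtype.val e1).symm]
    exact Subgroup.mul_mem_sup u.2 ⟨_, h.2, rfl⟩
  have hiso : Nonempty (↥I ≃* Equiv.Perm (Fin 5)) :=
    ⟨(Subgroup.equivMapOfInjective I0 C.subtype C.subtype_injective).symm.trans
      (((hI0.symm.QuotientMulEquiv).symm).trans iso)⟩
  -- the normaliser
  obtain ⟨d, hd⟩ := X.exists_power_two
  have hd' : (d : G) * β * (d : G)⁻¹ = β ^ 2 := congrArg Subtype.val hd
  have hdj : ∀ j : ℕ, (d : G) ^ j * β * ((d : G) ^ j)⁻¹ = β ^ (2 ^ j) := by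
    intro j
    induction j with
    | zero => simp
    | succ j ih =>
      calc (d : G) ^ (j + 1) * β * ((d : G) ^ (j + 1))⁻¹
          = (d : G) * ((d : G) ^ j * β * ((d : G) ^ j)⁻¹) * (d : G)⁻¹ := by rw [pow_succ']; group
        _ = ((d : G) * β * (d : G)⁻¹) ^ (2 ^ j) := by rw [ih, conj_pow]
        _ = _ := by rw [hd', ← pow_mul, pow_succ']
  set M := Subgroup.normalizer (Subgroup.zpowers β : Set G) with hM
  have hmemM : ∀ {g : G}, g * β * g⁻¹ ∈ Subgroup.zpowers β → g ∈ M := by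
    intro g hg
    refine JankoFourType.mem_normalizer_of_map_le fun a ha => ?_
    obtain ⟨n, rfl⟩ := ha
    rw [← conj_zpow]
    exact zpow_mem hg n
  have hnoinv : ∀ g : G, g * β * g⁻¹ ≠ β ^ 6 := by
    intro g hg
    have hcm : Commute (g * z * g⁻¹) (β ^ 6) := by
      show g * z * g⁻¹ * β ^ 6 = β ^ 6 * (g * z * g⁻¹)
      rw [← hg, conj_mul, conj_mul, hzC.eq]
    have hgC : g * z * g⁻¹ ∈ C := memC.2 (by
      have := hcm.pow_right 6
      rwa [← pow_mul, show 6 * 6 = 7 * 5 + 1 from rfl, pow_succ, pow_mul, hβ7, one_pow, one_mul] at this)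
    obtain ⟨k, hk⟩ := isConj_iff.1 ((D.class_iff _).1 ⟨⟨_, hgC⟩, rfl, isConj_iff.2 ⟨g, rfl⟩⟩)
    obtain ⟨c, rfl⟩ := hqs k
    have e1 := hconjC (g := c * ⟨z, memC.2 hzC⟩ * c⁻¹) (h := ⟨g * z * g⁻¹, hgC⟩)
      (by rw [map_mul, map_mul, map_inv]; exact hk)
      (by show (c : G) * z * (c : G)⁻¹ * ((c : G) * z * (c : G)⁻¹) = 1; rw [conj_mul, hzz]; group)
      (hzsq (isConj_iff.2 ⟨g, rfl⟩))
    change (c : G) * z * (c : G)⁻¹ = g * z * g⁻¹ at e1
    have hH : (c : G)⁻¹ * g ∈ Subgroup.centralizer ({z} : Set G) := by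
      rw [Subgroup.mem_centralizer_singleton_iff]
      calc (c : G)⁻¹ * g * z = (c : G)⁻¹ * (g * z * g⁻¹) * g := by group
        _ = _ := by rw [← e1]; group
    have hinv : (⟨_, hH⟩ : ↥(Subgroup.centralizer ({z} : Set G))) * b *
        (⟨_, hH⟩ : ↥(Subgroup.centralizer ({z} : Set G)))⁻¹ = b ^ expo true := by
      refine Subtype.ext ?_
      simp only [Subgroup.coe_mul, Subgroup.coe_inv, SubmonoidClass.coe_pow, ← hβ, expo]
      calc (c : G)⁻¹ * g * β * ((c : G)⁻¹ * g)⁻¹ = (c : G)⁻¹ * (g * β * g⁻¹) * c := by group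
        _ = β ^ 6 := by rw [hg, mul_assoc, ← ((memC.1 c.2).pow_right 6).eq, inv_mul_cancel_left]
    exact Bool.noConfusion (X.image_cases hinv).1
  have hMc : Nat.card M = 3 * Nat.card C := by
    have hCM : ∀ (c : ↥C) (j : Fin 3), (c : G) * (d : G) ^ j.1 ∈ M := fun c j => hmemM (by
      rw [show (c : G) * (d : G) ^ j.1 * β * ((c : G) * (d : G) ^ j.1)⁻¹ =
        (c : G) * ((d : G) ^ j.1 * β * ((d : G) ^ j.1)⁻¹) * (c : G)⁻¹ by group, hdj,
        ((memC.1 c.2).pow_right _).eq, mul_inv_cancel_right]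
      exact pow_mem (Subgroup.mem_zpowers β) _)
    let f : ↥C × Fin 3 → ↥M := fun p => ⟨_, hCM p.1 p.2⟩
    have hf : Function.Injective f := by
      rintro ⟨c, j⟩ ⟨c', j'⟩ e1
      have e2 : (c : G) * (d : G) ^ j.1 = (c' : G) * (d : G) ^ j'.1 := congrArg Subtype.val e1
      have key : ∀ (c : ↥C) (j : Fin 3), (c : G) * (d : G) ^ j.1 * β * ((c : G) * (d : G) ^ j.1)⁻¹ = β ^ 2 ^ j.1 :=
        fun c j => by
          rw [show (c : G) * (d : G) ^ j.1 * β * ((c : G) * (d : G) ^ j.1)⁻¹ =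
            (c : G) * ((d : G) ^ j.1 * β * ((d : G) ^ j.1)⁻¹) * (c : G)⁻¹ by group, hdj,
            ((memC.1 c.2).pow_right _).eq, mul_inv_cancel_right]
      have h1 := key c j
      rw [e2, key c' j', pow_eq_pow_iff_modEq, hβo, Nat.ModEq] at h1
      have hjj : j = j' := (by decide : ∀ j j' : Fin 3, 2 ^ j'.1 % 7 = 2 ^ j.1 % 7 → j = j') j j' h1
      subst hjj
      exact Prod.ext (Subtype.ext (mul_right_cancel e2)) rfl
    have hsurj : Function.Surjective f := by
      rintro ⟨g, hg⟩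
      obtain ⟨k, hk⟩ : ∃ k : ℕ, β ^ k = g * β * g⁻¹ := by
        have h := (Subgroup.mem_normalizer_iff.1 hg β).1 (Subgroup.mem_zpowers β)
        rw [← mem_powers_iff_mem_zpowers] at h
        exact h
      have hk7 : k % 7 ≠ 0 := fun h0 => by
        rw [← pow_mod_orderOf, hβo, h0, pow_zero] at hk
        rw [conj_eq_one_iff.1 hk.symm, orderOf_one] at hβo
        norm_num at hβo
      rcases (by decide : ∀ r : Fin 7, r.1 ≠ 0 →
          (∃ j : Fin 3, 2 ^ j.1 % 7 = r.1) ∨ ∃ j : Fin 3, 2 ^ j.1 * r.1 % 7 = 6)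
          ⟨k % 7, Nat.mod_lt _ (by norm_num)⟩ hk7 with ⟨j, hj⟩ | ⟨j, hj⟩
      · have hc : g * ((d : G) ^ j.1)⁻¹ ∈ C := memC.2 (by
          have e1 : g * β * g⁻¹ = β ^ 2 ^ j.1 := by rw [← hk, pow_eq_pow_iff_modEq, hβo]; exact hj.symm
          refine mul_inv_eq_iff_eq_mul.1 ?_
          calc g * ((d : G) ^ j.1)⁻¹ * β * (g * ((d : G) ^ j.1)⁻¹)⁻¹
              = g * (((d : G) ^ j.1)⁻¹ * β * (d : G) ^ j.1) * g⁻¹ := by group
            _ = β := by
              have h4 : ((d : G) ^ j.1)⁻¹ * β * (d : G) ^ j.1 = β ^ (4 ^ j.1) := by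
                have h5 : β = (d : G) ^ j.1 * β ^ (4 ^ j.1) * ((d : G) ^ j.1)⁻¹ := by
                  rw [← conj_pow, hdj, ← pow_mul, ← mul_pow, show 2 * 4 = 8 from rfl, ← pow_mod_orderOf, hβo,
                    Nat.pow_mod, show 8 % 7 = 1 from rfl, one_pow, show 1 % 7 = 1 from rfl, pow_one]
                nth_rw 1 [h5]
                group
              rw [h4, ← conj_pow, e1, ← pow_mul, ← mul_pow, show 2 * 4 = 8 from rfl, ← pow_mod_orderOf, hβo,
                Nat.pow_mod, show 8 % 7 = 1 from rfl, one_pow, show 1 % 7 = 1 from rfl, pow_one])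
        exact ⟨(⟨_, hc⟩, j), Subtype.ext (by show g * _ * _ = g; rw [inv_mul_cancel_right])⟩
      · refine absurd ?_ (hnoinv ((d : G) ^ j.1 * g))
        calc (d : G) ^ j.1 * g * β * ((d : G) ^ j.1 * g)⁻¹
            = (d : G) ^ j.1 * (g * β * g⁻¹) * ((d : G) ^ j.1)⁻¹ := by group
          _ = β ^ 6 := by
            rw [← hk, ← conj_pow, hdj, ← pow_mul, ← pow_mod_orderOf, hβo, Nat.mul_mod, ← Nat.mul_mod_mod,
              ← Nat.mul_mod, hj]
    rw [← Nat.card_congr (Equiv.ofBijective f ⟨hf, hsurj⟩), Nat.card_prod, Nat.card_eq_fintype_card (α := Fin 3),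
      Fintype.card_fin, mul_comm]
  exact ⟨h49, ⟨I, hdir, hiso⟩, hMc, by rw [hMc, hCc]; norm_num⟩

/-- The theorem. -/
theorem main (hJ : Cfsg.IsOfJankoFourTypeAt z) {S : Subgroup G} (hS : Nat.card ↥S = 7)
    (hSz : S ≤ Subgroup.centralizer ({z} : Set G)) : Concl S := by
  haveI : Fact (Nat.Prime 7) := ⟨by norm_num⟩
  obtain ⟨π, ψ, x, J⟩ := exists_jf hJ
  obtain ⟨b, X⟩ := exists_ctx J
  obtain ⟨y, hy⟩ := exists_prime_orderOf_dvd_card' (G := S) 7 (dvd_of_eq hS.symm)
  have hyo : orderOf (⟨(y : G), hSz y.2⟩ : ↥(Subgroup.centralizer ({z} : Set G))) = 7 := by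
    rw [Subgroup.orderOf_mk, Subgroup.orderOf_coe, hy]
  obtain ⟨c, m, hcm, -⟩ := Five.exists_conj_pow X.fac_seven X.ord hyo
  obtain ⟨π', ψ', x', J', h⟩ := exists_conj_jf J c
  have X' : Ctx z π' ψ' x' (c * b * c⁻¹) :=
    ⟨J', by rw [h, X.img], (CfsgLib.Involution.Dihedral.orderOf_conj c b).trans X.ord⟩
  have hS' : Subgroup.zpowers ((c * b * c⁻¹ : ↥(Subgroup.centralizer ({z} : Set G))) : G) = S := by
    refine Subgroup.eq_of_le_of_card_ge ?_ ?_
    · rw [Subgroup.zpowers_le, hcm]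
      show ((⟨(y : G), hSz y.2⟩ : ↥(Subgroup.centralizer ({z} : Set G))) ^ m : ↥(Subgroup.centralizer ({z} : Set G))).1 ∈ S
      rw [SubmonoidClass.coe_pow]
      exact pow_mem y.2 m
    · rw [Nat.card_zpowers, Subgroup.orderOf_coe, X'.ord, hS]
  rw [← hS']
  exact concl hJ X'

end CfsgLib.Sporadic.J4Type.Seven
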