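import Cfsg.Agent.Lib.Sporadic.J4Type.SevenData
import Cfsg.Agent.Lib.Sporadic.J4Type.Counts
import Cfsg.Agent.Lib.Sporadic.J4Type.FiveFused

/-!
# Elements of order seven centralising a member of the small class

They lie in the normaliser of a subgroup of order `2¹¹`.  Such an element centralises a member of the large class as
well, because sixteen or eighty of the lifts of an involution commuting with it are in that class.
-/

set_option autoImplicit false
set_option linter.style.haveILetI false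
set_option linter.unusedSectionVars false
set_option maxRecDepth 40000

namespace CfsgLib.Sporadic.J4Type.Seven

open Cfsg CfsgLib.Sporadic.LargeFischer CfsgLib.Sporadic.LargeFischer.Hexa CfsgLib.Sporadic.J4Type
open CfsgLib.SmallGroups.Golay CfsgLib.Sporadic.M24Orbits CfsgLib.ThreeTransp.M24Classes
open CfsgLib.ThreeTransp.Extraspecial

/-- A permutation of a set, of order dividing seven, fixes a point unless seven divides the size. -/
theorem exists_fixed {G : Type*} [Group G] [Finite G] {τ : G} (h7 : τ ^ 7 = 1) (S : Set G)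
    (hS : ∀ g ∈ S, τ * g * τ⁻¹ ∈ S) (hc : S.ncard % 7 ≠ 0) : ∃ g ∈ S, τ * g = g * τ := by
  classical
  haveI : Fintype ↥S := Fintype.ofFinite _
  haveI : Fact (Nat.Prime 7) := ⟨by norm_num⟩
  let fw : ↥S → ↥S := fun g => ⟨τ * g.1 * τ⁻¹, hS _ g.2⟩
  have hinj : Function.Injective fw := fun a b e =>
    Subtype.ext (mul_left_cancel (mul_right_cancel (congrArg Subtype.val e)))
  let σ : Equiv.Perm ↥S := Equiv.ofBijective fw ⟨hinj, Finite.injective_iff_surjective.1 hinj⟩
  have hpow : ∀ (n : ℕ) (g : ↥S), ((σ ^ n) g : G) = τ ^ n * g * (τ ^ n)⁻¹ := by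
    intro n
    induction n with
    | zero => intro g; simp
    | succ n ih =>
      intro g
      rw [pow_succ', Equiv.Perm.mul_apply]
      show τ * ((σ ^ n) g : G) * τ⁻¹ = _
      rw [ih, pow_succ']
      group
  have hσ : σ ^ 7 ^ 1 = 1 := Equiv.ext fun g => Subtype.ext (by rw [pow_one, hpow, h7]; simp)
  have h1 := Equiv.Perm.card_compl_support_modEq (p := 7) (n := 1) hσ
  by_contra hall
  push Not at hall
  have h0 : (σ.supportᶜ : Finset ↥S) = ∅ := by
    refine Finset.eq_empty_of_forall_notMem fun g hg => ?_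
    rw [Finset.mem_compl, Equiv.Perm.mem_support, not_not] at hg
    exact hall g g.2 (mul_inv_eq_iff_eq_mul.1 (congrArg Subtype.val hg))
  rw [h0, Finset.card_empty, Nat.ModEq, ← Nat.card_eq_fintype_card, Nat.card_coe_set_eq] at h1
  omega

variable {G : Type*} [Group G] [Finite G] {z : G} {π : G → V6}
  {ψ : ↥(Subgroup.centralizer ({z} : Set G)) →* (V6 ≃ₗ[ZMod 2] V6)}
  {x : ↥(Subgroup.centralizer ({z} : Set G))}
  {Q : Subgroup (Subgroup.centralizer ({z} : Set G))} [Q.Normal]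

/-- The data of the normaliser of a subgroup of order `2¹¹`. -/
structure TCtx (F : Frame z Q π ψ x) {c : Fin 4 → ↥(Subgroup.centralizer ({z} : Set G))} (L : Lifts ψ x c)
    (θ : ↥(Subgroup.normalizer (F.asub L : Set G)) →* ↥Cfsg.M24) : Prop where
  jf : JF z π ψ x
  core : qImg Q = Cfsg.twoCoreOfCentralizer z
  todd : ToddData z (F.asub L) θ
  small : ∀ n, n < 2048 → (inDm n = true ↔ (F.el L n ≠ 1 ∧ ¬ IsConj z (F.el L n)))
  coded : ∀ m : ↥(Subgroup.normalizer (F.asub L : Set G)), F.Coded L (m : G) (θ m : Equiv.Perm GolayPt)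
  cent_t : ∀ t ∈ F.asub L, t ≠ 1 → ¬ IsConj z t →
    Subgroup.centralizer ({t} : Set G) ≤ Subgroup.normalizer (F.asub L : Set G)
  fixed_z : ∀ a ∈ F.asub L, IsConj z a → ∀ y ∈ Subgroup.normalizer (F.asub L : Set G), orderOf y = 7 → y * a ≠ a * y
  conj_in : ∀ t : G, t * t = 1 → ∃ g : G, g * t * g⁻¹ ∈ F.asub L

/-- What is known of the centraliser of an involution in that of a subgroup of order seven. -/
structure Local (z : G) (S : Subgroup G) (u a c : G) : Prop where
  aa : a * a = 1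
  cc : c * c = 1
  a1 : a ≠ 1
  au : a ≠ u
  hna : ¬ IsConj z a
  hc : IsConj z c
  aS : a ∈ Subgroup.centralizer (S : Set G)
  cS : c ∈ Subgroup.centralizer (S : Set G)
  ua : u * a = a * u
  uc : u * c = c * u
  cac : c * a * c = a * u
  span : ∀ g ∈ Subgroup.centralizer (S : Set G), g * u = u * g →
    ∃ s ∈ S, ∃ i j k : Fin 2, g = s * (u ^ i.1 * a ^ j.1 * c ^ k.1)

/-- Conjugates of the data. -/
theorem Local.conj {z : G} {S : Subgroup G} {u a c : G} (h : Local z S u a c) (g : G) :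
    Local z (S.map (MulAut.conj g).toMonoidHom) (g * u * g⁻¹) (g * a * g⁻¹) (g * c * g⁻¹) := by
  have hC : ∀ y, y ∈ Subgroup.centralizer (S : Set G) →
      g * y * g⁻¹ ∈ Subgroup.centralizer ((S.map (MulAut.conj g).toMonoidHom : Subgroup G) : Set G) := by
    intro y hy
    rw [Subgroup.mem_centralizer_iff]
    rintro _ ⟨s, hs, rfl⟩
    show g * s * g⁻¹ * (g * y * g⁻¹) = g * y * g⁻¹ * (g * s * g⁻¹)
    rw [conj_mul, conj_mul, Subgroup.mem_centralizer_iff.1 hy s hs]
  have hconj : ∀ y, IsConj z (g * y * g⁻¹) ↔ IsConj z y := fun y =>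
    ⟨fun e => e.trans (isConj_iff.2 ⟨g⁻¹, by group⟩), fun e => e.trans (isConj_iff.2 ⟨g, rfl⟩)⟩
  refine
    { aa := by rw [conj_mul, h.aa, mul_one, mul_inv_cancel]
      cc := by rw [conj_mul, h.cc, mul_one, mul_inv_cancel]
      a1 := fun e => h.a1 (conj_eq_one_iff.1 e)
      au := fun e => h.au (mul_left_cancel (mul_right_cancel e))
      hna := fun e => h.hna ((hconj a).1 e)
      hc := (hconj c).2 h.hc
      aS := hC a h.aS, cS := hC c h.cS
      ua := by rw [conj_mul, conj_mul, h.ua]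
      uc := by rw [conj_mul, conj_mul, h.uc]
      cac := by rw [conj_mul, conj_mul, conj_mul, h.cac]
      span := fun y hy hyu => ?_ }
  have hy' : g⁻¹ * y * g ∈ Subgroup.centralizer (S : Set G) := by
    rw [Subgroup.mem_centralizer_iff] at hy ⊢
    intro s hs
    have e : g * s * g⁻¹ * y = y * (g * s * g⁻¹) := hy (g * s * g⁻¹) ⟨s, hs, rfl⟩
    calc s * (g⁻¹ * y * g) = g⁻¹ * (g * s * g⁻¹ * y) * g := by group
      _ = _ := by rw [e]; group
  obtain ⟨s, hs, i, j, k, e⟩ := h.span _ hy' (by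
    calc g⁻¹ * y * g * u = g⁻¹ * (y * (g * u * g⁻¹)) * g := by group
      _ = _ := by rw [hyu]; group)
  refine ⟨g * s * g⁻¹, ⟨s, hs, rfl⟩, i, j, k, ?_⟩
  rw [conj_pow, conj_pow, conj_pow, conj_mul, conj_mul, conj_mul, ← e]
  group

/-- The code of a pair of positions. -/
theorem phi_pt {i : ℕ} (hi : i < 24) : phi (pt i) = pcode i := by rw [phi, idx_pt hi]

namespace TCtx

variable {F : Frame z Q π ψ x} {c : Fin 4 → ↥(Subgroup.centralizer ({z} : Set G))} {L : Lifts ψ x c}
  {θ : ↥(Subgroup.normalizer (F.asub L : Set G)) →* ↥Cfsg.M24} (T : TCtx F L θ)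
include T

/-- The label of a pair of positions. -/
theorem act {m : G} (hm : m ∈ Subgroup.normalizer (F.asub L : Set G)) {t : List ℕ}
    (ht : IsTbl ((θ ⟨m, hm⟩ : ↥Cfsg.M24) : Equiv.Perm GolayPt) t) {i j : ℕ} (hi : i < 24) (hj : j < 24) :
    m * F.el L (duad i j) * m⁻¹ = F.el L (duad (tblNat t i) (tblNat t j)) := by
  have h := T.coded ⟨m, hm⟩ (pt i) (pt j)
  rw [phi_pt hi, phi_pt hj, phi, phi, ht, ht, idx_pt hi, idx_pt hj] at h
  exact h

/-- The action on the sum of a set of points. -/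
theorem act_xl {m : G} (hm : m ∈ Subgroup.normalizer (F.asub L : Set G)) {t : ℕ → ℕ}
    (ht : ∀ p, idx (((θ ⟨m, hm⟩ : ↥Cfsg.M24) : Equiv.Perm GolayPt) p) = t (idx p)) (K : ℕ) :
    xl t K < 2048 ∧ m * F.el L (xl id K) * m⁻¹ = F.el L (xl t K) := by
  have key : ∀ l : List ℕ, (∀ j ∈ l, j < 24) →
      (l.foldr (fun j acc => (if K.testBit j then pcode j ^^^ pcode 23 else 0) ^^^ acc) 0 < 2048) ∧
      (l.foldr (fun j acc => (if K.testBit j then pcode (t j) ^^^ pcode (t 23) else 0) ^^^ acc) 0 < 2048) ∧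
      m * F.el L (l.foldr (fun j acc => (if K.testBit j then pcode j ^^^ pcode 23 else 0) ^^^ acc) 0) * m⁻¹ =
        F.el L (l.foldr (fun j acc => (if K.testBit j then pcode (t j) ^^^ pcode (t 23) else 0) ^^^ acc) 0) := by
    intro l
    induction l with
    | nil =>
      intro _
      refine ⟨by norm_num, by norm_num, ?_⟩
      rw [List.foldr_nil, List.foldr_nil, F.el_zero L, mul_one, mul_inv_cancel]
    | cons j l ih =>
      intro hl
      obtain ⟨h1, h2, h3⟩ := ih fun k hk => hl k (List.mem_cons_of_mem _ hk)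
      have hj := hl j List.mem_cons_self
      have e := T.coded ⟨m, hm⟩ (pt j) (pt 23)
      rw [phi_pt hj, phi_pt (by norm_num), phi, phi, ht, ht, idx_pt hj, idx_pt (by norm_num)] at e
      have hb1 : pcode j ^^^ pcode 23 < 2048 := by
        rw [← phi_pt hj, ← phi_pt (show 23 < 24 by norm_num)]; exact phi_lt_xor _ _
      have hb2 : pcode (t j) ^^^ pcode (t 23) < 2048 := by
        have e1 : t j = idx (((θ ⟨m, hm⟩ : ↥Cfsg.M24) : Equiv.Perm GolayPt) (pt j)) := by rw [ht, idx_pt hj]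
        have e2 : t 23 = idx (((θ ⟨m, hm⟩ : ↥Cfsg.M24) : Equiv.Perm GolayPt) (pt 23)) := by
          rw [ht, idx_pt (by norm_num)]
        rw [e1, e2]; exact phi_lt_xor _ _
      simp only [List.foldr_cons]
      split
      · refine ⟨Nat.xor_lt_two_pow (n := 11) hb1 h1, Nat.xor_lt_two_pow (n := 11) hb2 h2, ?_⟩
        rw [F.el_xor L hb1 h1, F.el_xor L hb2 h2, ← h3, ← e]
        group
      · simp only [Nat.zero_xor]
        exact ⟨h1, h2, h3⟩
  obtain ⟨-, h2, h3⟩ := key (List.range 24) fun j hj => List.mem_range.1 hj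
  exact ⟨h2, h3⟩

/-- An element of the normaliser over a permutation of the Mathieu group. -/
theorem exists_over {t : List ℕ} (h : okTbl t = true) :
    ∃ (m : G) (hm : m ∈ Subgroup.normalizer (F.asub L : Set G)),
      IsTbl ((θ ⟨m, hm⟩ : ↥Cfsg.M24) : Equiv.Perm GolayPt) t := by
  obtain ⟨g, hg, hgt⟩ := M24Orbits.exists_elt h
  obtain ⟨⟨m, hm⟩, e⟩ := T.todd.surj ⟨g, hg⟩
  refine ⟨m, hm, ?_⟩
  rw [e]
  exact hgt

theorem mem_asub_iff (m : ↥(Subgroup.normalizer (F.asub L : Set G))) : θ m = 1 ↔ (m : G) ∈ F.asub L := by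
  rw [← MonoidHom.mem_ker, T.todd.ker, Subgroup.mem_subgroupOf]

/-- An element of order seven over the standard permutation. -/
theorem exists_tau : ∃ (τ : G) (hτ : τ ∈ Subgroup.normalizer (F.asub L : Set G)),
    orderOf τ = 7 ∧ IsTbl ((θ ⟨τ, hτ⟩ : ↥Cfsg.M24) : Equiv.Perm GolayPt) permR := by
  obtain ⟨m, hm, ht⟩ := T.exists_over perm7_ok.1
  set r := ((θ ⟨m, hm⟩ : ↥Cfsg.M24) : Equiv.Perm GolayPt) with hr
  have hr7 : r ^ 7 = 1 := Equiv.ext fun p => idx_injective (by
    have h := List.all_eq_true.1 perm7_ok.2.2.2.2.1 (idx p) (List.mem_range.2 (idx_lt p))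
    rw [Bool.and_eq_true, beq_iff_eq] at h
    rw [ht.idx_iter, h.1]
    rfl)
  have h7 : (⟨m, hm⟩ : ↥(Subgroup.normalizer (F.asub L : Set G))) ^ 7 ∈ θ.ker := by
    rw [MonoidHom.mem_ker, map_pow]
    exact Subtype.ext (by rw [SubmonoidClass.coe_pow, ← hr, hr7]; rfl)
  rw [T.todd.ker, Subgroup.mem_subgroupOf, SubmonoidClass.coe_pow] at h7
  have h14 : m ^ 14 = 1 := by
    rw [show 14 = 7 * 2 from rfl, pow_mul, pow_two]
    exact F.asub_sq L h7
  have hθ : ((θ ⟨m ^ 8, pow_mem hm 8⟩ : ↥Cfsg.M24) : Equiv.Perm GolayPt) = r := by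
    rw [show (⟨m ^ 8, pow_mem hm 8⟩ : ↥(Subgroup.normalizer (F.asub L : Set G))) = ⟨m, hm⟩ ^ 8 from rfl, map_pow, SubmonoidClass.coe_pow, ← hr,
      pow_succ, hr7, one_mul]
  haveI : Fact (Nat.Prime 7) := ⟨by norm_num⟩
  refine ⟨m ^ 8, pow_mem hm 8, orderOf_eq_prime ?_ fun e => ?_, hθ ▸ ht⟩
  · rw [← pow_mul, show 8 * 7 = 14 * 4 from rfl, pow_mul, h14, one_pow]
  · have h1 : ((θ ⟨m ^ 8, pow_mem hm 8⟩ : ↥Cfsg.M24) : Equiv.Perm GolayPt) = 1 := by
      rw [show (⟨m ^ 8, pow_mem hm 8⟩ : ↥(Subgroup.normalizer (F.asub L : Set G))) = 1 from Subtype.ext e, map_one]; rfl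
    have h2 := ht (pt 2)
    rw [← hθ, h1, idx_pt (by norm_num), perm7_ok.2.2.2.2.2.2.2.2.2.2.2] at h2
    simp [idx_pt (show 2 < 24 by norm_num)] at h2

section
variable {τ : G} (hτ : τ ∈ Subgroup.normalizer (F.asub L : Set G)) (h7 : orderOf τ = 7)
  (hR : IsTbl ((θ ⟨τ, hτ⟩ : ↥Cfsg.M24) : Equiv.Perm GolayPt) permR)
include hτ h7 hR

/-- A lift, commuting with the element of order seven, of a permutation commuting with its image. -/
theorem exists_comm {t : List ℕ} (hok : okTbl t = true) (hcomm : conjEq t permR permR = true) :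
    ∃ (m : G) (hm : m ∈ Subgroup.normalizer (F.asub L : Set G)),
      IsTbl ((θ ⟨m, hm⟩ : ↥Cfsg.M24) : Equiv.Perm GolayPt) t ∧ τ * m = m * τ := by
  obtain ⟨k, hk, hkt⟩ := T.exists_over hok
  have hcm : θ (⟨τ, hτ⟩ * ⟨k, hk⟩) = θ (⟨k, hk⟩ * ⟨τ, hτ⟩) := by
    refine Subtype.ext ?_
    rw [map_mul, map_mul, Subgroup.coe_mul, Subgroup.coe_mul]
    exact (mul_inv_eq_iff_eq_mul.1 ((isTbl_conj hkt hR hcomm).unique hR)).symm
  obtain ⟨g, ⟨a, ha, rfl⟩, hg⟩ := exists_fixed (τ := τ) (by rw [← h7, pow_orderOf_eq_one])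
    ((fun a => k * a) '' (F.asub L : Set G)) (by
      rintro _ ⟨a, ha, rfl⟩
      refine ⟨k⁻¹ * (τ * k * τ⁻¹) * (τ * a * τ⁻¹), mul_mem ?_ ((Subgroup.mem_normalizer_iff.1 hτ a).1 ha), by
        group⟩
      have h := (T.mem_asub_iff ((⟨k, hk⟩ : ↥(Subgroup.normalizer (F.asub L : Set G)))⁻¹ * (⟨τ, hτ⟩ * ⟨k, hk⟩) * (⟨τ, hτ⟩ : ↥(Subgroup.normalizer (F.asub L : Set G)))⁻¹)).1 (by
        rw [map_mul, map_mul, hcm, map_mul, map_inv, map_inv]; group)
      simpa [mul_assoc] using h) (by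
      rw [Set.ncard_image_of_injective _ (mul_right_injective k), ← Nat.card_coe_set_eq]
      show Nat.card ↥(F.asub L) % 7 ≠ 0
      rw [F.card_asub L]
      norm_num)
  have hka : k * a ∈ (Subgroup.normalizer (F.asub L : Set G)) := mul_mem hk (Subgroup.le_normalizer ha)
  refine ⟨k * a, hka, ?_, hg⟩
  rw [show (⟨k * a, hka⟩ : ↥(Subgroup.normalizer (F.asub L : Set G))) = ⟨k, hk⟩ * ⟨a, Subgroup.le_normalizer ha⟩ from rfl, map_mul,
    (T.mem_asub_iff ⟨a, Subgroup.le_normalizer ha⟩).2 ha, mul_one]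
  exact hkt

set_option maxHeartbeats 1000000 in
/-- A lift in the large class of the involution, commuting with the element of order seven. -/
theorem exists_c [IsSimpleGroup G] : ∃ (e : G) (he : e ∈ Subgroup.normalizer (F.asub L : Set G)),
    IsTbl ((θ ⟨e, he⟩ : ↥Cfsg.M24) : Equiv.Perm GolayPt) permA ∧ e * e = 1 ∧ IsConj z e ∧ τ * e = e * τ := by
  classical
  obtain ⟨okA, -⟩ := perm_ok
  obtain ⟨hvlt, hq, hact, hco⟩ := F.vec_spec L vecA_ok
  obtain ⟨r, hrM, hr⟩ := M24Orbits.exists_elt okA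
  set e0 := F.lv L vA with he0
  have hemem : e0 ∈ (Subgroup.normalizer (F.asub L : Set G)) := F.can_mem_normalizer L _
  have hθe : ((θ ⟨e0, hemem⟩ : ↥Cfsg.M24) : Equiv.Perm GolayPt) = r :=
    F.coded_unique L (T.coded _) (hco r hr)
  have hsq : e0 * e0 = 1 := F.lv_sq L hvlt hq
  have hinv : e0⁻¹ = e0 := inv_eq_of_mul_eq_one_left hsq
  -- fixed codes give involutions, and conversely
  have hfixed : ∀ n, n < 2048 → e0 * F.el L n * (e0 * F.el L n) = 1 → mv vA kdA n = n := by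
    intro n hn h2
    obtain ⟨hn2, hnv⟩ := hact n hn
    refine F.el_inj L hn2 hn ?_
    rw [← hnv, hinv]
    calc e0 * F.el L n * e0 = e0 * F.el L n * (e0 * F.el L n) * (F.el L n)⁻¹ := by group
      _ = F.el L n := by rw [h2, one_mul, inv_eq_of_mul_eq_one_left (F.asub_sq L ⟨n, hn, rfl⟩)]
  have hinvol : ∀ n, n < 2048 → mv vA kdA n = n → e0 * F.el L n * (e0 * F.el L n) = 1 := by
    intro n hn hfix
    have e := (hact n hn).2
    rw [hfix, hinv] at e
    calc e0 * F.el L n * (e0 * F.el L n) = e0 * F.el L n * e0 * F.el L n := by group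
      _ = 1 := by rw [e, F.asub_sq L ⟨n, hn, rfl⟩]
  -- those outside the two-core are conjugate
  have hreach : ∀ n, n < 2048 → mv vA kdA n = n → n % 16 ≠ 0 → IsConj (e0 * F.el L 1) (e0 * F.el L n) := by
    intro n hn hfix h16
    have h := List.all_eq_true.1 fixA n (List.mem_range.2 hn)
    simp only [hfix, beq_self_eq_true, Bool.not_true, Bool.false_or, Bool.or_eq_true, beq_iff_eq, h16, false_or,
      List.any_eq_true, Bool.and_eq_true, decide_eq_true_eq] at h
    obtain ⟨⟨n', v', kd', n₀⟩, -, ⟨⟨⟨-, hv'⟩, hn₀⟩, htok⟩, hval⟩ := h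
    dsimp only at hv' hn₀ htok hval
    obtain ⟨hd0, -, -⟩ := base_d
    set b := bsc vA v'
    set y := sT v' kd' 1
    have hy : y < 2048 := Frame.sT_lt hd0 htok
    have hb : (if b then 16 else 0) < 2048 := by split <;> norm_num
    have hyb : y ^^^ (if b then 16 else 0) < 2048 := Nat.xor_lt_two_pow (n := 11) hy hb
    set e' := F.lv L v'
    have he1 : e' * e0 * e'⁻¹ = e0 * F.el L (if b then 16 else 0) := by
      have hsw := F.lf.swap (F.lf.can_mem F.hx (dec vA)) (F.lf.can_mem F.hx (dec v'))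
      rw [F.lf.π_can F.hx, F.lf.π_can F.hx, bs_eq_bv _ _ hvlt hv'] at hsw
      have hsw' : e' * e0 = e0 * e' * zp z (bv b) := hsw
      have hzc : zp z (bv b) * e' = e' * zp z (bv b) :=
        (F.zp_commute L _ (F.lf.cent_z (F.lf.can_mem F.hx (dec v')))).eq
      rw [F.el_bit L, hsw', mul_assoc e0, ← hzc]
      group
    have he2 : e' * F.el L 1 * e'⁻¹ = F.el L y := F.el_transl L hd0 htok
    obtain ⟨hm0, hmv⟩ := hact n₀ hn₀
    rw [hinv] at hmv
    have hw : F.el L n₀ * F.el L n₀ = 1 := F.asub_sq L ⟨n₀, hn₀, rfl⟩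
    refine isConj_iff.2 ⟨F.el L n₀ * e', ?_⟩
    calc F.el L n₀ * e' * (e0 * F.el L 1) * (F.el L n₀ * e')⁻¹
        = F.el L n₀ * (e' * e0 * e'⁻¹ * (e' * F.el L 1 * e'⁻¹)) * (F.el L n₀)⁻¹ := by group
      _ = F.el L n₀ * (e0 * F.el L (y ^^^ (if b then 16 else 0))) * F.el L n₀ := by
        rw [he1, he2, inv_eq_of_mul_eq_one_left hw, mul_assoc e0, ← F.el_xor L hb hy, Nat.xor_comm]
      _ = e0 * (e0 * F.el L n₀ * e0) * F.el L (y ^^^ (if b then 16 else 0)) * F.el L n₀ := by
        simp only [mul_assoc]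
        rw [← mul_assoc e0 e0, hsq, one_mul]
      _ = e0 * F.el L n := by
        rw [hmv, mul_assoc e0, ← F.el_xor L hm0 hyb, mul_assoc,
          ← F.el_xor L (Nat.xor_lt_two_pow (n := 11) hm0 hyb) hn₀, hval]
        congr 2
        ac_rfl
  -- the class of those inside
  have hin : ∀ n ∈ fixE, IsConj z (e0 * F.el L n) ↔ oc (vecE n) = (false, true) := by
    intro n hn
    simp only [fixE, List.mem_filter, List.mem_range, Bool.and_eq_true, beq_iff_eq] at hn
    have hmem : e0 * F.el L n ∈ Cfsg.twoCoreOfCentralizer z := by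
      rw [← T.core]; exact mul_mem (F.lf.can_mem F.hx _) (F.el_mem_qImg L hn.2.1)
    have he0m : e0 ∈ Cfsg.twoCoreOfCentralizer z := by rw [← T.core]; exact F.lf.can_mem F.hx _
    have helm : F.el L n ∈ Cfsg.twoCoreOfCentralizer z := by rw [← T.core]; exact F.el_mem_qImg L hn.2.1
    have hπel : π (F.el L n) = dec (wv (n / 32)) := by
      have hel : F.el L n = zp z (ce n) * F.rho (n / 32) := by
        rw [Frame.el, cu_eq, hn.2.1, show Subtype.val (cpr c 0) = 1 by simp [cpr], one_mul]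
        rfl
      rw [hel, T.jf.base.π_mul _ (T.core ▸ F.lf.zp_mem _) _ (T.core ▸ F.rho_mem _), F.π_rho]
      have h0 : π (zp z (ce n)) = 0 := by
        have hb : ce n = 0 ∨ ce n = 1 := (by decide : ∀ e : ZMod 2, e = 0 ∨ e = 1) _
        rcases hb with e | e <;> simp [e, zp, T.jf.base.π_one, T.jf.base.π_z]
      rw [h0, zero_add]
    have hπ : enc (π (e0 * F.el L n)) = vecE n := by
      rw [T.jf.base.π_mul _ he0m _ helm, enc_add, hπel, enc_dec (wv_lt _),
        show π e0 = dec vA from F.lf.π_can F.hx _, enc_dec hvlt]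
      rfl
    constructor
    · intro hz
      rw [← hπ]
      refine Fuse.conj_oc T.jf hmem hz fun e => ?_
      have h := List.all_eq_true.1 fixE_facts.2 n (by
        simp only [fixE, List.mem_filter, List.mem_range, Bool.and_eq_true, beq_iff_eq]; exact hn)
      simp only [Bool.and_eq_true, bne_iff_ne] at h
      exact h.2 (by rw [← hπ, e, T.jf.base.π_z, Hexa.enc_zero])
    · intro hoc
      rw [← hπ] at hoc
      exact Fuse.isConj_of_oc T.jf hmem hoc
  -- the lifts in the class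
  set P : Finset ℕ := (Finset.range 2048).filter fun n => mv vA kdA n = n ∧ IsConj z (e0 * F.el L n) with hP
  have hcard : P.card % 7 ≠ 0 := by
    have hsplit := Finset.card_filter_add_card_filter_not (s := P) (fun n => n % 16 = 0)
    have h0 : (P.filter fun n => n % 16 = 0).card = 16 := by
      have : (P.filter fun n => n % 16 = 0) = (fixE.filter fun n => oc (vecE n) == (false, true)).toFinset := by
        ext n
        simp only [hP, Finset.mem_filter, Finset.mem_range, List.mem_toFinset, List.mem_filter, beq_iff_eq]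
        constructor
        · rintro ⟨⟨hn, hfix, hz⟩, h16⟩
          have hn' : n ∈ fixE := by simp [fixE, hn, hfix, h16]
          exact ⟨hn', (hin n hn').1 hz⟩
        · rintro ⟨hn', hoc⟩
          have hz := (hin n hn').2 hoc
          simp only [fixE, List.mem_filter, List.mem_range, Bool.and_eq_true, beq_iff_eq] at hn'
          exact ⟨⟨hn'.1, hn'.2.2, hz⟩, hn'.2.1⟩
      rw [this, List.toFinset_card_of_nodup ((show fixE.Nodup from List.nodup_range.filter _).filter _), fixE_facts.1]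
    have h1 : (P.filter fun n => ¬ n % 16 = 0).card = 0 ∨ (P.filter fun n => ¬ n % 16 = 0).card = 64 := by
      by_cases hone : IsConj z (e0 * F.el L 1)
      · right
        have : (P.filter fun n => ¬ n % 16 = 0) =
            ((List.range 2048).filter fun n => !(n % 16 == 0) && mv vA kdA n == n).toFinset := by
          ext n
          simp only [hP, Finset.mem_filter, Finset.mem_range, List.mem_toFinset, List.mem_filter, List.mem_range,
            Bool.and_eq_true, Bool.not_eq_true', beq_eq_false_iff_ne, beq_iff_eq]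
          exact ⟨fun ⟨⟨hn, hfix, _⟩, h16⟩ => ⟨hn, h16, hfix⟩,
            fun ⟨hn, h16, hfix⟩ => ⟨⟨hn, hfix, hone.trans (hreach n hn hfix h16)⟩, h16⟩⟩
        rw [this, List.toFinset_card_of_nodup (List.nodup_range.filter _), fix_out_card]
      · left
        rw [Finset.card_eq_zero]
        refine Finset.eq_empty_of_forall_notMem fun n hn => ?_
        simp only [hP, Finset.mem_filter, Finset.mem_range] at hn
        exact hone (hn.1.2.2.trans (hreach n hn.1.1 hn.1.2.1 hn.2).symm)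
    omega
  obtain ⟨g, ⟨n, hn, rfl⟩, hg⟩ := exists_fixed (τ := τ) (by rw [← h7, pow_orderOf_eq_one])
    ((fun n => e0 * F.el L n) '' (P : Set ℕ)) (by
      rintro _ ⟨n, hn, rfl⟩
      rw [Finset.mem_coe, hP, Finset.mem_filter, Finset.mem_range] at hn
      obtain ⟨hn, hfix, hz⟩ := hn
      have hcm : θ (⟨τ, hτ⟩ * ⟨e0, hemem⟩) = θ (⟨e0, hemem⟩ * ⟨τ, hτ⟩) := by
        refine Subtype.ext ?_
        rw [map_mul, map_mul, Subgroup.coe_mul, Subgroup.coe_mul, hθe]
        exact (mul_inv_eq_iff_eq_mul.1 ((isTbl_conj hr hR perm7_ok.2.2.1).unique hR)).symm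
      have h := (T.mem_asub_iff ((⟨e0, hemem⟩ : ↥(Subgroup.normalizer (F.asub L : Set G)))⁻¹ * (⟨τ, hτ⟩ * ⟨e0, hemem⟩) * (⟨τ, hτ⟩ : ↥(Subgroup.normalizer (F.asub L : Set G)))⁻¹)).1 (by
        rw [map_mul, map_mul, hcm, map_mul, map_inv, map_inv]; group)
      simp only [Subgroup.coe_mul, Subgroup.coe_inv] at h
      obtain ⟨b, hb, eb⟩ := mul_mem h ((Subgroup.mem_normalizer_iff.1 hτ (F.el L n)).1 ⟨n, hn, rfl⟩)
      have e : τ * (e0 * F.el L n) * τ⁻¹ = e0 * F.el L b := by rw [← eb]; group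
      have h2 : e0 * F.el L b * (e0 * F.el L b) = 1 := by
        rw [← e, conj_mul, hinvol n hn hfix, mul_one, mul_inv_cancel]
      refine ⟨b, ?_, e.symm⟩
      rw [Finset.mem_coe, hP, Finset.mem_filter, Finset.mem_range]
      exact ⟨hb, hfixed b hb h2, hz.trans (isConj_iff.2 ⟨τ, e⟩)⟩) (by
      rw [Set.InjOn.ncard_image, Set.ncard_coe_finset]
      · exact hcard
      · intro a ha b hb e
        rw [Finset.mem_coe, hP, Finset.mem_filter, Finset.mem_range] at ha hb
        exact F.el_inj L ha.1 hb.1 (mul_left_cancel e))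
  rw [Finset.mem_coe, hP, Finset.mem_filter, Finset.mem_range] at hn
  have he : e0 * F.el L n ∈ (Subgroup.normalizer (F.asub L : Set G)) := mul_mem hemem (Subgroup.le_normalizer ⟨n, hn.1, rfl⟩)
  refine ⟨e0 * F.el L n, he, ?_, hinvol n hn.1 hn.2.1, hn.2.2, hg⟩
  rw [show (⟨e0 * F.el L n, he⟩ : ↥(Subgroup.normalizer (F.asub L : Set G))) = ⟨e0, hemem⟩ * ⟨F.el L n, Subgroup.le_normalizer ⟨n, hn.1, rfl⟩⟩ from rfl,
    map_mul, (T.mem_asub_iff ⟨F.el L n, Subgroup.le_normalizer ⟨n, hn.1, rfl⟩⟩).2 ⟨n, hn.1, rfl⟩, mul_one, hθe]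
  exact hr

/-- The fixed points of the element. -/
theorem fixed_pt {i : ℕ} (hi : i < 24) (h : tblNat permR i = i) : i = 0 ∨ i = 1 ∨ i = 15 := by
  have h1 := List.all_eq_true.1 cyc_ok i (List.mem_range.2 hi)
  split at h1
  · simp only [Bool.and_eq_true, Bool.or_eq_true, beq_iff_eq] at h1
    omega
  · simp [h] at h1

/-- The elements of the subgroup centralised by the element. -/
theorem fixed_asub {a : G} (ha : a ∈ F.asub L) (hc : τ * a = a * τ) (h1 : a ≠ 1) :
    a = F.el L (duad 0 1) ∨ a = F.el L (duad 0 15) ∨ a = F.el L (duad 1 15) := by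
  obtain ⟨n, hn, rfl⟩ := ha
  have hnc : ¬ IsConj z (F.el L n) := fun h => T.fixed_z _ ⟨n, hn, rfl⟩ h τ hτ h7 hc
  obtain ⟨p, q, hpq, e⟩ := duad_surj hn ((T.small n hn).2 ⟨h1, hnc⟩)
  subst e
  have h := T.coded ⟨τ, hτ⟩ p q
  rw [show ((⟨τ, hτ⟩ : ↥(Subgroup.normalizer (F.asub L : Set G))) : G) = τ from rfl, hc, mul_inv_cancel_right] at h
  have h' := F.el_inj L (phi_lt_xor _ _) (phi_lt_xor _ _) h
  set r := ((θ ⟨τ, hτ⟩ : ↥Cfsg.M24) : Equiv.Perm GolayPt)
  have hp : r p = p := by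
    rcases duad_inj hpq (fun e => hpq (r.injective e)) h' with ⟨e1, -⟩ | ⟨e1, e2⟩
    · exact e1.symm
    · have h2 : (r ^ 2) p = p := by rw [pow_two, Equiv.Perm.mul_apply, ← e2, ← e1]
      have h7' : (r ^ 7) p = p := idx_injective (by
        have h := List.all_eq_true.1 perm7_ok.2.2.2.2.1 (idx p) (List.mem_range.2 (idx_lt p))
        rw [Bool.and_eq_true, beq_iff_eq] at h
        rw [hR.idx_iter, h.1])
      have h6 : (r ^ 6) p = p := by
        rw [show 6 = 2 + 2 + 2 from rfl, pow_add, pow_add, Equiv.Perm.mul_apply, Equiv.Perm.mul_apply, h2, h2, h2]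
      rwa [pow_succ', Equiv.Perm.mul_apply, h6] at h7'
  have hq : r q = q := by
    rcases duad_inj hpq (fun e => hpq (r.injective e)) h' with ⟨-, e2⟩ | ⟨e1, e2⟩
    · exact e2.symm
    · exact absurd (e2.trans hp).symm hpq
  have hidx : ∀ w, r w = w → idx w = 0 ∨ idx w = 1 ∨ idx w = 15 := fun w hw =>
    T.fixed_pt hτ h7 hR (idx_lt w) ((hR.fix_iff w).1 hw)
  have hne : idx p ≠ idx q := fun e => hpq (idx_injective e)
  simp only [phi, duad]
  rcases hidx p hp with e | e | e <;> rcases hidx q hq with e' | e' | e' <;> rw [e, e'] <;>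
    first
      | exact absurd (e.trans e'.symm) hne
      | exact Or.inl rfl
      | exact Or.inr (Or.inl rfl)
      | exact Or.inr (Or.inr rfl)

/-- The centraliser of the permutation fixing two of its fixed points. -/
theorem perm_cent {g : G} (hg : g ∈ Subgroup.normalizer (F.asub L : Set G)) (hc : τ * g = g * τ)
    (h0 : ((θ ⟨g, hg⟩ : ↥Cfsg.M24) : Equiv.Perm GolayPt) (pt 0) = pt 0)
    (h1 : ((θ ⟨g, hg⟩ : ↥Cfsg.M24) : Equiv.Perm GolayPt) (pt 1) = pt 1) :
    ∃ k : ℕ, θ ⟨g, hg⟩ = θ ⟨τ, hτ⟩ ^ k := by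
  set γ := ((θ ⟨g, hg⟩ : ↥Cfsg.M24) : Equiv.Perm GolayPt) with hγ
  set r := ((θ ⟨τ, hτ⟩ : ↥Cfsg.M24) : Equiv.Perm GolayPt) with hr
  have hcr : Commute r γ := by
    have := congrArg θ (show (⟨τ, hτ⟩ : ↥(Subgroup.normalizer (F.asub L : Set G))) * ⟨g, hg⟩ = ⟨g, hg⟩ * ⟨τ, hτ⟩ from
      Subtype.ext hc)
    rw [map_mul, map_mul] at this
    exact congrArg Subtype.val this
  have hfix : ∀ i, i < 24 → (r (pt i) = pt i ↔ tblNat permR i = i) := fun i hi => by
    rw [hR.fix_iff, idx_pt hi]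
  have h15 : γ (pt 15) = pt 15 := by
    have e : r (γ (pt 15)) = γ (pt 15) := by
      have := Equiv.Perm.ext_iff.1 hcr.eq (pt 15)
      simp only [Equiv.Perm.mul_apply] at this
      rw [this, (hfix 15 (by norm_num)).2 (by decide +kernel)]
    rcases T.fixed_pt hτ h7 hR (idx_lt (γ (pt 15))) ((hR.fix_iff _).1 e) with e' | e' | e'
    · exact absurd (congrArg idx (γ.injective ((idx_injective (e'.trans (idx_pt (by norm_num)).symm)).trans h0.symm)))
        (by rw [idx_pt (by norm_num), idx_pt (by norm_num)]; norm_num)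
    · exact absurd (congrArg idx (γ.injective ((idx_injective (e'.trans (idx_pt (by norm_num)).symm)).trans h1.symm)))
        (by rw [idx_pt (by norm_num), idx_pt (by norm_num)]; norm_num)
    · exact idx_injective (e'.trans (idx_pt (by norm_num)).symm)
  set y : List ℕ := [idx (γ (pt 2)), idx (γ (pt 5)), idx (γ (pt 10))] with hy
  have htbl : ∀ p, idx (γ p) = candT y (idx p) := by
    intro p
    have hc := List.all_eq_true.1 cyc_ok (idx p) (List.mem_range.2 (idx_lt p))
    unfold candT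
    split at hc
    · rename_i h3
      rw [if_pos h3]
      simp only [Bool.and_eq_true, Bool.or_eq_true, beq_iff_eq] at hc
      have hpp : pt (idx p) = p := pt_idx p
      rcases hc.1 with (e | e) | e <;> rw [e] at hpp <;> rw [← hpp] <;>
        simp only [h0, h1, h15]
    · rename_i h3
      rw [if_neg h3]
      simp only [Bool.and_eq_true, decide_eq_true_eq, beq_iff_eq] at hc
      set cc := (cycPos.getD (idx p) (3, 0)).1 with hcc
      set ee := (cycPos.getD (idx p) (3, 0)).2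
      have hrep : reps.getD cc 0 < 24 := (by decide : ∀ i < 3, reps.getD i 0 < 24) cc hc.1.1
      have hp : p = (r ^ ee) (pt (reps.getD cc 0)) := idx_injective (by
        rw [hR.idx_iter, idx_pt hrep, hc.1.2])
      have e := Equiv.Perm.ext_iff.1 ((hcr.pow_left ee).eq) (pt (reps.getD cc 0))
      simp only [Equiv.Perm.mul_apply] at e
      rw [← hp] at e
      rw [← e, hR.idx_iter]
      congr 1
      have : cc = 0 ∨ cc = 1 ∨ cc = 2 := by omega
      rcases this with h | h | h <;> rw [h] <;> rfl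
  have hmv : ∀ i, i = 2 ∨ i = 5 ∨ i = 10 → idx (γ (pt i)) ∈ moved7 := by
    intro i hi
    simp only [moved7, List.mem_filter, List.mem_range, bne_iff_ne]
    refine ⟨idx_lt _, fun e => ?_⟩
    have e1 : r (γ (pt i)) = γ (pt i) := (hR.fix_iff _).2 e
    have := Equiv.Perm.ext_iff.1 hcr.eq (pt i)
    simp only [Equiv.Perm.mul_apply] at this
    rw [e1] at this
    have e2 := (hfix i (by omega)).1 (γ.injective this.symm)
    rcases hi with rfl | rfl | rfl <;> exact absurd e2 (by decide +kernel)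
  have hcand := List.all_eq_true.1 (List.all_eq_true.1 (List.all_eq_true.1 cand_all _ (hmv 2 (by simp)))
    _ (hmv 5 (by simp))) _ (hmv 10 (by simp))
  rw [← hy] at hcand
  simp only [candOK, Bool.or_eq_true, Bool.not_eq_true', List.any_eq_true, List.mem_range, List.all_eq_true,
    beq_iff_eq] at hcand
  rcases hcand with h | ⟨k, -, hk⟩
  · exfalso
    rw [← Bool.not_eq_true, List.all_eq_true] at h
    refine h fun K hK => ?_
    rw [beq_iff_eq]
    obtain ⟨hlt, e⟩ := T.act_xl hg htbl K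
    rw [beq_iff_eq.1 (List.all_eq_true.1 words_zero K hK), F.el_zero L, mul_one, mul_inv_cancel] at e
    exact F.el_inj L hlt (by norm_num) (e.symm.trans (F.el_zero L).symm)
  · refine ⟨k, Subtype.ext (Equiv.ext fun p => idx_injective ?_)⟩
    rw [SubmonoidClass.coe_pow, ← hr, hR.idx_iter, ← hγ, htbl, hk _ (idx_lt p)]

/-- The standard case. -/
theorem local_std {e : G} (he : e ∈ Subgroup.normalizer (F.asub L : Set G))
    (heA : IsTbl ((θ ⟨e, he⟩ : ↥Cfsg.M24) : Equiv.Perm GolayPt) permA) (hee : e * e = 1) (hez : IsConj z e)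
    (hec : τ * e = e * τ) :
    Local z (Subgroup.zpowers τ) (F.el L (duad 0 1)) (F.el L (duad 0 15)) e := by
  obtain ⟨-, -, -, -, -, a0, a1, a15, -⟩ := perm7_ok
  set u := F.el L (duad 0 1) with hu
  set a := F.el L (duad 0 15) with ha
  have hlt : ∀ {i j : ℕ}, i < 24 → j < 24 → duad i j < 2048 := fun {i j} hi hj => by
    rw [duad, ← phi_pt hi, ← phi_pt hj]; exact phi_lt_xor _ _
  have hC : ∀ {g : G}, τ * g = g * τ → g ∈ Subgroup.centralizer (Subgroup.zpowers τ : Set G) := fun {g} h => by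
    rw [Subgroup.mem_centralizer_iff]
    rintro _ ⟨i, rfl⟩
    exact ((show Commute τ g from h).zpow_left i).eq
  have hne : ∀ {i j : ℕ}, i < 24 → j < 24 → i ≠ j → pt i ≠ pt j := fun {i j} hi hj h e => h (by
    rw [← idx_pt hi, e, idx_pt hj])
  have hsm : ∀ {i j : ℕ}, i < 24 → j < 24 → i ≠ j → F.el L (duad i j) ≠ 1 ∧ ¬ IsConj z (F.el L (duad i j)) :=
    fun {i j} hi hj h => (T.small _ (hlt hi hj)).1 (by
      rw [duad, ← phi_pt hi, ← phi_pt hj]; exact duad_inDm (hne hi hj h))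
  have hAm : ∀ {i j : ℕ}, i < 24 → j < 24 → F.el L (duad i j) ∈ F.asub L := fun {i j} hi hj => ⟨_, hlt hi hj, rfl⟩
  have hτfix : ∀ {i j : ℕ}, i < 24 → j < 24 → tblNat permR i = i → tblNat permR j = j →
      τ * F.el L (duad i j) = F.el L (duad i j) * τ := fun {i j} hi hj h h' => by
    have := T.act hτ hR hi hj
    rw [h, h'] at this
    exact mul_inv_eq_iff_eq_mul.1 this
  have hua : u * a = a * u := F.asub_comm L (hAm (by norm_num) (by norm_num)) (hAm (by norm_num) (by norm_num))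
  have hprod : F.el L (duad 1 15) = a * u := by
    rw [hu, ha, ← F.el_xor L (hlt (by norm_num) (by norm_num)) (hlt (by norm_num) (by norm_num))]
    congr 1
  have hru : u * e = e * u := by
    have := T.act he heA (show 0 < 24 by norm_num) (show 1 < 24 by norm_num)
    rw [a0, a1, show duad 1 0 = duad 0 1 by decide +kernel] at this
    exact (mul_inv_eq_iff_eq_mul.1 this).symm
  have hcac : e * a * e = a * u := by
    have := T.act he heA (show 0 < 24 by norm_num) (show 15 < 24 by norm_num)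
    rw [a0, a15, inv_eq_of_mul_eq_one_right hee] at this
    exact this.trans hprod
  refine
    { aa := F.asub_sq L (hAm (by norm_num) (by norm_num)), cc := hee
      a1 := (hsm (by norm_num) (by norm_num) (by norm_num)).1
      au := fun h => absurd (F.el_inj L (hlt (by norm_num) (by norm_num)) (hlt (by norm_num) (by norm_num)) h)
        (by decide +kernel)
      hna := (hsm (by norm_num) (by norm_num) (by norm_num)).2, hc := hez
      aS := hC (hτfix (by norm_num) (by norm_num) (by decide +kernel) (by decide +kernel))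
      cS := hC hec, ua := hua, uc := hru, cac := hcac, span := ?_ }
  intro g hgC hgu
  have hgτ : τ * g = g * τ := Subgroup.mem_centralizer_iff.1 hgC τ (Subgroup.mem_zpowers τ)
  obtain ⟨hu1, hun⟩ := hsm (show 0 < 24 by norm_num) (show 1 < 24 by norm_num) (by norm_num)
  have hg : g ∈ (Subgroup.normalizer (F.asub L : Set G)) := T.cent_t u (hAm (by norm_num) (by norm_num)) hu1 hun
    (Subgroup.mem_centralizer_singleton_iff.2 hgu)
  have h01 : pt 0 ≠ pt 1 := hne (by norm_num) (by norm_num) (by norm_num)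
  set γ := ((θ ⟨g, hg⟩ : ↥Cfsg.M24) : Equiv.Perm GolayPt) with hγ
  have hd : F.el L (phi (γ (pt 0)) ^^^ phi (γ (pt 1))) = F.el L (phi (pt 0) ^^^ phi (pt 1)) := by
    have h := T.coded ⟨g, hg⟩ (pt 0) (pt 1)
    rw [← hγ] at h
    rw [← h, phi_pt (by norm_num), phi_pt (by norm_num)]
    show g * u * g⁻¹ = u
    rw [hgu, mul_inv_cancel_right]
  -- multiply by the involution to fix both points
  obtain ⟨l, hl0, hl1⟩ : ∃ l : Fin 2,
      ((θ ⟨g * e ^ l.1, mul_mem hg (pow_mem he _)⟩ : ↥Cfsg.M24) : Equiv.Perm GolayPt) (pt 0) = pt 0 ∧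
      ((θ ⟨g * e ^ l.1, mul_mem hg (pow_mem he _)⟩ : ↥Cfsg.M24) : Equiv.Perm GolayPt) (pt 1) = pt 1 := by
    rcases duad_inj (fun h => h01 (γ.injective h)) h01 (F.el_inj L (phi_lt_xor _ _) (phi_lt_xor _ _) hd) with
      ⟨e1, e2⟩ | ⟨e1, e2⟩
    · refine ⟨0, ?_⟩
      simp only [Fin.val_zero, pow_zero, mul_one]
      exact ⟨e1, e2⟩
    · refine ⟨1, ?_⟩
      have hx : ∀ p, ((θ ⟨g * e ^ 1, mul_mem hg (pow_mem he _)⟩ : ↥Cfsg.M24) : Equiv.Perm GolayPt) p =
          γ (((θ ⟨e, he⟩ : ↥Cfsg.M24) : Equiv.Perm GolayPt) p) := fun p => by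
        rw [show (⟨g * e ^ 1, mul_mem hg (pow_mem he _)⟩ : ↥(Subgroup.normalizer (F.asub L : Set G))) = ⟨g, hg⟩ * ⟨e, he⟩ from Subtype.ext (by simp),
          map_mul, Subgroup.coe_mul, Equiv.Perm.mul_apply]
      simp only [Fin.val_one]
      rw [hx, hx]
      have hA0 : ((θ ⟨e, he⟩ : ↥Cfsg.M24) : Equiv.Perm GolayPt) (pt 0) = pt 1 :=
        idx_injective (by rw [heA, idx_pt (by norm_num), idx_pt (by norm_num), a0])
      have hA1 : ((θ ⟨e, he⟩ : ↥Cfsg.M24) : Equiv.Perm GolayPt) (pt 1) = pt 0 :=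
        idx_injective (by rw [heA, idx_pt (by norm_num), idx_pt (by norm_num), a1])
      rw [hA0, hA1]
      exact ⟨e2, e1⟩
  have hge : τ * (g * e ^ l.1) = g * e ^ l.1 * τ :=
    ((show Commute τ g from hgτ).mul_right ((show Commute τ e from hec).pow_right _)).eq
  obtain ⟨k, hk⟩ := T.perm_cent hτ h7 hR (mul_mem hg (pow_mem he _)) hge hl0 hl1
  have hker : (τ ^ k)⁻¹ * (g * e ^ l.1) ∈ F.asub L := by
    have := (T.mem_asub_iff ((⟨τ, hτ⟩ ^ k : ↥(Subgroup.normalizer (F.asub L : Set G)))⁻¹ * ⟨g * e ^ l.1, mul_mem hg (pow_mem he _)⟩)).1 (by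
      rw [map_mul, map_inv, map_pow, hk, inv_mul_cancel])
    simpa using this
  have hfix : τ * ((τ ^ k)⁻¹ * (g * e ^ l.1)) = (τ ^ k)⁻¹ * (g * e ^ l.1) * τ :=
    (((Commute.refl τ).pow_right k).inv_right.mul_right hge).eq
  obtain ⟨i, j, hij⟩ : ∃ i j : Fin 2, (τ ^ k)⁻¹ * (g * e ^ l.1) = u ^ i.1 * a ^ j.1 := by
    by_cases h1 : (τ ^ k)⁻¹ * (g * e ^ l.1) = 1
    · exact ⟨0, 0, by simpa using h1⟩
    rcases T.fixed_asub hτ h7 hR hker hfix h1 with h | h | h
    · exact ⟨1, 0, by simpa using h⟩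
    · exact ⟨0, 1, by simpa using h⟩
    · exact ⟨1, 1, by simpa [hua, ← hprod] using h⟩
  refine ⟨τ ^ k, pow_mem (Subgroup.mem_zpowers τ) k, i, j, l, ?_⟩
  have hel : e ^ l.1 * e ^ l.1 = 1 := by rw [← pow_add, ← two_mul, pow_mul, pow_two, hee, one_pow]
  rw [← hij]
  calc g = g * (e ^ l.1 * e ^ l.1) := by rw [hel, mul_one]
    _ = _ := by group

end

/-- An involution outside the class centralising a subgroup of order seven. -/
theorem exists_local [IsSimpleGroup G] {S : Subgroup G} (hS : Nat.card ↥S = 7) {u : G}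
    (hu : u * u = 1) (hu1 : u ≠ 1) (hn : ¬ IsConj z u) (huS : u ∈ Subgroup.centralizer (S : Set G)) :
    ∃ a e, Local z S u a e := by
  haveI : Fact (Nat.Prime 7) := ⟨by norm_num⟩
  obtain ⟨τ, hτ, h7, hR⟩ := T.exists_tau
  obtain ⟨e, he, heA, hee, hez, hec⟩ := T.exists_c hτ h7 hR
  obtain ⟨y, hy⟩ := (isCyclic_of_prime_card hS).exists_generator
  have hgen : Subgroup.zpowers (y : G) = S := by
    ext g
    exact ⟨fun ⟨i, hi⟩ => hi ▸ zpow_mem y.2 i, fun hg => by
      obtain ⟨i, hi⟩ := hy ⟨g, hg⟩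
      exact ⟨i, congrArg Subtype.val hi⟩⟩
  have hy7 : orderOf (y : G) = 7 := by rw [← Nat.card_zpowers, hgen, hS]
  obtain ⟨g, hg⟩ := T.conj_in u hu
  set u' := g * u * g⁻¹ with hu'
  have hu'1 : u' ≠ 1 := fun h => hu1 (conj_eq_one_iff.1 h)
  have hu'n : ¬ IsConj z u' := fun h => hn (h.trans (isConj_iff.2 ⟨g⁻¹, by rw [hu']; group⟩))
  have hy' : g * y * g⁻¹ ∈ (Subgroup.normalizer (F.asub L : Set G)) := T.cent_t u' hg hu'1 hu'n (Subgroup.mem_centralizer_singleton_iff.2 (by
    rw [hu', conj_mul, conj_mul, Subgroup.mem_centralizer_iff.1 huS y y.2]))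
  have hfac : (Nat.card ↥(Subgroup.normalizer (F.asub L : Set G))).factorization 7 = 1 := by
    have h := θ.ker.card_mul_index
    rw [Subgroup.index_ker, MonoidHom.range_eq_top.2 T.todd.surj, Subgroup.card_top,
      CfsgLib.SmallGroups.M24Group.card_M24, T.todd.ker,
      Nat.card_congr (Subgroup.subgroupOfEquivOfLe Subgroup.le_normalizer).toEquiv, F.card_asub L] at h
    rw [← h, show 2 ^ 11 * 244823040 = (2 ^ 11 * 34974720) * 7 by norm_num, Nat.factorization_mul (by norm_num)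
      (by norm_num), Nat.Prime.factorization (by norm_num : Nat.Prime 7)]
    simp only [Finsupp.add_apply, Nat.factorization_eq_zero_of_not_dvd (show ¬ 7 ∣ 2 ^ 11 * 34974720 by norm_num),
      Finsupp.single_eq_same, zero_add]
  have ho : orderOf (⟨g * y * g⁻¹, hy'⟩ : ↥(Subgroup.normalizer (F.asub L : Set G))) = 7 := by
    rw [Subgroup.orderOf_mk, show g * y * g⁻¹ = (MulAut.conj g).toMonoidHom (y : G) by simp,
      orderOf_injective (MulAut.conj g).toMonoidHom (MulAut.conj g).injective, hy7]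
  obtain ⟨d, k, hd, hk⟩ := Five.exists_conj_pow hfac ho (c := ⟨τ, hτ⟩) (by rw [Subgroup.orderOf_mk, h7])
  set h := (d : G) * g with hh
  have hd' : h * y * h⁻¹ = τ ^ k := by
    have := congrArg Subtype.val hd
    simp only [Subgroup.coe_mul, Subgroup.coe_inv, SubmonoidClass.coe_pow] at this
    rw [hh, ← this]
    group
  have hpow : ∃ j : ℕ, (τ ^ k) ^ j = τ := by
    obtain ⟨j, -, hj⟩ := Nat.exists_mul_mod_eq_one_of_coprime
      ((Nat.Prime.coprime_iff_not_dvd (by norm_num : Nat.Prime 7)).2 hk).symm (by norm_num : 1 < 7)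
    exact ⟨j, by rw [← pow_mul, ← pow_mod_orderOf, h7, hj, pow_one]⟩
  have huy : Commute (y : G) u := Subgroup.mem_centralizer_iff.1 huS y y.2
  set w := h * u * h⁻¹ with hw
  have hwτ : τ * w = w * τ := by
    obtain ⟨j, hj⟩ := hpow
    have e1 : Commute (h * y * h⁻¹) w := by
      show h * y * h⁻¹ * (h * u * h⁻¹) = h * u * h⁻¹ * (h * y * h⁻¹)
      rw [conj_mul, conj_mul, huy.eq]
    rw [hd'] at e1
    have := e1.pow_left j
    rwa [hj] at this
  have hwA : w ∈ F.asub L := by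
    rw [hw, hh, show (d : G) * g * u * ((d : G) * g)⁻¹ = (d : G) * u' * (d : G)⁻¹ by rw [hu']; group]
    exact (Subgroup.mem_normalizer_iff.1 d.2 _).1 hg
  obtain ⟨k', hk', hkK, hkτ⟩ := T.exists_comm hτ h7 hR perm7_ok.2.1 perm7_ok.2.2.2.1
  obtain ⟨-, -, -, -, -, -, -, -, b0, b1, b15, -⟩ := perm7_ok
  -- move the pair to the standard one
  obtain ⟨n, hn'⟩ : ∃ n : ℕ, k' ^ n * w * (k' ^ n)⁻¹ = F.el L (duad 0 1) := by
    rcases T.fixed_asub hτ h7 hR hwA hwτ (fun e' => hu1 (conj_eq_one_iff.1 e')) with hh' | hh' | hh' <;>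
      rw [hh']
    · exact ⟨0, by simp⟩
    · refine ⟨1, ?_⟩
      rw [pow_one, T.act hk' hkK (by norm_num) (by norm_num), b0, b15]
      congr 1
    · refine ⟨2, ?_⟩
      calc k' ^ 2 * F.el L (duad 1 15) * (k' ^ 2)⁻¹ = k' * (k' * F.el L (duad 1 15) * k'⁻¹) * k'⁻¹ := by
              rw [pow_two, mul_inv_rev]; simp only [mul_assoc]
        _ = F.el L (duad 0 1) := by
          rw [T.act hk' hkK (by norm_num) (by norm_num), b1, b15, T.act hk' hkK (by norm_num) (by norm_num), b15, b0]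
  set f := k' ^ n * h with hf
  have h1 : f * u * f⁻¹ = F.el L (duad 0 1) := by rw [← hn', hw, hf]; group
  have hmap : S.map (MulAut.conj f).toMonoidHom = Subgroup.zpowers τ := by
    rw [← hgen, MonoidHom.map_zpowers]
    have e1 : (MulAut.conj f).toMonoidHom (y : G) = τ ^ k := by
      show f * y * f⁻¹ = τ ^ k
      calc f * y * f⁻¹ = k' ^ n * (h * y * h⁻¹) * (k' ^ n)⁻¹ := by rw [hf]; group
        _ = τ ^ k := by
          rw [hd', ((show Commute τ k' from hkτ).pow_pow k n).symm.eq, mul_inv_cancel_right]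
    rw [e1]
    obtain ⟨j, hj⟩ := hpow
    exact le_antisymm (Subgroup.zpowers_le.2 (pow_mem (Subgroup.mem_zpowers τ) k))
      (Subgroup.zpowers_le.2 (by
        have e2 := pow_mem (Subgroup.mem_zpowers (τ ^ k)) j
        rwa [hj] at e2))
  have hstd := (T.local_std hτ h7 hR he heA hee hez hec).conj f⁻¹
  have hS' : (Subgroup.zpowers τ).map (MulAut.conj f⁻¹).toMonoidHom = S := by
    rw [← hmap, Subgroup.map_map]
    convert Subgroup.map_id S using 2
    ext v
    simp [mul_assoc]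
  have hu'' : f⁻¹ * F.el L (duad 0 1) * f⁻¹⁻¹ = u := by rw [← h1]; group
  rw [hS', hu''] at hstd
  exact ⟨_, _, hstd⟩

/-- An element of order seven centralising commuting members of the two classes. -/
theorem exists_pair [IsSimpleGroup G] : ∃ τ t e : G, orderOf τ = 7 ∧ t * t = 1 ∧ t ≠ 1 ∧ ¬ IsConj z t ∧ IsConj z e ∧
    τ * t = t * τ ∧ τ * e = e * τ ∧ t * e = e * t := by
  obtain ⟨τ, hτ, h7, hR⟩ := T.exists_tau
  obtain ⟨e, he, heA, hee, hez, hec⟩ := T.exists_c hτ h7 hR
  have h := T.local_std hτ h7 hR he heA hee hez hec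
  obtain ⟨hs1, hs2⟩ := (T.small (duad 0 1) (by decide +kernel)).1 (by decide +kernel)
  refine ⟨τ, F.el L (duad 0 1), e, h7, F.asub_sq L ⟨_, by decide +kernel, rfl⟩, hs1, hs2, hez,
    mul_inv_eq_iff_eq_mul.1 ?_, hec, h.uc⟩
  rw [T.act hτ hR (show 0 < 24 by norm_num) (show 1 < 24 by norm_num)]
  congr 1

end TCtx

end CfsgLib.Sporadic.J4Type.Seven
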