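import Cfsg.Agent.Lib.Sporadic.J4Type.StabW
import Cfsg.Agent.Lib.Sporadic.LargeFischer.Classes

/-!
# Conjugates of the central involution do not lie over the orbit of size 1386

The image of the half of the conjugate of `E` would be a normal two-subgroup of order at least 32 in the
stabiliser of the vector, whose largest normal two-subgroup has order sixteen.
-/

set_option autoImplicit false
set_option linter.unusedSectionVars false
set_option maxRecDepth 40000

namespace CfsgLib.Sporadic.J4Type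

open CfsgLib.Sporadic.LargeFischer CfsgLib.Sporadic.LargeFischer.Hexa CfsgLib.ThreeTransp.Extraspecial

/-- The fixed vector of weight six. -/
def vSix : ℕ := wv wtSix

theorem vSix_lt : vSix < 4096 := wv_lt _

/-- An entry of the table. -/
def se (i : ℕ) : ℕ × List ℕ × ℕ × ℕ := sixStab.getD i (0, [], 0, 0)

/-- The action of an entry on the coefficients. -/
def sk (i k : ℕ) : ℕ := lm (se i).2.1 k

/-- The index of the inverse. -/
def si (i : ℕ) : ℕ := (se i).2.2.1

/-- The commutator with the witness. -/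
def scm (i k : ℕ) : ℕ :=
  frc (sk (si (se i).2.2.2) k) fun a => frc (sk (si i) a) fun b => frc (sk (se i).2.2.2 b) fun c => sk i c

/-- Iterate the commutator `2 ^ n` times on the basis, as a list. -/
def sqIt : ℕ → List ℕ → List ℕ
  | 0, L => L
  | n + 1, L => sqIt n (cmpF L L)

theorem six_rows : sixStab.length = 120 ∧ (sixStab.map fun e => e.2.1).Nodup ∧
    (List.range 120).all (fun i => (se i).2.1.length == 6 && decide (si i < 120) && decide ((se i).2.2.2 < 120) &&
      (se i).2.1.all (· < 64) && (List.range 6).all (fun t => evC (se i).1 (wv (2 ^ t)) == wv (sk i (2 ^ t))) &&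
      (evC (se i).1 vSix == vSix) &&
      (List.range 6).all (fun t => sk (si i) (sk i (2 ^ t)) == 2 ^ t) &&
      ((se i).2.1 == [1, 2, 4, 8, 16, 32] ||
        !(sqIt 7 ((List.range 6).map fun t => scm i (2 ^ t)) == [1, 2, 4, 8, 16, 32]))) = true := by
  decide +kernel

theorem oc_facts : oc vSix = (true, false) ∧ oc (wv wtFour) = (false, true) ∧
    (List.range 4096).countP (fun n => oc n == (true, false)) = 1386 := by decide +kernel

theorem row_spec {i : ℕ} (hi : i < 120) :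
    (se i).2.1.length = 6 ∧ si i < 120 ∧ (se i).2.2.2 < 120 ∧ (∀ y ∈ (se i).2.1, y < 64) ∧
    (∀ t, t < 6 → evC (se i).1 (wv (2 ^ t)) = wv (sk i (2 ^ t))) ∧ evC (se i).1 vSix = vSix ∧
    (∀ t, t < 6 → sk (si i) (sk i (2 ^ t)) = 2 ^ t) ∧
    ((se i).2.1 = [1, 2, 4, 8, 16, 32] ∨
      sqIt 7 ((List.range 6).map fun t => scm i (2 ^ t)) ≠ [1, 2, 4, 8, 16, 32]) := by
  have h := List.all_eq_true.1 six_rows.2.2 i (List.mem_range.2 hi)
  simp only [Bool.and_eq_true, Bool.or_eq_true, beq_iff_eq, decide_eq_true_eq, List.all_eq_true, List.mem_range,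
    Bool.not_eq_true', beq_eq_false_iff_ne] at h
  obtain ⟨⟨⟨⟨⟨⟨⟨h1, h2⟩, h3⟩, h4⟩, h5⟩, h6⟩, h7⟩, h8⟩ := h
  exact ⟨h1, h2, h3, h4, h5, h6, h7, h8⟩

theorem sk_lt {i : ℕ} (hi : i < 120) (k : ℕ) : sk i k < 64 := lm_lt (k := 6) _ _ (row_spec hi).2.2.2.1

theorem sk_xor (i a b : ℕ) : sk i (a ^^^ b) = sk i a ^^^ sk i b := lm_xor _ a b

theorem ext6 {f g : ℕ → ℕ} (hf : ∀ a b, f (a ^^^ b) = f a ^^^ f b) (hg : ∀ a b, g (a ^^^ b) = g a ^^^ g b)
    (h0 : f 0 = g 0) (h : ∀ t, t < 6 → f (2 ^ t) = g (2 ^ t)) : ∀ k, k < 64 → f k = g k := by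
  have key : ∀ m, m ≤ 6 → ∀ k, k < 2 ^ m → f k = g k := by
    intro m
    induction m with
    | zero => intro _ k hk; rw [show k = 0 by simpa using hk, h0]
    | succ m ih =>
      intro hm k hk
      by_cases hb : k < 2 ^ m
      · exact ih (by omega) k hb
      · have hlt : k - 2 ^ m < 2 ^ m := by rw [pow_succ] at hk; omega
        rw [show k = 2 ^ m ^^^ (k - 2 ^ m) by rw [CfsgLib.SmallGroups.Golay.two_pow_xor hlt]; omega, hf, hg,
          h m (by omega), ih (by omega) _ hlt]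
  exact fun k hk => key 6 le_rfl k hk

variable {G : Type*} [Group G] [Finite G] {z : G} {π : G → V6}
  {ψ : ↥(Subgroup.centralizer ({z} : Set G)) →* (V6 ≃ₗ[ZMod 2] V6)}
  {x : ↥(Subgroup.centralizer ({z} : Set G))} (J : JF z π ψ x)
include J

/-- The element of an entry, with its action on the hexacode. -/
theorem exists_six {i : ℕ} (hi : i < 120) : ∃ g ∈ ψ.range, g (dec vSix) = dec vSix ∧
    ∀ k, k < 64 → g (dec (wv k)) = dec (wv (sk i k)) := by
  obtain ⟨g, hg, hgn⟩ := exists_wLet J (se i).1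
  obtain ⟨-, -, -, -, h5, h6, -, -⟩ := row_spec hi
  refine ⟨g, hg, ?_, fun k hk => ?_⟩
  · rw [(hgn _ vSix_lt).2]; exact congrArg dec h6
  · have e := ext6 (f := fun k => enc (g (dec (wv k)))) (g := fun k => wv (sk i k))
      (fun a b => by simp only [wv_xor, dec_xor, map_add, enc_add])
      (fun a b => by simp only [sk_xor, wv_xor])
      (by simp [sk, lm_zero, wv_zero, dec_zero, enc_zero])
      (fun t ht => by rw [(hgn _ (wv_lt _)).2, enc_dec (hgn _ (wv_lt _)).1]; exact h5 t ht) k hk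
    calc g (dec (wv k)) = dec (enc (g (dec (wv k)))) := (dec_enc _).symm
      _ = _ := congrArg dec e

/-- The order of the stabiliser of the vector. -/
theorem card_stab_six : Nat.card (MulAction.stabilizer ↥ψ.range (dec vSix)) = 1920 := by
  classical
  have := finite_equiv
  have h1 := (MulAction.stabilizer ↥ψ.range (dec vSix)).card_mul_index
  rw [MulAction.index_stabilizer, J.card] at h1
  have h2 : (MulAction.orbit ↥ψ.range (dec vSix)).ncard = 1386 := by
    have e : MulAction.orbit ↥ψ.range (dec vSix) = dec '' {n | n < 4096 ∧ oc n = (true, false)} := by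
      ext v
      constructor
      · rintro ⟨g, rfl⟩
        refine ⟨enc ((g : V6 ≃ₗ[ZMod 2] V6) (dec vSix)), ⟨enc_lt _, ?_⟩, dec_enc _⟩
        rw [(range_le J g.2).2, enc_dec vSix_lt]
        exact oc_facts.1
      · rintro ⟨n, ⟨hn, ho⟩, rfl⟩
        obtain ⟨g, hg, e⟩ := transitive J (wv_lt _) hn (oc_facts.1.trans ho.symm) (by rw [show oc (wv wtSix) = _ from oc_facts.1]; decide)
        exact ⟨⟨g, hg⟩, e⟩
    rw [e, Set.InjOn.ncard_image fun a ha b hb h => by
      have := congrArg enc h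
      rwa [enc_dec ha.1, enc_dec hb.1] at this]
    rw [← oc_facts.2.2, List.countP_eq_length_filter,
      ← List.toFinset_card_of_nodup (List.nodup_range.filter _), ← Set.ncard_coe_finset]
    congr 1
    ext n
    simp
  rw [h2] at h1
  omega

/-- Every element of the stabiliser is an entry times a product. -/
theorem stab_six_cases (hq : ∀ g ∈ ψ.range, ∀ v, qs (g v) = qs v) {g : V6 ≃ₗ[ZMod 2] V6} (hg : g ∈ ψ.range)
    (hfix : g (dec vSix) = dec vSix) : ∃ i < 120, ∀ k, k < 64 → g (dec (wv k)) = dec (wv (sk i k)) := by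
  classical
  have := finite_equiv
  choose r hr hr6 hrk using fun i : Fin 120 => exists_six J i.2
  let f : Fin 120 × Fin 16 → MulAction.stabilizer ↥ψ.range (dec vSix) := fun p =>
    ⟨⟨r p.1 * Bel p.2.1, mul_mem (hr p.1) (Bel_range J _)⟩, by
      show r p.1 (Bel p.2.1 (dec vSix)) = dec vSix
      rw [show vSix = wv wtSix from rfl, Bel_fix p.2.2 base_weights.2.1]
      exact hr6 p.1⟩
  have hinj : Function.Injective f := by
    rintro ⟨i, u⟩ ⟨i', u'⟩ e
    have e' : r i * Bel u.1 = r i' * Bel u'.1 := congrArg (fun a : MulAction.stabilizer ↥ψ.range (dec vSix) => ((a : ↥ψ.range) : V6 ≃ₗ[ZMod 2] V6)) e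
    have hk : ∀ k, k < 64 → sk i.1 k = sk i'.1 k := fun k hk => by
      have h1 := LinearEquiv.congr_fun e' (dec (wv k))
      simp only [LinearEquiv.mul_apply, Bel_fix u.2 hk, Bel_fix u'.2 hk, hrk i k hk, hrk i' k hk] at h1
      exact wv_inj (sk_lt i.2 k) (sk_lt i'.2 k) h1
    have hii : i = i' := by
      have hl : (se i.1).2.1 = (se i'.1).2.1 := by
        refine List.ext_getElem (by rw [(row_spec i.2).1, (row_spec i'.2).1]) fun j hj hj' => ?_
        have hj6 : j < 6 := (row_spec i.2).1 ▸ hj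
        have h1 := hk (2 ^ j) (Nat.pow_lt_pow_right (by norm_num : 1 < 2) hj6 |>.trans_eq (by norm_num))
        rwa [sk, sk, lm_bit, lm_bit, List.getD_eq_getElem _ _ hj, List.getD_eq_getElem _ _ hj'] at h1
      refine Fin.ext ((six_rows.2.1.getElem_inj_iff (i := i.1) (j := i'.1)
        (hi := by rw [List.length_map, six_rows.1]; exact i.2) (hj := by rw [List.length_map, six_rows.1]; exact i'.2)).1 ?_)
      rw [List.getElem_map, List.getElem_map, ← List.getD_eq_getElem sixStab (0, [], 0, 0),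
        ← List.getD_eq_getElem sixStab (0, [], 0, 0)]
      exact hl
    subst hii
    exact Prod.ext rfl (Fin.ext (Bel_inj u.2 u'.2 (mul_left_cancel e')))
  have hbij : Function.Bijective f := by
    refine hinj.bijective_of_nat_card_le ?_
    rw [card_stab_six J, Nat.card_eq_fintype_card (α := Fin 120 × Fin 16)]
    simp
  obtain ⟨⟨i, u⟩, e⟩ := hbij.2 ⟨⟨g, hg⟩, hfix⟩
  refine ⟨i.1, i.2, fun k hk => ?_⟩
  have e' : r i * Bel u.1 = g := congrArg (fun a : MulAction.stabilizer ↥ψ.range (dec vSix) => ((a : ↥ψ.range) : V6 ≃ₗ[ZMod 2] V6)) e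
  rw [← e']
  show r i (Bel u.1 _) = _
  rw [Bel_fix u.2 hk, hrk i k hk]

/-- A normal two-subgroup of the stabiliser fixes the hexacode. -/
theorem normal_fix (hq : ∀ g ∈ ψ.range, ∀ v, qs (g v) = qs v) (E : Subgroup (V6 ≃ₗ[ZMod 2] V6))
    (hE : ∀ e ∈ E, e ∈ ψ.range ∧ e (dec vSix) = dec vSix)
    (hn : ∀ g ∈ ψ.range, g (dec vSix) = dec vSix → ∀ e ∈ E, g * e * g⁻¹ ∈ E)
    (h128 : ∀ e ∈ E, e ^ 128 = 1) : ∀ e ∈ E, ∀ k, k < 64 → e (dec (wv k)) = dec (wv k) := by
  intro e he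
  obtain ⟨i, hi, hek⟩ := stab_six_cases J hq (hE e he).1 (hE e he).2
  obtain ⟨hlen, hsi, hw, hlt, -, -, hinv, hcase⟩ := row_spec hi
  have hinvk : ∀ {g : V6 ≃ₗ[ZMod 2] V6} {j : ℕ}, j < 120 → (∀ k, k < 64 → g (dec (wv k)) = dec (wv (sk j k))) →
      ∀ k, k < 64 → g⁻¹ (dec (wv k)) = dec (wv (sk (si j) k)) := by
    intro g j hj hgk k hk
    have hid : ∀ k, k < 64 → sk (si j) (sk j k) = k := ext6 (f := fun k => sk (si j) (sk j k)) (g := fun k => k)
      (fun a b => by simp only [sk_xor]) (fun _ _ => rfl) (by simp [sk, lm_zero]) (row_spec hj).2.2.2.2.2.2.1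
    have hfin : ∃ m, m < 64 ∧ sk j m = k := by
      have hf : Function.Injective fun m : Fin 64 => (⟨sk j m.1, sk_lt hj _⟩ : Fin 64) := fun a b h => by
        refine Fin.ext ?_
        rw [← hid a.1 a.2, ← hid b.1 b.2, show sk j a.1 = sk j b.1 from congrArg Fin.val h]
      obtain ⟨m, hm⟩ := (Finite.injective_iff_surjective.1 hf) ⟨k, hk⟩
      exact ⟨m.1, m.2, congrArg Fin.val hm⟩
    obtain ⟨m, hm, rfl⟩ := hfin
    rw [hid m hm]
    show g.symm _ = _
    rw [g.symm_apply_eq, hgk m hm]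
  rcases hcase with e1 | e1
  · intro k hk
    rw [hek k hk, show sk i k = k from ext6 (f := sk i) (g := fun k => k) (sk_xor i) (fun _ _ => rfl)
      (lm_zero _) (fun t ht => by rw [sk, e1]; interval_cases t <;> rfl) k hk]
  · exfalso
    obtain ⟨s, hs, hs6, hsk⟩ := exists_six J hw
    have hc : e * (s * e⁻¹ * s⁻¹) ∈ E := mul_mem he (hn s hs hs6 _ (inv_mem he))
    set c := e * (s * e⁻¹ * s⁻¹)
    have hck : ∀ k, k < 64 → scm i k < 64 ∧ c (dec (wv k)) = dec (wv (scm i k)) := fun k hk => by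
      simp only [scm, frc_eq]
      refine ⟨sk_lt hi _, ?_⟩
      show e (s (e⁻¹ (s⁻¹ _))) = _
      rw [hinvk hw hsk k hk, hinvk hi hek _ (sk_lt (row_spec hw).2.1 _), hsk _ (sk_lt hsi _), hek _ (sk_lt hw _)]
    have key : ∀ n (g : V6 ≃ₗ[ZMod 2] V6) (L : List ℕ), L.length = 6 → (∀ y ∈ L, y < 64) →
        (∀ k, k < 64 → g (dec (wv k)) = dec (wv (lm L k))) →
        (sqIt n L).length = 6 ∧ (∀ y ∈ sqIt n L, y < 64) ∧
          ∀ k, k < 64 → (g ^ (2 ^ n)) (dec (wv k)) = dec (wv (lm (sqIt n L) k)) := by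
      intro n
      induction n with
      | zero => intro g L hl hlt hg; exact ⟨hl, hlt, by simpa [sqIt] using hg⟩
      | succ n ih =>
        intro g L hl hlt hg
        have hl2 : (cmpF L L).length = 6 := by rw [cmpF_eq]; simpa [cmpL] using hl
        have hlt2 : ∀ y ∈ cmpF L L, y < 64 := fun y hy => by
          rw [cmpF_eq] at hy
          obtain ⟨a, -, rfl⟩ := List.mem_map.1 hy
          exact lm_lt (k := 6) _ _ hlt
        have hg2 : ∀ k, k < 64 → (g ^ 2) (dec (wv k)) = dec (wv (lm (cmpF L L) k)) := fun k hk => by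
          rw [pow_two]
          show g (g _) = _
          rw [hg k hk, hg _ (lm_lt (k := 6) _ _ hlt)]
          refine congrArg (fun a => dec (wv a)) (ext6 (f := fun k => lm L (lm L k)) (g := lm (cmpF L L))
            (fun a b => by simp only [lm_xor]) (lm_xor _) (by simp [lm_zero]) (fun t ht => ?_) k hk)
          rw [cmpF_eq, lm_bit (cmpL L L), lm_bit L t, List.getD_eq_getElem _ _ (show t < L.length by omega),
            List.getD_eq_getElem _ _ (show t < (cmpL L L).length by simp [cmpL]; omega)]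
          simp [cmpL]
        obtain ⟨a, b, h⟩ := ih (g ^ 2) _ hl2 hlt2 hg2
        refine ⟨a, b, fun k hk => ?_⟩
        rw [show 2 ^ (n + 1) = 2 * 2 ^ n by ring, pow_mul]
        exact h k hk
    set L := (List.range 6).map fun t => scm i (2 ^ t) with hL
    have hgL : ∀ k, k < 64 → c (dec (wv k)) = dec (wv (lm L k)) := fun k hk => by
      rw [(hck k hk).2]
      refine congrArg (fun a => dec (wv a)) (ext6 (f := scm i) (g := lm L) ?_ (lm_xor _) ?_ (fun t ht => ?_) k hk)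
      · intro a b; simp only [scm, frc_eq, sk_xor]
      · simp [scm, frc_eq, sk, lm_zero]
      · rw [lm_bit, hL, List.getD_eq_getElem _ _ (by simpa using ht), List.getElem_map, List.getElem_range]
    obtain ⟨hl, hlt', h7⟩ := key 7 c L (by simp [hL]) (fun y hy => by
      obtain ⟨t, ht, rfl⟩ := List.mem_map.1 hy
      exact (hck _ (Nat.pow_lt_pow_right (by norm_num : 1 < 2) (List.mem_range.1 ht) |>.trans_eq (by norm_num))).1) hgL
    refine e1 (List.ext_getElem (by rw [hl]; rfl) fun j hj hj' => ?_)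
    have hj6 : j < 6 := hl ▸ hj
    have h64 : 2 ^ j < 64 := Nat.pow_lt_pow_right (by norm_num : 1 < 2) hj6 |>.trans_eq (by norm_num)
    have h := h7 (2 ^ j) h64
    rw [show (2 : ℕ) ^ 7 = 128 from rfl, h128 c hc, lm_bit, List.getD_eq_getElem _ _ hj] at h
    have := wv_inj h64 (hlt' _ (List.getElem_mem _)) h
    rw [← this]
    interval_cases j <;> rfl

theorem quad_inv : ∀ g ∈ ψ.range, ∀ v, qs (g v) = qs v := by
  rintro _ ⟨c, rfl⟩ v
  obtain ⟨a, ha, rfl⟩ := J.base.π_surj v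
  have hm := J.base.norm c (Subgroup.mem_centralizer_singleton_iff.1 c.2) a ha
  rw [← J.base.act c a ha]
  have h1 := J.base.q_iff a ha
  have h2 := J.base.q_iff _ hm
  have h3 : (c : G) * a * (c : G)⁻¹ * ((c : G) * a * (c : G)⁻¹) = 1 ↔ a * a = 1 := by
    rw [show (c : G) * a * (c : G)⁻¹ * ((c : G) * a * (c : G)⁻¹) = (c : G) * (a * a) * (c : G)⁻¹ by group,
      conj_eq_one_iff]
  have h4 := h2.trans (h3.trans h1.symm)
  revert h4
  generalize qs (π ((c : G) * a * (c : G)⁻¹)) = p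
  generalize qs (π a) = q
  revert p q
  decide

theorem six_ne {g : G} (hu : g * z * g⁻¹ ∈ Cfsg.twoCoreOfCentralizer z) (hne : g * z * g⁻¹ ≠ z) :
    π (g * z * g⁻¹) ≠ dec vSix := by
  classical
  intro e6
  have h := J.base
  set Q := Cfsg.twoCoreOfCentralizer z with hQ
  set u := g * z * g⁻¹ with hudef
  have hnp : ¬ IsPGroup 2 ↥(Subgroup.centralizer ({z} : Set G)) := by
    intro hp
    obtain ⟨k, hk⟩ := hp x
    have h2 : orderOf x ∣ 2 ^ k := orderOf_dvd_of_pow_eq_one hk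
    have h3 : orderOf x ∣ 3 := orderOf_dvd_of_pow_eq_one J.h3
    have h1 : orderOf x = 1 := Nat.dvd_one.1 ((Nat.Coprime.pow_left k (by norm_num : Nat.Coprime 2 3)) ▸ Nat.dvd_gcd h2 h3)
    have e := J.hx (dec 1)
    rw [orderOf_eq_one_iff.1 h1, map_one] at e
    exact absurd (congrArg enc e) (by decide +kernel)
  set s := g⁻¹ * z * g with hs
  have hsQ : s ∈ Q := h.symm_mem_of hnp hu hne
  have hs1 : s ≠ 1 := fun e => h.extra.z_ne (conj_eq_one_iff.1 (show g⁻¹ * z * (g⁻¹)⁻¹ = 1 by rw [inv_inv]; exact e))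
  have hsz : s ≠ z := fun e => hne (by
    calc u = g * (g⁻¹ * z * g) * g⁻¹ := by rw [← hs, e]
      _ = z := by group)
  set D := (Q ⊓ Subgroup.centralizer ({s} : Set G)).map (MulAut.conj g).toMonoidHom with hD
  have hDcard : Nat.card D = 4096 := by
    rw [hD, Subgroup.card_map_of_injective (f := (MulAut.conj g).toMonoidHom) (MulAut.conj g).injective,
      h.card_half hsQ hs1 hsz]
  have hmem : ∀ a, a ∈ D ↔ g⁻¹ * a * g ∈ Q ∧ a * z = z * a := by
    intro a
    constructor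
    · rintro ⟨b, ⟨hb, hbs⟩, rfl⟩
      have hbs' := Subgroup.mem_centralizer_singleton_iff.1 hbs
      refine ⟨by show g⁻¹ * (g * b * g⁻¹) * g ∈ Q; simpa [mul_assoc] using hb, ?_⟩
      show g * b * g⁻¹ * z = z * (g * b * g⁻¹)
      calc g * b * g⁻¹ * z = g * (b * s) * g⁻¹ := by rw [hs]; group
        _ = _ := by rw [hbs', hs]; group
    · rintro ⟨hb, hz⟩
      refine ⟨g⁻¹ * a * g, ⟨hb, Subgroup.mem_centralizer_singleton_iff.2 ?_⟩, show g * (g⁻¹ * a * g) * g⁻¹ = a by group⟩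
      rw [hs, show g⁻¹ * a * g * (g⁻¹ * z * g) = g⁻¹ * (a * z) * g by group, hz]; group
  have hDC : ∀ a ∈ D, a ∈ Subgroup.centralizer ({z} : Set G) := fun a ha =>
    Subgroup.mem_centralizer_singleton_iff.2 ((hmem a).1 ha).2
  have h' : Extra (Q.map (MulAut.conj g).toMonoidHom) u := h.extra.map_conj g
  have hDQ' : ∀ a ∈ D, a ∈ Q.map (MulAut.conj g).toMonoidHom := fun a ha =>
    ⟨g⁻¹ * a * g, ((hmem a).1 ha).1, show g * (g⁻¹ * a * g) * g⁻¹ = a by group⟩
  let f : ↥D →* (V6 ≃ₗ[ZMod 2] V6) := ψ.comp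
    { toFun := fun d => ⟨d, hDC d d.2⟩
      map_one' := rfl
      map_mul' := fun _ _ => rfl }
  -- the kernel is small
  set R := f.ker.map D.subtype with hR
  have hRQ : ∀ a ∈ R, a ∈ Q ∧ a ∈ D := by
    rintro _ ⟨d, hd, rfl⟩
    exact ⟨(h.ker ⟨d, hDC d d.2⟩).1 hd, d.2⟩
  have hsq : ∀ a ∈ R, a * a = 1 := fun a ha => by
    obtain ⟨haQ, haD⟩ := hRQ a ha
    rcases h.extra.sq_cases haQ with e | e
    · exact e
    · rcases h'.sq_cases (hDQ' a haD) with e' | e'
      · exact e'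
      · exact absurd (e'.symm.trans e) hne
  have hRcard : Nat.card R ≤ 128 := by
    let φ : Additive ↥R →+ V6 := AddMonoidHom.mk' (fun a => π (a.toMul : ↥R)) fun a b =>
      h.π_mul _ (hRQ _ (a.toMul : ↥R).2).1 _ (hRQ _ (b.toMul : ↥R).2).1
    have hle : Nat.card φ.range ≤ 64 := singular_card_le φ.range fun w ⟨a, e⟩ => by
      rw [← e]
      exact (h.q_iff _ (hRQ _ (a.toMul : ↥R).2).1).2 (hsq _ (a.toMul : ↥R).2)
    have hk : Nat.card φ.ker ≤ 2 := by
      let j : φ.ker → Bool := fun a => decide (((a : Additive ↥R).toMul : ↥R) = (1 : ↥R))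
      refine le_of_le_of_eq (Nat.card_le_card_of_injective j fun a b e => ?_) (by simp)
      have cases2 : ∀ a : φ.ker, (((a : Additive ↥R).toMul : ↥R) : G) = 1 ∨ (((a : Additive ↥R).toMul : ↥R) : G) = z :=
        fun a => (h.π_ker _ (hRQ _ ((a : Additive ↥R).toMul : ↥R).2).1).1 a.2
      have e' := decide_eq_decide.1 e
      refine Subtype.ext (Additive.toMul.injective (Subtype.ext ?_))
      rcases cases2 a with ea | ea <;> rcases cases2 b with eb | eb
      · rw [ea, eb]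
      · exfalso; exact h.extra.z_ne (by rw [← eb, e'.1 (Subtype.ext ea)]; rfl)
      · exfalso; exact h.extra.z_ne (by rw [← ea, e'.2 (Subtype.ext eb)]; rfl)
      · rw [ea, eb]
    have hmul := φ.ker.card_mul_index
    rw [AddSubgroup.index_ker, Nat.card_congr (Additive.toMul (α := ↥R))] at hmul
    rw [← hmul]
    exact le_trans (Nat.mul_le_mul hk hle) (by norm_num)
  have hmul := f.ker.card_mul_index
  rw [Subgroup.index_ker, hDcard] at hmul
  have hk : Nat.card f.ker = Nat.card R := (Subgroup.card_map_of_injective D.subtype_injective).symm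
  rw [hk] at hmul
  have h128 : ∀ d : ↥D, f d ^ 128 = 1 := fun d => by
    rw [← map_pow]
    have hs' : (d : G) ^ 4 = 1 := by
      rw [show (4 : ℕ) = 2 * 2 from rfl, pow_mul, pow_two, pow_two]
      rcases h'.sq_cases (hDQ' d d.2) with e | e <;> rw [e]
      · exact one_mul 1
      · exact h'.z_sq
    have : d ^ 128 = 1 := Subtype.ext (by
      push_cast
      rw [show (128 : ℕ) = 4 * 32 from rfl, pow_mul, hs', one_pow])
    rw [this, map_one]
  have hfix : ∀ d : ↥D, f d (dec vSix) = dec vSix := fun d => by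
    rw [← e6]
    show ψ ⟨(d : G), hDC d d.2⟩ (π u) = π u
    have hcomm : (d : G) * u = u * d := (h'.z_comm (hDQ' d d.2)).symm
    have := h.act ⟨(d : G), hDC d d.2⟩ u hu
    rw [← this]
    show π ((d : G) * u * (d : G)⁻¹) = π u
    rw [hcomm, mul_inv_cancel_right]
  have hQ'n : ∀ c : G, c * u = u * c → ∀ a ∈ Q.map (MulAut.conj g).toMonoidHom, c * a * c⁻¹ ∈ Q.map (MulAut.conj g).toMonoidHom := by
    rintro c hc _ ⟨b, hb, rfl⟩
    refine ⟨(g⁻¹ * c * g) * b * (g⁻¹ * c * g)⁻¹, h.norm _ ?_ b hb, ?_⟩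
    · rw [show g⁻¹ * c * g * z = g⁻¹ * (c * u) * g by rw [hudef]; group, hc, hudef]; group
    · show g * ((g⁻¹ * c * g) * b * (g⁻¹ * c * g)⁻¹) * g⁻¹ = c * (g * b * g⁻¹) * c⁻¹
      group
  have hnorm : ∀ k ∈ ψ.range, k (dec vSix) = dec vSix → ∀ e ∈ f.range, k * e * k⁻¹ ∈ f.range := by
    rintro _ ⟨c, rfl⟩ hc _ ⟨d, rfl⟩
    obtain ⟨c', hψ, hc'⟩ : ∃ c', ψ c' = ψ c ∧ (c' : G) * u = u * (c' : G) := by
      have hm := h.norm c (Subgroup.mem_centralizer_singleton_iff.1 c.2) _ hu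
      rcases (h.π_eq_iff hu hm).1 ((h.act c _ hu).trans (by rw [e6]; exact hc)).symm with e | e
      · exact ⟨c, rfl, mul_inv_eq_iff_eq_mul.1 e⟩
      · have hu1 : u ≠ 1 := fun e => h.extra.z_ne (conj_eq_one_iff.1 e)
        obtain ⟨q, hq, hqe⟩ := h.extra.exists_conj_eq hu hu1 hne
        refine ⟨(⟨q, h.mem_cent hq⟩ : ↥(Subgroup.centralizer ({z} : Set G)))⁻¹ * c, ?_, mul_inv_eq_iff_eq_mul.1 ?_⟩
        · rw [map_mul, map_inv, (h.ker ⟨q, h.mem_cent hq⟩).2 hq, inv_one, one_mul]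
        · show q⁻¹ * c * u * (q⁻¹ * c)⁻¹ = u
          rw [show q⁻¹ * c * u * (q⁻¹ * c)⁻¹ = q⁻¹ * (c * u * (c : G)⁻¹) * q by group, e, ← hqe]
          group
    have hzc : (c' : G) * z = z * c' := Subgroup.mem_centralizer_singleton_iff.1 c'.2
    have hd' : (c' : G) * d * (c' : G)⁻¹ ∈ D := by
      obtain ⟨b, hb, eb⟩ := hQ'n c' hc' _ (hDQ' d d.2)
      refine (hmem _).2 ⟨?_, ?_⟩
      · rw [← eb]; show g⁻¹ * (g * b * g⁻¹) * g ∈ Q; simpa [mul_assoc] using hb
      · have hdz : Commute (d : G) z := ((hmem d).1 d.2).2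
        exact ((Commute.mul_left (hzc : Commute (c' : G) z) hdz).mul_left (Commute.inv_left hzc)).eq
    refine ⟨⟨_, hd'⟩, ?_⟩
    rw [← hψ]
    show ψ ⟨(c' : G) * d * (c' : G)⁻¹, _⟩ = ψ c' * ψ ⟨(d : G), _⟩ * (ψ c')⁻¹
    rw [← map_inv, ← map_mul, ← map_mul]
    rfl
  have hfixW := normal_fix J (quad_inv J) f.range
    (fun e ⟨d, hd⟩ => ⟨hd ▸ ⟨_, rfl⟩, hd ▸ hfix d⟩) hnorm (fun e ⟨d, hd⟩ => hd ▸ h128 d)
  have hsub : Nat.card f.range ≤ 16 := by
    have := finite_equiv
    have hb : ∀ e : ↥f.range, ∃ u : Fin 16, (e : V6 ≃ₗ[ZMod 2] V6) = Bel u.1 := fun e => by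
      obtain ⟨d, hd⟩ := e.2
      obtain ⟨v, hv, ev⟩ := stab_pointwise J (g := (e : V6 ≃ₗ[ZMod 2] V6)) (hd ▸ ⟨_, rfl⟩)
        (hfixW _ e.2) (quad_inv J _ (hd ▸ ⟨_, rfl⟩)) bel_lin_all
      exact ⟨⟨v, hv⟩, ev⟩
    choose w hw using hb
    exact le_of_le_of_eq (Nat.card_le_card_of_injective w fun a b e => Subtype.ext (by rw [hw a, hw b, e]))
      (by simp)
  nlinarith

theorem four_exists {g : G} (hu : g * z * g⁻¹ ∈ Cfsg.twoCoreOfCentralizer z) (hne : g * z * g⁻¹ ≠ z) :
    ∃ d, ψ d (π (g * z * g⁻¹)) = dec (wv wtFour) := by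
  have h := J.base
  set u := g * z * g⁻¹ with hudef
  have hu1 : u ≠ 1 := fun e => h.extra.z_ne (conj_eq_one_iff.1 e)
  have h2 : orderOf u = 2 := by
    rw [hudef, ← h.ord_z]
    exact orderOf_injective (MulAut.conj g).toMonoidHom (MulAut.conj g).injective z
  obtain ⟨hq, hv⟩ := h.π_involution hu h2 hne
  have hcls : ∀ n : ℕ, n < 4096 → qs (dec n) = 0 → n = 0 ∨ oc n = (true, false) ∨ oc n = (false, true) :=
    fun n hn hq => by
      have := List.all_eq_true.1 (by decide +kernel : ((List.range 4096).all fun n =>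
        !(qs (dec n) == 0) || n == 0 || oc n == (true, false) || oc n == (false, true)) = true) n (List.mem_range.2 hn)
      simp only [hq, beq_self_eq_true, Bool.not_true, Bool.false_or, Bool.or_eq_true, beq_iff_eq] at this
      exact or_assoc.1 this
  rcases hcls _ (enc_lt (π u)) (by rw [dec_enc]; exact hq) with e | e | e
  · exact absurd (by rw [← dec_enc (π u), e, dec_zero]) hv
  · exfalso
    obtain ⟨k, ⟨c, rfl⟩, hk⟩ := transitive J (enc_lt (π u)) (wv_lt wtSix) (e.trans oc_facts.1.symm) (by rw [e]; decide)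
    rw [dec_enc] at hk
    obtain ⟨hm, hπ⟩ := h.π_conj c hu
    have hne' : (c : G) * u * (c : G)⁻¹ ≠ z := fun e' => hne (by
      have hz := Subgroup.mem_centralizer_singleton_iff.1 c.2
      calc g * z * g⁻¹ = (c : G)⁻¹ * ((c : G) * u * (c : G)⁻¹) * c := by rw [hudef]; group
        _ = z := by rw [e', mul_assoc, ← hz, inv_mul_cancel_left])
    have e2 : (c : G) * g * z * ((c : G) * g)⁻¹ = (c : G) * u * (c : G)⁻¹ := by rw [hudef]; group
    refine six_ne J (g := (c : G) * g) (e2 ▸ hm) (e2 ▸ hne') ?_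
    rw [e2, hπ]; exact hk
  · obtain ⟨k, ⟨c, rfl⟩, hk⟩ := transitive J (enc_lt (π u)) (wv_lt wtFour) (e.trans oc_facts.2.1.symm) (by rw [e]; decide)
    rw [dec_enc] at hk
    exact ⟨c, hk⟩

end CfsgLib.Sporadic.J4Type
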