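import Cfsg.Agent.Lib.Sporadic.J4Type.SplitLift
import Cfsg.Agent.Lib.Solvable.Gaschutz

/-!
# The normaliser of the subgroup of order `2¹¹` splits

A complement in a Sylow subgroup: the canonical lifts of an invariant complement of the hexacode, extended by lifts of
a subgroup of order sixteen, all of whose involutions lift to involutions.
-/

set_option autoImplicit false
set_option linter.style.haveILetI false
set_option linter.unusedSectionVars false
set_option maxRecDepth 40000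

namespace CfsgLib.Sporadic.J4Type

open Cfsg CfsgLib.SmallGroups.M24Group CfsgLib.Sporadic.LargeFischer CfsgLib.Sporadic.LargeFischer.Hexa CfsgLib.ThreeTransp.Extraspecial

theorem vW_xor (a b : ℕ) : vW (a ^^^ b) = vW a ^^^ vW b := lm_xor _ a b

theorem vW_zero : vW 0 = 0 := lm_zero _

theorem bsc_eq_zero {a b : ℕ} (ha : a < 4096) (hb : b < 4096) (h : bsc a b = false) : bs (dec a) (dec b) = 0 := by
  rw [bs_eq_bv a b ha hb, h]; rfl

theorem vW_iso {a b : ℕ} (ha : a < 64) (hb : b < 64) :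
    bs (dec (vW a)) (dec (vW b)) = 0 ∧ bs (dec (vW b)) (omV (dec (vW a))) = 0 := by
  have h := List.all_eq_true.1 vW_facts a (List.mem_range.2 ha)
  simp only [Bool.and_eq_true, List.all_eq_true, List.mem_range, Bool.not_eq_true'] at h
  obtain ⟨h1, h2⟩ := h.2 b hb
  refine ⟨bsc_eq_zero (vW_lt a) (vW_lt b) h1, ?_⟩
  rw [omV_dec (vW_lt a)]
  exact bsc_eq_zero (vW_lt b) (omc_fin ⟨_, vW_lt a⟩).1 h2

theorem vW_inj : ∀ a b : Fin 64, vW a.1 = vW b.1 → a = b := by decide +kernel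

variable {G : Type*} [Group G] [Finite G] [IsSimpleGroup G] {z : G} {π : G → V6}
  {ψ : ↥(Subgroup.centralizer ({z} : Set G)) →* (V6 ≃ₗ[ZMod 2] V6)}
  {x : ↥(Subgroup.centralizer ({z} : Set G))} (J : JF z π ψ x)
include J

theorem exists_sylGen (t : ℕ) (ht : t < 4) : ∃ g ∈ ψ.range, imgs g = sylGen.getD t [] := by
  obtain ⟨g, hg, hgn⟩ := exists_wLet J (sylGenW.getD t 0)
  refine ⟨g, hg, ?_⟩
  have hlen : (sylGen.getD t []).length = 12 := syl_gen_shape.2 _ (by
    rw [List.getD_eq_getElem _ _ (by rw [syl_gen_shape.1]; exact ht)]; exact List.getElem_mem _)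
  refine List.ext_getElem (by rw [hlen]; simp [imgs]) fun i h1 h2 => ?_
  have hi : i < 12 := by simpa [imgs] using h1
  have hp : 2 ^ i < 4096 := Nat.pow_lt_pow_right (by norm_num : 1 < 2) hi |>.trans_eq (by norm_num)
  rw [← List.getD_eq_getElem _ 0 h1, ← List.getD_eq_getElem _ 0 h2, imgs_getD _ hi, (hgn _ hp).2,
    enc_dec (hgn _ hp).1]
  exact syl_gen_words ⟨t, ht⟩ ⟨i, hi⟩

theorem exists_split_gen (j : Fin 3) : ∃ d : ↥(Subgroup.centralizer ({z} : Set G)), Sem x d ∧ imgs (ψ d) = sgL j.1 := by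
  obtain ⟨hlt, hval⟩ := gen_path j
  have key : ∀ w : List ℕ, (∀ t ∈ w, t < 4) →
      ∃ g ∈ ψ.range, imgs g = w.foldr (fun t acc => cmpF (sylGen.getD t []) acc) idL := by
    intro w
    induction w with
    | nil => exact fun _ => ⟨1, one_mem _, imgs_one⟩
    | cons t w ih =>
      intro hw
      obtain ⟨g, hg, e⟩ := ih fun u hu => hw u (List.mem_cons_of_mem _ hu)
      obtain ⟨h, hh, e'⟩ := exists_sylGen J t (hw t List.mem_cons_self)
      exact ⟨h * g, mul_mem hh hg, by rw [List.foldr_cons, imgs_mul, e, e', cmpF_eq]⟩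
  obtain ⟨g, hg, e⟩ := key _ fun t ht => by simpa using List.all_eq_true.1 hlt t ht
  rw [hval] at e
  obtain ⟨d, hd, ed⟩ := (frame J).exists_sem g hg (by
    rcases gen_sem j with h | h
    · refine Or.inl (ext12 _ _ (fun a b => by rw [Hexa.omV_add, map_add]) (fun a b => by rw [map_add, Hexa.omV_add])
        fun i hi => ?_)
      have hp : 2 ^ i < 4096 := Nat.pow_lt_pow_right (by norm_num : 1 < 2) hi |>.trans_eq (by norm_num)
      rw [omV_dec hp, apply_dec g (omc_fin ⟨_, hp⟩).1, apply_dec g hp,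
        omV_dec (lm_lt (k := 12) _ _ (imgs_lt g)), e]
      exact congrArg dec (h ⟨i, hi⟩)
    · refine Or.inr (ext12 _ _ (fun a b => by rw [Hexa.omV_add, map_add])
        (fun a b => by rw [map_add, Hexa.omV_add, Hexa.omV_add]) fun i hi => ?_)
      have hp : 2 ^ i < 4096 := Nat.pow_lt_pow_right (by norm_num : 1 < 2) hi |>.trans_eq (by norm_num)
      have hl := lm_lt (k := 12) (imgs g) (2 ^ i) (imgs_lt g)
      rw [omV_dec hp, apply_dec g (omc_fin ⟨_, hp⟩).1, apply_dec g hp, omV_dec hl,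
        omV_dec (omc_fin ⟨_, hl⟩).1]
      show dec (lm (imgs g) (omc (2 ^ i))) = dec (omc (omc (lm (imgs g) (2 ^ i))))
      rw [e]
      exact congrArg dec (h ⟨i, hi⟩))
  exact ⟨d, hd, by rw [ed, e]⟩

/-- A complement in a Sylow subgroup. -/
theorem exists_sylow_part {c : Fin 4 → ↥(Subgroup.centralizer ({z} : Set G))} (L : Lifts ψ x c)
    (hN : Normal (frame J) L) (hU : UniqAb G) :
    ∃ U : Subgroup G, U ≤ Subgroup.normalizer ((frame J).asub L : Set G) ∧ U ⊓ (frame J).asub L = ⊥ ∧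
      Nat.card U = 2 ^ 10 := by
  classical
  set F := frame J with hF
  choose d hd hdi using exists_split_gen J
  set a := d 0
  set b := d 1
  set e := d 2
  set r := a * b with hr
  have hri : imgs (ψ r) = srL := by
    rw [hr, map_mul, imgs_mul, hdi 0, hdi 1, ← cmpF_eq]; rfl
  have hsq : ∀ (p : ↥(Subgroup.centralizer ({z} : Set G))) (i : ℕ), Sem x p → i < 6 → imgs (ψ p) = sixL i → p * p = 1 :=
    fun p i hp hi hpi => Subtype.ext (F.sem_sq_one L hN hU hp hi hpi)
  have ha2 : a * a = 1 := hsq a 0 (hd 0) (by norm_num) (hdi 0)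
  have hb2 : b * b = 1 := hsq b 1 (hd 1) (by norm_num) (hdi 1)
  have he2 : e * e = 1 := hsq e 2 (hd 2) (by norm_num) (hdi 2)
  have hr4 : r * r * (r * r) = 1 := hsq _ 3 (((hd 0).mul (hd 1)).mul ((hd 0).mul (hd 1))) (by norm_num) (by
    rw [map_mul, imgs_mul, hri, ← cmpF_eq]; rfl)
  have hae : a * e * (a * e) = 1 := hsq _ 4 ((hd 0).mul (hd 2)) (by norm_num) (by
    rw [map_mul, imgs_mul, hdi 0, hdi 2, ← cmpF_eq]; rfl)
  have hbe : b * e * (b * e) = 1 := hsq _ 5 ((hd 1).mul (hd 2)) (by norm_num) (by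
    rw [map_mul, imgs_mul, hdi 1, hdi 2, ← cmpF_eq]; rfl)
  have comm : ∀ p q : ↥(Subgroup.centralizer ({z} : Set G)), p * p = 1 → q * q = 1 → p * q * (p * q) = 1 → Commute p q :=
    fun p q hp hq hpq => by
      show p * q = q * p
      calc p * q = p * q * (p * q) * (q * q)⁻¹ * (q * p⁻¹) := by group
        _ = q * p := by rw [hpq, hq, inv_eq_of_mul_eq_one_left hp]; group
  have cae : Commute a e := comm a e ha2 he2 hae
  have cbe : Commute b e := comm b e hb2 he2 hbe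
  have cre : Commute r e := cae.mul_left cbe
  let el3 : ℕ × ℕ × ℕ → ↥(Subgroup.centralizer ({z} : Set G)) := fun t => e ^ t.1 * r ^ t.2.1 * a ^ t.2.2
  have hpow : ∀ (p : ↥(Subgroup.centralizer ({z} : Set G))) (l : List ℕ), imgs (ψ p) = l → ∀ n : ℕ, imgs (ψ (p ^ n)) = spow l n := by
    intro p l hl n
    induction n with
    | zero => rw [pow_zero, map_one, imgs_one]; rfl
    | succ n ih => rw [pow_succ, map_mul, imgs_mul, ih, hl, ← cmpF_eq]; rfl
  have himg : ∀ k i j, imgs (ψ (el3 (k, i, j))) = sProd k i j := fun k i j => by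
    show imgs (ψ (e ^ k * r ^ i * a ^ j)) = _
    rw [map_mul, map_mul, imgs_mul, imgs_mul, hpow e _ (hdi 2), hpow r _ hri, hpow a _ (hdi 0), ← cmpF_eq, ← cmpF_eq]
    rfl
  let S : Set ↥(Subgroup.centralizer ({z} : Set G)) := {p | ∃ k i j, k < 2 ∧ i < 4 ∧ j < 2 ∧ p = el3 (k, i, j)}
  have hmod : ∀ (p : ↥(Subgroup.centralizer ({z} : Set G))) (m n : ℕ), p ^ m = 1 → p ^ n = p ^ (n % m) :=
    fun p m n hp => by conv_lhs => rw [← Nat.mod_add_div n m, pow_add, pow_mul, hp, one_pow, mul_one]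
  have hr4' : r ^ 4 = 1 := by rw [show (4 : ℕ) = 2 * 2 from rfl, pow_mul, pow_two, pow_two]; exact hr4
  have hin : ∀ k i j : ℕ, el3 (k, i, j) ∈ S := fun k i j =>
    ⟨k % 2, i % 4, j % 2, Nat.mod_lt _ (by norm_num), Nat.mod_lt _ (by norm_num), Nat.mod_lt _ (by norm_num), by
      show e ^ k * r ^ i * a ^ j = e ^ (k % 2) * r ^ (i % 4) * a ^ (j % 2)
      rw [hmod e 2 k (by rw [pow_two, he2]), hmod r 4 i hr4', hmod a 2 j (by rw [pow_two, ha2])]⟩
  have hai : a⁻¹ = a := inv_eq_of_mul_eq_one_left ha2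
  have hbi : b⁻¹ = b := inv_eq_of_mul_eq_one_left hb2
  have hari : a * r * a⁻¹ = r⁻¹ := by rw [hr, ← mul_assoc, ha2, one_mul, mul_inv_rev, hbi]
  have har : ∀ i : ℕ, a * r ^ i = r ^ (3 * i) * a := fun i => by
    have h1 : a * r ^ i * a⁻¹ = r ^ (3 * i) := by
      rw [← conj_pow, hari, pow_mul]
      congr 1
      exact inv_eq_of_mul_eq_one_left (by rw [← pow_succ]; exact hr4')
    exact mul_inv_eq_iff_eq_mul.1 h1
  have ha_mul : ∀ k i j, a * el3 (k, i, j) = el3 (k, 3 * i, j + 1) := fun k i j => by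
    show a * (e ^ k * r ^ i * a ^ j) = e ^ k * r ^ (3 * i) * a ^ (j + 1)
    rw [← mul_assoc, ← mul_assoc, (cae.pow_right k).eq, mul_assoc (e ^ k), har, pow_succ', ← mul_assoc, ← mul_assoc]
  have hr_mul : ∀ k i j, r * el3 (k, i, j) = el3 (k, i + 1, j) := fun k i j => by
    show r * (e ^ k * r ^ i * a ^ j) = e ^ k * r ^ (i + 1) * a ^ j
    rw [← mul_assoc, ← mul_assoc, (cre.pow_right k).eq, mul_assoc (e ^ k), ← pow_succ']
  let Mo : Submonoid ↥(Subgroup.centralizer ({z} : Set G)) :=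
    { carrier := {p | ∀ q ∈ S, p * q ∈ S}
      one_mem' := fun q hq => by rwa [one_mul]
      mul_mem' := fun {p q} hp hq s hs => by rw [mul_assoc]; exact hp _ (hq s hs) }
  set D := Subgroup.closure ({a, b, e} : Set ↥(Subgroup.centralizer ({z} : Set G))) with hD
  have hDS : ∀ p ∈ D, p ∈ S := by
    intro p hp
    have h0 : (D : Set ↥(Subgroup.centralizer ({z} : Set G))) ⊆ Mo := by
      rw [hD, ← Subgroup.coe_toSubmonoid, Subgroup.closure_toSubmonoid_of_finite]
      refine Submonoid.closure_le.2 ?_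
      rintro g (rfl | rfl | rfl) q ⟨k, i, j, -, -, -, rfl⟩
      · rw [ha_mul]; exact hin _ _ _
      · rw [show b = a * r by rw [hr, ← mul_assoc, ha2, one_mul], mul_assoc, hr_mul, ha_mul]; exact hin _ _ _
      · show e * (e ^ k * r ^ i * a ^ j) ∈ S
        rw [← mul_assoc, ← mul_assoc, ← pow_succ']; exact hin (k + 1) i j
    have h := (h0 hp : p ∈ Mo) 1 (by simpa [el3] using hin 0 0 0)
    rwa [mul_one] at h
  have hel3D : ∀ t, el3 t ∈ D := fun t => by
    have ga : a ∈ D := Subgroup.subset_closure (Or.inl rfl)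
    have gb : b ∈ D := Subgroup.subset_closure (Or.inr (Or.inl rfl))
    have ge : e ∈ D := Subgroup.subset_closure (Or.inr (Or.inr rfl))
    exact mul_mem (mul_mem (pow_mem ge _) (pow_mem (mul_mem ga gb) _)) (pow_mem ga _)
  -- only the identity lies over the products of pairs
  have hfree : ∀ p ∈ D, ∀ u, u < 16 → ψ p = Bel u → p = 1 := by
    intro p hp u hu hu'
    obtain ⟨k, i, j, hk, hi, hj, rfl⟩ := hDS p hp
    have h := List.all_eq_true.1 (List.all_eq_true.1 (List.all_eq_true.1 sprod_free k (List.mem_range.2 hk)) i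
      (List.mem_range.2 hi)) j (List.mem_range.2 hj)
    simp only [Bool.or_eq_true, Bool.and_eq_true, beq_iff_eq, List.all_eq_true, List.mem_range, Bool.not_eq_true',
      beq_eq_false_iff_ne] at h
    rcases h with ⟨⟨rfl, rfl⟩, rfl⟩ | h
    · simp [el3]
    · exact absurd (by rw [← himg, hu', imgs_Bel hu]) (h u hu)
  -- the canonical lifts
  let cv : ℕ → G := fun k => F.lf.can F.hx (dec (vW k))
  have cv_mul : ∀ {k l}, k < 64 → l < 64 → cv k * cv l = cv (k ^^^ l) := fun {k l} hk hl => by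
    show F.lf.can F.hx _ * F.lf.can F.hx _ = F.lf.can F.hx _
    rw [F.lf.can_mul F.hx (vW_iso hk hl).1, (vW_iso hk hl).2, zp_zero, mul_one, vW_xor, dec_xor]
  have cv_zero : cv 0 = 1 := by
    show F.lf.can F.hx _ = 1
    rw [vW_zero, dec_zero, F.lf.can_zero F.hx]
  let W : Subgroup G :=
    { carrier := {g | ∃ k < 64, g = cv k}
      one_mem' := ⟨0, by norm_num, cv_zero.symm⟩
      mul_mem' := by
        rintro _ _ ⟨k, hk, rfl⟩ ⟨l, hl, rfl⟩
        exact ⟨k ^^^ l, Nat.xor_lt_two_pow (n := 6) hk hl, cv_mul hk hl⟩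
      inv_mem' := by
        rintro _ ⟨k, hk, rfl⟩
        exact ⟨k, hk, inv_eq_of_mul_eq_one_left (by rw [cv_mul hk hk, Nat.xor_self, cv_zero])⟩ }
  have hDW : ∀ p ∈ D, ∀ w ∈ W, (p : G) * w * (p : G)⁻¹ ∈ W := by
    have hgen : ∀ j : Fin 3, ∀ w ∈ W, (d j : G) * w * (d j : G)⁻¹ ∈ W := by
      rintro j _ ⟨k, hk, rfl⟩
      have h := List.all_eq_true.1 (vW_stab j) k (List.mem_range.2 hk)
      simp only [List.any_eq_true, List.mem_range, beq_iff_eq] at h
      obtain ⟨l, hl, el⟩ := h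
      refine ⟨l, hl, ?_⟩
      show (d j : G) * F.lf.can F.hx _ * (d j : G)⁻¹ = F.lf.can F.hx _
      rw [F.can_sem (hd j) (vW_iso hk hk).2, apply_dec _ (vW_lt k), hdi j, el]
    let St : Submonoid ↥(Subgroup.centralizer ({z} : Set G)) :=
      { carrier := {p | ∀ w ∈ W, (p : G) * w * (p : G)⁻¹ ∈ W}
        one_mem' := fun w hw => by simpa using hw
        mul_mem' := fun {p q} hp hq w hw => by
          rw [Subgroup.coe_mul, show (p : G) * q * w * ((p : G) * q)⁻¹ = p * ((q : G) * w * (q : G)⁻¹) * (p : G)⁻¹ by group]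
          exact hp _ (hq w hw) }
    intro p hp
    have h0 : (D : Set ↥(Subgroup.centralizer ({z} : Set G))) ⊆ St := by
      rw [hD, ← Subgroup.coe_toSubmonoid, Subgroup.closure_toSubmonoid_of_finite]
      refine Submonoid.closure_le.2 ?_
      rintro g (rfl | rfl | rfl)
      · exact hgen 0
      · exact hgen 1
      · exact hgen 2
    exact h0 hp
  let U : Subgroup G :=
    { carrier := {g | ∃ w ∈ W, ∃ p ∈ D, g = w * (p : G)}
      one_mem' := ⟨1, one_mem _, 1, one_mem _, by simp⟩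
      mul_mem' := by
        rintro _ _ ⟨w, hw, p, hp, rfl⟩ ⟨w', hw', p', hp', rfl⟩
        exact ⟨w * ((p : G) * w' * (p : G)⁻¹), mul_mem hw (hDW p hp w' hw'), p * p', mul_mem hp hp', by push_cast; group⟩
      inv_mem' := by
        rintro _ ⟨w, hw, p, hp, rfl⟩
        exact ⟨((p⁻¹ : ↥(Subgroup.centralizer ({z} : Set G))) : G) * w⁻¹ * ((p⁻¹ : ↥(Subgroup.centralizer ({z} : Set G))) : G)⁻¹,
          hDW _ (inv_mem hp) _ (inv_mem hw), p⁻¹, inv_mem hp, by push_cast; group⟩ }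
  have hcvQ : ∀ k, cv k ∈ qImg (Cfsg.pCore 2 ↥(Subgroup.centralizer ({z} : Set G))) := fun k => F.lf.can_mem F.hx _
  have hcvψ : ∀ k, ψ ⟨cv k, F.lf.mem_cent (hcvQ k)⟩ = 1 := fun k => (F.lf.ker _).2 (hcvQ k)
  refine ⟨U, ?_, ?_, ?_⟩
  · rintro _ ⟨_, ⟨k, hk, rfl⟩, p, hp, rfl⟩
    refine mul_mem (F.can_mem_normalizer L _) ?_
    suffices h : D ≤ (Subgroup.normalizer (F.asub L : Set G)).comap
        (Subgroup.centralizer ({z} : Set G)).subtype from h hp
    rw [hD, Subgroup.closure_le]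
    have hg : ∀ j, (d j : G) ∈ Subgroup.normalizer (F.asub L : Set G) := fun j =>
      F.mem_normalizer L fun k hk' => by
        show wMask.testBit (enc _) = true
        rw [apply_dec _ (wv_lt k), hdi j, enc_dec (lm_lt (k := 12) _ _ (hdi j ▸ imgs_lt _))]
        exact gen_stab j ⟨k, hk'⟩
    rintro g (rfl | rfl | rfl) <;> exact hg _
  · refine (Subgroup.eq_bot_iff_forall _).2 fun g hg => ?_
    obtain ⟨⟨_, ⟨k, hk, rfl⟩, p, hp, rfl⟩, n, hn, en⟩ := hg
    let gc : ↥(Subgroup.centralizer ({z} : Set G)) := ⟨F.el L n, Subgroup.mem_centralizer_singleton_iff.2 (F.el_cent L n)⟩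
    have hq : zp z (ce n) * F.rho (ck n) ∈ Cfsg.twoCoreOfCentralizer z := mul_mem (F.lf.zp_mem _) (F.rho_mem _)
    have hψ : ψ gc = Bel (cu n) := by
      rw [show gc = cpr c (cu n) * ⟨_, J.base.mem_cent hq⟩ from Subtype.ext (mul_assoc _ _ _), map_mul, L.cpr_img,
        (J.base.ker _).2 hq, mul_one]
    have hp1 : p = 1 := hfree p hp (cu n) (cu_lt n) (by
      rw [← hψ, show gc = ⟨cv k, F.lf.mem_cent (hcvQ k)⟩ * p from Subtype.ext en.symm, map_mul, hcvψ, one_mul])
    subst hp1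
    rw [Subgroup.coe_one, mul_one] at en ⊢
    have hu : cu n = 0 := by
      have h1 : ψ gc = 1 := by rw [show gc = ⟨cv k, F.lf.mem_cent (hcvQ k)⟩ from Subtype.ext en.symm, hcvψ]
      exact Bel_inj (cu_lt n) (by norm_num) (by rw [← hψ, h1, Bel_zero])
    have et : F.el L n = zp z (ce n) * F.rho (ck n) := by
      have hc0 : ((cpr c 0 : ↥(Subgroup.centralizer ({z} : Set G))) : G) = 1 := by simp [cpr]
      simp [Frame.el, hu, hc0]
    have hπ : dec (vW k) = dec (wv (ck n)) := by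
      have h := congrArg π en
      rw [et, F.lf.π_mul _ (F.lf.zp_mem _) _ (F.rho_mem _), F.lf.π_zp, zero_add, F.π_rho] at h
      rw [← h]
      exact (F.lf.π_can F.hx _).symm
    have h := List.all_eq_true.1 vW_facts k (List.mem_range.2 hk)
    simp only [Bool.and_eq_true, Bool.or_eq_true, Bool.not_eq_true', beq_iff_eq] at h
    have hW : wMask.testBit (vW k) = true := by
      have h' := congrArg enc hπ
      rw [enc_dec (vW_lt k), enc_dec (wv_lt _)] at h'
      rw [h']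
      exact wMask_sup ⟨_, ck_lt hn⟩
    show F.lf.can F.hx _ = 1
    rw [h.1.resolve_left (by rw [hW]; simp), dec_zero, F.lf.can_zero F.hx]
  · let f : Fin 64 × Fin 16 → ↥U := fun t => ⟨cv t.1 * (el3 (sIdx t.2.1) : G), cv t.1, ⟨t.1, t.1.2, rfl⟩, _, hel3D _, rfl⟩
    rw [← Nat.card_eq_of_bijective f ⟨?_, ?_⟩]
    · simp
    · rintro ⟨k, t⟩ ⟨k', t'⟩ heq
      have e1 : cv k * (el3 (sIdx t.1) : G) = cv k' * (el3 (sIdx t'.1) : G) := congrArg Subtype.val heq
      have hψ : ψ (el3 (sIdx t.1)) = ψ (el3 (sIdx t'.1)) := by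
        have e2 : (⟨cv k, F.lf.mem_cent (hcvQ _)⟩ : ↥(Subgroup.centralizer ({z} : Set G))) * el3 (sIdx t.1) =
            ⟨cv k', F.lf.mem_cent (hcvQ _)⟩ * el3 (sIdx t'.1) := Subtype.ext e1
        have := congrArg ψ e2
        rwa [map_mul ψ ⟨cv k, F.lf.mem_cent (hcvQ _)⟩, map_mul ψ ⟨cv k', F.lf.mem_cent (hcvQ _)⟩, hcvψ, hcvψ, one_mul,
          one_mul] at this
      have ht : t = t' := sprod_inj t t' (by
        have := congrArg imgs hψ
        rwa [himg, himg] at this)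
      subst ht
      have hk := mul_right_cancel e1
      have h' := congrArg π hk
      simp only [cv, F.lf.π_can F.hx] at h'
      exact Prod.ext (vW_inj k k' (by rw [← enc_dec (vW_lt k), h', enc_dec (vW_lt k')])) rfl
    · rintro ⟨_, _, ⟨k, hk, rfl⟩, p, hp, rfl⟩
      obtain ⟨i₁, i₂, i₃, h1, h2, h3, rfl⟩ := hDS p hp
      refine ⟨(⟨k, hk⟩, ⟨8 * i₁ + 4 * i₃ + i₂, by omega⟩), Subtype.ext ?_⟩
      show cv k * (el3 (sIdx _) : G) = _
      rw [show sIdx (8 * i₁ + 4 * i₃ + i₂) = (i₁, i₂, i₃) by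
        simp only [sIdx, Prod.mk.injEq]; refine ⟨?_, ?_, ?_⟩ <;> omega]

/-- The normaliser splits. -/
theorem split_asub {c : Fin 4 → ↥(Subgroup.centralizer ({z} : Set G))} (L : Lifts ψ x c)
    (hN : Normal (frame J) L) (hU : UniqAb G) :
    ∃ K : Subgroup G, K ≤ Subgroup.normalizer ((frame J).asub L : Set G) ∧ K ⊓ (frame J).asub L = ⊥ ∧
      K ⊔ (frame J).asub L = Subgroup.normalizer ((frame J).asub L : Set G) ∧ Cfsg.Spor.IsoM24 ↥K := by
  set F := frame J
  set A := F.asub L with hA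
  set M := Subgroup.normalizer (A : Set G) with hM
  have hAM : A ≤ M := Subgroup.le_normalizer
  obtain ⟨θ, h⟩ : ∃ θ : ↥M →* ↥Cfsg.M24, ToddData z A θ := F.todd_of_normal hN hU
  obtain ⟨U, hUM, hUA, hUc⟩ := exists_sylow_part J L hN hU
  set A' := A.subgroupOf M with hA'
  set U' := U.subgroupOf M
  haveI : A'.Normal := by rw [hA', ← h.ker]; infer_instance
  haveI : IsMulCommutative A' := ⟨⟨fun p q => Subtype.ext (Subtype.ext (F.asub_comm L p.2 q.2))⟩⟩
  have hbot : U' ⊓ A' = ⊥ := by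
    refine (Subgroup.eq_bot_iff_forall _).2 fun m hm => Subtype.ext ?_
    have : (m : G) ∈ U ⊓ A := hm
    rwa [hUA, Subgroup.mem_bot] at this
  have hA'c : Nat.card A' = 2 ^ 11 := by
    rw [hA', Nat.card_congr (Subgroup.subgroupOfEquivOfLe hAM).toEquiv, h.card]
  have hcop : (Nat.card A').Coprime (A' ⊔ U').index := by
    have hmap : Nat.card (U'.map θ) = 2 ^ 10 := by
      rw [← hUc, ← Nat.card_congr (Subgroup.subgroupOfEquivOfLe hUM).toEquiv]
      refine (Nat.card_eq_of_bijective (θ.subgroupMap U') ⟨?_, MonoidHom.subgroupMap_surjective _ _⟩).symm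
      refine (injective_iff_map_eq_one _).2 fun m hm => Subtype.ext ?_
      have h1 : (m : ↥M) ∈ A' := by rw [hA', ← h.ker]; exact congrArg Subtype.val hm
      have : (m : ↥M) ∈ U' ⊓ A' := ⟨m.2, h1⟩
      rwa [hbot, Subgroup.mem_bot] at this
    have e1 := Subgroup.index_map U' θ
    rw [MonoidHom.range_eq_top.2 h.surj, Subgroup.index_top, mul_one, h.ker, ← hA', sup_comm] at e1
    have e2 := (U'.map θ).card_mul_index
    rw [hmap, card_M24, e1] at e2
    rw [hA'c, show (A' ⊔ U').index = 239085 by omega]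
    norm_num
  obtain ⟨H, hH⟩ := CfsgLib.Solvable.Gaschutz.exists_complement A' (A' ⊔ U') le_sup_left hcop U' hbot rfl
  refine ⟨H.map M.subtype, Subgroup.map_subtype_le _, ?_, ?_, ?_⟩
  · refine (Subgroup.eq_bot_iff_forall _).2 fun g hg => ?_
    obtain ⟨⟨m, hm, rfl⟩, hgA⟩ := hg
    have : m ∈ A' ⊓ H := ⟨hgA, hm⟩
    rw [hH.disjoint.eq_bot, Subgroup.mem_bot] at this
    rw [this]; rfl
  · rw [show A = A'.map M.subtype by rw [hA', Subgroup.subgroupOf_map_subtype, inf_eq_left.2 hAM], ← Subgroup.map_sup,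
      sup_comm, hH.sup_eq_top, ← MonoidHom.range_eq_map, Subgroup.range_subtype]
  · refine ⟨(Subgroup.equivMapOfInjective H M.subtype M.subtype_injective).symm.trans
      (MulEquiv.ofBijective (θ.comp H.subtype) ⟨?_, fun s => ?_⟩)⟩
    · refine (injective_iff_map_eq_one _).2 fun m hm => Subtype.ext ?_
      have h1 : (m : ↥M) ∈ A' := by rw [hA', ← h.ker]; exact hm
      have : (m : ↥M) ∈ A' ⊓ H := ⟨h1, m.2⟩
      rwa [hH.disjoint.eq_bot, Subgroup.mem_bot] at this
    · obtain ⟨m, rfl⟩ := h.surj s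
      obtain ⟨⟨p, q⟩, hpq⟩ := hH.2 m
      refine ⟨q, ?_⟩
      have hp : θ (p : ↥M) = 1 := by rw [← MonoidHom.mem_ker, h.ker, ← hA']; exact p.2
      show θ (q : ↥M) = θ m
      rw [← hpq, map_mul, hp, one_mul]

omit J in
/-- Every elementary abelian subgroup of order `2¹¹` is self-centralising with split normaliser. -/
theorem exists_split (z : G) (hJ : Cfsg.IsOfJankoFourTypeAt z) {V : Subgroup G}
    (hV : Cfsg.IsElementaryAbelian 2 V) (hc : Nat.card V = 2 ^ 11) :
    Subgroup.centralizer (V : Set G) ≤ V ∧ ∃ K : Subgroup G, K ≤ Subgroup.normalizer (V : Set G) ∧ K ⊓ V = ⊥ ∧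
      K ⊔ V = Subgroup.normalizer (V : Set G) ∧ Cfsg.Spor.IsoM24 ↥K := by
  obtain ⟨π, ψ, x, J⟩ := exists_jf hJ
  have hU : UniqAb G := uniqAb (Q := Cfsg.pCore 2 ↥(Subgroup.centralizer ({z} : Set G))) J.base (maxAb J)
  obtain ⟨c, L, hN⟩ := (frame J).exists_normal hU
  obtain ⟨K, hKM, hKA, hKsup, ⟨eK⟩⟩ := split_asub J L hN hU
  set A := (frame J).asub L
  obtain ⟨T, hVT, hVth⟩ := eq_thompson hU hV hc
  obtain ⟨g, hg⟩ := thompson_eq hU ((frame J).isElementaryAbelian_asub L) ((frame J).card_asub L) T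
  rw [← hVth] at hg
  set f := (MulAut.conj g).toMonoidHom with hf
  have hinj : Function.Injective f := (MulAut.conj g).injective
  have hnorm : Subgroup.normalizer (V : Set G) = (Subgroup.normalizer (A : Set G)).map f := by
    rw [hg]
    exact (Subgroup.map_normalizer_eq_of_bijective A (f := f) (MulAut.conj g).bijective).symm
  refine ⟨fun y hy => ?_, K.map f, ?_, ?_, ?_, ⟨(Subgroup.equivMapOfInjective K f hinj).symm.trans eK⟩⟩
  · rw [hg]
    refine ⟨g⁻¹ * y * g, (frame J).centralizer_asub L (Subgroup.mem_centralizer_iff.2 fun a ha => ?_), by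
      show g * (g⁻¹ * y * g) * g⁻¹ = y; group⟩
    have h1 := Subgroup.mem_centralizer_iff.1 hy (f a) (hg ▸ ⟨a, ha, rfl⟩)
    have h2 : g * a * g⁻¹ * y = y * (g * a * g⁻¹) := h1
    calc a * (g⁻¹ * y * g) = g⁻¹ * (g * a * g⁻¹ * y) * g := by group
      _ = g⁻¹ * y * g * a := by rw [h2]; group
  · rw [hnorm]; exact Subgroup.map_mono hKM
  · rw [hg, ← Subgroup.map_inf _ _ _ hinj, hKA, Subgroup.map_bot]
  · rw [hnorm, hg, ← Subgroup.map_sup, hKsup]

end CfsgLib.Sporadic.J4Type
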