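import Mathlib

/-!
# Data: a subgroup of order 16 and an invariant complement of the hexacode

Generators with paths in the Sylow subgroup, and, for six involutions, the action on the elements of the subgroup of
order `2¹¹`.
-/

set_option autoImplicit false
set_option maxRecDepth 40000

namespace CfsgLib.Sporadic.J4Type

/-- The images of the three generators. -/
def splitGen : List (List ℕ) := [[3600, 2352, 2160, 1248, 3725, 2379, 1060, 3100, 1058, 3089, 379, 998], [449, 578, 580, 904, 912, 480, 3190, 1179, 2349, 3638, 1920, 2496], [480, 912, 1920, 3648, 578, 449, 1819, 3638, 2285, 1179, 580, 460]]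

/-- Their paths. -/
def splitPath : List (List ℕ) := [[0, 0, 0, 2], [0, 0, 1, 2], [0, 0, 0, 3]]

/-- The action of the six involutions on the products of pairs. -/
def splitU : List (List ℕ) := [[0, 6, 2, 4, 3, 5, 1, 7, 13, 11, 15, 9, 14, 8, 12, 10], [0, 2, 1, 3, 4, 6, 5, 7, 15, 13, 14, 12, 11, 9, 10, 8], [0, 6, 5, 3, 4, 2, 1, 7, 11, 13, 14, 8, 15, 9, 10, 12], [0, 6, 5, 3, 4, 2, 1, 7, 12, 10, 9, 15, 8, 14, 13, 11], [0, 1, 5, 4, 3, 2, 6, 7, 9, 8, 12, 13, 10, 11, 15, 14], [0, 5, 6, 3, 4, 1, 2, 7, 12, 9, 10, 15, 8, 13, 14, 11]]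

/-- The action of the six involutions on the hexacode. -/
def splitK : List (List ℕ) := [[33, 19, 24, 52, 48, 32], [44, 52, 4, 8, 11, 13], [1, 3, 8, 4, 48, 32], [44, 52, 50, 19, 16, 32], [33, 50, 52, 24, 16, 32], [44, 24, 8, 4, 6, 13]]

/-- The central changes. -/
def splitE : List (List ℕ) := [[0, 0, 0, 0, 0, 0, 0, 0, 1, 1, 1, 1, 1, 1, 1, 1], [0, 0, 0, 0, 0, 0, 0, 0, 1, 1, 1, 1, 1, 1, 1, 1], [0, 0, 0, 0, 0, 0, 0, 0, 1, 1, 1, 1, 1, 1, 1, 1], [0, 0, 0, 0, 0, 0, 0, 0, 0, 0, 0, 0, 0, 0, 0, 0], [0, 0, 0, 0, 0, 0, 0, 0, 0, 0, 0, 0, 0, 0, 0, 0], [0, 0, 0, 0, 0, 0, 0, 0, 0, 0, 0, 0, 0, 0, 0, 0]]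

/-- A basis of the complement of the hexacode. -/
def splitW : List ℕ := [5, 10, 448, 576, 1056, 2096]

end CfsgLib.Sporadic.J4Type
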