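import Cfsg.Agent.Lib.Sporadic.J4Type.SylowCheck
import Cfsg.Agent.Lib.Sporadic.J4Type.SplitData
import Cfsg.Agent.Lib.Sporadic.LargeFischer.Hexa.ToddModel

/-!
# Checks on the data of the split extension
-/

set_option autoImplicit false
set_option linter.unusedSectionVars false
set_option maxRecDepth 40000

namespace CfsgLib.Sporadic.J4Type

open CfsgLib.Sporadic.LargeFischer CfsgLib.Sporadic.LargeFischer.Hexa

/-- The images of a generator. -/
def sgL (j : ℕ) : List ℕ := splitGen.getD j []

/-- The images of the product of the first two generators. -/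
def srL : List ℕ := cmpF (sgL 0) (sgL 1)

/-- The six involutions. -/
def sixL (i : ℕ) : List ℕ :=
  [sgL 0, sgL 1, sgL 2, cmpF srL srL, cmpF (sgL 0) (sgL 2), cmpF (sgL 1) (sgL 2)].getD i []

/-- Powers. -/
def spow (L : List ℕ) : ℕ → List ℕ
  | 0 => idL
  | n + 1 => cmpF (spow L n) L

/-- The images of an element of the subgroup of order sixteen. -/
def sProd (k i j : ℕ) : List ℕ := cmpF (cmpF (spow (sgL 2) k) (spow srL i)) (spow (sgL 0) j)

/-- The action on the hexacode. -/
def kS (i k : ℕ) : ℕ := lm (splitK.getD i []) k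

/-- The action on the products of pairs. -/
def uS (i u : ℕ) : ℕ := (splitU.getD i []).getD u 0

/-- The central change. -/
def eS (i u : ℕ) : Bool := (splitE.getD i []).getD u 0 == 1

/-- The action on the codes. -/
def fcS (i n : ℕ) : ℕ := mkc (uS i (n % 16)) (n.testBit 4 ^^ eS i (n % 16)) (kS i (n / 32))

/-- The check of an involution. -/
def invOK (i : ℕ) : Bool :=
  cmpF (sixL i) (sixL i) == idL &&
  ((List.range 64).all fun k => decide (kS i k < 64) && lm (sixL i) (wv k) == wv (kS i k)) &&
  ((List.range 16).all fun u => decide (uS i u < 16) && cmpF (sixL i) (bL u) == cmpF (bL (uS i u)) (sixL i) &&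
    (u == 0 || (!(uS i u == 0) && (eS i u == (inDm (mkc u false 0) ^^ inDm (mkc (uS i u) false 0))) &&
      !(inDm (mkc (uS i u) false 0) == inDm (mkc (uS i u) true 0))))) &&
  uS i 0 == 0 && !eS i 0

theorem six_ok : (List.range 6).all invOK = true := by decide +kernel

theorem six_free : (List.range 6).all (fun i => (List.range 2048).all fun n => !(fcS i n == n ^^^ 16)) = true := by
  decide +kernel

theorem gen_sem : ∀ j : Fin 3, (∀ t : Fin 12, lm (sgL j.1) (omc (2 ^ t.1)) = omc (lm (sgL j.1) (2 ^ t.1))) ∨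
    ∀ t : Fin 12, lm (sgL j.1) (omc (2 ^ t.1)) = omc (omc (lm (sgL j.1) (2 ^ t.1))) := by decide +kernel

theorem gen_path : ∀ j : Fin 3, (splitPath.getD j.1 []).all (fun t => decide (t < 4)) = true ∧
    (splitPath.getD j.1 []).foldr (fun t acc => cmpF (sylGen.getD t []) acc) idL = sgL j.1 := by decide +kernel

theorem sprod_free : ((List.range 2).all fun k => (List.range 4).all fun i => (List.range 2).all fun j =>
    (k == 0 && i == 0 && j == 0) || (List.range 16).all fun u => !(sProd k i j == bL u)) = true := by decide +kernel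

/-- The complement of the hexacode. -/
def vW (k : ℕ) : ℕ := lm splitW k

theorem vW_lt (k : ℕ) : vW k < 4096 := lm_lt (k := 12) splitW k (by decide +kernel)

theorem vW_facts : (List.range 64).all (fun k => (!(wMask.testBit (vW k)) || vW k == 0) &&
    (List.range 64).all fun l => !bsc (vW k) (vW l) && !bsc (vW l) (omc (vW k))) = true := by decide +kernel

theorem vW_stab : ∀ j : Fin 3, (List.range 64).all (fun k => (List.range 64).any fun l =>
    vW l == lm (sgL j.1) (vW k)) = true := by decide +kernel

theorem bL_length {u : ℕ} (hu : u < 16) : (bL u).length = 12 := by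
  have h := List.all_eq_true.1 bu_ok u (List.mem_range.2 hu)
  simp only [Bool.and_eq_true, beq_iff_eq] at h
  exact h.1.2

theorem imgs_Bel {u : ℕ} (hu : u < 16) : imgs (Bel u) = bL u := by
  refine List.ext_getElem (by rw [bL_length hu]; simp [imgs]) fun t h1 h2 => ?_
  have ht : t < 12 := by simpa [imgs] using h1
  have hp : 2 ^ t < 4096 := Nat.pow_lt_pow_right (by norm_num : 1 < 2) ht |>.trans_eq (by norm_num)
  rw [← List.getD_eq_getElem _ 0 h1, ← List.getD_eq_getElem _ 0 h2, imgs_getD _ ht, Bel_dec hu hp,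
    enc_dec (lm_lt (k := 12) _ _ (bL_lt hu)), lm_bit]

end CfsgLib.Sporadic.J4Type

namespace CfsgLib.Sporadic.J4Type

open CfsgLib.Sporadic.LargeFischer CfsgLib.Sporadic.LargeFischer.Hexa

/-- The indices of the elements of the subgroup of order sixteen. -/
def sIdx (t : ℕ) : ℕ × ℕ × ℕ := (t / 8, t % 4, t / 4 % 2)

theorem sprod_inj : ∀ s t : Fin 16,
    sProd (sIdx s.1).1 (sIdx s.1).2.1 (sIdx s.1).2.2 = sProd (sIdx t.1).1 (sIdx t.1).2.1 (sIdx t.1).2.2 → s = t := by
  decide +kernel

theorem gen_stab : ∀ j : Fin 3, ∀ k : Fin 64, wMask.testBit (lm (sgL j.1) (wv k.1)) = true := by decide +kernel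

end CfsgLib.Sporadic.J4Type
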