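import Cfsg.Agent.Lib.Sporadic.J4Type.InvClasses
import Cfsg.Agent.Lib.Sporadic.J4Type.SplitCheck
import Cfsg.Agent.Lib.Sporadic.LargeFischer.Centralizer

/-!
# Lifts normalising the group of order three and the squares of the lifts of involutions
-/

set_option autoImplicit false
set_option linter.style.haveILetI false
set_option linter.unusedSectionVars false
set_option maxRecDepth 40000

namespace CfsgLib.Sporadic.LargeFischer.Hexa

open Cfsg CfsgLib.Sporadic.LargeFischer CfsgLib.SmallGroups.M24Group CfsgLib.SmallGroups.Golay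
open CfsgLib.ThreeTransp.Extraspecial CfsgLib.Sporadic.M24Orbits CfsgLib.ThreeTransp.M24Classes
open CfsgLib.ThreeTransp.ClassData CfsgLib.Sporadic.J4Type

/-- Normalising `⟨x⟩`. -/
def Sem {H : Type*} [Group H] (x d : H) : Prop := d * x * d⁻¹ = x ∨ d * x * d⁻¹ = x⁻¹

theorem Sem.mul {H : Type*} [Group H] {x d d' : H} (h : Sem x d) (h' : Sem x d') : Sem x (d * d') := by
  have e : d * d' * x * (d * d')⁻¹ = d * (d' * x * d'⁻¹) * d⁻¹ := by group
  rcases h' with h' | h'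
  · rw [Sem, e, h']; exact h
  · have e2 : d * x⁻¹ * d⁻¹ = (d * x * d⁻¹)⁻¹ := by group
    rw [Sem, e, h', e2]
    rcases h with h | h <;> rw [h]
    · exact Or.inr rfl
    · exact Or.inl (inv_inv x)

theorem Sem.sq_commute {H : Type*} [Group H] {x d : H} (h : Sem x d) : Commute (d * d) x := by
  have key : d * d * x * (d * d)⁻¹ = x := by
    rw [show d * d * x * (d * d)⁻¹ = d * (d * x * d⁻¹) * d⁻¹ by group]
    rcases h with h | h <;> rw [h]
    · exact h
    · rw [show d * x⁻¹ * d⁻¹ = (d * x * d⁻¹)⁻¹ by group, h, inv_inv]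
  exact mul_inv_eq_iff_eq_mul.1 key

/-- A conjugate under such an element of an element commuting with `x` commutes with `x`. -/
theorem Sem.conj_commute {H : Type*} [Group H] {x d a : H} (h : Sem x d) (ha : Commute a x) :
    Commute (d * a * d⁻¹) x := by
  have h0 : Commute (d * a * d⁻¹) (d * x * d⁻¹) := ha.map (MulAut.conj d)
  rcases h with h | h <;> rw [h] at h0
  · exact h0
  · exact Commute.inv_right_iff.1 h0

namespace Frame

variable {G : Type*} [Group G] [Finite G] {z : G} {Q : Subgroup (Subgroup.centralizer ({z} : Set G))} [Q.Normal]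
  {π : G → V6} {ψ : ↥(Subgroup.centralizer ({z} : Set G)) →* (V6 ≃ₗ[ZMod 2] V6)}
  {x : ↥(Subgroup.centralizer ({z} : Set G))} (F : Frame z Q π ψ x)
include F

/-- Two lifts of order three of the scalar are conjugate under `E`. -/
theorem exists_conj_x {y : ↥(Subgroup.centralizer ({z} : Set G))} (hψy : ψ y = ψ x) (hy3 : y ^ 3 = 1) :
    ∃ qc : ↥(Subgroup.centralizer ({z} : Set G)), ψ qc = 1 ∧ qc * x * qc⁻¹ = y := by
  have h := F.lf
  have hx := F.hx
  have h3 := F.h3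
  have hq₀ : ((x⁻¹ * y : ↥(Subgroup.centralizer ({z} : Set G))) : G) ∈ qImg Q :=
    (h.ker _).1 (by rw [map_mul, map_inv, hψy, inv_mul_cancel])
  obtain ⟨q, hq, hπq⟩ := h.π_surj (omV (omV (π ((x⁻¹ * y : ↥(Subgroup.centralizer ({z} : Set G))) : G))))
  set qc : ↥(Subgroup.centralizer ({z} : Set G)) := ⟨q, h.mem_cent hq⟩ with hqc
  have hψq : ψ qc = 1 := (h.ker qc).2 hq
  set r := x⁻¹ * (qc * x * qc⁻¹) with hr
  have hrQ : (r : G) ∈ qImg Q := (h.ker _).1 (by rw [hr, map_mul, map_inv, map_mul, map_mul, map_inv, hψq,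
    one_mul, inv_one, mul_one, inv_mul_cancel])
  have hπr : π (r : G) = π ((x⁻¹ * y : ↥(Subgroup.centralizer ({z} : Set G))) : G) := by
    obtain ⟨hm, e⟩ := h.π_conj x⁻¹ hq
    have hxi : ψ x⁻¹ (π q) = omV (omV (π q)) := by
      apply (ψ x).injective
      rw [← LinearEquiv.mul_apply, ← map_mul, mul_inv_cancel, map_one, hx, omV_cube]
      rfl
    have hre : (r : G) = ((x⁻¹ : ↥(Subgroup.centralizer ({z} : Set G))) : G) * q *
        ((x⁻¹ : ↥(Subgroup.centralizer ({z} : Set G))) : G)⁻¹ * q⁻¹ := by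
      rw [hr, hqc]
      show (x : G)⁻¹ * (q * x * q⁻¹) = (x : G)⁻¹ * q * (x : G)⁻¹⁻¹ * q⁻¹
      group
    rw [hre, h.π_mul _ hm _ (inv_mem hq), h.π_inv hq, e, hxi, hπq]
    generalize π ((x⁻¹ * y : ↥(Subgroup.centralizer ({z} : Set G))) : G) = u
    rw [omV_cube, omV_sq, add_left_comm, two_V6, add_zero]
  refine ⟨qc, hψq, ?_⟩
  rcases (h.π_eq_iff hrQ hq₀).1 hπr with e | e
  · have e' : x⁻¹ * y = r := Subtype.ext e
    rw [hr] at e'
    exact (mul_left_cancel e').symm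
  · exfalso
    have e' : ((y : ↥(Subgroup.centralizer ({z} : Set G))) : G) = ((qc * x * qc⁻¹ : ↥(Subgroup.centralizer ({z} : Set G))) : G) * z := by
      have e1 : (x : G)⁻¹ * (y : G) = (x : G)⁻¹ * ((qc * x * qc⁻¹ : ↥(Subgroup.centralizer ({z} : Set G))) : G) * z := e
      rw [mul_assoc] at e1
      exact mul_left_cancel e1
    set u := qc * x * qc⁻¹ with hu
    have h1 : (u : G) ^ 3 = 1 := congrArg Subtype.val (by rw [hu, conj_pow, h3, mul_one, mul_inv_cancel] : u ^ 3 = 1)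
    have h2 : (y : G) ^ 3 = 1 := congrArg Subtype.val hy3
    have hcu : Commute (u : G) z := Subgroup.mem_centralizer_singleton_iff.1 u.2
    rw [e', hcu.mul_pow, h1, one_mul, pow_succ, pow_two, h.extra.z_sq, one_mul] at h2
    exact h.extra.z_ne h2

theorem exists_sem (g : V6 ≃ₗ[ZMod 2] V6) (hg : g ∈ ψ.range)
    (h : (∀ v, g (omV v) = omV (g v)) ∨ ∀ v, g (omV v) = omV (omV (g v))) :
    ∃ d : ↥(Subgroup.centralizer ({z} : Set G)), Sem x d ∧ ψ d = g := by
  rcases h with h | h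
  · obtain ⟨d, hd, e⟩ := F.exists_lift g hg h
    exact ⟨d, Or.inl (by rw [hd.eq, mul_inv_cancel_right]), e⟩
  · obtain ⟨c, rfl⟩ := hg
    have hy : ψ (c * x * c⁻¹) * ψ x = 1 := by
      refine LinearEquiv.ext fun w => ?_
      rw [map_mul, map_mul, map_inv]
      show ψ c (ψ x ((ψ c).symm (ψ x w))) = w
      rw [F.hx, h, (ψ c).apply_symm_apply, F.hx, omV_cube]
    obtain ⟨qc, hψq, hqc⟩ := F.exists_conj_x (y := (c * x * c⁻¹)⁻¹)
      (by rw [map_inv, ← eq_inv_of_mul_eq_one_right hy])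
      (by rw [inv_pow, conj_pow, F.h3, mul_one, mul_inv_cancel, inv_one])
    refine ⟨qc⁻¹ * c, Or.inr ?_, by rw [map_mul, map_inv, hψq, inv_one, one_mul]⟩
    have e : x⁻¹ = qc⁻¹ * (c * x * c⁻¹) * qc := by
      rw [show c * x * c⁻¹ = (qc * x * qc⁻¹)⁻¹ by rw [hqc, inv_inv]]
      group
    rw [e]
    group

/-- Such elements permute the canonical lifts of the vectors orthogonal to their image under the scalar. -/
theorem can_sem {d : ↥(Subgroup.centralizer ({z} : Set G))} (hd : Sem x d) {w : V6} (hw : bs w (omV w) = 0) :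
    (d : G) * F.lf.can F.hx w * (d : G)⁻¹ = F.lf.can F.hx (ψ d w) := by
  rcases hd with hd | hd
  · exact F.lf.can_conj F.hx (mul_inv_eq_iff_eq_mul.1 hd) w
  have hdx : (d : G) * x * (d : G)⁻¹ = (x : G)⁻¹ := congrArg Subtype.val hd
  obtain ⟨⟨hm, ht⟩, hπw⟩ := F.lf.can_spec F.hx w
  obtain ⟨hm', hπ⟩ := F.lf.π_conj d hm
  refine (F.lf.can_eq F.hx ⟨hm', ?_⟩ (by rw [hπ, hπw])).symm
  generalize ha : F.lf.can F.hx w = a at ht hm hπw
  have hx3 : (x : G) * x * x = 1 := by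
    have h := congrArg Subtype.val F.h3
    rw [pow_succ, pow_two] at h
    exact h
  set b := (x : G) * a * (x : G)⁻¹ with hb
  set b' := (x : G) * b * (x : G)⁻¹ with hb'
  have hxi : (x : G)⁻¹ = x * x := inv_eq_of_mul_eq_one_left hx3
  have hxd : (x : G) * d = d * (x : G)⁻¹ := by
    calc (x : G) * d = ((d : G) * x * (d : G)⁻¹)⁻¹ * d := by rw [hdx, inv_inv]
      _ = d * (x : G)⁻¹ := by group
  have shift : ∀ u, (x : G) * ((d : G) * u * (d : G)⁻¹) * (x : G)⁻¹ = (d : G) * ((x : G)⁻¹ * u * x) * (d : G)⁻¹ := fun u => by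
    calc (x : G) * ((d : G) * u * (d : G)⁻¹) * (x : G)⁻¹ = (x * (d : G)) * u * ((x : G) * d)⁻¹ := by group
      _ = _ := by rw [hxd]; group
  have s1 : (x : G)⁻¹ * a * x = b' := by
    rw [hb', hb, show (x : G) * (x * a * (x : G)⁻¹) * (x : G)⁻¹ = x * x * a * ((x : G) * x)⁻¹ by group, ← hxi, inv_inv]
  have s2 : (x : G)⁻¹ * b' * x = b := by rw [hb']; group
  rw [shift, s1, shift, s2]
  obtain ⟨hbm, hbπ⟩ := F.lf.π_conj x hm
  obtain ⟨hbm', hbπ'⟩ := F.lf.π_conj x hbm
  have hcomm : b' * b = b * b' := F.lf.commute_of_bs hbm' hbm (by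
    rw [hbπ', hbπ, F.hx, F.hx, hπw, bs_omV, bs_comm, hw])
  calc (d : G) * a * (d : G)⁻¹ * ((d : G) * b' * (d : G)⁻¹) * ((d : G) * b * (d : G)⁻¹)
      = (d : G) * (a * (b' * b)) * (d : G)⁻¹ := by group
    _ = (d : G) * (a * b * b') * (d : G)⁻¹ := by rw [hcomm, mul_assoc a b b']
    _ = 1 := by rw [ht]; group

theorem sem_sq {d : ↥(Subgroup.centralizer ({z} : Set G))} (hd : Sem x d) (h : ψ d * ψ d = 1) :
    (d : G) * d = 1 ∨ (d : G) * d = z :=
  F.lift_one hd.sq_commute (by rw [map_mul, h])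

variable {c : Fin 4 → ↥(Subgroup.centralizer ({z} : Set G))} (L : Lifts ψ x c)
include L

theorem inD_mkc (hN : Normal F L) {u : ℕ} (hu : u < 16) (hu0 : u ≠ 0) (e : Bool) :
    inDm (mkc u e 0) = true ↔ ¬ IsConj z (F.el L (mkc u e 0)) := by
  obtain ⟨h1, h2, -, -⟩ := mkc_facts ⟨u, hu⟩ e 0
  simp only [Fin.val_zero] at h1 h2
  rw [inDm_eq h1, hN.small _ h1]
  refine ⟨Or.inr, fun h => h.resolve_left fun h0 => hu0 ?_⟩
  rw [h0] at h2
  simpa using h2.symm

/-- The action on the subgroup of order `2¹¹`. -/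
theorem el_sem (hN : Normal F L) {d : ↥(Subgroup.centralizer ({z} : Set G))} (hd : Sem x d) {i : ℕ} (hi : i < 6)
    (hL : imgs (ψ d) = sixL i) {n : ℕ} (hn : n < 2048) :
    fcS i n < 2048 ∧ (d : G) * F.el L n * (d : G)⁻¹ = F.el L (fcS i n) := by
  have hok := List.all_eq_true.1 six_ok i (List.mem_range.2 hi)
  simp only [invOK, Bool.and_eq_true, List.all_eq_true, List.mem_range, decide_eq_true_eq, beq_iff_eq,
    Bool.or_eq_true, Bool.not_eq_true', beq_eq_false_iff_ne] at hok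
  obtain ⟨⟨⟨⟨-, hk⟩, hu⟩, hu0⟩, he0⟩ := hok
  have hK : ∀ k, k < 64 → (d : G) * F.rho k * (d : G)⁻¹ = F.rho (kS i k) := fun k hk' => by
    rw [rho, F.can_sem hd (bs_wv hk' hk').2.2, apply_dec _ (wv_lt k), hL, (hk k hk').2]
    rfl
  have hU : ∀ u, u < 16 → (d : G) * Subtype.val (cpr c u) * (d : G)⁻¹ = Subtype.val (cpr c (uS i u)) ∨
      (d : G) * Subtype.val (cpr c u) * (d : G)⁻¹ = Subtype.val (cpr c (uS i u)) * z := fun u hu' => by
    refine F.lift_unique (d := d * cpr c u * d⁻¹) (hd.conj_commute (L.cpr_comm u)) (L.cpr_comm _) ?_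
    rw [map_mul, map_mul, map_inv, L.cpr_img, L.cpr_img, mul_inv_eq_iff_eq_mul]
    refine imgs_inj ?_
    rw [imgs_mul, imgs_mul, imgs_Bel hu', imgs_Bel (hu u hu').1.1, hL, ← cmpF_eq, ← cmpF_eq]
    exact (hu u hu').1.2
  have hdz : (d : G) * z * (d : G)⁻¹ = z := mul_inv_eq_iff_eq_mul.2 (F.z_comm' d)
  have hzp : ∀ b, (d : G) * zp z (bv b) * (d : G)⁻¹ = zp z (bv b) := fun b => by
    cases b
    · show (d : G) * 1 * (d : G)⁻¹ = 1; group
    · exact hdz
  have hE : ∀ u, u < 16 →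
      (d : G) * Subtype.val (cpr c u) * (d : G)⁻¹ = Subtype.val (cpr c (uS i u)) * zp z (bv (eS i u)) := by
    intro u hu'
    by_cases hu1 : u = 0
    · subst hu1
      rw [hu0, he0, show Subtype.val (cpr c 0) = 1 by simp [cpr], show zp z (bv false) = 1 from rfl]
      group
    obtain ⟨⟨hlt, -⟩, h3⟩ := hu u hu'
    obtain ⟨⟨hne, he⟩, hdiff⟩ := h3.resolve_left hu1
    have key : ∀ e, (d : G) * Subtype.val (cpr c u) * (d : G)⁻¹ = Subtype.val (cpr c (uS i u)) * zp z (bv e) →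
        inDm (mkc (uS i u) e 0) = inDm (mkc u false 0) := fun e h => by
      rw [Bool.eq_iff_iff, F.inD_mkc L hN hlt hne, F.inD_mkc L hN hu' hu1, F.el_mkc L hlt e (by norm_num),
        F.el_mkc L hu' false (by norm_num), F.rho_zero, mul_one, mul_one, show zp z (bv false) = 1 from rfl, mul_one, ← h,
        isConj_conj_iff]
    rcases hU u hu' with h | h
    · have h' : (d : G) * Subtype.val (cpr c u) * (d : G)⁻¹ = Subtype.val (cpr c (uS i u)) * zp z (bv false) := by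
        rw [h]; exact (mul_one _).symm
      rw [show eS i u = false by rw [he, ← key _ h', Bool.xor_self]]
      exact h'
    · have h' : (d : G) * Subtype.val (cpr c u) * (d : G)⁻¹ = Subtype.val (cpr c (uS i u)) * zp z (bv true) := h
      have h2 := key _ h'
      rw [show eS i u = true by
        rw [he, ← h2]
        revert hdiff
        cases inDm (mkc (uS i u) false 0) <;> cases inDm (mkc (uS i u) true 0) <;> simp]
      exact h'
  have e : n = mkc (n % 16) (n.testBit 4) (n / 32) := (mkc_eta ⟨n, hn⟩).symm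
  have hu' : n % 16 < 16 := Nat.mod_lt _ (by norm_num)
  have hk' : n / 32 < 64 := by omega
  obtain ⟨⟨hlt, -⟩, -⟩ := hu _ hu'
  refine ⟨(mkc_facts ⟨_, hlt⟩ _ ⟨_, (hk _ hk').1⟩).1, ?_⟩
  conv_lhs => rw [e, F.el_mkc L hu' _ hk']
  rw [show (d : G) * (Subtype.val (cpr c (n % 16)) * zp z (bv (n.testBit 4)) * F.rho (n / 32)) * (d : G)⁻¹ =
    (d : G) * Subtype.val (cpr c (n % 16)) * (d : G)⁻¹ * ((d : G) * zp z (bv (n.testBit 4)) * (d : G)⁻¹) *
      ((d : G) * F.rho (n / 32) * (d : G)⁻¹) by group, hE _ hu', hzp, hK _ hk', mul_assoc (Subtype.val (cpr c (uS i (n % 16)))),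
    ← F.lf.zp_add, ← bv_xor, fcS, F.el_mkc L hlt _ (hk _ hk').1, Bool.xor_comm]

/-- An element of the normaliser acting as an involution may be changed to an involution. -/
theorem exists_inv_coset (hN : Normal F L) (hU : UniqAb G) {s : G}
    (hs : s ∈ Subgroup.normalizer (F.asub L : Set G)) (hss : s * s ∈ F.asub L) :
    ∃ a ∈ F.asub L, s * a * (s * a) = 1 := by
  set A := F.asub L with hA
  set M := Subgroup.normalizer (A : Set G) with hM
  obtain ⟨θ, hsurj, hker, hcode⟩ : ∃ θ : ↥M →* ↥Cfsg.M24, Function.Surjective θ ∧ θ.ker = A.subgroupOf M ∧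
      ∀ m : ↥M, F.Coded L (m : G) (θ m : Equiv.Perm GolayPt) := F.exists_coded L hN hU
  set sM : ↥M := ⟨s, hs⟩
  have hsq : θ sM * θ sM = 1 := by
    rw [← map_mul, ← MonoidHom.mem_ker, hker, Subgroup.mem_subgroupOf]
    exact hss
  by_cases h1 : θ sM = 1
  · rw [← MonoidHom.mem_ker, hker, Subgroup.mem_subgroupOf] at h1
    exact ⟨s⁻¹, inv_mem h1, by group⟩
  obtain ⟨okA, okB, okKA, okKB, -, cA, cB, -⟩ := perm_ok
  have key : ∀ (v : ℕ) (K R C S : List ℕ), vecOK v K R = true → okTbl R = true → okTbl C = true →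
      conjEq C R S = true → ∀ k ∈ Cfsg.M24, IsTbl (k * (θ sM : Equiv.Perm GolayPt) * k⁻¹) S →
      ∃ a ∈ A, s * a * (s * a) = 1 := by
    intro v K R C S hv hR hC hCR k hk hkS
    obtain ⟨hvlt, hq, -, hco⟩ := F.vec_spec L hv
    obtain ⟨r, -, hr⟩ := M24Orbits.exists_elt hR
    obtain ⟨g, hg, hgC⟩ := M24Orbits.exists_elt hC
    have e : k * (θ sM : Equiv.Perm GolayPt) * k⁻¹ = g * r * g⁻¹ := hkS.unique (isTbl_conj hgC hr hCR)
    obtain ⟨m, hm⟩ := hsurj ⟨g⁻¹ * k, mul_mem (inv_mem hg) hk⟩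
    have hemem : F.lv L v ∈ M := F.can_mem_normalizer L _
    have hθe : (θ ⟨F.lv L v, hemem⟩ : Equiv.Perm GolayPt) = r := F.coded_unique L (hcode _) (hco r hr)
    have hθ : θ (m⁻¹ * ⟨F.lv L v, hemem⟩ * m) = θ sM := Subtype.ext (by
      rw [map_mul, map_mul, map_inv, hm]
      simp only [Subgroup.coe_mul, Subgroup.coe_inv, hθe]
      calc (g⁻¹ * k)⁻¹ * r * (g⁻¹ * k) = k⁻¹ * (g * r * g⁻¹) * k := by group
        _ = (θ sM : Equiv.Perm GolayPt) := by rw [← e]; group)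
    have hin : sM⁻¹ * (m⁻¹ * ⟨F.lv L v, hemem⟩ * m) ∈ θ.ker := by
      rw [MonoidHom.mem_ker, map_mul, map_inv, hθ, inv_mul_cancel]
    rw [hker, Subgroup.mem_subgroupOf] at hin
    refine ⟨_, hin, ?_⟩
    show s * (s⁻¹ * ((m : G)⁻¹ * F.lv L v * m)) * (s * (s⁻¹ * ((m : G)⁻¹ * F.lv L v * m))) = 1
    calc s * (s⁻¹ * ((m : G)⁻¹ * F.lv L v * m)) * (s * (s⁻¹ * ((m : G)⁻¹ * F.lv L v * m)))
        = (m : G)⁻¹ * (F.lv L v * F.lv L v) * m := by group
      _ = 1 := by rw [F.lv_sq L hvlt hq]; group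
  obtain ⟨k, hk, hkS | hkS⟩ := two_class (θ sM).2 (congrArg Subtype.val hsq) fun e => h1 (Subtype.ext e)
  · exact key vA kdA permA conA repTwoA vecA_ok okA okKA cA k hk hkS
  · exact key vB kdB permB conB repTwoB vecB_ok okB okKB cB k hk hkS

/-- The six involutions lift to involutions. -/
theorem sem_sq_one (hN : Normal F L) (hU : UniqAb G) {d : ↥(Subgroup.centralizer ({z} : Set G))} (hd : Sem x d)
    {i : ℕ} (hi : i < 6) (hL : imgs (ψ d) = sixL i) : (d : G) * d = 1 := by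
  have hok := List.all_eq_true.1 six_ok i (List.mem_range.2 hi)
  simp only [invOK, Bool.and_eq_true, List.all_eq_true, List.mem_range, decide_eq_true_eq, beq_iff_eq] at hok
  obtain ⟨⟨⟨⟨hinv, hk⟩, -⟩, -⟩, -⟩ := hok
  have hψ : ψ d * ψ d = 1 := imgs_inj (by rw [imgs_mul, imgs_one, hL, ← cmpF_eq]; exact hinv)
  refine (F.sem_sq hd hψ).resolve_right fun hz => ?_
  have hmem : (d : G) ∈ Subgroup.normalizer (F.asub L : Set G) := F.mem_normalizer L fun k hk' => by
    rw [apply_dec _ (wv_lt k), hL, (hk k hk').2]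
    exact (inW_iff _).2 ⟨_, (hk k hk').1, rfl⟩
  obtain ⟨_, ⟨n, hn, rfl⟩, he⟩ := F.exists_inv_coset L hN hU hmem (by rw [hz]; exact F.z_mem_asub L)
  obtain ⟨hlt, hact⟩ := F.el_sem L hN hd hi hL hn
  have h16 : mkc 0 true 0 = 16 := rfl
  have e16 : F.el L 16 = z := by
    rw [← h16, F.el_mkc L (by norm_num) true (by norm_num), show Subtype.val (cpr c 0) = 1 by simp [cpr],
      F.rho_zero, one_mul, mul_one]
    rfl
  have hconj : (d : G) * F.el L n * (d : G)⁻¹ = F.el L (n ^^^ 16) := by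
    have ha := F.asub_sq L ⟨n, hn, rfl⟩
    have h1 : (d : G) * F.el L n * d = F.el L n := by
      calc (d : G) * F.el L n * d = (d : G) * F.el L n * ((d : G) * F.el L n) * (F.el L n)⁻¹ := by group
        _ = F.el L n := by rw [he, one_mul, inv_eq_of_mul_eq_one_left ha]
    rw [F.el_xor L hn (by norm_num), e16]
    calc (d : G) * F.el L n * (d : G)⁻¹ = (d : G) * F.el L n * d * ((d : G) * d)⁻¹ := by group
      _ = F.el L n * z := by rw [h1, hz, inv_eq_of_mul_eq_one_left F.lf.extra.z_sq]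
  have heq := F.el_inj L hlt (Nat.xor_lt_two_pow (n := 11) hn (by norm_num)) (hact.symm.trans hconj)
  have hfree := List.all_eq_true.1 (List.all_eq_true.1 six_free i (List.mem_range.2 hi)) n (List.mem_range.2 hn)
  rw [heq] at hfree
  simp at hfree

end Frame

end CfsgLib.Sporadic.LargeFischer.Hexa
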