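import Cfsg.Agent.Lib.Sporadic.J4Type.Orbits
import Cfsg.Agent.Lib.Sporadic.LargeFischer.Hexa.ASub

/-!
# The stabiliser of the hexacode
-/

set_option autoImplicit false
set_option linter.unusedSectionVars false
set_option maxRecDepth 40000

namespace CfsgLib.Sporadic.J4Type

open CfsgLib.Sporadic.LargeFischer CfsgLib.Sporadic.LargeFischer.Hexa

theorem bel_lin {u : ℕ} (hu : u < 16) : ∀ v, Bel u (omV v) = omV (Bel u v) := by
  refine ext12 _ _ (fun a b => by rw [Hexa.omV_add, map_add]) (fun a b => by rw [map_add, Hexa.omV_add]) fun i hi => ?_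
  have h2 : 2 ^ i < 4096 := Nat.pow_lt_pow_right (by norm_num : 1 < 2) hi |>.trans_eq (by norm_num)
  rw [omV_dec h2, Bel_dec hu (omc_fin ⟨_, h2⟩).1, Bel_dec hu h2, omV_dec (lm_lt (k := 12) _ _ (bL_lt hu))]
  exact congrArg dec ((by decide +kernel : ∀ u : Fin 16, ∀ i : Fin 12,
    lm (bL u.1) (omc (2 ^ i.1)) = omc (lm (bL u.1) (2 ^ i.1))) ⟨u, hu⟩ ⟨i, hi⟩)

theorem Bel_mod (u : ℕ) : Bel u = Bel (u % 16) := by
  have h : ∀ i, i < 4 → (u % 16).testBit i = u.testBit i := fun i hi => by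
    rw [show 16 = 2 ^ 4 from rfl, Nat.testBit_mod_two_pow]; simp [hi]
  simp only [Bel, h 0 (by norm_num), h 1 (by norm_num), h 2 (by norm_num), h 3 (by norm_num)]

theorem bel_lin_all (u : ℕ) : ∀ v, Bel u (omV v) = omV (Bel u v) := by
  rw [Bel_mod]; exact bel_lin (Nat.mod_lt _ (by norm_num))

/-- Evaluate a coded word. -/
def evC (c n : ℕ) : ℕ := appW (wLet c) n

theorem gen_words : ∀ j : Fin 2,
    (∀ i : Fin 12, evC (genWords.getD j.1 0) (omc (2 ^ i.1)) = omc (evC (genWords.getD j.1 0) (2 ^ i.1))) ∧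
    (∀ u : Fin 16, ∀ i : Fin 12, evC (genWords.getD j.1 0) (lm (bL u.1) (2 ^ i.1)) =
      lm (bL (gu j u.1)) (evC (genWords.getD j.1 0) (2 ^ i.1))) ∧
    ∀ k : Fin 64, evC (genWords.getD j.1 0) (wv k.1) = wv (gk j k.1) := by decide +kernel

/-- Words for the elements with trivial action on the coordinates. -/
def belWords : List ℕ := [0, 876652248879, 432963505679, 2216208812, 50025240335, 11075141965, 672318009775, 75705674,
  17728873, 15755128045, 280589610, 11688208813, 277643531, 57843205678, 235028505647, 11075149613]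

theorem bel_words : ∀ u : Fin 16, ∀ i : Fin 12, evC (belWords.getD u.1 0) (2 ^ i.1) = lm (bL u.1) (2 ^ i.1) := by
  decide +kernel

/-- The images of the basis of the hexacode under a word, in one number. -/
def hexKey (c : ℕ) : ℕ :=
  (List.range 6).foldr (fun i acc => frc (evC c (wv (2 ^ i))) fun a => a + 4096 * acc)
    0

theorem hexa_keys : (hexaWords.flatten.map hexKey).IsChain (· < ·) ∧ hexaWords.flatten.length = 2160 ∧
    (hexaWords.flatten.all fun c => (List.range 6).all fun i => wMask.testBit (evC c (wv (2 ^ i)))) = true := by decide +kernel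

variable {G : Type*} [Group G] [Finite G] {z : G} {π : G → V6}
  {ψ : ↥(Subgroup.centralizer ({z} : Set G)) →* (V6 ≃ₗ[ZMod 2] V6)}
  {x : ↥(Subgroup.centralizer ({z} : Set G))} (J : JF z π ψ x)
include J

theorem genLike (j : Fin 2) : ∃ g ∈ ψ.range, GenLike j g := by
  obtain ⟨g, hg, hgn⟩ := exists_wLet J (genWords.getD j.1 0)
  obtain ⟨h1, h2, h3⟩ := gen_words j
  refine ⟨g, hg, ?_, fun u hu => LinearEquiv.ext (ext12 _ _ (fun a b => (g * Bel u).map_add a b)
    (fun a b => (Bel (gu j u) * g).map_add a b) fun i hi => ?_), fun k hk => ?_⟩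
  · refine ext12 _ _ (fun a b => by rw [Hexa.omV_add, map_add]) (fun a b => by rw [map_add, Hexa.omV_add]) fun i hi => ?_
    have hp : 2 ^ i < 4096 := Nat.pow_lt_pow_right (by norm_num : 1 < 2) hi |>.trans_eq (by norm_num)
    rw [omV_dec hp, (hgn _ (omc_fin ⟨_, hp⟩).1).2, (hgn _ hp).2, omV_dec (hgn _ hp).1]
    exact congrArg dec (h1 ⟨i, hi⟩)
  · have hp : 2 ^ i < 4096 := Nat.pow_lt_pow_right (by norm_num : 1 < 2) hi |>.trans_eq (by norm_num)
    show g (Bel u _) = Bel (gu j u) (g _)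
    rw [Bel_dec hu hp, (hgn _ (lm_lt (k := 12) _ _ (bL_lt hu))).2, (hgn _ hp).2, Bel_dec (gu_lt j hu) (hgn _ hp).1]
    exact congrArg dec (h2 ⟨u, hu⟩ ⟨i, hi⟩)
  · rw [(hgn _ (wv_lt k)).2]
    exact congrArg dec (h3 ⟨k, hk⟩)

theorem Bel_range (u : ℕ) : Bel u ∈ ψ.range := by
  rw [Bel_mod]
  have hu : u % 16 < 16 := Nat.mod_lt _ (by norm_num)
  obtain ⟨g, hg, hgn⟩ := exists_wLet J (belWords.getD (u % 16) 0)
  convert hg using 1
  refine LinearEquiv.ext (ext12 _ _ (fun a b => (Bel (u % 16)).map_add a b) (fun a b => g.map_add a b) fun i hi => ?_)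
  have hp : 2 ^ i < 4096 := Nat.pow_lt_pow_right (by norm_num : 1 < 2) hi |>.trans_eq (by norm_num)
  rw [Bel_dec hu hp, (hgn _ hp).2]
  exact congrArg dec (bel_words ⟨_, hu⟩ ⟨i, hi⟩).symm

theorem hexa_inW {c : ℕ} (hc : c ∈ hexaWords.flatten) {g : V6 ≃ₗ[ZMod 2] V6}
    (hgn : ∀ n, n < 4096 → appW (wLet c) n < 4096 ∧ g (dec n) = dec (appW (wLet c) n)) :
    ∀ k, k < 64 → InW (g (dec (wv k))) := by
  have hb : ∀ i, i < 6 → InW (g (dec (wv (2 ^ i)))) := fun i hi => by
    rw [(hgn _ (wv_lt _)).2]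
    show wMask.testBit (enc (dec _)) = true
    rw [enc_dec (hgn _ (wv_lt _)).1]
    exact List.all_eq_true.1 (List.all_eq_true.1 hexa_keys.2.2 c hc) i (List.mem_range.2 hi)
  have key : ∀ m, m ≤ 6 → ∀ k, k < 2 ^ m → InW (g (dec (wv k))) := by
    intro m
    induction m with
    | zero =>
      intro _ k hk
      rw [show k = 0 by simpa using hk, wv_zero, dec_zero, map_zero]
      exact (inW_iff _).2 ⟨0, by norm_num, by rw [wv_zero, dec_zero]⟩
    | succ m ih =>
      intro hm k hk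
      by_cases h : k < 2 ^ m
      · exact ih (by omega) k h
      · have hlt : k - 2 ^ m < 2 ^ m := by rw [pow_succ] at hk; omega
        rw [show k = 2 ^ m ^^^ (k - 2 ^ m) by rw [CfsgLib.SmallGroups.Golay.two_pow_xor hlt]; omega, dec_wv_xor, map_add]
        obtain ⟨a, ha, e1⟩ := (inW_iff _).1 (hb m (by omega))
        obtain ⟨b, hb', e2⟩ := (inW_iff _).1 (ih (by omega) _ hlt)
        exact (inW_iff _).2 ⟨a ^^^ b, Nat.xor_lt_two_pow (n := 6) ha hb', by rw [dec_wv_xor, e1, e2]⟩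
  exact fun k hk => key 6 le_rfl k hk

theorem card_stab (Y : Subgroup (V6 ≃ₗ[ZMod 2] V6))
    (hY : ∀ g, g ∈ Y ↔ g ∈ ψ.range ∧ ∀ k, k < 64 → InW (g (dec (wv k)))) : 34560 ≤ Nat.card Y := by
  classical
  have := finite_equiv
  choose g hg hgn using fun i : Fin 2160 => exists_wLet J (hexaWords.flatten.getD i.1 0)
  have hmemW : ∀ i : Fin 2160, hexaWords.flatten.getD i.1 0 ∈ hexaWords.flatten := fun i => by
    rw [List.getD_eq_getElem _ _ (by rw [hexa_keys.2.1]; exact i.2)]; exact List.getElem_mem _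
  let f : Fin 2160 × Fin 16 → Y := fun p => ⟨g p.1 * Bel p.2.1, (hY _).2 ⟨mul_mem (hg p.1) (Bel_range J _),
    fun k hk => by
      show InW (g p.1 (Bel p.2.1 _))
      rw [Bel_fix p.2.2 hk]
      exact hexa_inW J (hmemW p.1) (hgn p.1) k hk⟩⟩
  have hinj : Function.Injective f := by
    rintro ⟨i, u⟩ ⟨i', u'⟩ e
    have e' : g i * Bel u.1 = g i' * Bel u'.1 := congrArg Subtype.val e
    have hk : ∀ t, t < 6 → evC (hexaWords.flatten.getD i.1 0) (wv (2 ^ t)) = evC (hexaWords.flatten.getD i'.1 0) (wv (2 ^ t)) := by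
      intro t ht
      have h64 : 2 ^ t < 64 := Nat.pow_lt_pow_right (by norm_num : 1 < 2) ht |>.trans_eq (by norm_num)
      have h1 := congrArg enc (LinearEquiv.congr_fun e' (dec (wv (2 ^ t))))
      simp only [LinearEquiv.mul_apply, Bel_fix u.2 h64, Bel_fix u'.2 h64, (hgn i _ (wv_lt _)).2,
        (hgn i' _ (wv_lt _)).2, enc_dec (hgn i _ (wv_lt _)).1, enc_dec (hgn i' _ (wv_lt _)).1] at h1
      exact h1
    have hkey : hexKey (hexaWords.flatten.getD i.1 0) = hexKey (hexaWords.flatten.getD i'.1 0) := by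
      simp only [hexKey, frc_eq, List.range, List.range.loop, List.foldr]
      rw [hk 0 (by norm_num), hk 1 (by norm_num), hk 2 (by norm_num), hk 3 (by norm_num), hk 4 (by norm_num),
        hk 5 (by norm_num)]
    have hnd : (hexaWords.flatten.map hexKey).Nodup :=
      (List.isChain_iff_pairwise.1 hexa_keys.1).imp fun {a b} h => ne_of_lt h
    have hii : i = i' := by
      refine Fin.ext ((hnd.getElem_inj_iff (i := i.1) (j := i'.1) (hi := by rw [List.length_map, hexa_keys.2.1]; exact i.2)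
        (hj := by rw [List.length_map, hexa_keys.2.1]; exact i'.2)).1 ?_)
      rw [List.getElem_map, List.getElem_map, ← List.getD_eq_getElem _ 0, ← List.getD_eq_getElem _ 0]
      exact hkey
    subst hii
    exact Prod.ext rfl (Fin.ext (Bel_inj u.2 u'.2 (mul_left_cancel e')))
  have := Nat.card_le_card_of_injective f hinj
  simpa [Nat.card_eq_fintype_card] using this

end CfsgLib.Sporadic.J4Type
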