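import Cfsg.Agent.Lib.Sporadic.J4Type.StabW
import Cfsg.Agent.Lib.Sporadic.J4Type.SylowData

/-!
# Checks on the Sylow two-subgroup of the stabiliser of the hexacode
-/

set_option autoImplicit false
set_option linter.unusedSectionVars false
set_option maxRecDepth 40000

namespace CfsgLib.Sporadic.J4Type

open CfsgLib.Sporadic.LargeFischer CfsgLib.Sporadic.LargeFischer.Hexa

/-- Twelve numbers out of one. -/
def unpk (n : ℕ) : List ℕ := (List.range 12).map fun t => (n >>> (12 * t)) % 4096

/-- An element. -/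
def sEl (i : ℕ) : List ℕ := unpk (sylEl.getD i 0)

/-- The identity or an involution. -/
def sL (a : ℕ) : List ℕ := sEl (sylInv.getD a 0)

/-- The product with a generator. -/
def sNext (i j : ℕ) : ℕ := (sylNext.getD i 0 >>> (8 * j)) % 256

/-- The product of two involutions, or a witness against commutation. -/
def sTab (a b : ℕ) : ℕ := (sylTab.getD a 0 >>> (7 * b)) % 128

/-- The identity. -/
def bitL : List ℕ := [1, 2, 4, 8, 16, 32, 64, 128, 256, 512, 1024, 2048]

theorem syl_gen_words : ∀ j : Fin 4, ∀ t : Fin 12,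
    evC (sylGenW.getD j.1 0) (2 ^ t.1) = (sylGen.getD j.1 []).getD t.1 0 := by decide +kernel

theorem syl_gen_shape : sylGen.length = 4 ∧ ∀ L ∈ sylGen, L.length = 12 := by decide +kernel

theorem syl_next_ok : (List.range 256).all (fun i => (List.range 4).all fun j =>
    cmpF (sEl i) (sylGen.getD j []) == sEl (sNext i j)) = true := by decide +kernel

theorem syl_tree_ok : sEl 0 = bitL ∧ (List.range 256).all (fun i => i == 0 ||
    (decide ((sylPar.getD i (0, 0)).1 < i) && decide ((sylPar.getD i (0, 0)).2 < 4) &&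
      (sNext (sylPar.getD i (0, 0)).1 (sylPar.getD i (0, 0)).2 == i))) = true := by decide +kernel

theorem syl_distinct : sylEl.length = 256 ∧
    (List.range 256).all (fun i => sylEl.idxOf (sylEl.getD i 0) == i) = true ∧
    sylEl.all (fun n => decide (n < 2 ^ 144)) = true := by decide +kernel

theorem syl_inv_ok : sylInv.length = 72 ∧ (List.range 256).all (fun i => sylInv.contains i ||
    !(cmpF (sEl i) (sEl i) == bitL)) = true := by decide +kernel

theorem syl_tab_ok : (List.range 72).all (fun a => (List.range 72).all fun b =>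
    frc (sTab a b) fun t =>
      if t < 72 then cmpF (sL a) (sL b) == sL t
      else !(lm (sL a) ((sL b).getD (t - 72) 0) == lm (sL b) ((sL a).getD (t - 72) 0))) = true := by decide +kernel

theorem syl_bel_ok : sylBel.length = 16 ∧ ∀ u : Fin 16, ∀ t : Fin 12,
    (sL (sylBel.getD u.1 0)).getD t.1 0 = lm (bL u.1) (2 ^ t.1) := by decide +kernel

theorem syl_bel_self : (List.range 72).all (fun a => sylBel.contains a ||
    sylBel.any (fun b => decide (72 ≤ sTab a b))) = true := by decide +kernel

/-- Growing a subgroup by the least element outside it. -/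
def chk : ℕ → List ℕ → List ℕ → Bool
  | 0, span, gens => sylBel.all span.contains || (sylCert.map (·.1)).contains gens
  | k + 1, span, gens => (List.range 72).all fun i =>
      decide (i ≤ gens.getLastD 0) || span.contains i || gens.any (fun g => decide (72 ≤ sTab g i)) ||
        span.any (fun s => (decide (sTab s i < i) && !span.contains (sTab s i)) || decide (72 ≤ sTab s i)) ||
        chk k (span ++ span.map (sTab · i)) (gens ++ [i])

theorem syl_tab_one : ∀ i : Fin 72, sTab 0 i.1 = i.1 := by decide +kernel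

theorem chk_ok : chk 4 [0] [] = true := by decide +kernel

/-- The sum of the maps of a certificate applied to the moved part, and the complement. -/
def certVal (gs Ks : List ℕ) (R : ℕ) (E : List ℕ) (n : ℕ) : ℕ :=
  lm (unpk (Ks.getD 0 0)) (lm (sL (gs.getD 0 0)) n ^^^ n) ^^^
  lm (unpk (Ks.getD 1 0)) (lm (sL (gs.getD 1 0)) n ^^^ n) ^^^
  lm (unpk (Ks.getD 2 0)) (lm (sL (gs.getD 2 0)) n ^^^ n) ^^^
  lm (unpk (Ks.getD 3 0)) (lm (sL (gs.getD 3 0)) n ^^^ n) ^^^ lm E (lm (unpk R) n)

theorem certVal_xor (gs Ks : List ℕ) (R : ℕ) (E : List ℕ) (a b : ℕ) :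
    certVal gs Ks R E (a ^^^ b) = certVal gs Ks R E a ^^^ certVal gs Ks R E b := by
  have h : ∀ (L M : List ℕ), lm L (lm M (a ^^^ b) ^^^ (a ^^^ b)) = lm L (lm M a ^^^ a) ^^^ lm L (lm M b ^^^ b) := by
    intro L M
    rw [lm_xor M a b, ← lm_xor L]
    congr 1
    ac_rfl
  simp only [certVal, h]
  simp only [lm_xor]
  ac_rfl

theorem certVal_zero (gs Ks : List ℕ) (R : ℕ) (E : List ℕ) : certVal gs Ks R E 0 = 0 := by
  simp [certVal, lm_zero]

/-- The four generators of the elements with trivial action on the coordinates. -/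
def belGs : List ℕ := [sylBel.getD 1 0, sylBel.getD 2 0, sylBel.getD 4 0, sylBel.getD 8 0]

theorem cert_ok : sylCert.all (fun c => (c.1.length == 4) && c.1.all (fun a => decide (a < 72)) &&
      (unpk c.2.2.1).all (fun y => decide (y < 8)) &&
      (List.range 12).all fun t => certVal c.1 c.2.1 c.2.2.1 (unpk c.2.2.2) (2 ^ t) == 2 ^ t) = true ∧
    (unpk belCert.2).all (fun y => decide (y < 64)) = true ∧
    ((List.range 12).all fun t => certVal belGs belCert.1 belCert.2 wBasis (2 ^ t) == 2 ^ t) = true := by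
  decide +kernel

theorem ext_bits {f : ℕ → ℕ} (hf : ∀ a b, f (a ^^^ b) = f a ^^^ f b) (h0 : f 0 = 0)
    (h : ∀ t, t < 12 → f (2 ^ t) = 2 ^ t) : ∀ n, n < 4096 → f n = n := by
  have key : ∀ m, m ≤ 12 → ∀ n, n < 2 ^ m → f n = n := by
    intro m
    induction m with
    | zero => intro _ n hn; rw [show n = 0 by simpa using hn, h0]
    | succ m ih =>
      intro hm n hn
      by_cases hb : n < 2 ^ m
      · exact ih (by omega) n hb
      · have hlt : n - 2 ^ m < 2 ^ m := by rw [pow_succ] at hn; omega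
        rw [show n = 2 ^ m ^^^ (n - 2 ^ m) by rw [CfsgLib.SmallGroups.Golay.two_pow_xor hlt]; omega, hf,
          h m (by omega), ih (by omega) _ hlt]
  exact fun n hn => key 12 le_rfl n hn

/-- A fixed vector is given by its complement part. -/
theorem fixed_eq {gs Ks : List ℕ} {R : ℕ} {E : List ℕ}
    (hc : ∀ t, t < 12 → certVal gs Ks R E (2 ^ t) = 2 ^ t) {n : ℕ} (hn : n < 4096)
    (hfix : ∀ j, j < 4 → lm (sL (gs.getD j 0)) n = n) : n = lm E (lm (unpk R) n) := by
  have h := ext_bits (certVal_xor gs Ks R E) (certVal_zero gs Ks R E) hc n hn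
  simp only [certVal, hfix 0 (by norm_num), hfix 1 (by norm_num), hfix 2 (by norm_num), hfix 3 (by norm_num),
    Nat.xor_self, lm_zero, Nat.zero_xor] at h
  exact h.symm

theorem fixed_cert {gs : List ℕ} (hgs : gs ∈ sylCert.map (·.1)) :
    gs.length = 4 ∧ ∃ (R : ℕ) (E : List ℕ), (∀ n, lm (unpk R) n < 8) ∧
      ∀ n, n < 4096 → (∀ j, j < 4 → lm (sL (gs.getD j 0)) n = n) → n = lm E (lm (unpk R) n) := by
  obtain ⟨c, hc, rfl⟩ := List.mem_map.1 hgs
  have h := List.all_eq_true.1 cert_ok.1 c hc
  simp only [Bool.and_eq_true, beq_iff_eq, List.all_eq_true, decide_eq_true_eq, List.mem_range] at h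
  exact ⟨h.1.1.1, _, _, fun n => lm_lt (k := 3) _ _ h.1.2, fun n hn hfix => fixed_eq h.2 hn hfix⟩

theorem fixed_bel {n : ℕ} (hn : n < 4096) (hfix : ∀ j, j < 4 → lm (sL (belGs.getD j 0)) n = n) :
    ∃ k < 64, n = wv k :=
  ⟨lm (unpk belCert.2) n, lm_lt (k := 6) _ _ fun y hy => by
    simpa using List.all_eq_true.1 cert_ok.2.1 y hy,
    fixed_eq (fun t ht => beq_iff_eq.1 (List.all_eq_true.1 cert_ok.2.2 t (List.mem_range.2 ht))) hn hfix⟩

end CfsgLib.Sporadic.J4Type
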