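import Cfsg.Agent.Lib.Sporadic.J4Type.SylowCheck

/-!
# A Sylow two-subgroup of the image of the centraliser and its large elementary abelian subgroups
-/

set_option autoImplicit false
set_option linter.unusedSectionVars false
set_option maxRecDepth 40000

namespace CfsgLib.Sporadic.J4Type

open CfsgLib.Sporadic.LargeFischer CfsgLib.Sporadic.LargeFischer.Hexa

theorem bitL_eq : bitL = idL := rfl

theorem unpk_inj {m n : ℕ} (hm : m < 2 ^ 144) (hn : n < 2 ^ 144) (e : unpk m = unpk n) : m = n := by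
  refine Nat.eq_of_testBit_eq fun i => ?_
  by_cases hi : i < 144
  · have h : (unpk m)[i / 12]'(by simp [unpk]; omega) = (unpk n)[i / 12]'(by simp [unpk]; omega) := by
      simp only [e]
    simp only [unpk, List.getElem_map, List.getElem_range] at h
    have h2 := congrArg (fun a => a.testBit (i % 12)) h
    simp only [show (4096 : ℕ) = 2 ^ 12 from rfl, Nat.testBit_mod_two_pow, Nat.testBit_shiftRight] at h2
    simpa [Nat.mod_lt, Nat.div_add_mod] using h2
  · rw [Nat.testBit_lt_two_pow (hm.trans_le (Nat.pow_le_pow_right (by norm_num) (by omega))),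
      Nat.testBit_lt_two_pow (hn.trans_le (Nat.pow_le_pow_right (by norm_num) (by omega)))]

/-- The pointwise fixed vectors of a set of maps. -/
def FixedBy (F : Subgroup (V6 ≃ₗ[ZMod 2] V6)) (v : V6) : Prop := ∀ f ∈ F, f v = v

variable {G : Type*} [Group G] [Finite G] {z : G} {π : G → V6}
  {ψ : ↥(Subgroup.centralizer ({z} : Set G)) →* (V6 ≃ₗ[ZMod 2] V6)}
  {x : ↥(Subgroup.centralizer ({z} : Set G))} (J : JF z π ψ x)
include J

theorem exists_sylow_range : ∃ P : Subgroup (V6 ≃ₗ[ZMod 2] V6), P ≤ ψ.range ∧ Nat.card P = 256 ∧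
    (∀ u, u < 16 → Bel u ∈ P) ∧ ∀ F : Subgroup (V6 ≃ₗ[ZMod 2] V6), F ≤ P →
      (∀ f ∈ F, f * f = 1) → (∀ f ∈ F, ∀ g ∈ F, f * g = g * f) →
      Nat.card F ≤ 72 ∧ (16 ≤ Nat.card F →
        ((∀ f ∈ F, ∃ u < 16, f = Bel u) ∧ ∀ v, FixedBy F v → InW v) ∨
        ∃ φ : V6 → ℕ, (∀ v, φ v < 8) ∧ ∀ v w, FixedBy F v → FixedBy F w → φ v = φ w → v = w) := by
  classical
  haveI := finite_equiv
  choose g hg hgn using fun j : Fin 4 => exists_wLet J (sylGenW.getD j.1 0)
  have hgi : ∀ j : Fin 4, imgs (g j) = sylGen.getD j.1 [] := by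
    intro j
    have hlen : (sylGen.getD j.1 []).length = 12 := syl_gen_shape.2 _ (by
      rw [List.getD_eq_getElem _ _ (by rw [syl_gen_shape.1]; exact j.2)]; exact List.getElem_mem _)
    refine List.ext_getElem (by rw [hlen]; simp [imgs]) fun t h1 h2 => ?_
    have ht : t < 12 := by simpa [imgs] using h1
    have hp : 2 ^ t < 4096 := Nat.pow_lt_pow_right (by norm_num : 1 < 2) ht |>.trans_eq (by norm_num)
    rw [← List.getD_eq_getElem _ 0 h1, ← List.getD_eq_getElem _ 0 h2, imgs_getD _ ht, (hgn j _ hp).2,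
      enc_dec (hgn j _ hp).1]
    exact syl_gen_words j ⟨t, ht⟩
  set P := Subgroup.closure (Set.range g) with hP
  have hstep : ∀ i (j : Fin 4), i < 256 → ∀ p : V6 ≃ₗ[ZMod 2] V6, imgs p = sEl i →
      imgs (p * g j) = sEl (sNext i j.1) ∧ sNext i j.1 < 256 := by
    intro i j hi p hp
    have h := List.all_eq_true.1 (List.all_eq_true.1 syl_next_ok i (List.mem_range.2 hi)) j.1 (List.mem_range.2 j.2)
    rw [beq_iff_eq, cmpF_eq] at h
    exact ⟨by rw [imgs_mul, hp, hgi, h], Nat.mod_lt _ (by norm_num)⟩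
  -- every element is listed
  let S : Set (V6 ≃ₗ[ZMod 2] V6) := {p | ∃ i < 256, imgs p = sEl i}
  have h1S : (1 : V6 ≃ₗ[ZMod 2] V6) ∈ S := ⟨0, by norm_num, by rw [imgs_one, syl_tree_ok.1, bitL_eq]⟩
  let M : Submonoid (V6 ≃ₗ[ZMod 2] V6) :=
    { carrier := {p | ∀ q ∈ S, q * p ∈ S}
      one_mem' := fun q hq => by rwa [mul_one]
      mul_mem' := fun {a b} ha hb q hq => by rw [← mul_assoc]; exact hb _ (ha q hq) }
  have hlisted : ∀ p ∈ P, ∃ i < 256, imgs p = sEl i := by
    intro p hp
    have hM : p ∈ M := by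
      have h0 : (P : Set (V6 ≃ₗ[ZMod 2] V6)) ⊆ M := by
        rw [hP, ← Subgroup.coe_toSubmonoid, Subgroup.closure_toSubmonoid_of_finite]
        refine Submonoid.closure_le.2 ?_
        rintro _ ⟨j, rfl⟩ q ⟨i, hi, e⟩
        exact ⟨_, (hstep i j hi q e).2, (hstep i j hi q e).1⟩
      exact h0 hp
    have h := hM 1 h1S
    rwa [one_mul] at h
  -- every listed one is an element
  have helts : ∀ i, i < 256 → ∃ p ∈ P, imgs p = sEl i := by
    intro i
    induction i using Nat.strong_induction_on with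
    | _ i ih =>
      intro hi
      have h := List.all_eq_true.1 syl_tree_ok.2 i (List.mem_range.2 hi)
      simp only [Bool.or_eq_true, Bool.and_eq_true, beq_iff_eq, decide_eq_true_eq] at h
      rcases h with h | ⟨⟨h1, h2⟩, h3⟩
      · exact ⟨1, one_mem _, by rw [h, imgs_one, syl_tree_ok.1, bitL_eq]⟩
      · obtain ⟨p, hp, e⟩ := ih _ h1 (h1.trans hi)
        refine ⟨p * g ⟨_, h2⟩, mul_mem hp (Subgroup.subset_closure ⟨_, rfl⟩), ?_⟩
        rw [(hstep _ ⟨_, h2⟩ (h1.trans hi) p e).1, h3]
  have hsElinj : ∀ i j, i < 256 → j < 256 → sEl i = sEl j → i = j := by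
    intro i j hi hj e
    have hlt : ∀ k, k < 256 → sylEl.getD k 0 < 2 ^ 144 := fun k hk => by
      have := List.all_eq_true.1 syl_distinct.2.2 _ (List.getElem_mem (l := sylEl) (by rw [syl_distinct.1]; exact hk))
      rw [List.getD_eq_getElem _ _ (by rw [syl_distinct.1]; exact hk)]
      simpa using this
    have e' := unpk_inj (hlt i hi) (hlt j hj) e
    have h1 := List.all_eq_true.1 syl_distinct.2.1 i (List.mem_range.2 hi)
    have h2 := List.all_eq_true.1 syl_distinct.2.1 j (List.mem_range.2 hj)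
    rw [beq_iff_eq] at h1 h2
    rw [← h1, ← h2, e']
  have hcard : Nat.card P = 256 := by
    choose p hp hpi using fun i : Fin 256 => helts i.1 i.2
    refine (Nat.card_congr (Equiv.ofBijective (fun i => (⟨p i, hp i⟩ : P)) ⟨fun i j e => ?_, fun q => ?_⟩).symm).trans
      (by simp)
    · have e' : p i = p j := congrArg Subtype.val e
      exact Fin.ext (hsElinj _ _ i.2 j.2 (by rw [← hpi, ← hpi, e']))
    · obtain ⟨i, hi, e⟩ := hlisted q q.2
      exact ⟨⟨i, hi⟩, Subtype.ext (imgs_inj ((hpi _).trans e.symm))⟩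
  have hbelP : ∀ u, u < 16 → Bel u ∈ P ∧ imgs (Bel u) = sL (sylBel.getD u 0) := by
    intro u hu
    have e : imgs (Bel u) = sL (sylBel.getD u 0) := by
      refine List.ext_getElem (by simp [imgs, sL, sEl, unpk]) fun t h1 h2 => ?_
      have ht : t < 12 := by simpa [imgs] using h1
      have hp : 2 ^ t < 4096 := Nat.pow_lt_pow_right (by norm_num : 1 < 2) ht |>.trans_eq (by norm_num)
      rw [← List.getD_eq_getElem _ 0 h1, ← List.getD_eq_getElem _ 0 h2, imgs_getD _ ht, Bel_dec hu hp,
        enc_dec (lm_lt (k := 12) _ _ (bL_lt hu))]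
      exact (syl_bel_ok.2 ⟨u, hu⟩ ⟨t, ht⟩).symm
    refine ⟨?_, e⟩
    have hi : sylInv.getD (sylBel.getD u 0) 0 < 256 :=
      (by decide +kernel : ∀ u : Fin 16, sylInv.getD (sylBel.getD u.1 0) 0 < 256) ⟨u, hu⟩
    obtain ⟨p, hp, ep⟩ := helts _ hi
    exact (imgs_inj (ep.trans e.symm) : p = Bel u) ▸ hp
  refine ⟨P, (Subgroup.closure_le _).2 (Set.range_subset_iff.2 hg), hcard, fun u hu => (hbelP u hu).1,
    fun F hFP hsq hcomm => ?_⟩
  have hidx : ∀ f ∈ F, ∃ a < 72, imgs f = sL a := by
    intro f hf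
    obtain ⟨i, hi, e⟩ := hlisted f (hFP hf)
    have h := List.all_eq_true.1 syl_inv_ok.2 i (List.mem_range.2 hi)
    rw [Bool.or_eq_true, List.contains_iff_mem, Bool.not_eq_true', beq_eq_false_iff_ne] at h
    have hm : i ∈ sylInv := by
      refine h.resolve_right fun hne => hne ?_
      rw [cmpF_eq, ← e, ← imgs_mul, hsq f hf, imgs_one, bitL_eq]
    obtain ⟨a, ha, ea⟩ := List.mem_iff_getElem.1 hm
    refine ⟨a, ha.trans_eq syl_inv_ok.1, ?_⟩
    rw [sL, List.getD_eq_getElem _ _ ha, ea, e]
  choose ai hai haeq using fun f : F => hidx f f.2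
  have hmul : ∀ f ∈ F, ∀ g ∈ F, ∀ a b, a < 72 → b < 72 → imgs f = sL a → imgs g = sL b →
      sTab a b < 72 ∧ imgs (f * g) = sL (sTab a b) := by
    intro f hf g hg a b ha hb ea eb
    have h := List.all_eq_true.1 (List.all_eq_true.1 syl_tab_ok a (List.mem_range.2 ha)) b (List.mem_range.2 hb)
    rw [frc_eq] at h
    by_cases ht : sTab a b < 72
    · rw [if_pos ht, beq_iff_eq, cmpF_eq] at h
      exact ⟨ht, by rw [imgs_mul, ea, eb, h]⟩
    · rw [if_neg ht, Bool.not_eq_true', beq_eq_false_iff_ne] at h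
      refine absurd ?_ h
      have h12 : sTab a b - 72 < 12 ∨ 12 ≤ sTab a b - 72 := lt_or_ge _ _
      rcases h12 with h12 | h12
      · rw [← ea, ← eb, imgs_getD _ h12, imgs_getD _ h12, ← enc_apply, ← enc_apply]
        exact congrArg enc (LinearEquiv.congr_fun (hcomm f hf g hg) _)
      · rw [List.getD_eq_default _ _ (by simp [sL, sEl, unpk]; omega),
          List.getD_eq_default _ _ (by simp [sL, sEl, unpk]; omega), lm_zero, lm_zero]
  constructor
  · refine (Nat.card_le_card_of_injective (fun f => (⟨ai f, hai f⟩ : Fin 72)) fun f f' e => ?_).trans (by simp)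
    exact Subtype.ext (imgs_inj (by rw [haeq f, haeq f', show ai f = ai f' from congrArg Fin.val e]))
  intro h16
  -- grow a subgroup of order sixteen
  let IF : Set ℕ := {a | a < 72 ∧ ∃ f ∈ F, imgs f = sL a}
  have key : ∀ k span gens, chk k span gens = true → span.length * 2 ^ k = 16 →
      0 ∈ span → (∀ a ∈ span, a ∈ IF) → (∀ a ∈ gens, a ∈ IF) → (∀ a ∈ IF, a ∉ span → gens.getLastD 0 < a) →
      ∃ span' gens', (∀ a ∈ span', a ∈ IF) ∧ (∀ a ∈ gens', a ∈ IF) ∧ chk 0 span' gens' = true := by
    intro k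
    induction k with
    | zero => intro span gens h _ _ h1 h2 _; exact ⟨span, gens, h1, h2, h⟩
    | succ k ih =>
      intro span gens h hlen h0 h1 h2 h3
      have hne : ∃ a, a ∈ IF ∧ a ∉ span := by
        by_contra hno
        push_neg at hno
        have hle : Nat.card F ≤ span.length := by
          have := Nat.card_le_card_of_injective
            (fun f => (⟨span.idxOf (ai f), List.idxOf_lt_length_iff.2 (hno _ ⟨hai f, f, f.2, haeq f⟩)⟩ :
              Fin span.length)) fun f f' e => by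
              refine Subtype.ext (imgs_inj ?_)
              rw [haeq f, haeq f']
              have := congrArg Fin.val e
              simp only at this
              rw [(List.idxOf_inj (hno _ ⟨hai f, f, f.2, haeq f⟩)).1 this]
          simpa using this
        have hk : 2 ≤ 2 ^ (k + 1) := Nat.le_self_pow (by omega) 2
        nlinarith
      let i := Nat.find hne
      obtain ⟨hiF, his⟩ := Nat.find_spec hne
      have hmin : ∀ a ∈ IF, a ∉ span → i ≤ a := fun a ha hs => Nat.find_min' hne ⟨ha, hs⟩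
      obtain ⟨hi72, fi, hfi, efi⟩ := hiF
      rw [chk, List.all_eq_true] at h
      have hh := h i (List.mem_range.2 hi72)
      simp only [Bool.or_eq_true, Bool.and_eq_true, List.any_eq_true, decide_eq_true_eq, List.contains_iff_mem] at hh
      have hspan : ∀ s ∈ span, sTab s i ∈ IF := fun s hs => by
        obtain ⟨hs72, fs, hfs, efs⟩ := h1 s hs
        obtain ⟨e1, e2⟩ := hmul fs hfs fi hfi s i hs72 hi72 efs efi
        exact ⟨e1, _, mul_mem hfs hfi, e2⟩
      rcases hh with (((hh | hh) | ⟨g, hg, hh⟩) | ⟨s, hs, hh⟩) | hh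
      · exact absurd hh (not_le.2 (h3 i ⟨hi72, fi, hfi, efi⟩ his))
      · exact absurd hh his
      · obtain ⟨hg72, fg, hfg, efg⟩ := h2 g hg
        exact absurd (hmul fg hfg fi hfi g i hg72 hi72 efg efi).1 (not_lt.2 hh)
      · rcases hh with ⟨hlt, hin⟩ | hh
        · simp only [Bool.not_eq_true', List.contains_eq_mem, decide_eq_false_iff_not] at hin
          exact absurd (hmin _ (hspan s hs) hin) (not_le.2 hlt)
        · exact absurd (hspan s hs).1 (not_lt.2 hh)
      · refine ih _ _ hh ?_ (List.mem_append_left _ h0) ?_ ?_ ?_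
        · rw [List.length_append, List.length_map, ← hlen, pow_succ]; ring
        · intro a ha
          rcases List.mem_append.1 ha with ha | ha
          · exact h1 a ha
          · obtain ⟨s, hs, rfl⟩ := List.mem_map.1 ha
            exact hspan s hs
        · intro a ha
          rcases List.mem_append.1 ha with ha | ha
          · exact h2 a ha
          · rw [List.mem_singleton] at ha
            exact ha ▸ ⟨hi72, fi, hfi, efi⟩
        · intro a ha hns
          rw [List.getLastD_eq_getLast?, List.getLast?_append, List.getLast?_singleton]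
          simp only [Option.some_or, Option.getD_some]
          refine lt_of_le_of_ne (hmin a ha fun hs => hns (List.mem_append_left _ hs)) fun e => ?_
          exact hns (List.mem_append_right _ (List.mem_map.2 ⟨0, h0, (syl_tab_one ⟨i, hi72⟩).trans e⟩))
  have h0IF : 0 ∈ IF := ⟨by norm_num, 1, one_mem _, by
    rw [imgs_one, sL, show sylInv.getD 0 0 = 0 from rfl, syl_tree_ok.1, bitL_eq]⟩
  obtain ⟨span, gens, hs, hgm, hk⟩ := key 4 [0] [] chk_ok rfl (by simp) (by simpa using h0IF) (by simp)
    (fun a _ hns => by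
      simp only [List.mem_singleton] at hns
      simpa using Nat.pos_of_ne_zero hns)
  have hfixi : ∀ a ∈ IF, ∀ v, FixedBy F v → lm (sL a) (enc v) = enc v := by
    rintro a ⟨-, f, hf, e⟩ v hv
    rw [← e, ← enc_apply, hv f hf]
  simp only [chk, Bool.or_eq_true, List.contains_iff_mem] at hk
  rcases hk with hk | hk
  · refine Or.inl ?_
    have hall : ∀ u, u < 16 → sylBel.getD u 0 ∈ IF := fun u hu => hs _ (by
      have hl : u < sylBel.length := hu.trans_eq syl_bel_ok.1.symm
      rw [List.getD_eq_getElem _ _ hl]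
      simpa using List.all_eq_true.1 hk _ (List.getElem_mem hl))
    refine ⟨fun f hf => ?_, fun v hv => ?_⟩
    · obtain ⟨a, ha, e⟩ := hidx f hf
      have h := List.all_eq_true.1 syl_bel_self a (List.mem_range.2 ha)
      simp only [Bool.or_eq_true, List.any_eq_true, decide_eq_true_eq, List.contains_iff_mem] at h
      rcases h with h | ⟨b, hb, hb'⟩
      · obtain ⟨u, hu, eu⟩ := List.mem_iff_getElem.1 h
        have hu16 : u < 16 := hu.trans_eq syl_bel_ok.1
        refine ⟨u, hu16, imgs_inj ?_⟩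
        rw [e, (hbelP u hu16).2, List.getD_eq_getElem _ _ hu, eu]
      · obtain ⟨u, hu, eu⟩ := List.mem_iff_getElem.1 hb
        have hu16 : u < 16 := hu.trans_eq syl_bel_ok.1
        obtain ⟨hb72, f', hf', e'⟩ := hall u hu16
        rw [List.getD_eq_getElem _ _ hu, eu] at hb72 e'
        exact absurd (hmul f hf f' hf' a b ha hb72 e e').1 (not_lt.2 hb')
    · obtain ⟨k, hk', ek⟩ := fixed_bel (enc_lt v) fun j hj => by
        interval_cases j
        · exact hfixi _ (hall 1 (by norm_num)) v hv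
        · exact hfixi _ (hall 2 (by norm_num)) v hv
        · exact hfixi _ (hall 4 (by norm_num)) v hv
        · exact hfixi _ (hall 8 (by norm_num)) v hv
      exact (inW_iff v).2 ⟨k, hk', by rw [← ek, dec_enc]⟩
  · refine Or.inr ?_
    obtain ⟨hl, R, E, hR, hfix⟩ := fixed_cert hk
    refine ⟨fun v => lm (unpk R) (enc v), fun v => hR _, fun v w hv hw e => ?_⟩
    have hj : ∀ u, FixedBy F u → enc u = lm E (lm (unpk R) (enc u)) := fun u hu =>
      hfix _ (enc_lt u) fun j hj => hfixi _ (hgm _ (by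
        rw [List.getD_eq_getElem _ _ (by omega)]; exact List.getElem_mem _)) u hu
    rw [← dec_enc v, ← dec_enc w, hj v hv, hj w hw, show lm (unpk R) (enc v) = lm (unpk R) (enc w) from e]

end CfsgLib.Sporadic.J4Type
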