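import Cfsg.Agent.Lib.Sporadic.J4Type.SylowCheck
import Cfsg.Agent.Lib.Sporadic.J4Type.TenData

/-!
# Checks on the elementary abelian subgroups of order eight of the Sylow two-subgroup
-/

set_option autoImplicit false
set_option maxRecDepth 40000

namespace CfsgLib.Sporadic.J4Type.Ten

open CfsgLib.Sporadic.LargeFischer CfsgLib.Sporadic.LargeFischer.Hexa

/-- The members of one of the two special subgroups. -/
def spn (b : Bool) : List ℕ := if b then spanA else spanB

/-- The basis of the fixed vectors of one of the two special subgroups. -/
def fxb (b : Bool) : List ℕ := if b then fixA else fixB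

/-- Its three generators, and the identity. -/
def spGens (b : Bool) : List ℕ := [(spn b).getD 1 0, (spn b).getD 2 0, (spn b).getD 4 0, 0]

/-- The central members. -/
def cents : List ℕ := [0, 2]

/-- Growing a subgroup of order eight by the least element outside it. -/
def chk3 : ℕ → List ℕ → List ℕ → Bool
  | 0, span, gens => (tenCert.map (·.1)).contains (gens ++ [0]) &&
      [false, true].all fun b => !(gens ++ [0] == spGens b) || span == spn b
  | k + 1, span, gens => (List.range 72).all fun i =>
      decide (i ≤ gens.getLastD 0) || span.contains i || gens.any (fun g => decide (72 ≤ sTab g i)) ||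
        span.any (fun s => (decide (sTab s i < i) && !span.contains (sTab s i)) || decide (72 ≤ sTab s i)) ||
        chk3 k (span ++ span.map (sTab · i)) (gens ++ [i])

theorem chk3_ok : chk3 3 [0] [] = true := by decide +kernel

/-- The certified value, strict. -/
def certF (gs Ks : List ℕ) (R : ℕ) (E : List ℕ) (n : ℕ) : ℕ :=
  frc (lm (sL (gs.getD 0 0)) n ^^^ n) fun a => frc (lm (sL (gs.getD 1 0)) n ^^^ n) fun b =>
  frc (lm (sL (gs.getD 2 0)) n ^^^ n) fun c => frc (lm (sL (gs.getD 3 0)) n ^^^ n) fun d =>
  frc (lm (unpk R) n) fun r =>
  lm (unpk (Ks.getD 0 0)) a ^^^ lm (unpk (Ks.getD 1 0)) b ^^^ lm (unpk (Ks.getD 2 0)) c ^^^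
    lm (unpk (Ks.getD 3 0)) d ^^^ lm E r

theorem certF_eq : certF = certVal := by
  funext gs Ks R E n; simp only [certF, certVal, frc_eq]

theorem cert3_ok : tenCert.all (fun c => (c.1.length == 4) && c.1.all (fun a => decide (a < 72)) &&
    ((List.range 12).all fun t => certVal c.1 c.2.1 c.2.2.1 (unpk c.2.2.2) (2 ^ t) == 2 ^ t) &&
    ((unpk c.2.2.1).all (fun y => decide (y < 16)) ||
      ((unpk c.2.2.1).all (fun y => decide (y < 64)) &&
        ((c.1.all (fun a => sylBel.contains a || a == 0) &&
            (List.range 64).all fun k => lm (unpk c.2.2.2) k == wv k) ||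
          [false, true].any fun b => c.1 == spGens b && unpk c.2.2.2 == fxb b ++ List.replicate 6 0)))) = true := by
  rw [← certF_eq]
  decide +kernel

theorem spn_facts : ∀ b : Bool, (spn b).length = 8 ∧ (spn b).Nodup ∧ (fxb b).length = 6 ∧
    (fxb b).all (· < 4096) = true ∧
    (spn b).all (fun a => decide (a < 72)) = true ∧ (spGens b).all (spn b).contains = true ∧
    (spn b).all (fun a => (fxb b).all fun e => lm (sL a) e == e) = true ∧ ((spn b).map sL).Nodup ∧
    (spn b).any (fun a => (List.range 6).any fun i => lm (sL a) (wv (2 ^ i)) != wv (2 ^ i)) = true := by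
  decide +kernel

theorem spn_perp : ∀ b : Bool, (List.range 4096).all (fun n => frc n fun n =>
    (fxb b).any (fun e => bsc n e) || (spn b).all fun a => lm (sL a) n == n) = true := by decide +kernel

/-- Involutions of the Sylow subgroup commute with few others, two excepted. -/
theorem few_commute : (List.range 72).all (fun a => cents.contains a ||
    decide (((List.range 72).countP fun b => decide (sTab a b < 72)) < 64)) = true := by
  decide +kernel

/-- Conjugation of one special subgroup to the other and of the first to itself. -/
theorem conj_spn :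
    (spn false).all (fun a => (spn true).any fun b => cmpF (sylGen.getD 0 []) (sL a) == cmpF (sL b) (sylGen.getD 0 [])) = true ∧
    (spn true).all (fun a => (spn false).any fun b => cmpF (sylGen.getD 0 []) (sL a) == cmpF (sL b) (sylGen.getD 0 [])) = true ∧
    (spn false).all (fun a => (spn false).any fun b => cmpF ordImg (sL a) == cmpF (sL b) ordImg) = true := by
  decide +kernel

/-- The word of the element of order fourteen. -/
theorem ord_facts : ordImg.length = 12 ∧ ordImg.all (· < 4096) = true ∧
    (∀ i : Fin 12, appW [0, 0, 1, 2] (ordImg.getD i.1 0) = appW [2, 4, 1, 2, 1] (2 ^ i.1)) ∧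
    powL ordImg 14 = idL ∧ powL ordImg 2 ≠ idL := by decide +kernel

end CfsgLib.Sporadic.J4Type.Ten
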