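import Cfsg.Agent.Lib.Sporadic.J4Type.TenH
import Cfsg.Agent.Lib.Sporadic.J4Type.Fuse

/-!
# The self-centralising subgroups of order `2¹⁰` through an involution are conjugate
-/

set_option autoImplicit false
set_option linter.style.haveILetI false
set_option linter.unusedSectionVars false
set_option maxRecDepth 40000

namespace CfsgLib.Sporadic.J4Type.Ten

open CfsgLib.Sporadic.LargeFischer CfsgLib.Sporadic.LargeFischer.Hexa CfsgLib.ThreeTransp.Extraspecial

/-- The centraliser. -/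
abbrev Zc {G : Type*} [Group G] (z : G) : Subgroup G := Subgroup.centralizer ({z} : Set G)

variable {G : Type*} [Group G] [Finite G] [IsSimpleGroup G] {z : G} {π : G → V6}
  {ψ : ↥(Subgroup.centralizer ({z} : Set G)) →* Aut6}
  {x : ↥(Subgroup.centralizer ({z} : Set G))} (J : JF z π ψ x)

/-- Conjugates. -/
theorem IsTen.map {A : Subgroup G} (hA : IsTen A) (g : G) : IsTen (A.map (MulAut.conj g).toMonoidHom) := by
  refine ⟨elem_map hA.elem _, by rw [Subgroup.card_map_of_injective (f := (MulAut.conj g).toMonoidHom)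
    (MulAut.conj g).injective, hA.card], le_antisymm (fun y hy => ?_) ?_⟩
  · refine ⟨g⁻¹ * y * g, hA.self ▸ Subgroup.mem_centralizer_iff.2 fun a ha => ?_, by
      show g * (g⁻¹ * y * g) * g⁻¹ = y; group⟩
    have h1 := Subgroup.mem_centralizer_iff.1 hy _ ⟨a, ha, rfl⟩
    calc a * (g⁻¹ * y * g) = g⁻¹ * ((MulAut.conj g).toMonoidHom a * y) * g := by
          show _ = g⁻¹ * (g * a * g⁻¹ * y) * g; group
      _ = g⁻¹ * y * g * a := by rw [h1]; show g⁻¹ * (y * (g * a * g⁻¹)) * g = _; group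
  · rintro _ ⟨a, ha, rfl⟩
    refine Subgroup.mem_centralizer_iff.2 ?_
    rintro _ ⟨b, hb, rfl⟩
    rw [← map_mul, ← map_mul]
    exact congrArg _ (congrArg Subtype.val (hA.elem.1.is_comm.comm (⟨b, hb⟩ : ↥A) ⟨a, ha⟩))

theorem lm_cmp (L : List ℕ) : ∀ (K : List ℕ) (n : ℕ), lm (cmpL L K) n = lm L (lm K n)
  | [], n => by simp [cmpL, lm, lm_zero]
  | k :: K, n => by
    show (if n.testBit 0 then lm L k else 0) ^^^ lm (cmpL L K) (n / 2) = lm L ((if n.testBit 0 then k else 0) ^^^ lm K (n / 2))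
    rw [lm_xor, lm_cmp L K]
    split <;> simp [lm_zero]

include J

/-- The preimage of a Sylow subgroup of the image, with all of its members listed. -/
theorem exists_T0 : ∃ (T₀ : Sylow 2 ↥(Subgroup.centralizer ({z} : Set G))),
    (∀ g ∈ (T₀ : Subgroup _), ∃ i < 256, imgs (ψ g) = sEl i) ∧
    ∀ g, (∃ i < 256, imgs (ψ g) = sEl i) → g ∈ (T₀ : Subgroup _) := by
  classical
  haveI : Fact (Nat.Prime 2) := ⟨Nat.prime_two⟩
  haveI := finite_equiv
  have hb := J.base
  choose s hs hsi using fun j : Fin 4 => exists_sylGen J j.1 j.2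
  set P := Subgroup.closure (Set.range s) with hP
  have hPr : P ≤ ψ.range := (Subgroup.closure_le _).2 (Set.range_subset_iff.2 hs)
  have hstep : ∀ i (j : Fin 4), i < 256 → ∀ p : Aut6, imgs p = sEl i →
      imgs (p * s j) = sEl (sNext i j.1) ∧ sNext i j.1 < 256 := by
    intro i j hi p hp
    have h := List.all_eq_true.1 (List.all_eq_true.1 syl_next_ok i (List.mem_range.2 hi)) j.1 (List.mem_range.2 j.2)
    rw [beq_iff_eq, cmpF_eq] at h
    exact ⟨by rw [imgs_mul, hp, hsi, h], Nat.mod_lt _ (by norm_num)⟩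
  let S : Set Aut6 := {p | ∃ i < 256, imgs p = sEl i}
  have h1S : (1 : Aut6) ∈ S := ⟨0, by norm_num, by rw [imgs_one, syl_tree_ok.1, bitL_eq]⟩
  let M : Submonoid Aut6 :=
    { carrier := {p | ∀ q ∈ S, q * p ∈ S}
      one_mem' := fun q hq => by rwa [mul_one]
      mul_mem' := fun {a b} ha hb q hq => by rw [← mul_assoc]; exact hb _ (ha q hq) }
  have hlisted : ∀ p ∈ P, p ∈ S := by
    intro p hp
    have h0 : (P : Set Aut6) ⊆ M := by
      rw [hP, ← Subgroup.coe_toSubmonoid, Subgroup.closure_toSubmonoid_of_finite]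
      refine Submonoid.closure_le.2 ?_
      rintro _ ⟨j, rfl⟩ q ⟨i, hi, e⟩
      exact ⟨_, (hstep i j hi q e).2, (hstep i j hi q e).1⟩
    simpa using h0 hp 1 h1S
  have helts : ∀ i, i < 256 → ∃ p ∈ P, imgs p = sEl i := by
    intro i
    induction i using Nat.strong_induction_on with
    | _ i ih =>
      intro hi
      have h := List.all_eq_true.1 syl_tree_ok.2 i (List.mem_range.2 hi)
      simp only [Bool.or_eq_true, Bool.and_eq_true, beq_iff_eq, decide_eq_true_eq] at h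
      rcases h with h | ⟨⟨h1, h2⟩, h3⟩
      · exact ⟨1, one_mem _, by rw [h, imgs_one, syl_tree_ok.1, bitL_eq]⟩
      · obtain ⟨p, hp, e⟩ := ih _ h1 (h1.trans hi)
        refine ⟨p * s ⟨_, h2⟩, mul_mem hp (Subgroup.subset_closure ⟨_, rfl⟩), ?_⟩
        rw [(hstep _ ⟨_, h2⟩ (h1.trans hi) p e).1, h3]
  have hcard : Nat.card P = 256 := by
    choose p hp hpi using fun i : Fin 256 => helts i.1 i.2
    refine (Nat.card_congr (Equiv.ofBijective (fun i => (⟨p i, hp i⟩ : P)) ⟨fun i j e => ?_, fun q => ?_⟩).symm).trans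
      (by simp)
    · have e' : p i = p j := congrArg Subtype.val e
      have hlt : ∀ k : Fin 256, sylEl.getD k.1 0 < 2 ^ 144 := fun k => by
        have hk : k.1 < sylEl.length := by rw [syl_distinct.1]; exact k.2
        have := List.all_eq_true.1 syl_distinct.2.2 _ (List.getElem_mem hk)
        rw [List.getD_eq_getElem _ _ hk]
        simpa using this
      have e2 := unpk_inj (hlt i) (hlt j) ((hpi i).symm.trans (e' ▸ hpi j))
      have h1 := List.all_eq_true.1 syl_distinct.2.1 i.1 (List.mem_range.2 i.2)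
      have h2 := List.all_eq_true.1 syl_distinct.2.1 j.1 (List.mem_range.2 j.2)
      rw [beq_iff_eq] at h1 h2
      exact Fin.ext (by rw [← h1, ← h2, e2])
    · obtain ⟨i, hi, e⟩ := hlisted q q.2
      exact ⟨⟨i, hi⟩, Subtype.ext (imgs_inj ((hpi _).trans e.symm))⟩
  have hpre : Nat.card ↥(P.comap ψ) = 2 ^ 21 := by
    have e1 := (ψ.subgroupComap P).ker.card_mul_index
    rw [Subgroup.index_ker, MonoidHom.range_eq_top.2 (fun g => by
      obtain ⟨d, hd⟩ := hPr g.2
      exact ⟨⟨d, show ψ d ∈ P from hd ▸ g.2⟩, Subtype.ext hd⟩), Subgroup.card_top, hcard] at e1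
    have e2 : Nat.card (ψ.subgroupComap P).ker = 8192 := by
      rw [← hb.card_Q]
      exact Nat.card_congr
        { toFun := fun d => ⟨(((d : ↥(P.comap ψ)) : ↥(Subgroup.centralizer ({z} : Set G))) : G),
            (hb.ker _).1 (congrArg Subtype.val d.2)⟩
          invFun := fun q => ⟨⟨⟨q, hb.mem_cent q.2⟩, show ψ _ ∈ P by rw [(hb.ker _).2 q.2]; exact P.one_mem⟩,
            Subtype.ext ((hb.ker _).2 q.2)⟩
          left_inv := fun d => rfl
          right_inv := fun q => rfl }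
    rw [e2] at e1
    rw [← e1]; norm_num
  have hfac : (Nat.card ↥(Subgroup.centralizer ({z} : Set G))).factorization 2 = 21 := by
    rw [Fuse.card_cent J, Nat.factorization_mul (by norm_num) (by norm_num), Nat.Prime.factorization_pow Nat.prime_two]
    simp [Nat.factorization_eq_zero_of_not_dvd (show ¬ 2 ∣ 10395 by norm_num)]
  refine ⟨Sylow.ofCard (P.comap ψ) (by rw [hpre, hfac]), fun g hg => ?_, fun g hg => ?_⟩
  · exact hlisted (ψ g) hg
  · obtain ⟨i, hi, e⟩ := hg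
    obtain ⟨p, hp, ep⟩ := helts i hi
    show ψ g ∈ P
    rw [imgs_inj (e.trans ep.symm)]
    exact hp

/-- Lifts of a map carrying one special subgroup to another carry the shapes along. -/
theorem InK.conj {b b' : Bool} {d g : ↥(Subgroup.centralizer ({z} : Set G))} {L : List ℕ} (hd : imgs (ψ d) = L)
    (hto : (spn b).all (fun a => (spn b').any fun a' => cmpF L (sL a) == cmpF (sL a') L) = true)
    (hg : InK π ψ b g) : InK π ψ b' (d * g * d⁻¹) := by
  simp only [List.all_eq_true, List.any_eq_true, beq_iff_eq, cmpF_eq] at hto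
  obtain ⟨⟨a, ha, ea⟩, hgc⟩ := hg
  have hb := J.base
  obtain ⟨a', ha', e'⟩ := hto a ha
  refine ⟨⟨a', ha', ?_⟩, fun e he hfix => ?_⟩
  · refine List.ext_getElem (by simp [imgs, sL, sEl, unpk]) fun t h1 h2 => ?_
    have ht : t < 12 := by simpa [imgs] using h1
    have hp : 2 ^ t < 4096 := Nat.pow_lt_pow_right (by norm_num : 1 < 2) ht |>.trans_eq (by norm_num)
    rw [← List.getD_eq_getElem _ 0 h1, ← List.getD_eq_getElem _ 0 h2, imgs_getD _ ht, map_mul, map_mul, map_inv, ← lm_bit]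
    set w : V6 := (ψ d)⁻¹ (dec (2 ^ t))
    show enc (ψ d (ψ g w)) = _
    rw [enc_apply, enc_apply, hd, ea, ← lm_cmp, e', lm_cmp, ← hd, ← enc_apply,
      show ψ d w = dec (2 ^ t) from (ψ d).apply_symm_apply _, enc_dec hp]
  · obtain ⟨hm, hπ⟩ := hb.π_conj d⁻¹ he
    have h1 : (g : G) * ((d⁻¹ : ↥(Subgroup.centralizer ({z} : Set G))) * e * ((d⁻¹ : ↥(Subgroup.centralizer ({z} : Set G))) : G)⁻¹) =
        ((d⁻¹ : ↥(Subgroup.centralizer ({z} : Set G))) * e * ((d⁻¹ : ↥(Subgroup.centralizer ({z} : Set G))) : G)⁻¹) * g := by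
      refine hgc _ hm fun a₀ ha₀ => ?_
      obtain ⟨a₁, ha₁, e₁⟩ := hto a₀ ha₀
      rw [hπ, map_inv]
      have hinj : ∀ u v, u < 4096 → v < 4096 → lm (imgs (ψ d)) u = lm (imgs (ψ d)) v → u = v := fun u v hu hv huv => by
        rw [← enc_dec hu, ← enc_dec hv]
        refine congrArg enc ((ψ d).injective ?_)
        rw [apply_dec _ hu, apply_dec _ hv, huv]
      refine hinj _ _ ?_ (enc_lt _) ?_
      · exact lm_lt (k := 12) _ _ (by
          intro x hx; simp only [sL, sEl, unpk, List.mem_map] at hx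
          obtain ⟨t, -, rfl⟩ := hx; exact Nat.mod_lt _ (by norm_num))
      · rw [hd, ← lm_cmp, e₁, lm_cmp, ← hd, ← enc_apply,
          show ψ d ((ψ d)⁻¹ (π e)) = π e from (ψ d).apply_symm_apply _, hfix a₁ ha₁]
    simp only [Subgroup.coe_mul, Subgroup.coe_inv, inv_inv] at h1 ⊢
    calc (d : G) * g * (d : G)⁻¹ * e = (d : G) * (g * ((d : G)⁻¹ * e * d)) * (d : G)⁻¹ := by group
      _ = e * ((d : G) * g * (d : G)⁻¹) := by rw [h1]; group

set_option maxHeartbeats 1600000 in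
/-- All of them through `z` are conjugate to one, which some element of order seven normalises. -/
theorem exists_std : ∀ A : Subgroup G, IsTen A → z ∈ A →
    (∀ A' : Subgroup G, IsTen A' → z ∈ A' → ∃ g : G, g * z = z * g ∧ A' = A.map (MulAut.conj g).toMonoidHom) ∧
    ∃ y : G, orderOf y = 7 ∧ y * z = z * y ∧ y ∈ Subgroup.normalizer (A : Set G) := by
  classical
  haveI : Fact (Nat.Prime 2) := ⟨Nat.prime_two⟩
  haveI := finite_equiv
  obtain ⟨T₀, hlist, hback⟩ := exists_T0 J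
  obtain ⟨s0, hs0, hs0i⟩ := exists_sylGen J 0 (by norm_num)
  obtain ⟨d0, hd0⟩ := hs0
  have hd0' : imgs (ψ d0) = sylGen.getD 0 [] := by rw [hd0, hs0i]
  obtain ⟨hAB, hBA, hAA⟩ := conj_spn
  -- a conjugate whose image is listed
  have hmove : ∀ A : Subgroup G, IsTen A → z ∈ A →
      ∃ t : ↥(Zc z), ∀ g : ↥(Zc z), (g : G) ∈ A.map (MulAut.conj (t : G)).toMonoidHom → ∃ i < 256, imgs (ψ g) = sEl i := by
    intro A hA hzA
    have hAC : A ≤ Zc z := fun a ha => Subgroup.mem_centralizer_singleton_iff.2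
      (congrArg Subtype.val (hA.elem.1.is_comm.comm (⟨a, ha⟩ : ↥A) ⟨z, hzA⟩))
    have hp : IsPGroup 2 ↥(A.subgroupOf (Zc z)) := IsPGroup.of_card (n := 10)
      (by rw [Nat.card_congr (Subgroup.subgroupOfEquivOfLe hAC).toEquiv, hA.card])
    obtain ⟨T, hT⟩ := hp.exists_le_sylow
    obtain ⟨t, ht⟩ := MulAction.exists_smul_eq ↥(Zc z) T T₀
    refine ⟨t, fun g hg => hlist g ?_⟩
    obtain ⟨a, ha, ea⟩ := hg
    have hg' : g = t * ⟨a, hAC ha⟩ * t⁻¹ := Subtype.ext ea.symm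
    rw [hg', ← ht, Sylow.coe_subgroup_smul]
    exact ⟨_, hT (show (⟨a, hAC ha⟩ : ↥(Zc z)) ∈ A.subgroupOf (Zc z) from ha), rfl⟩
  -- conjugates by lifts
  have hshift : ∀ A A' : Subgroup G, IsTen A → IsTen A' → z ∈ A → z ∈ A' → ∀ (b b' : Bool) (d : ↥(Zc z)) (L : List ℕ),
      (∀ g : ↥(Zc z), (g : G) ∈ A ↔ InK π ψ b g) → (∀ g : ↥(Zc z), (g : G) ∈ A' ↔ InK π ψ b' g) → imgs (ψ d) = L →
      (spn b).all (fun a => (spn b').any fun a' => cmpF L (sL a) == cmpF (sL a') L) = true →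
      A' = A.map (MulAut.conj (d : G)).toMonoidHom := by
    intro A A' hA hA' hzA hzA' b b' d L hK hK' hd hto
    refine (Subgroup.eq_of_le_of_card_ge ?_ (le_of_eq (by rw [hA'.card, (hA.map _).card]))).symm
    rintro _ ⟨a, ha, rfl⟩
    have hac : a ∈ Zc z := Subgroup.mem_centralizer_singleton_iff.2
      (congrArg Subtype.val (hA.elem.1.is_comm.comm (⟨a, ha⟩ : ↥A) ⟨z, hzA⟩))
    exact (hK' (d * ⟨a, hac⟩ * d⁻¹)).2 (InK.conj J hd hto ((hK ⟨a, hac⟩).1 ha))
  have hzmap : ∀ (A : Subgroup G) (t : ↥(Zc z)), z ∈ A → z ∈ A.map (MulAut.conj (t : G)).toMonoidHom := fun A t h =>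
    ⟨z, h, by show (t : G) * z * (t : G)⁻¹ = z; rw [Subgroup.mem_centralizer_singleton_iff.1 t.2, mul_inv_cancel_right]⟩
  -- the standard shape
  have hstd : ∀ A : Subgroup G, IsTen A → z ∈ A →
      ∃ t : ↥(Zc z), ∀ g : ↥(Zc z), (g : G) ∈ A.map (MulAut.conj (t : G)).toMonoidHom ↔ InK π ψ false g := by
    intro A hA hzA
    obtain ⟨t, ht⟩ := hmove A hA hzA
    obtain ⟨b, hb, -⟩ := classify J (hA.map (t : G)) (hzmap A t hzA) ht
    cases b
    · exact ⟨t, hb⟩
    refine ⟨d0 * t, ?_⟩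
    have hA1 := hA.map (t : G)
    have hA2 := hA1.map (d0 : G)
    have hl2 : ∀ g : ↥(Zc z), (g : G) ∈ (A.map (MulAut.conj (t : G)).toMonoidHom).map (MulAut.conj (d0 : G)).toMonoidHom →
        ∃ i < 256, imgs (ψ g) = sEl i := by
      rintro g ⟨a, ha, ea⟩
      have hac : a ∈ Zc z := Subgroup.mem_centralizer_singleton_iff.2
        (congrArg Subtype.val (hA1.elem.1.is_comm.comm (⟨a, ha⟩ : ↥(A.map (MulAut.conj (t : G)).toMonoidHom)) ⟨z, hzmap A t hzA⟩))
      have hin : InK π ψ false (d0 * ⟨a, hac⟩ * d0⁻¹) := InK.conj J hd0' hBA ((hb ⟨a, hac⟩).1 ha)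
      obtain ⟨⟨a', ha', e'⟩, -⟩ := hin
      have hg : g = d0 * ⟨a, hac⟩ * d0⁻¹ := Subtype.ext ea.symm
      rw [hg]
      refine ⟨sylInv.getD a' 0, ?_, e'⟩
      have ha72 : a' < 72 := by simpa using List.all_eq_true.1 (spn_facts false).2.2.2.2.1 a' ha'
      exact (by decide +kernel : ∀ a : Fin 72, sylInv.getD a.1 0 < 256) ⟨a', ha72⟩
    have e2 : (A.map (MulAut.conj (t : G)).toMonoidHom).map (MulAut.conj (d0 : G)).toMonoidHom =
        A.map (MulAut.conj ((d0 * t : ↥(Zc z)) : G)).toMonoidHom := by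
      rw [Subgroup.map_map]
      congr 1
      ext a
      show (d0 : G) * ((t : G) * a * (t : G)⁻¹) * (d0 : G)⁻¹ = ((d0 : G) * t) * a * ((d0 : G) * t)⁻¹
      group
    rw [← e2]
    obtain ⟨b', hb', hsurj⟩ := classify J hA2 (hzmap _ d0 (hzmap A t hzA)) hl2
    cases b'
    · exact hb'
    exfalso
    -- a member of the second shape only
    obtain ⟨a, ha, hna⟩ : ∃ a ∈ spn true, ∀ a' ∈ spn false, sL a ≠ sL a' := by
      have : ((spn true).any fun a => (spn false).all fun a' => sL a != sL a') = true := by decide +kernel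
      simpa [List.any_eq_true, List.all_eq_true, bne_iff_ne] using this
    obtain ⟨g, hg, eg⟩ := hsurj a ha
    obtain ⟨a₁, ha₁, ea₁⟩ := hg
    have hac : a₁ ∈ Zc z := Subgroup.mem_centralizer_singleton_iff.2
      (congrArg Subtype.val (hA1.elem.1.is_comm.comm (⟨a₁, ha₁⟩ : ↥(A.map (MulAut.conj (t : G)).toMonoidHom)) ⟨z, hzmap A t hzA⟩))
    obtain ⟨⟨a', ha', e'⟩, -⟩ : InK π ψ false (d0 * ⟨a₁, hac⟩ * d0⁻¹) := InK.conj J hd0' hBA ((hb ⟨a₁, hac⟩).1 ha₁)
    have hg' : g = d0 * ⟨a₁, hac⟩ * d0⁻¹ := Subtype.ext ea₁.symm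
    exact hna a' ha' (eg.symm.trans (hg' ▸ e'))
  intro A hA hzA
  obtain ⟨t, ht⟩ := hstd A hA hzA
  refine ⟨fun A' hA' hzA' => ?_, ?_⟩
  · obtain ⟨t', ht'⟩ := hstd A' hA' hzA'
    have e : A.map (MulAut.conj (t : G)).toMonoidHom = A'.map (MulAut.conj (t' : G)).toMonoidHom := by
      ext a
      constructor <;> intro ha
      · have hac : a ∈ Zc z := by
          obtain ⟨a0, ha0, rfl⟩ := ha
          exact mul_mem (mul_mem t.2 (Subgroup.mem_centralizer_singleton_iff.2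
            (congrArg Subtype.val (hA.elem.1.is_comm.comm (⟨a0, ha0⟩ : ↥A) ⟨z, hzA⟩)))) (inv_mem t.2)
        exact (ht' ⟨a, hac⟩).2 ((ht ⟨a, hac⟩).1 ha)
      · have hac : a ∈ Zc z := by
          obtain ⟨a0, ha0, rfl⟩ := ha
          exact mul_mem (mul_mem t'.2 (Subgroup.mem_centralizer_singleton_iff.2
            (congrArg Subtype.val (hA'.elem.1.is_comm.comm (⟨a0, ha0⟩ : ↥A') ⟨z, hzA'⟩)))) (inv_mem t'.2)
        exact (ht ⟨a, hac⟩).2 ((ht' ⟨a, hac⟩).1 ha)
    refine ⟨(t' : G)⁻¹ * t, Subgroup.mem_centralizer_singleton_iff.1 (mul_mem (inv_mem t'.2) t.2), ?_⟩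
    calc A' = (A'.map (MulAut.conj (t' : G)).toMonoidHom).map (MulAut.conj (t' : G)⁻¹).toMonoidHom := by
          rw [Subgroup.map_map]
          convert (Subgroup.map_id A').symm
          ext a
          show (t' : G)⁻¹ * ((t' : G) * a * (t' : G)⁻¹) * (t' : G)⁻¹⁻¹ = a
          group
      _ = A.map (MulAut.conj ((t' : G)⁻¹ * t)).toMonoidHom := by
          rw [← e, Subgroup.map_map]
          congr 1
          ext a
          show (t' : G)⁻¹ * ((t : G) * a * (t : G)⁻¹) * (t' : G)⁻¹⁻¹ = (t' : G)⁻¹ * t * a * ((t' : G)⁻¹ * t)⁻¹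
          group
  -- the element of order seven
  obtain ⟨g1, ⟨d1, hd1⟩, hg1⟩ := exists_word J [0, 0, 1, 2] (by decide)
  obtain ⟨g2, ⟨d2, hd2⟩, hg2⟩ := exists_word J [2, 4, 1, 2, 1] (by decide)
  obtain ⟨hlen, hlt, hw, h14, h2⟩ := ord_facts
  set d : ↥(Zc z) := d1⁻¹ * d2 with hd
  have hdi : imgs (ψ d) = ordImg := by
    refine List.ext_getElem (by simp [imgs, hlen]) fun i h1 h2 => ?_
    have hi : i < 12 := by simpa [imgs] using h1
    have hp : 2 ^ i < 4096 := Nat.pow_lt_pow_right (by norm_num : 1 < 2) hi |>.trans_eq (by norm_num)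
    rw [← List.getD_eq_getElem _ 0 h1, ← List.getD_eq_getElem _ 0 h2, imgs_getD _ hi]
    have hy : ordImg.getD i 0 < 4096 := by
      rw [List.getD_eq_getElem _ _ h2]; simpa using List.all_eq_true.1 hlt _ (List.getElem_mem h2)
    have key : g1 (dec (ordImg.getD i 0)) = g2 (dec (2 ^ i)) := by
      rw [(hg1 _ hy).2, (hg2 _ hp).2, hw ⟨i, hi⟩]
    have : ψ d (dec (2 ^ i)) = dec (ordImg.getD i 0) := by
      rw [hd, map_mul, map_inv, hd1, hd2]
      show g1.symm (g2 (dec (2 ^ i))) = _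
      rw [← key, g1.symm_apply_apply]
    rw [this, enc_dec hy]
  have h7 : (7 : ℕ) ∣ orderOf d := by
    have hq : orderOf (ψ d ^ 2) = 7 := by
      haveI : Fact (Nat.Prime 7) := ⟨by norm_num⟩
      refine orderOf_eq_prime ?_ fun e => h2 ?_
      · rw [← pow_mul]; exact imgs_inj (by rw [imgs_pow, hdi, h14, imgs_one])
      · rw [← hdi, ← imgs_pow, e, imgs_one]
    rw [← hq]
    exact ((orderOf_pow_dvd 2).trans (orderOf_map_dvd ψ d))
  set k := orderOf d / 7 with hk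
  have hord : orderOf (d ^ k) = 7 := by
    rw [orderOf_pow_of_dvd (by have := orderOf_pos d; omega) (Nat.div_dvd_of_dvd h7), 
      Nat.div_div_self h7 (orderOf_pos d).ne']
  set A₁ := A.map (MulAut.conj (t : G)).toMonoidHom with hA₁
  have hdN : (d : G) ∈ Subgroup.normalizer (A₁ : Set G) := by
    have h := hshift A₁ A₁ (hA.map _) (hA.map _) (hzmap A t hzA) (hzmap A t hzA) false false d ordImg ht ht hdi hAA
    refine Subgroup.mem_normalizer_iff.2 fun a => ⟨fun ha => ?_, fun ha => ?_⟩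
    · rw [h]; exact ⟨a, ha, rfl⟩
    · rw [h] at ha
      obtain ⟨a', ha', e⟩ := ha
      exact (mul_left_cancel (mul_right_cancel (e : (d : G) * a' * (d : G)⁻¹ = d * a * (d : G)⁻¹))) ▸ ha'
  refine ⟨(t : G)⁻¹ * (d : G) ^ k * t, ?_, ?_, ?_⟩
  · rw [← hord, ← Subgroup.orderOf_coe, Subgroup.coe_pow]
    have := orderOf_injective (MulAut.conj (t : G)⁻¹).toMonoidHom (MulAut.conj (t : G)⁻¹).injective ((d : G) ^ k)
    simpa using this
  · exact Subgroup.mem_centralizer_singleton_iff.1 (mul_mem (mul_mem (inv_mem t.2) (pow_mem d.2 k)) t.2)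
  · have hdk := Subgroup.mem_normalizer_iff.1 (pow_mem hdN k)
    refine Subgroup.mem_normalizer_iff.2 fun a => ?_
    have hiff : ∀ a, a ∈ A ↔ (t : G) * a * (t : G)⁻¹ ∈ A₁ := fun a =>
      ⟨fun ha => ⟨a, ha, rfl⟩, fun ⟨a', ha', e⟩ =>
        (mul_left_cancel (mul_right_cancel (e : (t : G) * a' * (t : G)⁻¹ = t * a * (t : G)⁻¹))) ▸ ha'⟩
    rw [hiff, hiff, hdk]
    rw [show (d : G) ^ k * ((t : G) * a * (t : G)⁻¹) * ((d : G) ^ k)⁻¹ =
      (t : G) * ((t : G)⁻¹ * (d : G) ^ k * t * a * ((t : G)⁻¹ * (d : G) ^ k * t)⁻¹) * (t : G)⁻¹ by group]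

end CfsgLib.Sporadic.J4Type.Ten
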