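import Mathlib

/-!
# Data: coordinates of the subgroup of order `2¹⁰` as an exterior square, and a two-group beside it
-/

set_option autoImplicit false
set_option maxRecDepth 40000

namespace CfsgLib.Sporadic.J4Type.Ten

/-- The codes of the ten basic members. -/
def plk : List ℕ := [7, 30, 44, 960, 51, 29, 896, 11, 640, 832]

/-- The inverse coordinates. -/
def plkInv : List ℕ := [22, 52, 35, 162, 183, 133, 72, 520, 320, 776]

/-- The decomposable members. -/
def decMask : ℕ := 262567432926466872196637648448325973058480168976889728683345837105383836524705515179516799038768043768440813472996187173832642213696448780787785903180800242798601906354329156314518561568052686201782514843795739000520192293208280631956201386131852559644003929679336521238322448257047841762304644736876542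

/-- Generators of a two-group meeting the subgroup trivially. -/
def sylPairs : List (ℕ × List ℕ) := [
  (0, [14, 2, 10, 3, 21, 19, 1, 15, 7, 9, 6, 8, 0, 13, 17, 11, 22, 12, 23, 5, 20, 4, 18, 16]),
  (0, [12, 11, 2, 9, 5, 19, 8, 10, 6, 3, 1, 7, 17, 13, 22, 15, 23, 18, 0, 21, 20, 4, 16, 14]),
  (0, [18, 8, 10, 3, 19, 21, 1, 6, 7, 9, 15, 2, 17, 13, 0, 11, 23, 16, 22, 4, 20, 5, 14, 12]),
  (0, [14, 15, 7, 3, 4, 5, 11, 2, 10, 9, 8, 6, 17, 13, 0, 1, 23, 12, 22, 19, 20, 21, 18, 16]),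
  (0, [17, 10, 6, 3, 4, 5, 2, 11, 15, 9, 1, 7, 14, 13, 12, 8, 18, 0, 16, 19, 20, 21, 23, 22]),
  (0, [22, 7, 15, 3, 4, 5, 8, 1, 6, 9, 11, 10, 16, 13, 18, 2, 12, 23, 14, 19, 20, 21, 0, 17]),
  (189, [0, 11, 8, 13, 5, 4, 15, 10, 2, 20, 7, 1, 12, 3, 14, 6, 16, 17, 18, 21, 9, 19, 22, 23]),
  (1485, [0, 7, 15, 9, 19, 21, 8, 1, 6, 3, 11, 10, 12, 20, 14, 2, 16, 17, 18, 4, 13, 5, 22, 23]),
  (1336, [0, 3, 5, 1, 8, 2, 19, 9, 4, 7, 20, 13, 12, 11, 14, 21, 16, 17, 18, 6, 10, 15, 22, 23]),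
  (266, [0, 15, 7, 21, 20, 9, 11, 2, 10, 5, 8, 6, 12, 19, 14, 1, 16, 17, 18, 13, 4, 3, 22, 23])]

end CfsgLib.Sporadic.J4Type.Ten
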