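import Cfsg.Agent.Lib.Sporadic.LargeFischer.Hexa.Code
import Cfsg.Agent.Lib.Sporadic.J4Type.TenLData
import Cfsg.Agent.Lib.SmallGroups.GolayOctads

/-!
# Maps of an exterior square keeping the decomposable members

Vectors of five bits, bivectors of ten.
-/

set_option autoImplicit false
set_option maxRecDepth 40000

namespace CfsgLib.Sporadic.J4Type.Ten

open CfsgLib.Sporadic.LargeFischer.Hexa

/-- The products of two basic vectors. -/
def wedE : List (List ℕ) := [[0, 1, 2, 4, 8], [1, 0, 16, 32, 64], [2, 16, 0, 128, 256], [4, 32, 128, 0, 512], [8, 64, 256, 512, 0]]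

/-- The products of three basic vectors. -/
def triE : List (List ℕ) := [[0, 0, 1, 2, 4], [0, 1, 0, 8, 16], [0, 2, 8, 0, 32], [0, 4, 16, 32, 0], [1, 0, 0, 64, 128], [2, 0, 64, 0, 256], [4, 0, 128, 256, 0], [8, 64, 0, 0, 512], [16, 128, 0, 512, 0], [32, 256, 512, 0, 0]]

/-- The product of two vectors. -/
def wed (u v : ℕ) : ℕ := lm ((List.range 5).map fun i => lm (wedE.getD i []) v) u

/-- The product of a vector and a bivector. -/
def tri (p d : ℕ) : ℕ := lm ((List.range 10).map fun t => lm (triE.getD t []) p) d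

/-- Decomposable and not zero. -/
def isDec (d : ℕ) : Bool := decMask.testBit d

/-- The points of a bivector. -/
def ptsOf (d : ℕ) : List ℕ := (List.range 32).filter fun p => p != 0 && tri p d == 0

/-- A basis of a complement of a vector. -/
def restB (u : ℕ) : List ℕ := ((List.range 5).filter fun i => i != Nat.log2 u).map (2 ^ ·)

theorem wed_symm_all : ∀ u v : Fin 32, wed u.1 v.1 = wed v.1 u.1 ∧ wed u.1 v.1 < 1024 ∧
    isDec (wed u.1 v.1) = (u.1 != 0 && v.1 != 0 && u.1 != v.1) ∧ tri u.1 (wed u.1 v.1) = 0 ∧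
    (u.1 = v.1 → wed u.1 v.1 = 0) := by decide +kernel

theorem dec_wed_all : (List.range 1024).all (fun d => !isDec d ||
    ((ptsOf d).length == 3 && wed ((ptsOf d).getD 0 0) ((ptsOf d).getD 1 0) == d)) = true := by decide +kernel

theorem meet_all : (List.range 1024).all (fun d => !isDec d || (List.range 1024).all fun d' =>
    !isDec d' || !isDec (d ^^^ d') || (List.range 32).any fun p => p != 0 && tri p d == 0 && tri p d' == 0) = true := by
  decide +kernel

theorem star_all : (List.range 32).all (fun u => u == 0 || ((List.range 32).all fun v =>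
    (List.range 16).any fun m => wed u (lm (restB u) m) == wed u v) &&
    (List.range 16).all fun m => m == 0 || isDec (wed u (lm (restB u) m))) = true := by decide +kernel

theorem star_ne : ∀ u v : Fin 32, u.1 = v.1 ∨ u.1 = 0 ∨ v.1 = 0 ∨
    ((List.range 32).any fun x => (List.range 32).all fun w => wed v.1 x != wed u.1 w) = true := by decide +kernel

theorem wed_comm {u v : ℕ} (hu : u < 32) (hv : v < 32) : wed u v = wed v u := (wed_symm_all ⟨u, hu⟩ ⟨v, hv⟩).1

theorem wed_self {u : ℕ} (hu : u < 32) : wed u u = 0 := (wed_symm_all ⟨u, hu⟩ ⟨u, hu⟩).2.2.2.2 rfl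

theorem wed_lt {u v : ℕ} (hu : u < 32) (hv : v < 32) : wed u v < 1024 := (wed_symm_all ⟨u, hu⟩ ⟨v, hv⟩).2.1

theorem wed_xor_left (a b v : ℕ) : wed (a ^^^ b) v = wed a v ^^^ wed b v := lm_xor _ a b

theorem wed_xor_right {u a b : ℕ} (hu : u < 32) (ha : a < 32) (hb : b < 32) : wed u (a ^^^ b) = wed u a ^^^ wed u b := by
  rw [wed_comm hu (Nat.xor_lt_two_pow (n := 5) ha hb), wed_xor_left, wed_comm ha hu, wed_comm hb hu]

theorem isDec_wed {u v : ℕ} (hu : u < 32) (hv : v < 32) : isDec (wed u v) = true ↔ u ≠ 0 ∧ v ≠ 0 ∧ u ≠ v := by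
  rw [(wed_symm_all ⟨u, hu⟩ ⟨v, hv⟩).2.2.1]
  simp [and_assoc]

theorem tri_wed {u v : ℕ} (hu : u < 32) (hv : v < 32) : tri u (wed u v) = 0 := (wed_symm_all ⟨u, hu⟩ ⟨v, hv⟩).2.2.2.1

/-- A point lies on a decomposable member. -/
def On (p d : ℕ) : Prop := p < 32 ∧ p ≠ 0 ∧ tri p d = 0

theorem On.eq {p u v : ℕ} (hu : u < 32) (hv : v < 32) (hd : isDec (wed u v) = true) (hp : On p (wed u v)) :
    p = u ∨ p = v ∨ p = u ^^^ v := by
  obtain ⟨h0, h0', hne⟩ := (isDec_wed hu hv).1 hd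
  have hx : u ^^^ v < 32 := Nat.xor_lt_two_pow (n := 5) hu hv
  have hx0 : u ^^^ v ≠ 0 := fun e => hne (Nat.xor_eq_zero_iff.1 e)
  have h := List.all_eq_true.1 dec_wed_all _ (List.mem_range.2 (wed_lt hu hv))
  simp only [hd, Bool.not_true, Bool.false_or, Bool.and_eq_true, beq_iff_eq] at h
  have hmem : ∀ q, On q (wed u v) → q ∈ ptsOf (wed u v) := fun q hq =>
    List.mem_filter.2 ⟨List.mem_range.2 hq.1, by simp [hq.2.1, hq.2.2]⟩
  have h3 : On (u ^^^ v) (wed u v) := by
    refine ⟨hx, hx0, ?_⟩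
    have h := tri_wed hx hv
    rwa [wed_xor_left, wed_self hv, Nat.xor_zero] at h
  have hsub : [u, v, u ^^^ v].Subperm (ptsOf (wed u v)) := by
    refine (List.subperm_of_subset ?_ ?_)
    · simp only [List.nodup_cons, List.mem_cons, List.not_mem_nil, or_false, not_or, List.nodup_nil, and_true]
      refine ⟨⟨hne, fun e => h0' ?_⟩, fun e => h0 ?_, not_false⟩
      · rw [show v = u ^^^ (u ^^^ v) by rw [← Nat.xor_assoc, Nat.xor_self, Nat.zero_xor], ← e, Nat.xor_self]
      · rw [show u = u ^^^ v ^^^ v by rw [Nat.xor_assoc, Nat.xor_self, Nat.xor_zero], ← e, Nat.xor_self]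
    · intro q hq
      simp only [List.mem_cons, List.not_mem_nil, or_false] at hq
      rcases hq with rfl | rfl | rfl
      · exact hmem _ ⟨hu, h0, tri_wed hu hv⟩
      · exact hmem _ ⟨hv, h0', by rw [wed_comm hu hv]; exact tri_wed hv hu⟩
      · exact hmem _ h3
  have := (hsub.perm_of_length_le (le_of_eq h.1)).mem_iff.2 (hmem p hp)
  simpa using this

theorem exists_wed {d : ℕ} (hlt : d < 1024) (hd : isDec d = true) : ∃ u v, u < 32 ∧ v < 32 ∧ wed u v = d := by
  have h := List.all_eq_true.1 dec_wed_all _ (List.mem_range.2 hlt)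
  simp only [hd, Bool.not_true, Bool.false_or, Bool.and_eq_true, beq_iff_eq] at h
  have hlt' : ∀ i, (ptsOf d).getD i 0 < 32 := fun i => by
    by_cases hi : i < (ptsOf d).length
    · rw [List.getD_eq_getElem _ _ hi]
      exact List.mem_range.1 (List.mem_filter.1 (List.getElem_mem hi)).1
    · rw [List.getD_eq_default _ _ (not_lt.1 hi)]; norm_num
  exact ⟨_, _, hlt' 0, hlt' 1, h.2⟩

/-- Two points give their line. -/
theorem eq_wed {p q d : ℕ} (hlt : d < 1024) (hd : isDec d = true) (hp : On p d) (hq : On q d) (hpq : p ≠ q) :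
    d = wed p q := by
  obtain ⟨u, v, hu, hv, rfl⟩ := exists_wed hlt hd
  have huu := wed_self hu
  have hvv := wed_self hv
  have hx : u ^^^ v < 32 := Nat.xor_lt_two_pow (n := 5) hu hv
  rcases On.eq hu hv hd hp with rfl | rfl | rfl <;> rcases On.eq hu hv hd hq with rfl | rfl | rfl <;>
    first
    | exact absurd rfl hpq
    | simp [wed_xor_left, wed_xor_right hu hu hv, wed_xor_right hv hu hv, huu, hvv, wed_comm hu hv]

theorem exists_meet {d d' : ℕ} (h1 : d < 1024) (h2 : d' < 1024) (hd : isDec d = true) (hd' : isDec d' = true)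
    (hs : isDec (d ^^^ d') = true) : ∃ p, On p d ∧ On p d' := by
  have h := List.all_eq_true.1 meet_all _ (List.mem_range.2 h1)
  simp only [hd, Bool.not_true, Bool.false_or, List.all_eq_true, List.mem_range] at h
  have h' := h d' h2
  simp only [hd', hs, Bool.not_true, Bool.false_or, List.any_eq_true, Bool.and_eq_true, bne_iff_ne, beq_iff_eq,
    List.mem_range] at h'
  obtain ⟨p, hp, ⟨h0, e1⟩, e2⟩ := h'
  exact ⟨p, ⟨hp, h0, e1⟩, hp, h0, e2⟩

/-- Four members meeting in pairs, none the sum of others, have a common point. -/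
theorem four {d0 d1 d2 d3 p : ℕ} (l0 : d0 < 1024) (l1 : d1 < 1024) (l2 : d2 < 1024) (l3 : d3 < 1024)
    (h0 : isDec d0 = true) (h1 : isDec d1 = true) (h2 : isDec d2 = true) (h3 : isDec d3 = true)
    (s01 : isDec (d0 ^^^ d1) = true) (s02 : isDec (d0 ^^^ d2) = true) (s03 : isDec (d0 ^^^ d3) = true)
    (s12 : isDec (d1 ^^^ d2) = true) (s13 : isDec (d1 ^^^ d3) = true) (s23 : isDec (d2 ^^^ d3) = true)
    (hspan : ∀ d ∈ [d0, d1, d2, d0 ^^^ d1, d0 ^^^ d2, d1 ^^^ d2, d0 ^^^ d1 ^^^ d2], d3 ≠ d)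
    (p0 : On p d0) (p1 : On p d1) : On p d2 := by
  by_contra p2
  have hne : ∀ {a b : ℕ}, isDec (a ^^^ b) = true → a ≠ b := fun {a b} h e => by
    rw [e, Nat.xor_self] at h; exact absurd h (by decide +kernel)
  obtain ⟨q, q0, q2⟩ := exists_meet l0 l2 h0 h2 s02
  obtain ⟨r, r1, r2⟩ := exists_meet l1 l2 h1 h2 s12
  have hpq : p ≠ q := fun e => p2 (e ▸ q2)
  have hpr : p ≠ r := fun e => p2 (e ▸ r2)
  have hqr : q ≠ r := fun e => hne s01 ((eq_wed l0 h0 p0 q0 hpq).trans (eq_wed l1 h1 p1 (e ▸ r1) hpq).symm)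
  have e0 := eq_wed l0 h0 p0 q0 hpq
  have e1 := eq_wed l1 h1 p1 r1 hpr
  have e2 := eq_wed l2 h2 q2 r2 hqr
  have hp := p0.1
  have hq := q0.1
  have hr := r1.1
  have hpx : p ^^^ q < 32 := Nat.xor_lt_two_pow (n := 5) hp hq
  have hpy : p ^^^ r < 32 := Nat.xor_lt_two_pow (n := 5) hp hr
  have hrp : r ≠ p ^^^ q := fun e => hne s01 (by
    rw [e0, e1, e, wed_xor_right hp hp hq, wed_self hp, Nat.zero_xor])
  obtain ⟨x, x3, x0⟩ := exists_meet l3 l0 h3 h0 (by rw [Nat.xor_comm]; exact s03)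
  obtain ⟨y, y3, y1⟩ := exists_meet l3 l1 h3 h1 (by rw [Nat.xor_comm]; exact s13)
  obtain ⟨w, w3, w2⟩ := exists_meet l3 l2 h3 h2 (by rw [Nat.xor_comm]; exact s23)
  simp only [List.mem_cons, List.not_mem_nil, or_false, forall_eq_or_imp, forall_eq] at hspan
  obtain ⟨n0, n1, n2, n01, n02, n12, n012⟩ := hspan
  have hpp := wed_self hp
  have hqq := wed_self hq
  have hrr := wed_self hr
  by_cases hxy : x = y
  · have hxp : x = p := by
      have hx := On.eq hp hq (e0 ▸ h0) (e0 ▸ x0)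
      have hy := On.eq hp hr (e1 ▸ h1) (e1 ▸ y1)
      rw [← hxy] at hy
      rcases hx with rfl | rfl | rfl
      · rfl
      · rcases hy with h | h | h
        · exact absurd h.symm hpq
        · exact absurd h hqr
        · exact absurd (by rw [h, ← Nat.xor_assoc, Nat.xor_self, Nat.zero_xor]) hrp
      · rcases hy with h | h | h
        · exact absurd h (fun e => q0.2.1 (by
            rw [show q = p ^^^ (p ^^^ q) by rw [← Nat.xor_assoc, Nat.xor_self, Nat.zero_xor], e, Nat.xor_self]))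
        · exact absurd h.symm hrp
        · exact absurd (Nat.xor_right_inj.1 h) hqr
    subst hxp
    have hwp : x ≠ w := fun e => p2 (e ▸ w2)
    have e3 := eq_wed l3 h3 x3 w3 hwp
    rcases On.eq hq hr (e2 ▸ h2) (e2 ▸ w2) with rfl | rfl | rfl
    · exact n0 (e3.trans e0.symm)
    · exact n1 (e3.trans e1.symm)
    · exact n01 (by rw [e3, e0, e1, wed_xor_right hp hq hr])
  · have e3 := eq_wed l3 h3 x3 y3 hxy
    rcases On.eq hp hq (e0 ▸ h0) (e0 ▸ x0) with rfl | rfl | rfl <;>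
      rcases On.eq hp hr (e1 ▸ h1) (e1 ▸ y1) with rfl | rfl | rfl
    · exact hxy rfl
    · exact n1 (e3.trans e1.symm)
    · exact n1 (by rw [e3, e1, wed_xor_right hp hp hr, hpp, Nat.zero_xor])
    · exact n0 (by rw [e3, e0, wed_comm hq hp])
    · exact n2 (e3.trans e2.symm)
    · exact n02 (by rw [e3, e0, e2, wed_xor_right hq hp hr, wed_comm hq hp])
    · exact n0 (by rw [e3, e0, wed_xor_left, hpp, Nat.zero_xor, wed_comm hq hp])
    · exact n12 (by rw [e3, e1, e2, wed_xor_left])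
    · exact n012 (by
        rw [e3, e0, e1, e2, wed_xor_left, wed_xor_right hp hp hr, wed_xor_right hq hp hr, hpp, Nat.zero_xor,
          wed_comm hq hp]
        ac_rfl)

/-- Maps keeping the decomposable members come from vectors. -/
theorem exists_lin {h : ℕ → ℕ} (hx : ∀ a b, a < 1024 → b < 1024 → h (a ^^^ b) = h a ^^^ h b)
    (hlt : ∀ a, a < 1024 → h a < 1024) (hinj : ∀ a, a < 1024 → h a = 0 → a = 0)
    (hdec : ∀ a, a < 1024 → isDec a = true → isDec (h a) = true) :
    ∃ g : ℕ → ℕ, (∀ u, u < 32 → g u < 32) ∧ (∀ u v, u < 32 → v < 32 → g (u ^^^ v) = g u ^^^ g v) ∧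
      (∀ u, u < 32 → g u = 0 → u = 0) ∧ ∀ u v, u < 32 → v < 32 → h (wed u v) = wed (g u) (g v) := by
  classical
  have h0 : h 0 = 0 := by
    have e := hx 0 0 (by norm_num) (by norm_num)
    rwa [Nat.xor_self, Nat.xor_self] at e
  have hinj2 : ∀ a b, a < 1024 → b < 1024 → h a = h b → a = b := fun a b ha hb e =>
    Nat.xor_eq_zero_iff.1 (hinj _ (Nat.xor_lt_two_pow (n := 10) ha hb) (by rw [hx a b ha hb, e, Nat.xor_self]))
  -- the image of a star is a star
  have hstar : ∀ u : Fin 32, u.1 ≠ 0 → ∃ p, p < 32 ∧ p ≠ 0 ∧ ∀ v, v < 32 → ∃ w, w < 32 ∧ h (wed u.1 v) = wed p w := by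
    intro u hu0
    have hs := List.all_eq_true.1 star_all u.1 (List.mem_range.2 u.2)
    simp only [Bool.or_eq_true, Bool.and_eq_true, beq_iff_eq, hu0, false_or, List.all_eq_true, List.any_eq_true,
      List.mem_range] at hs
    obtain ⟨hspan, hd⟩ := hs
    have hr : ∀ m, lm (restB u.1) m < 32 := fun m => lm_lt (k := 5) _ _ (fun x hx => by
      simp only [restB, List.mem_map, List.mem_filter, List.mem_range] at hx
      obtain ⟨i, ⟨hi, -⟩, rfl⟩ := hx
      exact Nat.pow_lt_pow_right (by norm_num) hi)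
    set D : ℕ → ℕ := fun m => h (wed u.1 (lm (restB u.1) m)) with hDdef
    have hDx : ∀ m m', m < 16 → m' < 16 → D (m ^^^ m') = D m ^^^ D m' := fun m m' _ _ => by
      simp only [hDdef, lm_xor, wed_xor_right u.2 (hr m) (hr m')]
      exact hx _ _ (wed_lt u.2 (hr m)) (wed_lt u.2 (hr m'))
    have hDlt : ∀ m, D m < 1024 := fun m => hlt _ (wed_lt u.2 (hr m))
    have hDd : ∀ m, m < 16 → m ≠ 0 → isDec (D m) = true := fun m hm h' =>
      hdec _ (wed_lt u.2 (hr m)) ((hd m hm).resolve_left h')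
    have pair : ∀ m m', m < 16 → m' < 16 → m ≠ m' → isDec (D m ^^^ D m') = true := fun m m' hm hm' hne => by
      rw [← hDx m m' hm hm']
      exact hDd _ (Nat.xor_lt_two_pow (n := 4) hm hm') fun e => hne (Nat.xor_eq_zero_iff.1 e)
    have hDne : ∀ m m', m < 16 → m' < 16 → m ≠ m' → D m ≠ D m' := fun m m' hm hm' hne e => by
      have := pair m m' hm hm' hne
      rw [e, Nat.xor_self] at this
      exact absurd this (by decide +kernel)
    obtain ⟨p, p0, p1⟩ := exists_meet (hDlt 1) (hDlt 2) (hDd 1 (by norm_num) (by norm_num))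
      (hDd 2 (by norm_num) (by norm_num)) (pair 1 2 (by norm_num) (by norm_num) (by norm_num))
    have hspan' : ∀ a b, a < 16 → b < 16 → b ≠ 1 → b ≠ 2 → b ≠ 3 → a ∈ [1, 2, b, 3, 1 ^^^ b, 2 ^^^ b, 3 ^^^ b] →
        ∀ c, c < 16 → c ∉ [1, 2, b, 3, 1 ^^^ b, 2 ^^^ b, 3 ^^^ b] → D c ≠ D a := fun a b ha _ _ _ _ hmem c hc hcn =>
      hDne c a hc ha fun e => hcn (e ▸ hmem)
    have get : ∀ b c, b < 16 → c < 16 → b ≠ 0 → c ≠ 0 → b ≠ 1 → b ≠ 2 → b ≠ 3 →
        c ∉ [1, 2, b, 3, 1 ^^^ b, 2 ^^^ b, 3 ^^^ b] → On p (D b) := by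
      intro b c hb hc hb0 hc0 hb1 hb2 hb3 hcn
      have hcn' := hcn
      simp only [List.mem_cons, List.not_mem_nil, or_false, not_or] at hcn'
      obtain ⟨c1, c2, cb, -⟩ := hcn'
      refine four (hDlt 1) (hDlt 2) (hDlt b) (hDlt c) (hDd 1 (by norm_num) (by norm_num)) (hDd 2 (by norm_num) (by norm_num))
        (hDd b hb hb0) (hDd c hc hc0) (pair 1 2 (by norm_num) (by norm_num) (by norm_num))
        (pair 1 b (by norm_num) hb (Ne.symm hb1)) (pair 1 c (by norm_num) hc (Ne.symm c1))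
        (pair 2 b (by norm_num) hb (Ne.symm hb2)) (pair 2 c (by norm_num) hc (Ne.symm c2))
        (pair b c hb hc (Ne.symm cb)) ?_ p0 p1
      have h12 : D 3 = D 1 ^^^ D 2 := hDx 1 2 (by norm_num) (by norm_num)
      intro d hd'
      simp only [List.mem_cons, List.not_mem_nil, or_false] at hd'
      have go : ∀ a, a ∈ [1, 2, b, 3, 1 ^^^ b, 2 ^^^ b, 3 ^^^ b] → d = D a → D c ≠ d := fun a ha e => by
        have ha16 : a < 16 := by
          simp only [List.mem_cons, List.not_mem_nil, or_false] at ha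
          rcases ha with rfl | rfl | rfl | rfl | rfl | rfl | rfl
          all_goals first | assumption | exact Nat.xor_lt_two_pow (n := 4) (by norm_num : (1:ℕ) < 16) hb | exact Nat.xor_lt_two_pow (n := 4) (by norm_num : (2:ℕ) < 16) hb | exact Nat.xor_lt_two_pow (n := 4) (by norm_num : (3:ℕ) < 16) hb | omega
        exact e ▸ hspan' a b ha16 hb hb1 hb2 hb3 ha c hc hcn
      rcases hd' with e | e | e | e | e | e | e
      · exact go 1 (by simp) e
      · exact go 2 (by simp) e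
      · exact go b (by simp) e
      · exact go 3 (by simp) (e.trans h12.symm)
      · exact go (1 ^^^ b) (by simp) (e.trans (hDx 1 b (by norm_num) hb).symm)
      · exact go (2 ^^^ b) (by simp) (e.trans (hDx 2 b (by norm_num) hb).symm)
      · exact go (3 ^^^ b) (by simp) (by rw [e, hDx 3 b (by norm_num) hb, h12])
    have p4 : On p (D 4) := get 4 8 (by norm_num) (by norm_num) (by norm_num) (by norm_num) (by norm_num) (by norm_num)
      (by norm_num) (by decide)
    have p8 : On p (D 8) := get 8 4 (by norm_num) (by norm_num) (by norm_num) (by norm_num) (by norm_num) (by norm_num)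
      (by norm_num) (by decide)
    have hpl : p < 32 := p0.1
    have through : ∀ d, d < 1024 → isDec d = true → On p d → ∃ w, w < 32 ∧ d = wed p w := by
      intro d hd1 hd2 hpd
      obtain ⟨a, b, ha, hb, rfl⟩ := exists_wed hd1 hd2
      obtain ⟨-, -, hab⟩ := (isDec_wed ha hb).1 hd2
      by_cases e : p = a
      · exact ⟨b, hb, by rw [e]⟩
      · exact ⟨a, ha, eq_wed hd1 hd2 hpd ⟨ha, ((isDec_wed ha hb).1 hd2).1, tri_wed ha hb⟩ e⟩
    obtain ⟨w1, l1, e1⟩ := through _ (hDlt 1) (hDd 1 (by norm_num) (by norm_num)) p0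
    obtain ⟨w2, l2, e2⟩ := through _ (hDlt 2) (hDd 2 (by norm_num) (by norm_num)) p1
    obtain ⟨w4, l4, e4⟩ := through _ (hDlt 4) (hDd 4 (by norm_num) (by norm_num)) p4
    obtain ⟨w8, l8, e8⟩ := through _ (hDlt 8) (hDd 8 (by norm_num) (by norm_num)) p8
    refine ⟨p, hpl, p0.2.1, fun v hv => ?_⟩
    obtain ⟨m, hm, em⟩ := hspan v hv
    rw [← em]
    show ∃ w, w < 32 ∧ D m = wed p w
    have key : ∀ k, k ≤ 4 → ∀ m, m < 2 ^ k → ∃ w, w < 32 ∧ D m = wed p w := by
      intro k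
      induction k with
      | zero =>
        intro _ m hm
        refine ⟨p, hpl, ?_⟩
        rw [show m = 0 by simpa using hm, wed_self hpl]
        show h (wed u.1 (lm (restB u.1) 0)) = 0
        rw [lm_zero, show wed u.1 0 = 0 by rw [wed_comm u.2 (by norm_num)]; exact lm_zero _, h0]
      | succ k ih =>
        intro hk m hm
        by_cases hb : m < 2 ^ k
        · exact ih (by omega) m hb
        · have hlt' : m - 2 ^ k < 2 ^ k := by rw [pow_succ] at hm; omega
          obtain ⟨w, hw, ew⟩ := ih (by omega) _ hlt'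
          obtain ⟨w', hw', ew'⟩ : ∃ w, w < 32 ∧ D (2 ^ k) = wed p w := by
            have : k < 4 := by omega
            interval_cases k
            exacts [⟨w1, l1, e1⟩, ⟨w2, l2, e2⟩, ⟨w4, l4, e4⟩, ⟨w8, l8, e8⟩]
          have h16 : 2 ^ k < 16 := Nat.pow_lt_pow_right (by norm_num : 1 < 2) (show k < 4 by omega) |>.trans_eq (by norm_num)
          refine ⟨w' ^^^ w, Nat.xor_lt_two_pow (n := 5) hw' hw, ?_⟩
          rw [show m = 2 ^ k ^^^ (m - 2 ^ k) by rw [CfsgLib.SmallGroups.Golay.two_pow_xor hlt']; omega,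
            hDx _ _ h16 (hlt'.trans h16), ew, ew', wed_xor_right hpl hw' hw]
    exact key 4 le_rfl m hm
  choose p hp hp0 hps using hstar
  set g : ℕ → ℕ := fun u => if hu : u < 32 then (if hu0 : u = 0 then 0 else p ⟨u, hu⟩ hu0) else 0 with hg
  have gval : ∀ u (hu : u < 32) (hu0 : u ≠ 0), g u = p ⟨u, hu⟩ hu0 := fun u hu hu0 => by simp [hg, hu, hu0]
  have g0 : g 0 = 0 := by simp [hg]
  have glt : ∀ u, u < 32 → g u < 32 := fun u hu => by
    by_cases hu0 : u = 0
    · rw [hu0, g0]; norm_num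
    · rw [gval u hu hu0]; exact hp _ _
  have gne : ∀ u, u < 32 → g u = 0 → u = 0 := fun u hu e => by
    by_contra hu0
    exact hp0 ⟨u, hu⟩ hu0 ((gval u hu hu0).symm.trans e)
  -- different points go to different points
  have ginj : ∀ u v, u < 32 → v < 32 → u ≠ 0 → v ≠ 0 → g u = g v → u = v := by
    intro u v hu hv hu0 hv0 e
    by_contra hne
    have hse := (star_ne ⟨u, hu⟩ ⟨v, hv⟩).resolve_left hne
    simp only [hu0, hv0, false_or, List.any_eq_true, List.all_eq_true, List.mem_range, bne_iff_ne] at hse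
    obtain ⟨x, hx32, hxw⟩ := hse
    have hq : ∀ w, w < 32 → ∃ y, y < 32 ∧ h (wed u w) = wed (g u) y := fun w hw => by
      rw [gval u hu hu0]; exact hps ⟨u, hu⟩ hu0 w hw
    obtain ⟨y, hy, ey⟩ := hps ⟨v, hv⟩ hv0 x hx32
    rw [← gval v hv hv0, ← e] at ey
    choose f hf ef using fun w : Fin 32 => hq w.1 w.2
    -- the star of `u` fills the star of `g u`
    let S : Finset ℕ := (Finset.range 32).image fun w => h (wed u w)
    let T : Finset ℕ := (Finset.range 32).image fun w => wed (g u) w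
    have hST : S ⊆ T := by
      intro a ha
      obtain ⟨w, hw, rfl⟩ := Finset.mem_image.1 ha
      rw [Finset.mem_range] at hw
      exact Finset.mem_image.2 ⟨f ⟨w, hw⟩, Finset.mem_range.2 (hf _), (ef ⟨w, hw⟩).symm⟩
    have hcard : ∀ q, q < 32 → q ≠ 0 → ((Finset.range 32).image fun w => wed q w).card = 16 := by
      have : ∀ q : Fin 32, q.1 = 0 ∨ ((Finset.range 32).image fun w => wed q.1 w).card = 16 := by decide +kernel
      exact fun q hq hq0 => (this ⟨q, hq⟩).resolve_left hq0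
    have hS : S.card = 16 := by
      rw [show S = ((Finset.range 32).image fun w => wed u w).image h by rw [Finset.image_image]; rfl,
        Finset.card_image_of_injOn, hcard u hu hu0]
      intro a ha b hb e'
      obtain ⟨w, hw, rfl⟩ := Finset.mem_image.1 ha
      obtain ⟨w', hw', rfl⟩ := Finset.mem_image.1 hb
      exact hinj2 _ _ (wed_lt hu (Finset.mem_range.1 hw)) (wed_lt hu (Finset.mem_range.1 hw')) e'
    have hTeq := Finset.eq_of_subset_of_card_le hST (le_of_eq (by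
      rw [hS, hcard (g u) (glt u hu) fun e' => hu0 (gne u hu e')]))
    have hmem : h (wed v x) ∈ S := by
      rw [hTeq]; exact Finset.mem_image.2 ⟨y, Finset.mem_range.2 hy, ey.symm⟩
    obtain ⟨w, hw, ew⟩ := Finset.mem_image.1 hmem
    rw [Finset.mem_range] at hw
    exact hxw w hw (hinj2 _ _ (wed_lt hv hx32) (wed_lt hu hw) ew.symm)
  have main : ∀ u v, u < 32 → v < 32 → u ≠ 0 → v ≠ 0 → u ≠ v → h (wed u v) = wed (g u) (g v) ∧
      g (u ^^^ v) = g u ^^^ g v := by
    intro u v hu hv hu0 hv0 hne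
    have hw : u ^^^ v < 32 := Nat.xor_lt_two_pow (n := 5) hu hv
    have hw0 : u ^^^ v ≠ 0 := fun e => hne (Nat.xor_eq_zero_iff.1 e)
    have hd : isDec (h (wed u v)) = true := hdec _ (wed_lt hu hv) ((isDec_wed hu hv).2 ⟨hu0, hv0, hne⟩)
    have hon : ∀ a, a < 32 → a ≠ 0 → ∀ b, b < 32 → wed a b = wed u v → On (g a) (h (wed u v)) := by
      intro a ha ha0 b hb e
      obtain ⟨y, hy, ey⟩ := hps ⟨a, ha⟩ ha0 b hb
      simp only at ey
      rw [← e, ey, ← gval a ha ha0]
      exact ⟨glt a ha, fun e' => ha0 (gne a ha e'), tri_wed (glt a ha) hy⟩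
    have ou := hon u hu hu0 v hv rfl
    have ov := hon v hv hv0 u hu (wed_comm hv hu)
    have ow := hon _ hw hw0 v hv (by rw [wed_xor_left, wed_self hv, Nat.xor_zero])
    have hguv : g u ≠ g v := fun e => hne (ginj u v hu hv hu0 hv0 e)
    have e := eq_wed (hlt _ (wed_lt hu hv)) hd ou ov hguv
    refine ⟨e, ?_⟩
    rw [e] at ow hd
    rcases On.eq (glt u hu) (glt v hv) hd ow with h' | h' | h'
    · exact absurd (ginj _ u hw hu hw0 hu0 h') fun e' => hv0 (by
        rw [show v = u ^^^ (u ^^^ v) by rw [← Nat.xor_assoc, Nat.xor_self, Nat.zero_xor], e', Nat.xor_self])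
    · exact absurd (ginj _ v hw hv hw0 hv0 h') fun e' => hu0 (by
        rw [show u = u ^^^ v ^^^ v by rw [Nat.xor_assoc, Nat.xor_self, Nat.xor_zero], e', Nat.xor_self])
    · exact h'
  refine ⟨g, glt, fun u v hu hv => ?_, gne, fun u v hu hv => ?_⟩
  · by_cases hu0 : u = 0
    · rw [hu0, g0, Nat.zero_xor, Nat.zero_xor]
    by_cases hv0 : v = 0
    · rw [hv0, g0, Nat.xor_zero, Nat.xor_zero]
    by_cases hne : u = v
    · rw [hne, Nat.xor_self, Nat.xor_self, g0]
    exact (main u v hu hv hu0 hv0 hne).2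
  · by_cases hu0 : u = 0
    · rw [hu0, g0, show wed 0 v = 0 from lm_zero _, show wed 0 (g v) = 0 from lm_zero _, h0]
    by_cases hv0 : v = 0
    · rw [hv0, g0, wed_comm hu (by norm_num), show wed 0 u = 0 from lm_zero _, h0, wed_comm (glt u hu) (by norm_num),
        show wed 0 (g u) = 0 from lm_zero _]
    by_cases hne : u = v
    · rw [hne, wed_self hv, h0, wed_self (glt v hv)]
    exact (main u v hu hv hu0 hv0 hne).1

/-- The vector map is determined. -/
theorem lin_unique {g g' : ℕ → ℕ} (hg : ∀ u, u < 32 → g u < 32 ∧ (g u = 0 → u = 0))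
    (hg' : ∀ u, u < 32 → g' u < 32 ∧ (g' u = 0 → u = 0))
    (hx : ∀ u v, u < 32 → v < 32 → g (u ^^^ v) = g u ^^^ g v)
    (h : ∀ u v, u < 32 → v < 32 → wed (g u) (g v) = wed (g' u) (g' v)) {u : ℕ} (hu : u < 32) (hu0 : u ≠ 0) :
    g u = g' u := by
  obtain ⟨v, hv, hv0, hvu, w, hw, hw0, hwu, hwv, hwx⟩ : ∃ v, v < 32 ∧ v ≠ 0 ∧ v ≠ u ∧
      ∃ w, w < 32 ∧ w ≠ 0 ∧ w ≠ u ∧ w ≠ v ∧ w ≠ u ^^^ v := by
    have : ∀ u : Fin 32, ∃ v : Fin 32, v.1 ≠ 0 ∧ v.1 ≠ u.1 ∧
        ∃ w : Fin 32, w.1 ≠ 0 ∧ w.1 ≠ u.1 ∧ w.1 ≠ v.1 ∧ w.1 ≠ u.1 ^^^ v.1 := by decide +kernel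
    obtain ⟨v, h1, h2, w, h3, h4, h5, h6⟩ := this ⟨u, hu⟩
    exact ⟨v.1, v.2, h1, h2, w.1, w.2, h3, h4, h5, h6⟩
  have ginj : ∀ a b, a < 32 → b < 32 → g a = g b → a = b := fun a b ha hb e =>
    Nat.xor_eq_zero_iff.1 ((hg _ (Nat.xor_lt_two_pow (n := 5) ha hb)).2 (by rw [hx a b ha hb, e, Nat.xor_self]))
  have side : ∀ b, b < 32 → b ≠ 0 → b ≠ u → g' u = g u ∨ g' u = g b ∨ g' u = g (u ^^^ b) := by
    intro b hb hb0 hbu
    rw [hx u b hu hb]
    refine On.eq (hg u hu).1 (hg b hb).1 ((isDec_wed (hg u hu).1 (hg b hb).1).2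
      ⟨fun e => hu0 ((hg u hu).2 e), fun e => hb0 ((hg b hb).2 e), fun e => hbu (ginj u b hu hb e).symm⟩) ?_
    rw [h u b hu hb]
    exact ⟨(hg' u hu).1, fun e => hu0 ((hg' u hu).2 e), tri_wed (hg' u hu).1 (hg' b hb).1⟩
  have hx1 : u ^^^ v < 32 := Nat.xor_lt_two_pow (n := 5) hu hv
  have hx2 : u ^^^ w < 32 := Nat.xor_lt_two_pow (n := 5) hu hw
  rcases side v hv hv0 hvu with e | e | e
  · exact e.symm
  · rcases side w hw hw0 hwu with e' | e' | e'
    · exact e'.symm
    · exact absurd (ginj _ _ hv hw (e.symm.trans e')).symm hwv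
    · refine absurd ?_ hwx
      rw [ginj _ _ hv hx2 (e.symm.trans e'), ← Nat.xor_assoc, Nat.xor_self, Nat.zero_xor]
  · rcases side w hw hw0 hwu with e' | e' | e'
    · exact e'.symm
    · exact absurd (ginj _ _ hx1 hw (e.symm.trans e')).symm hwx
    · exact absurd (Nat.xor_right_inj.1 (ginj _ _ hx1 hx2 (e.symm.trans e'))).symm hwv

end CfsgLib.Sporadic.J4Type.Ten
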