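import Cfsg.Agent.Lib.Sporadic.J4Type.Duads
import Cfsg.Agent.Lib.Sporadic.J4Type.Split

/-!
# Coordinates on the normaliser of a subgroup of order `2¹¹`
-/

set_option autoImplicit false
set_option linter.style.haveILetI false
set_option linter.unusedSectionVars false

namespace CfsgLib.Sporadic.J4Type.Ten

open Cfsg CfsgLib.Sporadic.LargeFischer CfsgLib.Sporadic.LargeFischer.Hexa

/-- Coordinates on `N(V)`: numbers for `V`, permutations for a complement. -/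
structure VData {G : Type*} [Group G] (z : G) (V : Subgroup G) (el : ℕ → G) (κ : ↥Cfsg.M24 →* G) : Prop where
  uab : UniqAb G
  elem : Cfsg.IsElementaryAbelian 2 V
  card : Nat.card V = 2 ^ 11
  mem : ∀ n, n < 2048 → el n ∈ V
  surj : ∀ v ∈ V, ∃ n < 2048, v = el n
  inj : ∀ {n m}, n < 2048 → m < 2048 → el n = el m → n = m
  xor : ∀ {n m}, n < 2048 → m < 2048 → el (n ^^^ m) = el n * el m
  zero : el 0 = 1
  kap_mem : ∀ σ, κ σ ∈ Subgroup.normalizer (V : Set G)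
  kap_inj : ∀ σ, κ σ ∈ V → σ = 1
  decomp : ∀ y ∈ Subgroup.normalizer (V : Set G), ∃ n, n < 2048 ∧ ∃ σ, y = el n * κ σ
  act : ∀ (σ : ↥Cfsg.M24) (p q : GolayPt), κ σ * el (phi p ^^^ phi q) * (κ σ)⁻¹ =
    el (phi ((σ : Equiv.Perm GolayPt) p) ^^^ phi ((σ : Equiv.Perm GolayPt) q))
  small : ∀ n, n < 2048 → (inDm n = true ↔ (el n ≠ 1 ∧ ¬ IsConj z (el n)))
  zt : ∀ a ∈ V, IsConj z a → ∀ t ∈ V, t ≠ 1 → ¬ IsConj z t → ∀ y : G, y * a = a * y → y * t = t * y →
    y ∈ Subgroup.normalizer (V : Set G)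

theorem exists_vdata {G : Type*} [Group G] [Finite G] [IsSimpleGroup G] {z : G} (hJ : Cfsg.IsOfJankoFourTypeAt z) :
    ∃ (V : Subgroup G) (el : ℕ → G) (κ : ↥Cfsg.M24 →* G), VData z V el κ := by
  classical
  obtain ⟨π, ψ, x, J⟩ := exists_jf hJ
  have hU : UniqAb G := uniqAb (Q := Cfsg.pCore 2 ↥(Subgroup.centralizer ({z} : Set G))) J.base (maxAb J)
  set F := frame J
  obtain ⟨c, L, hN⟩ := F.exists_normal hU
  set A := F.asub L with hA
  set M := Subgroup.normalizer (A : Set G) with hM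
  obtain ⟨θ, h, hsmall, hact⟩ : ∃ θ : ↥M →* ↥Cfsg.M24, ToddData z A θ ∧
      (∀ n, n < 2048 → (inDm n = true ↔ (F.el L n ≠ 1 ∧ ¬ IsConj z (F.el L n)))) ∧
      ∀ (m : ↥M) (p q : GolayPt), (m : G) * F.el L (phi p ^^^ phi q) * (m : G)⁻¹ =
        F.el L (phi ((θ m : Equiv.Perm GolayPt) p) ^^^ phi ((θ m : Equiv.Perm GolayPt) q)) := F.todd_labelled hN hU
  obtain ⟨K, hKM, hKA, hKsup, -⟩ := split_asub J L hN hU
  set θK : ↥K →* ↥Cfsg.M24 := θ.comp (Subgroup.inclusion hKM) with hθK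
  have hkerθ : ∀ m : ↥M, θ m = 1 ↔ (m : G) ∈ A := fun m => by
    rw [← MonoidHom.mem_ker, h.ker, Subgroup.mem_subgroupOf]
  have hAM : A ≤ M := Subgroup.le_normalizer
  haveI : (A.subgroupOf M).Normal := by rw [← h.ker]; infer_instance
  have hsplit : ∀ m : ↥M, ∃ a ∈ A, ∃ k ∈ K, (m : G) = a * k := by
    intro m
    have htop : (A.subgroupOf M) ⊔ (K.subgroupOf M) = ⊤ := by
      rw [← Subgroup.subgroupOf_sup hAM hKM, sup_comm, hKsup, Subgroup.subgroupOf_self]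
    have hm : m ∈ (A.subgroupOf M) ⊔ (K.subgroupOf M) := htop ▸ Subgroup.mem_top m
    obtain ⟨a, ha, k, hk, e⟩ := Subgroup.mem_sup_of_normal_left.1 hm
    exact ⟨a, ha, k, hk, (congrArg Subtype.val e).symm⟩
  have hbij : Function.Bijective θK := by
    refine ⟨(injective_iff_map_eq_one θK).2 fun k hk => ?_, fun σ => ?_⟩
    · have : (k : G) ∈ K ⊓ A := ⟨k.2, (hkerθ _).1 hk⟩
      rw [hKA, Subgroup.mem_bot] at this
      exact Subtype.ext this
    · obtain ⟨m, hm⟩ := h.surj σ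
      obtain ⟨a, ha, k, hk, e⟩ := hsplit m
      refine ⟨⟨k, hk⟩, ?_⟩
      have e' : m = ⟨a, hAM ha⟩ * ⟨k, hKM hk⟩ := Subtype.ext e
      rw [e', map_mul, (hkerθ ⟨a, hAM ha⟩).2 ha, one_mul] at hm
      exact hm
  set e : ↥K ≃* ↥Cfsg.M24 := MulEquiv.ofBijective θK hbij with he
  set κ : ↥Cfsg.M24 →* G := K.subtype.comp e.symm.toMonoidHom with hκ
  have hκθ : ∀ σ, θ ⟨κ σ, hKM (e.symm σ).2⟩ = σ := fun σ => e.apply_symm_apply σ
  refine ⟨A, F.el L, κ,
    { uab := hU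
      elem := h.elem
      card := h.card
      mem := fun n hn => ⟨n, hn, rfl⟩
      surj := fun v ⟨n, hn, e⟩ => ⟨n, hn, e⟩
      inj := fun hn hm e => F.el_inj L hn hm e
      xor := fun hn hm => F.el_xor L hn hm
      zero := F.el_zero L
      kap_mem := fun σ => hKM (e.symm σ).2
      kap_inj := fun σ hσ => by rw [← hκθ σ]; exact (hkerθ _).2 hσ
      decomp := fun y hy => ?_
      act := fun σ p q => by
        have := hact ⟨κ σ, hKM (e.symm σ).2⟩ p q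
        rwa [hκθ σ] at this
      small := hsmall
      zt := ?_ }⟩
  · obtain ⟨a, ⟨n, hn, rfl⟩, k, hk, ey⟩ := hsplit ⟨y, hy⟩
    refine ⟨n, hn, e ⟨k, hk⟩, ?_⟩
    show y = F.el L n * ((e.symm (e ⟨k, hk⟩) : ↥K) : G)
    rw [e.symm_apply_apply]
    exact ey
  · intro a ha hza t ht ht1 hnc y hya hyt
    have hz1 : z ≠ 1 := J.base.extra.z_ne
    obtain ⟨m, hm, em⟩ := h.two z h.zmem a ha hz1 (fun e => hz1 (by
      rw [e] at hza; exact (isConj_one_right).1 hza.symm)) (iff_of_true (IsConj.refl z) hza)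
    have hmt : m⁻¹ * t * m ∈ A := (Subgroup.mem_normalizer_iff''.1 hm t).1 ht
    have h1 : m⁻¹ * y * m ∈ M := by
      refine cent_z_t J L hN hmt (fun e => ht1 ?_) (fun hc => hnc ?_) ?_ ?_
      · calc t = m * (m⁻¹ * t * m) * m⁻¹ := by group
          _ = 1 := by rw [e]; group
      · exact hc.trans (isConj_iff.2 ⟨m, by group⟩)
      · calc m⁻¹ * y * m * z = m⁻¹ * (y * (m * z * m⁻¹)) * m := by group
          _ = m⁻¹ * (a * y) * m := by rw [em, hya]
          _ = z * (m⁻¹ * y * m) := by rw [← em]; group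
      · calc m⁻¹ * y * m * (m⁻¹ * t * m) = m⁻¹ * (y * t) * m := by group
          _ = m⁻¹ * t * m * (m⁻¹ * y * m) := by rw [hyt]; group
    simpa [mul_assoc] using mul_mem (mul_mem hm h1) (inv_mem hm)

end CfsgLib.Sporadic.J4Type.Ten
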