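import Cfsg.Agent.Lib.Sporadic.J4Type.TenCheck
import Cfsg.Agent.Lib.Sporadic.J4Type.Split

/-!
# Elementary abelian subgroups of the Sylow two-subgroup of the image of the centraliser
-/

set_option autoImplicit false
set_option linter.unusedSectionVars false
set_option maxRecDepth 40000

namespace CfsgLib.Sporadic.J4Type.Ten

open CfsgLib.Sporadic.LargeFischer CfsgLib.Sporadic.LargeFischer.Hexa

abbrev Aut6 : Type := V6 ≃ₗ[ZMod 2] V6

/-- An elementary abelian set of maps all of whose members are listed. -/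
structure Flat (F : Subgroup Aut6) : Prop where
  listed : ∀ f ∈ F, ∃ i < 256, imgs f = sEl i
  sq : ∀ f ∈ F, f * f = 1
  comm : ∀ f ∈ F, ∀ g ∈ F, f * g = g * f

/-- The indices of the members. -/
def IF (F : Subgroup Aut6) : Set ℕ := {a | a < 72 ∧ ∃ f ∈ F, imgs f = sL a}

namespace Flat

variable {F : Subgroup Aut6} (hF : Flat F)
include hF

theorem idx {f : Aut6} (hf : f ∈ F) : ∃ a ∈ IF F, imgs f = sL a := by
  obtain ⟨i, hi, e⟩ := hF.listed f hf
  have h := List.all_eq_true.1 syl_inv_ok.2 i (List.mem_range.2 hi)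
  rw [Bool.or_eq_true, List.contains_iff_mem, Bool.not_eq_true', beq_eq_false_iff_ne] at h
  have hm : i ∈ sylInv := by
    refine h.resolve_right fun hne => hne ?_
    rw [cmpF_eq, ← e, ← imgs_mul, hF.sq f hf, imgs_one, bitL_eq]
  obtain ⟨a, ha, ea⟩ := List.mem_iff_getElem.1 hm
  have hs : imgs f = sL a := by rw [sL, List.getD_eq_getElem _ _ ha, ea, e]
  exact ⟨a, ⟨ha.trans_eq syl_inv_ok.1, f, hf, hs⟩, hs⟩

theorem mul_mem' {a b : ℕ} (ha : a ∈ IF F) (hb : b ∈ IF F) : sTab a b ∈ IF F := by
  obtain ⟨ha, f, hf, ea⟩ := ha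
  obtain ⟨hb, g, hg, eb⟩ := hb
  have h := List.all_eq_true.1 (List.all_eq_true.1 syl_tab_ok a (List.mem_range.2 ha)) b (List.mem_range.2 hb)
  rw [frc_eq] at h
  by_cases ht : sTab a b < 72
  · rw [if_pos ht, beq_iff_eq, cmpF_eq] at h
    exact ⟨ht, f * g, mul_mem hf hg, by rw [imgs_mul, ea, eb, h]⟩
  · rw [if_neg ht, Bool.not_eq_true', beq_eq_false_iff_ne] at h
    refine absurd ?_ h
    rcases lt_or_ge (sTab a b - 72) 12 with h12 | h12
    · rw [← ea, ← eb, imgs_getD _ h12, imgs_getD _ h12, ← enc_apply, ← enc_apply]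
      exact congrArg enc (LinearEquiv.congr_fun (hF.comm f hf g hg) _)
    · rw [List.getD_eq_default _ _ (by simp [sL, sEl, unpk]; omega),
        List.getD_eq_default _ _ (by simp [sL, sEl, unpk]; omega), lm_zero, lm_zero]

theorem zero_mem' : (0 : ℕ) ∈ IF F :=
  ⟨by norm_num, 1, one_mem _, by
    rw [imgs_one, sL, show sylInv.getD 0 0 = 0 from rfl, syl_tree_ok.1, bitL_eq]⟩

theorem fix {a : ℕ} (ha : a ∈ IF F) {v : V6} (hv : ∀ f ∈ F, f v = v) : lm (sL a) (enc v) = enc v := by
  obtain ⟨-, f, hf, e⟩ := ha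
  rw [← e, ← enc_apply, hv f hf]

theorem card_le {S : List ℕ} (hS : ∀ a ∈ IF F, a ∈ S) : Nat.card F ≤ S.length := by
  classical
  choose ai hai he using fun f : F => hF.idx f.2
  refine (Nat.card_le_card_of_injective
    (fun f => (⟨S.idxOf (ai f), List.idxOf_lt_length_iff.2 (hS _ (hai f))⟩ : Fin S.length)) fun f f' e => ?_).trans
    (by simp)
  refine Subtype.ext (imgs_inj ?_)
  have e' := congrArg Fin.val e
  simp only at e'
  rw [he f, he f', (List.idxOf_inj (hS _ (hai f))).1 e']

/-- Growing from the identity, following one of the searches. -/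
theorem grow (C : ℕ → List ℕ → List ℕ → Bool)
    (hC : ∀ k span gens, C (k + 1) span gens = (List.range 72).all fun i =>
      decide (i ≤ gens.getLastD 0) || span.contains i || gens.any (fun g => decide (72 ≤ sTab g i)) ||
        span.any (fun s => (decide (sTab s i < i) && !span.contains (sTab s i)) || decide (72 ≤ sTab s i)) ||
        C k (span ++ span.map (sTab · i)) (gens ++ [i]))
    (k : ℕ) (hk : C k [0] [] = true) (hcard : 2 ^ k ≤ Nat.card F) :
    ∃ span gens, (∀ a ∈ span, a ∈ IF F) ∧ (∀ a ∈ gens, a ∈ IF F) ∧ C 0 span gens = true := by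
  classical
  have key : ∀ k span gens, C k span gens = true → span.length * 2 ^ k ≤ Nat.card F →
      0 ∈ span → (∀ a ∈ span, a ∈ IF F) → (∀ a ∈ gens, a ∈ IF F) →
      (∀ a ∈ IF F, a ∉ span → gens.getLastD 0 < a) →
      ∃ span' gens', (∀ a ∈ span', a ∈ IF F) ∧ (∀ a ∈ gens', a ∈ IF F) ∧ C 0 span' gens' = true := by
    intro k
    induction k with
    | zero => intro span gens h _ _ h1 h2 _; exact ⟨span, gens, h1, h2, h⟩
    | succ k ih =>
      intro span gens h hlen h0 h1 h2 h3
      have hne : ∃ a, a ∈ IF F ∧ a ∉ span := by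
        by_contra hno
        push Not at hno
        have hk : 2 ≤ 2 ^ (k + 1) := Nat.le_self_pow (by omega) 2
        have := hF.card_le hno
        have : 0 < span.length := List.length_pos_of_mem h0
        nlinarith
      let i := Nat.find hne
      obtain ⟨hiF, his⟩ : i ∈ IF F ∧ i ∉ span := Nat.find_spec hne
      have hmin : ∀ a ∈ IF F, a ∉ span → i ≤ a := fun a ha hs => Nat.find_min' hne ⟨ha, hs⟩
      rw [hC, List.all_eq_true] at h
      have hh := h i (List.mem_range.2 hiF.1)
      simp only [Bool.or_eq_true, Bool.and_eq_true, List.any_eq_true, decide_eq_true_eq, List.contains_iff_mem] at hh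
      have hspan : ∀ s ∈ span, sTab s i ∈ IF F := fun s hs => hF.mul_mem' (h1 s hs) hiF
      rcases hh with (((hh | hh) | ⟨g, hg, hh⟩) | ⟨s, hs, hh⟩) | hh
      · exact absurd hh (not_le.2 (h3 i hiF his))
      · exact absurd hh his
      · exact absurd (hF.mul_mem' (h2 g hg) hiF).1 (not_lt.2 hh)
      · rcases hh with ⟨hlt, hin⟩ | hh
        · simp only [Bool.not_eq_true', List.contains_eq_mem, decide_eq_false_iff_not] at hin
          exact absurd (hmin _ (hspan s hs) hin) (not_le.2 hlt)
        · exact absurd (hspan s hs).1 (not_lt.2 hh)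
      · refine ih _ _ hh ?_ (List.mem_append_left _ h0) ?_ ?_ ?_
        · rw [List.length_append, List.length_map]
          calc (span.length + span.length) * 2 ^ k = span.length * 2 ^ (k + 1) := by rw [pow_succ]; ring
            _ ≤ _ := hlen
        · intro a ha
          rcases List.mem_append.1 ha with ha | ha
          · exact h1 a ha
          · obtain ⟨s, hs, rfl⟩ := List.mem_map.1 ha
            exact hspan s hs
        · intro a ha
          rcases List.mem_append.1 ha with ha | ha
          · exact h2 a ha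
          · rw [List.mem_singleton] at ha
            exact ha ▸ hiF
        · intro a ha hns
          rw [List.getLastD_eq_getLast?, List.getLast?_append, List.getLast?_singleton]
          simp only [Option.some_or, Option.getD_some]
          refine lt_of_le_of_ne (hmin a ha fun hs => hns (List.mem_append_left _ hs)) fun e => ?_
          exact hns (List.mem_append_right _ (List.mem_map.2 ⟨0, h0, (syl_tab_one ⟨i, hiF.1⟩).trans e⟩))
  exact key k [0] [] hk (by simpa using hcard) (by simp) (by simpa using hF.zero_mem') (by simp)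
    (fun a _ hns => by
      simp only [List.mem_singleton] at hns
      simpa using Nat.pos_of_ne_zero hns)

/-- A member of `Bel` has one of the listed images. -/
theorem bel_of_mem {a : ℕ} (ha : a ∈ sylBel) {f : Aut6} (e : imgs f = sL a) : ∃ u < 16, f = Bel u := by
  obtain ⟨u, hu, eu⟩ := List.mem_iff_getElem.1 ha
  have hu16 : u < 16 := hu.trans_eq syl_bel_ok.1
  refine ⟨u, hu16, imgs_inj (e.trans (List.ext_getElem (by simp [imgs, sL, sEl, unpk]) fun t h1 h2 => ?_))⟩
  have ht : t < 12 := by simpa [imgs] using h2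
  have hp : 2 ^ t < 4096 := Nat.pow_lt_pow_right (by norm_num : 1 < 2) ht |>.trans_eq (by norm_num)
  rw [← List.getD_eq_getElem _ 0 h1, ← List.getD_eq_getElem _ 0 h2, imgs_getD _ ht, Bel_dec hu16 hp,
    enc_dec (lm_lt (k := 12) _ _ (bL_lt hu16)), ← eu, ← List.getD_eq_getElem _ 0 hu]
  exact syl_bel_ok.2 ⟨u, hu16⟩ ⟨t, ht⟩

/-- No subgroup of order sixty-four. -/
theorem card_lt : Nat.card F < 64 := by
  by_contra hge
  push Not at hge
  obtain ⟨a, ha, hna⟩ : ∃ a ∈ IF F, a ∉ cents := by
    by_contra hno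
    push Not at hno
    have := hF.card_le hno
    simp [cents] at this
    omega
  have h := List.all_eq_true.1 few_commute a (List.mem_range.2 ha.1)
  simp only [Bool.or_eq_true, List.contains_iff_mem, decide_eq_true_eq, hna, false_or] at h
  have := hF.card_le (S := (List.range 72).filter fun b => decide (sTab a b < 72)) fun b hb =>
    List.mem_filter.2 ⟨List.mem_range.2 hb.1, decide_eq_true (hF.mul_mem' ha hb).1⟩
  rw [← List.countP_eq_length_filter] at this
  omega

/-- The fixed vectors of a subgroup of order at least sixteen. -/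
theorem big (h16 : 16 ≤ Nat.card F) :
    ((∀ f ∈ F, ∃ u < 16, f = Bel u) ∧ ∀ v, (∀ f ∈ F, f v = v) → InW v) ∨
    ∃ key : V6 → ℕ, (∀ v, key v < 8) ∧
      ∀ v w, (∀ f ∈ F, f v = v) → (∀ f ∈ F, f w = w) → key v = key w → v = w := by
  obtain ⟨span, gens, hs, hg, hk⟩ := hF.grow chk (fun _ _ _ => rfl) 4 chk_ok h16
  simp only [chk, Bool.or_eq_true, List.contains_iff_mem] at hk
  rcases hk with hk | hk
  · refine Or.inl ?_
    have hall : ∀ u, u < 16 → sylBel.getD u 0 ∈ IF F := fun u hu => hs _ (by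
      have hl : u < sylBel.length := hu.trans_eq syl_bel_ok.1.symm
      rw [List.getD_eq_getElem _ _ hl]
      simpa using List.all_eq_true.1 hk _ (List.getElem_mem hl))
    refine ⟨fun f hf => ?_, fun v hv => ?_⟩
    · obtain ⟨a, ha, e⟩ := hF.idx hf
      have h := List.all_eq_true.1 syl_bel_self a (List.mem_range.2 ha.1)
      simp only [Bool.or_eq_true, List.any_eq_true, decide_eq_true_eq, List.contains_iff_mem] at h
      rcases h with h | ⟨b, hb, hb'⟩
      · exact hF.bel_of_mem h e
      · obtain ⟨u, hu, eu⟩ := List.mem_iff_getElem.1 hb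
        have hb72 := hall u (hu.trans_eq syl_bel_ok.1)
        rw [List.getD_eq_getElem _ _ hu, eu] at hb72
        exact absurd (hF.mul_mem' ha hb72).1 (not_lt.2 hb')
    · obtain ⟨k, hk', ek⟩ := fixed_bel (enc_lt v) fun j hj => by
        interval_cases j
        · exact hF.fix (hall 1 (by norm_num)) hv
        · exact hF.fix (hall 2 (by norm_num)) hv
        · exact hF.fix (hall 4 (by norm_num)) hv
        · exact hF.fix (hall 8 (by norm_num)) hv
      exact (inW_iff v).2 ⟨k, hk', by rw [← ek, dec_enc]⟩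
  · refine Or.inr ?_
    obtain ⟨hl, R, E, hR, hfix⟩ := fixed_cert hk
    refine ⟨fun v => lm (unpk R) (enc v), fun v => hR _, fun v w hv hw e => ?_⟩
    have hj : ∀ u, (∀ f ∈ F, f u = u) → enc u = lm E (lm (unpk R) (enc u)) := fun u hu =>
      hfix _ (enc_lt u) fun j hj => hF.fix (hg _ (by
        rw [List.getD_eq_getElem _ _ (by omega)]; exact List.getElem_mem _)) hu
    rw [← dec_enc v, ← dec_enc w, hj v hv, hj w hw, show lm (unpk R) (enc v) = lm (unpk R) (enc w) from e]

/-- The fixed vectors of a subgroup of order at least eight. -/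
theorem small (h8 : 8 ≤ Nat.card F) :
    ∃ key : V6 → ℕ, (∀ v w, (∀ f ∈ F, f v = v) → (∀ f ∈ F, f w = w) → key v = key w → v = w) ∧
      ((∀ v, key v < 16) ∨
        ((∀ v, key v < 64) ∧
          ((∀ v, (∀ f ∈ F, f v = v) → InW v) ∨ ∃ b : Bool, ∀ a ∈ spn b, a ∈ IF F))) := by
  obtain ⟨span, gens, hs, hg, hk⟩ := hF.grow chk3 (fun _ _ _ => rfl) 3 chk3_ok h8
  simp only [chk3, Bool.and_eq_true, List.contains_iff_mem, List.all_eq_true] at hk
  obtain ⟨hk, hspn⟩ := hk
  obtain ⟨c, hc, ec⟩ := List.mem_map.1 hk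
  have h := List.all_eq_true.1 cert3_ok c hc
  simp only [Bool.and_eq_true, Bool.or_eq_true, beq_iff_eq, List.all_eq_true, decide_eq_true_eq, List.mem_range,
    List.any_eq_true, List.contains_iff_mem] at h
  obtain ⟨⟨⟨hl, -⟩, hcert⟩, hkind⟩ := h
  have hmem : ∀ a ∈ c.1, a ∈ IF F := fun a ha => by
    rw [ec, List.mem_append, List.mem_singleton] at ha
    rcases ha with ha | rfl
    exacts [hg a ha, hF.zero_mem']
  have hj : ∀ u, (∀ f ∈ F, f u = u) → enc u = lm (unpk c.2.2.2) (lm (unpk c.2.2.1) (enc u)) := fun u hu =>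
    fixed_eq hcert (enc_lt u) fun j hj => hF.fix (hmem _ (by
      rw [List.getD_eq_getElem _ _ (by omega)]; exact List.getElem_mem _)) hu
  refine ⟨fun v => lm (unpk c.2.2.1) (enc v), fun v w hv hw e => ?_, ?_⟩
  · rw [← dec_enc v, ← dec_enc w, hj v hv, hj w hw,
      show lm (unpk c.2.2.1) (enc v) = lm (unpk c.2.2.1) (enc w) from e]
  rcases hkind with h16 | ⟨h64, hE⟩
  · exact Or.inl fun v => lm_lt (k := 4) _ _ h16
  refine Or.inr ⟨fun v => lm_lt (k := 6) _ _ h64, ?_⟩
  rcases hE with ⟨-, hW⟩ | ⟨b, -, hb, -⟩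
  · refine Or.inl fun v hv => ?_
    have hlt : lm (unpk c.2.2.1) (enc v) < 64 := lm_lt (k := 6) _ _ h64
    exact (inW_iff v).2 ⟨_, hlt, by rw [← hW _ hlt, ← hj v hv, dec_enc]⟩
  · refine Or.inr ⟨b, fun a ha => hs a ?_⟩
    have := hspn b (by cases b <;> simp)
    rw [← ec, hb] at this
    simp only [beq_self_eq_true, Bool.not_true, Bool.false_or, beq_iff_eq] at this
    rwa [this]

end Flat

end CfsgLib.Sporadic.J4Type.Ten
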