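import Cfsg.Agent.Lib.Sporadic.J4Type.TenGrow
import Cfsg.Agent.Lib.Sporadic.J4Type.MaxAb

/-!
# Self-centralising subgroups of order `2¹⁰` in the centraliser of an involution
-/

set_option autoImplicit false
set_option linter.style.haveILetI false
set_option linter.unusedSectionVars false
set_option maxRecDepth 40000

namespace CfsgLib.Sporadic.J4Type.Ten

open CfsgLib.Sporadic.LargeFischer CfsgLib.Sporadic.LargeFischer.Hexa CfsgLib.ThreeTransp.Extraspecial

/-- A self-centralising elementary abelian subgroup of order `2¹⁰`. -/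
structure IsTen {G : Type*} [Group G] (A : Subgroup G) : Prop where
  elem : Cfsg.IsElementaryAbelian 2 A
  card : Nat.card A = 2 ^ 10
  self : Subgroup.centralizer (A : Set G) = A

variable {G : Type*} [Group G] {z : G}

/-- The shape of such a subgroup inside the centraliser of `z`. -/
def InK (π : G → V6) (ψ : ↥(Subgroup.centralizer ({z} : Set G)) →* Aut6) (b : Bool)
    (g : ↥(Subgroup.centralizer ({z} : Set G))) : Prop :=
  (∃ a ∈ spn b, imgs (ψ g) = sL a) ∧ ∀ e ∈ Cfsg.twoCoreOfCentralizer z,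
    (∀ a ∈ spn b, lm (sL a) (enc (π e)) = enc (π e)) → (g : G) * e = e * g

variable [Finite G] [IsSimpleGroup G] {π : G → V6}
  {ψ : ↥(Subgroup.centralizer ({z} : Set G)) →* Aut6}
  {x : ↥(Subgroup.centralizer ({z} : Set G))} (J : JF z π ψ x)
include J

/-- The shape of such a subgroup whose image consists of listed elements. -/
theorem classify {A : Subgroup G} (hA : IsTen A) (hzA : z ∈ A)
    (hlist : ∀ g : ↥(Subgroup.centralizer ({z} : Set G)), (g : G) ∈ A → ∃ i < 256, imgs (ψ g) = sEl i) :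
    ∃ b : Bool, (∀ g : ↥(Subgroup.centralizer ({z} : Set G)), (g : G) ∈ A ↔ InK π ψ b g) ∧
      ∀ a ∈ spn b, ∃ g : ↥(Subgroup.centralizer ({z} : Set G)), (g : G) ∈ A ∧ imgs (ψ g) = sL a := by
  classical
  haveI := finite_equiv
  have hb := J.base
  set Fr := frame J
  obtain ⟨c, L⟩ := exists_lifts J
  have hcomm : ∀ a ∈ A, ∀ a' ∈ A, a * a' = a' * a := fun a ha a' ha' =>
    congrArg Subtype.val (hA.elem.1.is_comm.comm (⟨a, ha⟩ : ↥A) ⟨a', ha'⟩)
  have hAC : A ≤ Subgroup.centralizer ({z} : Set G) := fun a ha =>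
    Subgroup.mem_centralizer_singleton_iff.2 (hcomm a ha z hzA)
  set φ : ↥A →* Aut6 := ψ.comp (Subgroup.inclusion hAC) with hφ
  have hφa : ∀ a : ↥A, φ a = ψ ⟨a, hAC a.2⟩ := fun _ => rfl
  have hflat : ∀ B : Subgroup ↥A, Flat (B.map φ) := fun B =>
    { listed := by rintro _ ⟨a, -, rfl⟩; exact hlist ⟨a, hAC a.2⟩ a.2
      sq := by
        rintro _ ⟨a, -, rfl⟩
        rw [← map_mul, show a * a = 1 from Subtype.ext (by
          have := hA.elem.2 _ a.2; rwa [pow_two] at this), map_one]
      comm := by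
        rintro _ ⟨a, -, rfl⟩ _ ⟨a', -, rfl⟩
        rw [← map_mul, ← map_mul]
        exact congrArg φ (hA.elem.1.is_comm.comm a a') }
  set F : Subgroup Aut6 := (⊤ : Subgroup ↥A).map φ with hF
  have hFr : F = φ.range := (MonoidHom.range_eq_map φ).symm
  have hNQ : ∀ n : φ.ker, ((n : ↥A) : G) ∈ Cfsg.twoCoreOfCentralizer z := fun n => (hb.ker _).1 n.2
  let U : AddSubgroup V6 :=
    { carrier := {v | ∃ n : φ.ker, π ((n : ↥A) : G) = v}
      zero_mem' := ⟨1, by simpa using hb.π_one⟩
      add_mem' := by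
        rintro _ _ ⟨m, rfl⟩ ⟨n, rfl⟩
        exact ⟨m * n, hb.π_mul _ (hNQ m) _ (hNQ n)⟩
      neg_mem' := by
        rintro _ ⟨m, rfl⟩
        exact ⟨m, (neg_eq_of_add_eq_zero_left (funext fun i => CharTwo.add_self_eq_zero _)).symm⟩ }
  -- lifts of the members of `U` lie in `A`
  have hlift : ∀ e ∈ Cfsg.twoCoreOfCentralizer z, π e ∈ U → e ∈ A := by
    rintro e he ⟨n, hn⟩
    rcases (hb.π_eq_iff (hNQ n) he).1 hn with rfl | rfl
    exacts [(n : ↥A).2, mul_mem (n : ↥A).2 hzA]
  have hN2 : Nat.card φ.ker ≤ 2 * Nat.card U := by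
    have hcan : ∀ n : φ.ker, ∃ e : Bool, ((n : ↥A) : G) = zp z (Hexa.bv e) * hb.can J.hx (π ((n : ↥A) : G)) := fun n => by
      rcases (hb.π_eq_iff (hb.can_mem J.hx _) (hNQ n)).1 (hb.π_can J.hx _) with e | e
      · exact ⟨false, by rw [Hexa.bv, if_neg Bool.false_ne_true, zp_zero, one_mul]; exact e⟩
      · exact ⟨true, by rw [Hexa.bv, if_pos rfl, zp_one, ← hb.cent_z (hb.can_mem J.hx _)]; exact e⟩
    choose e he using hcan
    refine (Nat.card_le_card_of_injective
      (fun n => ((e n, ⟨_, n, rfl⟩) : Bool × U)) fun m n h => ?_).trans (by simp [Nat.card_prod])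
    obtain ⟨h1, h2⟩ := Prod.ext_iff.1 h
    simp only [Subtype.mk.injEq] at h1 h2
    exact Subtype.ext (Subtype.ext (by rw [he m, he n, h1, h2]))
  have hU64 : Nat.card U ≤ 64 := card_totally_isotropic U (by
    rintro _ ⟨m, rfl⟩ _ ⟨n, rfl⟩
    exact hb.bs_of_commute (hNQ m) (hNQ n) (hcomm _ (m : ↥A).2 _ (n : ↥A).2))
  have hact : ∀ a : ↥A, ∀ e ∈ Cfsg.twoCoreOfCentralizer z, (a : G) * e = e * a → φ a (π e) = π e := by
    intro a e he hae
    rw [hφa, ← hb.act ⟨a, hAC a.2⟩ _ he]
    exact congrArg π (mul_inv_eq_iff_eq_mul.2 hae)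
  have hfixU : ∀ u ∈ U, ∀ f ∈ F, f u = u := by
    rintro _ ⟨n, rfl⟩ _ ⟨a, -, rfl⟩
    exact hact a _ (hNQ n) (hcomm _ a.2 _ (n : ↥A).2)
  have hcard : Nat.card F * Nat.card φ.ker = 2 ^ 10 := by
    rw [hFr, mul_comm, ← Subgroup.index_ker, Subgroup.card_mul_index, hA.card]
  obtain ⟨k, -, hk⟩ := (Nat.dvd_prime_pow Nat.prime_two).1 (Dvd.intro _ hcard)
  have hA0 : ¬ A ≤ Fr.asub L := fun hle => by
    have : Fr.asub L ≤ A := by
      rw [← hA.self]
      exact fun a ha => Subgroup.mem_centralizer_iff.2 fun b hb' => Fr.asub_comm L (hle hb') ha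
    have h := Subgroup.card_le_of_le this
    rw [hA.card, Fr.card_asub L] at h
    norm_num at h
  have hrho : ∀ k, ∀ e ∈ Cfsg.twoCoreOfCentralizer z, π e = dec (wv k) → e = Fr.rho k ∨ e = Fr.rho k * z :=
    fun k e he hπ => (hb.π_eq_iff (Fr.rho_mem k) he).1 ((Fr.π_rho k).trans hπ.symm)
  by_cases h16 : 16 ≤ Nat.card F
  · exfalso
    rcases (hflat ⊤).big h16 with ⟨hBel, hW⟩ | ⟨key, hk8, hkinj⟩
    swap
    · have hU8 : Nat.card U ≤ 8 := by
        refine (Nat.card_le_card_of_injective (fun u : U => (⟨key u, hk8 _⟩ : Fin 8)) fun u w e => ?_).trans (by simp)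
        exact Subtype.ext (hkinj _ _ (hfixU _ u.2) (hfixU _ w.2) (congrArg Fin.val e))
      have h1 : Nat.card F < 64 := (hflat ⊤).card_lt
      nlinarith [hN2]
    have hF16 : Nat.card F ≤ 16 := by
      choose ui hui hue using fun f : F => hBel f f.2
      refine (Nat.card_le_card_of_injective (fun f => (⟨ui f, hui f⟩ : Fin 16)) fun f f' e => ?_).trans (by simp)
      exact Subtype.ext (by rw [hue f, hue f', show ui f = ui f' from congrArg Fin.val e])
    have hker : Nat.card φ.ker = 64 := by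
      have : Nat.card F = 16 := le_antisymm hF16 h16
      rw [this] at hcard; omega
    have hUW : ∀ u ∈ U, ∃ k < 64, u = dec (wv k) := fun u hu => (inW_iff u).1 (hW u (hfixU u hu))
    -- conjugates of the lifts of the hexacode
    have hflip : ∀ a : ↥A, ∀ k, k < 64 → (a : G) * Fr.rho k = Fr.rho k * a ∨
        (a : G) * Fr.rho k = Fr.rho k * z * a := by
      intro a k hk
      obtain ⟨u, hu, eu⟩ := hBel (φ a) ⟨a, Subgroup.mem_top a, rfl⟩
      obtain ⟨hm, hπ⟩ := hb.π_conj ⟨a, hAC a.2⟩ (Fr.rho_mem k)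
      rcases hrho k _ hm (by rw [hπ, Fr.π_rho, ← hφa, eu, Bel_fix hu hk]) with e | e
      · exact Or.inl (mul_inv_eq_iff_eq_mul.1 e)
      · exact Or.inr (mul_inv_eq_iff_eq_mul.1 e)
    have hinU : ∀ a : ↥A, ∀ k, dec (wv k) ∈ U → (a : G) * Fr.rho k = Fr.rho k * a := fun a k hk =>
      hcomm _ a.2 _ (hlift _ (Fr.rho_mem k) (by rwa [Fr.π_rho]))
    have hcover : ∀ k, k < 64 → dec (wv k) ∉ U → ∀ k', k' < 64 → dec (wv k') ∉ U → dec (wv (k ^^^ k')) ∈ U := by
      intro k hk hkU k' hk' hk'U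
      by_contra hn
      have hlt : ∀ u : U, ∃ j : Fin 64, (u : V6) = dec (wv j.1) := fun u => by
        obtain ⟨j, hj, e⟩ := hUW u u.2
        exact ⟨⟨j, hj⟩, e⟩
      choose j hj using hlt
      have key : (Nat.card U) * 2 < 64 := by
        let g : U × Bool → {i : Fin 64 // i ≠ ⟨k', hk'⟩} := fun p =>
          ⟨⟨(j p.1).1 ^^^ (if p.2 then k else 0), Nat.xor_lt_two_pow (n := 6) (j p.1).2 (by split <;> omega)⟩, by
            intro e
            have e' : (j p.1).1 ^^^ (if p.2 then k else 0) = k' := congrArg Fin.val e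
            cases hp : p.2
            · rw [hp, if_neg Bool.false_ne_true, Nat.xor_zero] at e'
              exact hk'U (by rw [← e', ← hj]; exact p.1.2)
            · rw [hp, if_pos rfl] at e'
              refine hn ?_
              rw [← e', Nat.xor_comm _ k, ← Nat.xor_assoc, Nat.xor_self, Nat.zero_xor, ← hj]
              exact p.1.2⟩
        have hg : Function.Injective g := by
          rintro ⟨u, s⟩ ⟨u', s'⟩ e
          have e' : (j u).1 ^^^ (if s then k else 0) = (j u').1 ^^^ (if s' then k else 0) :=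
            congrArg (fun i : {i : Fin 64 // i ≠ ⟨k', hk'⟩} => i.1.1) e
          have aux : ∀ w w' : U, (j w).1 ^^^ k = (j w').1 → False := fun w w' h => hkU (by
            have h2 : k = (j w).1 ^^^ (j w').1 := by rw [← h, ← Nat.xor_assoc, Nat.xor_self, Nat.zero_xor]
            rw [h2, dec_wv_xor, ← hj, ← hj]
            exact add_mem w.2 w'.2)
          cases s <;> cases s' <;> simp only [Bool.false_eq_true, if_false, if_true, Nat.xor_zero] at e'
          · exact Prod.ext (Subtype.ext (by show (u : V6) = u'; rw [hj u, hj u', e'])) rfl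
          · exact absurd e'.symm fun h => aux u' u h
          · exact absurd e' fun h => aux u u' h
          · exact Prod.ext (Subtype.ext (by show (u : V6) = u'; rw [hj u, hj u', Nat.xor_left_inj.1 e'])) rfl
        have h1 := Nat.card_le_card_of_injective g hg
        rw [Nat.card_prod] at h1
        rw [Nat.card_eq_fintype_card (α := Bool), Fintype.card_bool, Nat.card_eq_fintype_card (α := {i : Fin 64 // i ≠ ⟨k', hk'⟩}),
          Fintype.card_subtype_compl, Fintype.card_fin, Fintype.card_subtype_eq] at h1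
        omega
      omega
    let B : Subgroup ↥A :=
      { carrier := {a | ∀ k, k < 64 → (a : G) * Fr.rho k = Fr.rho k * a}
        one_mem' := fun k _ => by simp
        mul_mem' := fun {a a'} ha ha' k hk => by
          show (a : G) * a' * Fr.rho k = Fr.rho k * ((a : G) * a')
          rw [mul_assoc, ha' k hk, ← mul_assoc, ha k hk, mul_assoc]
        inv_mem' := fun {a} ha k hk => by
          show (a : G)⁻¹ * Fr.rho k = Fr.rho k * (a : G)⁻¹
          exact (Commute.inv_left (ha k hk : Commute (a : G) (Fr.rho k))).eq }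
    have hpair : ∀ a a' : ↥A, a ∉ B → a' ∉ B → a * a' ∈ B := by
      intro a a' ha ha'
      have get : ∀ b : ↥A, b ∉ B → ∀ k, k < 64 → dec (wv k) ∉ U → (b : G) * Fr.rho k = Fr.rho k * z * b := by
        intro b hb' k hk hkU
        refine (hflip b k hk).resolve_left fun e => hb' fun k' hk' => ?_
        by_cases hk'U : dec (wv k') ∈ U
        · exact hinU b k' hk'U
        · have h2 := hinU b _ (hcover k hk hkU k' hk' hk'U)
          rw [Fr.rho_xor hk hk', ← mul_assoc, e, mul_assoc, mul_assoc] at h2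
          exact mul_left_cancel h2
      intro k hk
      show (a : G) * a' * Fr.rho k = Fr.rho k * ((a : G) * a')
      by_cases hkU : dec (wv k) ∈ U
      · exact hinU (a * a') k hkU
      · have hz : (a : G) * z = z * a := hcomm _ a.2 _ hzA
        rw [mul_assoc, get a' ha' k hk hkU]
        calc (a : G) * (Fr.rho k * z * a') = (a : G) * Fr.rho k * (z * a') := by group
          _ = Fr.rho k * z * a * (z * a') := by rw [get a ha k hk hkU]
          _ = Fr.rho k * (z * (a * z)) * a' := by group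
          _ = Fr.rho k * ((a : G) * a') := by rw [hz, ← mul_assoc z z, hb.extra.z_sq, one_mul, mul_assoc]
    have hB : 2 ^ 10 ≤ Nat.card B * 2 := by
      by_cases hall : ∀ a : ↥A, a ∈ B
      · have : B = ⊤ := eq_top_iff.2 fun a _ => hall a
        rw [this, Subgroup.card_top, hA.card]; norm_num
      push Not at hall
      obtain ⟨a0, ha0⟩ := hall
      rw [← hA.card]
      refine (Nat.card_le_card_of_injective (fun a : ↥A =>
        (if ha : a ∈ B then ((⟨a, ha⟩ : ↥B), false) else ((⟨a0 * a, hpair a0 a ha0 ha⟩ : ↥B), true)))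
        fun a a' e => ?_).trans (by simp [Nat.card_prod])
      by_cases ha : a ∈ B <;> by_cases ha' : a' ∈ B <;> simp [ha, ha'] at e
      · exact e
      · exact e
    have hBimg : 8 ≤ Nat.card (B.map φ) := by
      have h1 := (φ.comp B.subtype).ker.card_mul_index
      rw [Subgroup.index_ker] at h1
      have h2 : Nat.card (φ.comp B.subtype).ker ≤ 64 := hker ▸
        Nat.card_le_card_of_injective (fun b => (⟨((b : ↥B) : ↥A), b.2⟩ : φ.ker)) fun b b' e =>
          Subtype.ext (Subtype.ext (congrArg (fun t : φ.ker => (t : ↥A)) e))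
      rw [MonoidHom.range_comp, Subgroup.range_subtype] at h1
      nlinarith
    obtain ⟨key, hinj, hkey⟩ := (hflat B).small hBimg
    have hBW : ∀ f ∈ B.map φ, ∀ k, k < 64 → f (dec (wv k)) = dec (wv k) := by
      rintro _ ⟨b, hbB, rfl⟩ k hk
      rw [← Fr.π_rho]
      exact hact b _ (Fr.rho_mem k) (hbB k hk)
    have hfixW : ∀ v, (∀ f ∈ B.map φ, f v = v) → InW v := by
      rcases hkey with h | ⟨-, h | ⟨b, hspn⟩⟩
      · exfalso
        have := Nat.card_le_card_of_injective (fun k : Fin 64 => (⟨key (dec (wv k.1)), h _⟩ : Fin 16)) fun k k' e =>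
          Fin.ext (wv_inj k.2 k'.2 (hinj _ _ (fun f hf => hBW f hf _ k.2) (fun f hf => hBW f hf _ k'.2)
            (congrArg Fin.val e)))
        simp at this
      · exact h
      · exfalso
        obtain ⟨-, -, -, -, -, -, -, -, hmove⟩ := spn_facts b
        simp only [List.any_eq_true, List.mem_range, bne_iff_ne] at hmove
        obtain ⟨a, ha, i, hi, hne⟩ := hmove
        obtain ⟨-, f, hf, ef⟩ := hspn a ha
        refine hne ?_
        rw [← ef, ← enc_dec (wv_lt (2 ^ i)), ← enc_apply,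
          hBW f hf _ (Nat.pow_lt_pow_right (by norm_num : 1 < 2) hi |>.trans_eq (by norm_num))]
    refine hA0 fun a ha => ?_
    obtain ⟨u, hu, eu⟩ := hBel (φ ⟨a, ha⟩) ⟨⟨a, ha⟩, Subgroup.mem_top _, rfl⟩
    have hcA : ((cpr c u : ↥(Subgroup.centralizer ({z} : Set G))) : G) ∈ Fr.asub L :=
      Fr.mem_of_commute L (Subgroup.mem_centralizer_singleton_iff.1 (cpr c u).2) fun k hk => Fr.cpr_rho L u hu hk
    set e : G := ((cpr c u : ↥(Subgroup.centralizer ({z} : Set G))) : G)⁻¹ * a with he
    have heQ : e ∈ Cfsg.twoCoreOfCentralizer z :=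
      (hb.ker ((cpr c u)⁻¹ * ⟨a, hAC ha⟩)).1 (by rw [map_mul, map_inv, L.cpr_img, ← hφa ⟨a, ha⟩, eu, inv_mul_cancel])
    obtain ⟨k, hk, ek⟩ := (inW_iff _).1 (hfixW (π e) (by
      rintro _ ⟨b, hbB, rfl⟩
      refine hact b e heQ ?_
      have hb0 : (b : G) ∈ Fr.asub L := Fr.mem_of_commute L (hcomm _ b.2 _ hzA) hbB
      show Commute (b : G) e
      exact (Commute.inv_right (Fr.asub_comm L hb0 hcA)).mul_right (hcomm _ b.2 _ ha)))
    have : a = ((cpr c u : ↥(Subgroup.centralizer ({z} : Set G))) : G) * e := (mul_inv_cancel_left _ _).symm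
    rw [this]
    refine mul_mem hcA ?_
    rcases hrho k e heQ ek with h | h <;> rw [h]
    exacts [Fr.rho_mem_asub L hk, mul_mem (Fr.rho_mem_asub L hk) (Fr.z_mem_asub L)]
  push Not at h16
  have hF8 : Nat.card F = 8 := by
    have : 8 ≤ Nat.card F := by nlinarith
    rw [hk] at this h16 ⊢
    have h3 : 3 ≤ k := (Nat.pow_le_pow_iff_right (le_refl 2)).1 (show 2 ^ 3 ≤ 2 ^ k from this)
    have h4 : k < 4 := (Nat.pow_lt_pow_iff_right (le_refl 2)).1 (show 2 ^ k < 2 ^ 4 from h16)
    rw [show k = 3 by omega]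
    norm_num
  have hUge : 64 ≤ Nat.card U := by rw [hF8] at hcard; omega
  obtain ⟨key, hinj, hkey⟩ := (hflat ⊤).small hF8.ge
  rcases hkey with h | ⟨h64, hW | ⟨b, hspn⟩⟩
  · exfalso
    have := Nat.card_le_card_of_injective (fun u : U => (⟨key u, h _⟩ : Fin 16)) fun u w e =>
      Subtype.ext (hinj _ _ (hfixU _ u.2) (hfixU _ w.2) (congrArg Fin.val e))
    rw [Nat.card_fin] at this
    omega
  · exfalso
    have hj : ∀ u : U, ∃ j : Fin 64, (u : V6) = dec (wv j.1) := fun u => by
      obtain ⟨j, hj, e⟩ := (inW_iff _).1 (hW u (hfixU u u.2))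
      exact ⟨⟨j, hj⟩, e⟩
    choose j hj using hj
    have hbij : Function.Bijective j := (Nat.bijective_iff_injective_and_card j).2
      ⟨fun u w e => Subtype.ext (by rw [hj u, hj w, e]), by rw [Nat.card_fin]; omega⟩
    refine hA0 fun a ha => Fr.mem_of_commute L (hcomm a ha z hzA) fun k hk => ?_
    obtain ⟨u, hu⟩ := hbij.2 ⟨k, hk⟩
    exact hcomm a ha _ (hlift _ (Fr.rho_mem k) (by
      rw [Fr.π_rho, show dec (wv k) = (u : V6) by rw [hj u, hu]]; exact u.2))
  refine ⟨b, fun g => ?_, fun a ha => ?_⟩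
  swap
  · obtain ⟨-, _, ⟨a', -, rfl⟩, ea'⟩ := hspn a ha
    exact ⟨⟨a', hAC a'.2⟩, a'.2, ea'⟩
  obtain ⟨hlen, -, -, hfx, -, -, hfxfix, hnd, -⟩ := spn_facts b
  -- the image is the special subgroup
  have hmem : ∀ f ∈ F, ∃ a ∈ spn b, imgs f = sL a := by
    choose fa hfa efa using fun a : Fin (spn b).length => (hspn _ (List.getElem_mem a.2)).2
    have hbij : Function.Bijective (fun a => (⟨fa a, hfa a⟩ : F)) := (Nat.bijective_iff_injective_and_card _).2
      ⟨fun a a' e => by
        have e' : sL ((spn b)[a.1]) = sL ((spn b)[a'.1]) := by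
          rw [← efa a, ← efa a', show fa a = fa a' from congrArg Subtype.val e]
        refine Fin.ext (List.Nodup.getElem_inj_iff hnd (hi := by simpa using a.2) (hj := by simpa using a'.2) |>.1 ?_)
        simpa using e', by simp [hlen, hF8]⟩
    intro f hf
    obtain ⟨a, ha⟩ := hbij.2 ⟨f, hf⟩
    exact ⟨_, List.getElem_mem a.2, by rw [← show fa a = f from congrArg Subtype.val ha]; exact efa a⟩
  have hfull : ∀ v, (∀ a ∈ spn b, lm (sL a) (enc v) = enc v) → v ∈ U := by
    intro v hv
    by_contra hvU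
    have hfixv : ∀ f ∈ F, f v = v := fun f hf => by
      obtain ⟨a, ha, e⟩ := hmem f hf
      rw [← dec_enc v, apply_dec f (enc_lt v), e, hv a ha]
    have := Nat.card_le_card_of_injective (fun o : Option U => (⟨key (o.elim v (↑)), h64 _⟩ : Fin 64)) fun o o' e => by
      have hfx : ∀ o : Option U, ∀ f ∈ F, f (o.elim v (↑)) = o.elim v (↑) := fun o => by
        cases o with
        | none => exact hfixv
        | some u => exact hfixU u u.2
      have e' := hinj _ _ (hfx o) (hfx o') (congrArg Fin.val e)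
      cases o <;> cases o' <;> simp only [Option.elim_none, Option.elim_some] at e'
      · rfl
      · exact absurd (e' ▸ Subtype.mem _) hvU
      · exact absurd (e' ▸ Subtype.mem _) hvU
      · exact congrArg some (Subtype.ext e')
    rw [Finite.card_option, Nat.card_fin] at this
    omega
  have hUfix : ∀ u ∈ U, ∀ a ∈ spn b, lm (sL a) (enc u) = enc u := fun u hu a ha =>
    (hflat ⊤).fix (hspn a ha) (hfixU u hu)
  constructor
  · intro hg
    exact ⟨hmem (ψ g) ⟨⟨g, hg⟩, Subgroup.mem_top _, rfl⟩, fun e he hfix => hcomm _ hg _ (hlift e he (hfull _ hfix))⟩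
  · rintro ⟨⟨a, ha, ea⟩, hgc⟩
    obtain ⟨-, _, ⟨a', -, rfl⟩, ea'⟩ := hspn a ha
    set e : G := (a' : G)⁻¹ * g with he
    have heQ : e ∈ Cfsg.twoCoreOfCentralizer z := (hb.ker (⟨a', hAC a'.2⟩⁻¹ * g)).1 (by
      rw [map_mul, map_inv, ← hφa, imgs_inj (ea'.trans ea.symm : imgs (φ a') = imgs (ψ g)), inv_mul_cancel])
    have heU : π e ∈ U := by
      have hall := List.all_eq_true.1 (spn_perp b) (enc (π e)) (List.mem_range.2 (enc_lt _))
      simp only [frc_eq, Bool.or_eq_true, List.any_eq_true, List.all_eq_true, beq_iff_eq] at hall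
      refine hfull _ (hall.resolve_left ?_)
      rintro ⟨m, hm, hbsc⟩
      have hm' : m < 4096 := by simpa using List.all_eq_true.1 hfx m hm
      obtain ⟨n, hn, hπn⟩ := hb.π_surj (dec m)
      have hnfix : ∀ a ∈ spn b, lm (sL a) (enc (π n)) = enc (π n) := fun a ha => by
        rw [hπn, enc_dec hm']
        simpa using List.all_eq_true.1 (List.all_eq_true.1 hfxfix a ha) m hm
      have hne : Commute e n := by
        refine Commute.mul_left (Commute.inv_left ?_) (hgc n hn hnfix)
        exact hcomm _ a'.2 _ (hlift n hn (hfull _ hnfix))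
      have h0 := hb.bs_of_commute heQ hn hne
      rw [hπn, ← dec_enc (π e), bs_eq_bv _ _ (enc_lt _) hm', hbsc] at h0
      exact absurd h0 (by decide)
    have : (g : G) = (a' : G) * e := (mul_inv_cancel_left _ _).symm
    rw [this]
    exact mul_mem a'.2 (hlift e heQ heU)

end CfsgLib.Sporadic.J4Type.Ten
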