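import Cfsg.Agent.Lib.Sporadic.J4Type.TenMoves
import Cfsg.Agent.Lib.Sporadic.J4Type.TenLData

/-!
# The normaliser inside `N(V)`, and a two-group beside the subgroup
-/

set_option autoImplicit false
set_option maxRecDepth 40000
set_option linter.style.haveILetI false
set_option linter.unusedSectionVars false

namespace CfsgLib.Sporadic.J4Type.Ten

open Cfsg CfsgLib.Sporadic.LargeFischer CfsgLib.Sporadic.LargeFischer.Hexa CfsgLib.SmallGroups.Golay
  CfsgLib.SmallGroups.M24Group CfsgLib.SmallGroups.MathieuSets CfsgLib.Sporadic.OctadStabilizer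
open scoped Pointwise

/-- Numbers of the part of `V` in the normaliser. -/
def vCode (k : ℕ) : ℕ := wW (k % 64) ^^^ lm v0B (k / 64)

/-- The product of two pairs. -/
def pmul (x y : ℕ × List ℕ) : ℕ × List ℕ := (x.1 ^^^ lm ((List.range 11).map (tblMap x.2)) y.1, cmpT x.2 y.2)

/-- The members of the subgroup generated by the last pairs. -/
def pList : ℕ → List (ℕ × List ℕ)
  | 0 => [(0, List.range 24)]
  | k + 1 => pList k ++ (pList k).map (pmul (sylPairs.getD (9 - k) (0, [])))

theorem syl_tabs : sylPairs.length = 10 ∧ sylPairs.all (fun x => x.2.length == 24 && x.2.all (· < 24) && decide x.2.Nodup &&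
    decide (x.1 < 2048) && ((List.range 12).all fun i => isCW (mask fun p => word (bas i) (tFun x.2 p))) &&
    (octL.all fun i => octL.contains (x.2.getD i 0)) && ((List.range 1024).any fun k => vCode k == x.1)) = true := by
  decide +kernel

theorem syl_rel : ∀ k : Fin 10,
    (pList k.1).contains (pmul (sylPairs.getD (9 - k.1) (0, [])) (sylPairs.getD (9 - k.1) (0, []))) = true ∧
    ∀ j : Fin 10, 9 - k.1 < j.1 → ((pList k.1).map fun y => pmul y (sylPairs.getD (9 - k.1) (0, []))).contains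
      (pmul (sylPairs.getD (9 - k.1) (0, [])) (sylPairs.getD j.1 (0, []))) = true := by decide +kernel

/-- The mask of the part inside. -/
def wMask : ℕ := (List.range 64).foldr (fun w m => m ||| 2 ^ wW w) 0

theorem wMask_ok : (List.range 64).all (fun w => wMask.testBit (wW w)) = true := by decide +kernel

theorem syl_fresh : ∀ k : Fin 10, (pList k.1).contains (sylPairs.getD (9 - k.1) (0, [])) = false := by decide +kernel

theorem syl_apart : (pList 10).all (fun x => !wMask.testBit x.1 || !rTabs.contains x.2 || x == (0, List.range 24)) = true := by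
  decide +kernel

theorem wB_pairs : ∀ i : Fin 6, (octL.any fun j => pcode j ^^^ pcode 23 == wW (2 ^ i.1)) = true := by decide +kernel

theorem none_mem : (none : GolayPt) ∈ toSet octB ∧ idx (none : GolayPt) = 23 := by decide +kernel

theorem vCode_bits : (List.range 1024).all (fun k => k == 0 || !(vCode k == 0)) = true := by decide +kernel

theorem vCode_xor (a b : ℕ) : vCode (a ^^^ b) = vCode a ^^^ vCode b := by
  simp only [vCode, (xor_parts a b).1, (xor_parts a b).2, wW_xor, lm_xor]
  ac_rfl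

theorem vCode_lt (k : ℕ) : vCode k < 2048 :=
  Nat.xor_lt_two_pow (n := 11) (wW_lt _) (lm_lt (k := 11) _ _ (by simpa using List.all_eq_true.1 moves_len.2.1))

theorem vCode_inj {a b : ℕ} (ha : a < 1024) (hb : b < 1024) (e : vCode a = vCode b) : a = b := by
  have h := List.all_eq_true.1 vCode_bits (a ^^^ b) (List.mem_range.2 (Nat.xor_lt_two_pow (n := 10) ha hb))
  rw [vCode_xor, e, Nat.xor_self] at h
  simp only [beq_self_eq_true, Bool.not_true, Bool.or_false, beq_iff_eq] at h
  exact Nat.xor_eq_zero_iff.1 h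

variable {G : Type*} [Group G] {z : G} {V : Subgroup G} {el : ℕ → G} {κ : ↥Cfsg.M24 →* G} (D : VData z V el κ)
include D

namespace VData

/-- A pair stands for an element. -/
def Shows (D : VData z V el κ) (x : ℕ × List ℕ) (g : G) : Prop :=
  x.1 < 2048 ∧ x.2.length = 24 ∧ (∀ y ∈ x.2, y < 24) ∧
    ∃ σ : ↥Cfsg.M24, (∀ p, idx ((σ : Equiv.Perm GolayPt) p) = x.2.getD (idx p) 0) ∧ g = el x.1 * κ σ

theorem shows_eq {x : ℕ × List ℕ} {g h : G} (hg : D.Shows x g) (hh : D.Shows x h) : g = h := by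
  obtain ⟨-, -, -, σ, hσ, rfl⟩ := hg
  obtain ⟨-, -, -, τ, hτ, rfl⟩ := hh
  rw [eq_of_tab σ τ hσ hτ rfl]

theorem shows_mul {x y : ℕ × List ℕ} {g h : G} (hg : D.Shows x g) (hh : D.Shows y h) : D.Shows (pmul x y) (g * h) := by
  obtain ⟨xn, xl, xt, σ, hσ, rfl⟩ := hg
  obtain ⟨yn, yl, yt, τ, hτ, rfl⟩ := hh
  obtain ⟨e, hlt⟩ := D.act_el σ hσ xl xt (T := (List.range 11).map (tblMap x.2)) rfl yn
  refine ⟨Nat.xor_lt_two_pow (n := 11) xn hlt, by simp [pmul, cmpT, yl], ?_, σ * τ, fun p => mul_tab σ τ hσ hτ yl p, ?_⟩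
  · intro w hw
    simp only [pmul, cmpT, List.mem_map] at hw
    obtain ⟨j, hj, rfl⟩ := hw
    rw [List.getD_eq_getElem _ _ (by rw [xl]; exact yt j hj)]
    exact xt _ (List.getElem_mem _)
  · show _ = el (x.1 ^^^ _) * κ (σ * τ)
    rw [D.xor xn hlt, ← e, map_mul]; group

theorem shows_one : D.Shows (0, List.range 24) 1 :=
  ⟨by norm_num, by simp, fun y hy => List.mem_range.1 hy, 1, fun p => by
    show idx p = _
    rw [List.getD_eq_getElem _ _ (by simp [idx_lt]), List.getElem_range],
    by show (1 : G) = el 0 * κ 1; rw [D.zero, map_one, one_mul]⟩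

variable [Finite G]

theorem wW_ten_of_V {a : ℕ} (ha : a < 1024) (h : gA el κ a ∈ V) : a < 64 := by
  have hk : κ (rS (a / 64)) ∈ V := by
    have := mul_mem (inv_mem (D.mem _ (wW_lt (a % 64)))) h
    rwa [gA, inv_mul_cancel_left] at this
  have := rS_inj (r' := 0) (by omega) (by norm_num) ((D.kap_inj _ hk).trans rS_zero.symm)
  omega

theorem vCode_norm (k : ℕ) : el (vCode k) ∈ Subgroup.normalizer (D.ten : Set G) := by
  have hv : ∀ q, lm v0B q < 2048 := fun q => lm_lt (k := 11) _ _ (by simpa using List.all_eq_true.1 moves_len.2.1)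
  rw [vCode, D.xor (wW_lt _) (hv _)]
  refine mul_mem (Subgroup.le_normalizer (D.el_mem_ten (Nat.mod_lt _ (by norm_num)))) ?_
  have key : ∀ L : List ℕ, (∀ x ∈ L, x < 2048 ∧ el x ∈ Subgroup.normalizer (D.ten : Set G)) → ∀ q,
      lm L q < 2048 ∧ el (lm L q) ∈ Subgroup.normalizer (D.ten : Set G) := by
    intro L
    induction L with
    | nil => intro _ q; simp [lm, D.zero, one_mem]
    | cons x L ih =>
      intro hL q
      obtain ⟨h1, h2⟩ := ih (fun y hy => hL y (List.mem_cons_of_mem _ hy)) (q / 2)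
      obtain ⟨x1, x2⟩ := hL x List.mem_cons_self
      show _ ^^^ lm L (q / 2) < 2048 ∧ el (_ ^^^ lm L (q / 2)) ∈ _
      split
      · exact ⟨Nat.xor_lt_two_pow (n := 11) x1 h1, by rw [D.xor x1 h1]; exact mul_mem x2 h2⟩
      · rw [Nat.zero_xor]; exact ⟨h1, h2⟩
  refine (key v0B (fun x hx => ?_) _).2
  obtain ⟨j, hj, rfl⟩ := List.mem_iff_getElem.1 hx
  refine ⟨by simpa using List.all_eq_true.1 moves_len.2.1 _ (List.getElem_mem hj), ?_⟩
  rw [← List.getD_eq_getElem _ 0 hj]
  exact D.v_norm j (hj.trans_eq rfl)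

theorem kap_norm (σ : ↥Cfsg.M24) (hσ : ∀ p ∈ toSet octB, (σ : Equiv.Perm GolayPt) p ∈ toSet octB) :
    κ σ ∈ Subgroup.normalizer (D.ten : Set G) := by
  refine Subgroup.mem_normalizer_fintype ?_
  have hW : ∀ w, w < 64 → κ σ * el (wW w) * (κ σ)⁻¹ ∈ D.ten := by
    have key : ∀ k, k ≤ 6 → ∀ w, w < 2 ^ k → κ σ * el (wW w) * (κ σ)⁻¹ ∈ D.ten := by
      intro k
      induction k with
      | zero => intro _ w hw; rw [show w = 0 by simpa using hw, wW, lm_zero, D.zero]; simp [one_mem]
      | succ k ih =>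
        intro hk w hw
        by_cases hb : w < 2 ^ k
        · exact ih (by omega) w hb
        · have hlt : w - 2 ^ k < 2 ^ k := by rw [pow_succ] at hw; omega
          have hbit : κ σ * el (wW (2 ^ k)) * (κ σ)⁻¹ ∈ D.ten := by
            have h := wB_pairs ⟨k, by omega⟩
            simp only [List.any_eq_true, beq_iff_eq] at h
            obtain ⟨j, hj, e⟩ := h
            have hj24 : j < 24 := by
              have := List.all_eq_true.1 oct_facts.2.2.2 j hj
              simp only [Bool.and_eq_true, decide_eq_true_eq] at this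
              exact this.1
            have hjO : pt j ∈ toSet octB := by rw [mem_toSet, oct_facts.1, idx_pt hj24, List.contains_iff_mem]; exact hj
            obtain ⟨w', hw', e'⟩ := D.pair_mem (hσ _ hjO) (hσ _ none_mem.1)
            rw [← e, show pcode j ^^^ pcode 23 = phi (pt j) ^^^ phi none by rw [phi, phi, idx_pt hj24, none_mem.2],
              D.act, ← e']
            exact D.el_mem_ten hw'
          rw [show w = 2 ^ k ^^^ (w - 2 ^ k) by rw [CfsgLib.SmallGroups.Golay.two_pow_xor hlt]; omega, wW_xor,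
            D.xor (wW_lt _) (wW_lt _), show κ σ * (el (wW (2 ^ k)) * el (wW (w - 2 ^ k))) * (κ σ)⁻¹ =
              κ σ * el (wW (2 ^ k)) * (κ σ)⁻¹ * (κ σ * el (wW (w - 2 ^ k)) * (κ σ)⁻¹) by group]
          exact mul_mem hbit (ih (by omega) _ hlt)
    exact key 6 le_rfl
  rintro _ ⟨a, ha, rfl⟩
  show κ σ * gA el κ a * (κ σ)⁻¹ ∈ D.ten
  have hinv : ∀ p ∈ toSet octB, (σ : Equiv.Perm GolayPt)⁻¹ p ∈ toSet octB := by
    intro p hp
    obtain ⟨⟨q, hq⟩, e⟩ := (Finite.injective_iff_surjective.1
      (show Function.Injective (fun q : ↥(toSet octB) => (⟨_, hσ q q.2⟩ : ↥(toSet octB))) from fun q q' e =>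
        Subtype.ext ((σ : Equiv.Perm GolayPt).injective (congrArg Subtype.val e)))) ⟨p, hp⟩
    rw [← show (σ : Equiv.Perm GolayPt) q = p from congrArg Subtype.val e]
    simpa using hq
  obtain ⟨r, hr, er⟩ := D.exists_rS (σ * rS (a / 64) * σ⁻¹) fun p hp => by
    have hr : a / 64 < 16 := by omega
    show (σ : Equiv.Perm GolayPt) ((rS (a / 64) : Equiv.Perm GolayPt) ((σ : Equiv.Perm GolayPt)⁻¹ p)) = p
    have hfix : (rS (a / 64) : Equiv.Perm GolayPt) ((σ : Equiv.Perm GolayPt)⁻¹ p) = (σ : Equiv.Perm GolayPt)⁻¹ p := by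
      refine idx_injective ?_
      have hq := hinv p hp
      rw [mem_toSet, oct_facts.1, List.contains_iff_mem] at hq
      have h := List.all_eq_true.1 (List.all_eq_true.1 rT_facts.2.2 (rT (a / 64)) (by
        rw [rT, List.getD_eq_getElem _ _ (by rw [tabs_ok.1]; exact hr)]; exact List.getElem_mem _)) _ hq
      rw [idx_rS hr]; exact beq_iff_eq.1 h
    rw [hfix]; simp
  rw [gA, show κ σ * (el (wW (a % 64)) * κ (rS (a / 64))) * (κ σ)⁻¹ =
    κ σ * el (wW (a % 64)) * (κ σ)⁻¹ * κ (σ * rS (a / 64) * σ⁻¹) by rw [map_mul, map_mul, map_inv]; group, er]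
  exact mul_mem (hW _ (Nat.mod_lt _ (by norm_num))) (D.rS_mem_ten hr)

/-- A large divisor of the order of the normaliser. -/
theorem dvd_card_norm : 2 ^ 10 * 322560 ∣ Nat.card ↥(Subgroup.normalizer (D.ten : Set G)) := by
  set M := Subgroup.normalizer (D.ten : Set G) ⊓ Subgroup.normalizer (V : Set G)
  have hdvd : Nat.card M ∣ 2048 * 322560 := D.card_dvd M inf_le_right fun m hm w hw => by
    obtain ⟨a, ha, e⟩ := (Subgroup.mem_normalizer_iff.1 hm.1 _).1 (D.el_mem_ten hw)
    have hV : gA el κ a ∈ V := e ▸ (Subgroup.mem_normalizer_iff.1 hm.2 _).1 (D.mem _ (wW_lt w))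
    have ha64 := D.wW_ten_of_V ha hV
    exact ⟨a, ha64, by rw [e, gA, Nat.mod_eq_of_lt ha64, Nat.div_eq_of_lt ha64, rS_zero, map_one, mul_one]⟩
  have hge : 1024 * 322560 ≤ Nat.card M := by
    have hmem : ∀ (k : Fin 1024) (s : octStab (toSet octB)), el (vCode k.1) * κ ⟨(s : Equiv.Perm GolayPt), s.2.1⟩ ∈ M := by
      intro k s
      refine ⟨mul_mem (D.vCode_norm k.1) (D.kap_norm _ fun p hp => (apply_mem_iff s.2.2 p).2 hp),
        mul_mem (Subgroup.le_normalizer (D.mem _ (vCode_lt _))) (D.kap_mem _)⟩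
    have h := Nat.card_le_card_of_injective (fun p : Fin 1024 × octStab (toSet octB) => (⟨_, hmem p.1 p.2⟩ : ↥M))
      fun p q e => by
        obtain ⟨k, s⟩ := p
        obtain ⟨l, t⟩ := q
        have e' : el (vCode k.1) * κ ⟨(s : Equiv.Perm GolayPt), s.2.1⟩ = el (vCode l.1) * κ ⟨(t : Equiv.Perm GolayPt), t.2.1⟩ :=
          congrArg Subtype.val e
        have hst : (⟨(s : Equiv.Perm GolayPt), s.2.1⟩ : ↥Cfsg.M24) = ⟨(t : Equiv.Perm GolayPt), t.2.1⟩ := by
          refine mul_inv_eq_one.1 (D.kap_inj _ ?_)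
          rw [map_mul, map_inv, show κ ⟨(s : Equiv.Perm GolayPt), s.2.1⟩ =
            (el (vCode k.1))⁻¹ * el (vCode l.1) * κ ⟨(t : Equiv.Perm GolayPt), t.2.1⟩ by rw [mul_assoc, ← e']; group,
            mul_inv_cancel_right]
          exact mul_mem (inv_mem (D.mem _ (vCode_lt _))) (D.mem _ (vCode_lt _))
        rw [hst] at e'
        exact Prod.ext (Fin.ext (vCode_inj k.2 l.2 (D.inj (vCode_lt _) (vCode_lt _) (mul_right_cancel e'))))
          (Subtype.ext (congrArg (fun u : ↥Cfsg.M24 => (u : Equiv.Perm GolayPt)) hst))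
    rwa [Nat.card_prod, Nat.card_eq_fintype_card, Fintype.card_fin, card_octStab octB_mem] at h
  refine dvd_trans ?_ (Subgroup.card_dvd_of_le (inf_le_left : M ≤ _))
  obtain ⟨c, hc⟩ := hdvd
  have hc3 : c < 3 := by
    by_contra h
    push Not at h
    have := Nat.mul_le_mul hge h
    omega
  interval_cases c
  · simp at hc
  · rw [mul_one] at hc; rw [← hc]; norm_num
  · rw [show Nat.card M = 2 ^ 10 * 322560 by omega]

/-- A two-group of the normaliser meeting the subgroup trivially. -/
theorem exists_syl : ∃ B : Subgroup G, B ≤ Subgroup.normalizer (D.ten : Set G) ∧ Nat.card B = 2 ^ 10 ∧ B ⊓ D.ten = ⊥ := by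
  have hgen : ∀ j, j < 10 → ∃ g ∈ Subgroup.normalizer (D.ten : Set G), D.Shows (sylPairs.getD j (0, [])) g := by
    intro j hj
    set x := sylPairs.getD j (0, []) with hx
    have h := List.all_eq_true.1 syl_tabs.2 x (by
      rw [hx, List.getD_eq_getElem _ _ (by rw [syl_tabs.1]; exact hj)]; exact List.getElem_mem _)
    simp only [Bool.and_eq_true, beq_iff_eq, List.all_eq_true, decide_eq_true_eq, List.mem_range, List.any_eq_true,
      List.contains_iff_mem] at h
    obtain ⟨⟨⟨⟨⟨⟨hl, ht⟩, hnd⟩, hn⟩, hcw⟩, hO⟩, k, -, hk⟩ := h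
    have hidx : ∀ p, idx (tFun x.2 p) = x.2.getD (idx p) 0 := fun p => idx_pt (by
      rw [List.getD_eq_getElem _ _ (by rw [hl]; exact idx_lt p)]; exact ht _ (List.getElem_mem _))
    have hinj : Function.Injective (tFun x.2) := fun p q e => by
      have e' := congrArg idx e
      rw [hidx, hidx, List.getD_eq_getElem _ _ (by rw [hl]; exact idx_lt p),
        List.getD_eq_getElem _ _ (by rw [hl]; exact idx_lt q)] at e'
      exact idx_injective ((List.Nodup.getElem_inj_iff hnd).1 e')
    let σ : ↥Cfsg.M24 := ⟨Equiv.ofBijective _ (Finite.injective_iff_bijective.1 hinj),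
      mem_M24_of_basis (fun p => rfl) fun i hi => hcw i hi⟩
    refine ⟨el x.1 * κ σ, mul_mem (hk ▸ D.vCode_norm k) (D.kap_norm σ fun p hp => ?_), hn, hl, ht, σ, hidx, rfl⟩
    rw [mem_toSet, oct_facts.1, List.contains_iff_mem] at hp ⊢
    show idx (tFun x.2 p) ∈ octL
    rw [hidx]; exact hO _ hp
  choose g hgN hg using hgen
  set gg : ℕ → G := fun j => if hj : j < 10 then g j hj else 1
  have hgg : ∀ j, j < 10 → D.Shows (sylPairs.getD j (0, [])) (gg j) := fun j hj => by simp only [gg, dif_pos hj]; exact hg j hj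
  have hggN : ∀ j, j < 10 → gg j ∈ Subgroup.normalizer (D.ten : Set G) := fun j hj => by simp only [gg, dif_pos hj]; exact hgN j hj
  have huniq : ∀ x y, D.Shows x (g := (y : G)) → ∀ x', D.Shows x' y → x = x' := by
    rintro x y ⟨xn, xl, -, σ, hσ, ex⟩ x' ⟨yn, yl, -, τ, hτ, ey⟩
    have e : el x.1 * κ σ = el x'.1 * κ τ := ex.symm.trans ey
    have hst : σ = τ := by
      refine mul_inv_eq_one.1 (D.kap_inj _ ?_)
      rw [map_mul, map_inv, show κ σ = (el x.1)⁻¹ * el x'.1 * κ τ by rw [mul_assoc, ← e]; group, mul_inv_cancel_right]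
      exact mul_mem (inv_mem (D.mem _ xn)) (D.mem _ yn)
    subst hst
    refine Prod.ext (D.inj xn yn (mul_right_cancel e)) (List.ext_getElem (by rw [xl, yl]) fun i h1 h2 => ?_)
    have hi : i < 24 := by rwa [xl] at h1
    rw [← List.getD_eq_getElem _ 0 h1, ← List.getD_eq_getElem _ 0 h2, ← idx_pt hi, ← hσ, ← hτ]
  have main : ∀ k, k ≤ 10 →
      (∀ b ∈ Subgroup.closure {b | ∃ j, 10 - k ≤ j ∧ j < 10 ∧ b = gg j}, ∃ x ∈ pList k, D.Shows x b) ∧
      (∀ x ∈ pList k, ∃ b ∈ Subgroup.closure {b | ∃ j, 10 - k ≤ j ∧ j < 10 ∧ b = gg j}, D.Shows x b) ∧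
      Nat.card ↥(Subgroup.closure {b | ∃ j, 10 - k ≤ j ∧ j < 10 ∧ b = gg j}) = 2 ^ k := by
    intro k
    induction k with
    | zero =>
      intro _
      refine ⟨fun b hb => ⟨_, List.mem_singleton.2 rfl, ?_⟩, fun x hx => ⟨1, one_mem _, List.mem_singleton.1 hx ▸ D.shows_one⟩, ?_⟩
      swap
      · rw [show {b | ∃ j, 10 - 0 ≤ j ∧ j < 10 ∧ b = gg j} = (∅ : Set G) from
          Set.eq_empty_iff_forall_notMem.2 fun b ⟨j, h1, h2, _⟩ => by omega, Subgroup.closure_empty, Subgroup.card_bot,
          pow_zero]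
      have : b = 1 := by
        rw [show {b | ∃ j, 10 - 0 ≤ j ∧ j < 10 ∧ b = gg j} = (∅ : Set G) from
          Set.eq_empty_iff_forall_notMem.2 fun b ⟨j, h1, h2, _⟩ => by omega, Subgroup.closure_empty, Subgroup.mem_bot] at hb
        exact hb
      exact this ▸ D.shows_one
    | succ k ih =>
      intro hk
      obtain ⟨ih1, ih2, ih3⟩ := ih (by omega)
      set K := Subgroup.closure {b | ∃ j, 10 - k ≤ j ∧ j < 10 ∧ b = gg j}
      set a := gg (9 - k)
      have ha : D.Shows (sylPairs.getD (9 - k) (0, [])) a := hgg _ (by omega)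
      obtain ⟨hsq, hconj⟩ := syl_rel ⟨k, by omega⟩
      rw [List.contains_iff_mem] at hsq
      obtain ⟨b2, hb2, hs2⟩ := ih2 _ hsq
      have e2 : a * a = b2 := D.shows_eq (D.shows_mul ha ha) hs2
      have hnorm : ∀ b ∈ K, a * b * a⁻¹ ∈ K := by
        have hle : K.map (MulAut.conj a).toMonoidHom ≤ K := by
          rw [MonoidHom.map_closure, Subgroup.closure_le]
          rintro _ ⟨_, ⟨j, h1, h2, rfl⟩, rfl⟩
          have hc := hconj ⟨j, h2⟩ (by show 9 - k < j; omega)
          simp only [List.contains_iff_mem, List.mem_map] at hc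
          obtain ⟨y, hy, ey⟩ := hc
          obtain ⟨b', hb', hsy⟩ := ih2 y hy
          have := D.shows_eq (D.shows_mul ha (hgg j h2)) (ey ▸ D.shows_mul hsy ha)
          show a * gg j * a⁻¹ ∈ K
          rw [this, mul_inv_cancel_right]
          exact hb'
        exact fun b hb => hle ⟨b, hb, rfl⟩
      let K' : Subgroup G :=
        { carrier := {g | g ∈ K ∨ a⁻¹ * g ∈ K}
          one_mem' := Or.inl (one_mem K)
          mul_mem' := by
            have hback : ∀ b ∈ K, a⁻¹ * b * a ∈ K := fun b hb => by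
              rw [show a⁻¹ * b * a = (a * a)⁻¹ * (a * b * a⁻¹) * (a * a) by group, e2]
              exact mul_mem (mul_mem (inv_mem hb2) (hnorm b hb)) hb2
            rintro u v (hu | hu) (hv | hv)
            · exact Or.inl (mul_mem hu hv)
            · refine Or.inr ?_
              rw [show a⁻¹ * (u * v) = a⁻¹ * u * a * (a⁻¹ * v) by group]
              exact mul_mem (hback u hu) hv
            · refine Or.inr ?_
              rw [← mul_assoc]
              exact mul_mem hu hv
            · refine Or.inl ?_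
              rw [show u * v = a * (a⁻¹ * u) * a⁻¹ * (a * a) * (a⁻¹ * v) by group]
              exact mul_mem (mul_mem (hnorm _ hu) (e2 ▸ hb2)) hv
          inv_mem' := by
            rintro u (hu | hu)
            · exact Or.inl (inv_mem hu)
            · refine Or.inr ?_
              rw [show a⁻¹ * u⁻¹ = (a * a)⁻¹ * (a * (a⁻¹ * u)⁻¹ * a⁻¹) by group, e2]
              exact mul_mem (inv_mem hb2) (hnorm _ (inv_mem hu)) }
      have heq : Subgroup.closure {b | ∃ j, 10 - (k + 1) ≤ j ∧ j < 10 ∧ b = gg j} = K' := by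
        refine le_antisymm ((Subgroup.closure_le _).2 ?_) ?_
        · rintro _ ⟨j, h1, h2, rfl⟩
          by_cases hj : j = 9 - k
          · exact Or.inr (by rw [hj, inv_mul_cancel]; exact one_mem K)
          · exact Or.inl (Subgroup.subset_closure ⟨j, by omega, h2, rfl⟩)
        · have hK : K ≤ Subgroup.closure {b | ∃ j, 10 - (k + 1) ≤ j ∧ j < 10 ∧ b = gg j} :=
            Subgroup.closure_mono fun b ⟨j, h1, h2, e⟩ => ⟨j, by omega, h2, e⟩
          rintro u (hu | hu)
          · exact hK hu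
          · have := mul_mem (Subgroup.subset_closure (k := {b | ∃ j, 10 - (k + 1) ≤ j ∧ j < 10 ∧ b = gg j})
              ⟨9 - k, by omega, by omega, rfl⟩) (hK hu)
            rwa [mul_inv_cancel_left] at this
      rw [heq]
      refine ⟨?_, ?_, ?_⟩
      · rintro b (hb | hb)
        · obtain ⟨x, hx, hs⟩ := ih1 b hb
          exact ⟨x, List.mem_append_left _ hx, hs⟩
        · obtain ⟨x, hx, hs⟩ := ih1 _ hb
          refine ⟨_, List.mem_append_right _ (List.mem_map.2 ⟨x, hx, rfl⟩), ?_⟩
          rw [← mul_inv_cancel_left a b]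
          exact D.shows_mul ha hs
      · intro x hx
        rcases List.mem_append.1 hx with hx | hx
        · obtain ⟨b, hb, hs⟩ := ih2 x hx
          exact ⟨b, Or.inl hb, hs⟩
        · obtain ⟨y, hy, rfl⟩ := List.mem_map.1 hx
          obtain ⟨b, hb, hs⟩ := ih2 y hy
          exact ⟨a * b, Or.inr (by rwa [inv_mul_cancel_left]), D.shows_mul ha hs⟩
      · have haK : a ∉ K := fun h => by
          obtain ⟨x, hx, hs⟩ := ih1 a h
          have e := huniq _ _ hs _ ha
          have hf := syl_fresh ⟨k, by omega⟩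
          simp only [List.contains_eq_mem, decide_eq_false_iff_not] at hf
          exact hf (e ▸ hx)
        have hset : (K' : Set G) = (K : Set G) ∪ (fun b => a * b) '' (K : Set G) := by
          ext u
          constructor
          · rintro (hu | hu)
            exacts [Or.inl hu, Or.inr ⟨_, hu, mul_inv_cancel_left a u⟩]
          · rintro (hu | ⟨b, hb, rfl⟩)
            exacts [Or.inl hu, Or.inr (by rwa [inv_mul_cancel_left])]
        have hdis : Disjoint (K : Set G) ((fun b => a * b) '' (K : Set G)) := Set.disjoint_left.2 fun u hu ⟨b, hb, e⟩ =>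
          haK (by rw [show a = u * b⁻¹ from eq_mul_inv_of_mul_eq e]; exact mul_mem hu (inv_mem hb))
        rw [← SetLike.coe_sort_coe, Nat.card_coe_set_eq, hset,
          Set.ncard_union_eq hdis (Set.toFinite _) (Set.toFinite _), Set.ncard_image_of_injective _ (mul_right_injective a),
          ← Nat.card_coe_set_eq, SetLike.coe_sort_coe, ih3, pow_succ]
        ring
  obtain ⟨h1, h2, h3⟩ := main 10 le_rfl
  set B := Subgroup.closure {b | ∃ j, 10 - 10 ≤ j ∧ j < 10 ∧ b = gg j}
  refine ⟨B, (Subgroup.closure_le _).2 (by rintro _ ⟨j, -, hj, rfl⟩; exact hggN j hj), ?_, ?_⟩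
  · exact h3
  · refine (Subgroup.eq_bot_iff_forall _).2 ?_
    rintro y ⟨hyB, a, ha, hya⟩
    obtain ⟨x, hx, hs⟩ := h1 y hyB
    have hr : a / 64 < 16 := by omega
    have hsa : D.Shows (wW (a % 64), rT (a / 64)) y := ⟨wW_lt _, rT_len hr, by
      have h := List.all_eq_true.1 tabs_ok.2.2 _ (rT_mem _ hr)
      simp only [Bool.and_eq_true, beq_iff_eq, List.all_eq_true, decide_eq_true_eq] at h
      exact h.1.2, rS (a / 64), idx_rS hr, hya⟩
    have e := huniq _ _ hs _ hsa
    have h := List.all_eq_true.1 syl_apart x hx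
    have hmem : rTabs.contains x.2 = true ∧ wMask.testBit x.1 = true := by
      rw [e, List.contains_iff_mem]
      exact ⟨by rw [rT, List.getD_eq_getElem _ _ (by rw [tabs_ok.1]; exact hr)]; exact List.getElem_mem _,
        List.all_eq_true.1 wMask_ok _ (List.mem_range.2 (Nat.mod_lt _ (by norm_num)))⟩
    simp only [hmem.1, hmem.2, Bool.not_true, Bool.false_or, beq_iff_eq] at h
    exact D.shows_eq (h ▸ hs) D.shows_one

end VData

end CfsgLib.Sporadic.J4Type.Ten
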