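import Cfsg.Agent.Lib.Sporadic.J4Type.TenMain
import Cfsg.Agent.Lib.Sporadic.J4Type.TenExterior
import Cfsg.Agent.Lib.Sporadic.J4Type.TenSyl
import Cfsg.Agent.Lib.Solvable.Gaschutz

/-!
# The normaliser of a self-centralising subgroup of order `2¹⁰`
-/

set_option autoImplicit false
set_option maxRecDepth 40000
set_option linter.style.haveILetI false
set_option linter.unusedSectionVars false

namespace CfsgLib.Sporadic.J4Type.Ten

open Cfsg CfsgLib.Sporadic.LargeFischer CfsgLib.Sporadic.LargeFischer.Hexa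
open VData (gA)

/-- The code of a bivector. -/
def pc10 (d : ℕ) : ℕ := lm plk d

/-- The bivector of a code. -/
def cp10 (a : ℕ) : ℕ := lm plkInv a

theorem plk_facts : (∀ i : Fin 10, cp10 (pc10 (2 ^ i.1)) = 2 ^ i.1 ∧ pc10 (cp10 (2 ^ i.1)) = 2 ^ i.1) ∧
    plk.all (· < 1024) = true ∧ plkInv.all (· < 1024) = true ∧
    (List.range 1024).all (fun d => isDec d == (label (pc10 d) == 2 || label (pc10 d) == 3)) = true ∧
    ∀ i : Fin 10, ((List.range 5).any fun a => (List.range 5).any fun b => wed (2 ^ a) (2 ^ b) == 2 ^ i.1) = true := by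
  decide +kernel

theorem pc10_lt (d : ℕ) : pc10 d < 1024 := lm_lt (k := 10) _ _ (by simpa using List.all_eq_true.1 plk_facts.2.1)

theorem cp10_lt (d : ℕ) : cp10 d < 1024 := lm_lt (k := 10) _ _ (by simpa using List.all_eq_true.1 plk_facts.2.2.1)

theorem cp10_pc10 {d : ℕ} (hd : d < 1024) : cp10 (pc10 d) = d :=
  bits_eq (f := fun d => cp10 (pc10 d)) (g := id) (fun a b => by simp only [cp10, pc10, lm_xor]) (fun _ _ => rfl) 10
    (fun i hi => (plk_facts.1 ⟨i, hi⟩).1) d hd

theorem pc10_cp10 {d : ℕ} (hd : d < 1024) : pc10 (cp10 d) = d :=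
  bits_eq (f := fun d => pc10 (cp10 d)) (g := id) (fun a b => by simp only [cp10, pc10, lm_xor]) (fun _ _ => rfl) 10
    (fun i hi => (plk_facts.1 ⟨i, hi⟩).2) d hd

/-- A vector as a function. -/
def toV (u : ℕ) : Fin 5 → ZMod 2 := fun i => if u.testBit i.1 then 1 else 0

/-- A function as a vector. -/
def fromV (v : Fin 5 → ZMod 2) : ℕ := Nat.ofBits fun i => decide (v i ≠ 0)

theorem v_facts : (∀ u : Fin 32, fromV (toV u.1) = u.1) ∧ (∀ v : Fin 5 → ZMod 2, toV (fromV v) = v) := by decide +kernel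

theorem fromV_lt (v : Fin 5 → ZMod 2) : fromV v < 32 := Nat.ofBits_lt_two_pow _

theorem toV_xor (a b : ℕ) : toV (a ^^^ b) = toV a + toV b := by
  funext i
  simp only [toV, Nat.testBit_xor, Pi.add_apply]
  cases a.testBit i.1 <;> cases b.testBit i.1 <;> decide

theorem fromV_add (v w : Fin 5 → ZMod 2) : fromV (v + w) = fromV v ^^^ fromV w := by
  conv_lhs => rw [← v_facts.2 v, ← v_facts.2 w, ← toV_xor]
  exact v_facts.1 ⟨_, Nat.xor_lt_two_pow (n := 5) (fromV_lt v) (fromV_lt w)⟩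

theorem card_sl5 : Nat.card (Matrix.SpecialLinearGroup (Fin 5) (ZMod 2)) ≤ 9999360 := by
  refine (Nat.card_le_card_of_injective (fun M => Matrix.SpecialLinearGroup.toGL M) ?_).trans ?_
  · intro M N e
    exact Subtype.ext (congrArg (fun u : Matrix.GeneralLinearGroup (Fin 5) (ZMod 2) => (u : Matrix (Fin 5) (Fin 5) (ZMod 2))) e)
  · rw [Matrix.card_GL_field, ZMod.card]
    norm_num [Fin.prod_univ_succ]

variable {G : Type*} [Group G] [Finite G] [IsSimpleGroup G] {z : G} {V : Subgroup G} {el : ℕ → G}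
  {κ : ↥Cfsg.M24 →* G} (D : VData z V el κ)
include D

omit [IsSimpleGroup G] in
/-- The vector map of an element of the normaliser. -/
theorem exists_g (hzc : ∀ b, b < 1024 → (IsConj z (gA el κ b) ↔ label b = 2 ∨ label b = 3))
    (n : ↥(Subgroup.normalizer (D.ten : Set G))) :
    ∃ g : ℕ → ℕ, (∀ u, u < 32 → g u < 32) ∧ (∀ u v, u < 32 → v < 32 → g (u ^^^ v) = g u ^^^ g v) ∧
      (∀ u, u < 32 → g u = 0 → u = 0) ∧
      ∀ u v, u < 32 → v < 32 → (n : G) * gA el κ (pc10 (wed u v)) * (n : G)⁻¹ = gA el κ (pc10 (wed (g u) (g v))) := by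
  have hf : ∀ d : ℕ, ∃ b, b < 1024 ∧ (n : G) * gA el κ (pc10 d) * (n : G)⁻¹ = gA el κ b := fun d => by
    obtain ⟨b, hb, e⟩ := (Subgroup.mem_normalizer_iff.1 n.2 _).1 (⟨_, pc10_lt d, rfl⟩ : gA el κ (pc10 d) ∈ D.ten)
    exact ⟨b, hb, e⟩
  choose f hf1 hf2 using hf
  set h : ℕ → ℕ := fun d => cp10 (f d) with hh
  have hfx : ∀ a b, f (a ^^^ b) = f a ^^^ f b := fun a b => by
    refine D.gA_inj (hf1 _) (Nat.xor_lt_two_pow (n := 10) (hf1 a) (hf1 b)) ?_
    rw [← hf2, ← D.gA_mul (hf1 a) (hf1 b), ← hf2, ← hf2, show pc10 (a ^^^ b) = pc10 a ^^^ pc10 b from lm_xor _ a b,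
      ← D.gA_mul (pc10_lt a) (pc10_lt b)]
    group
  obtain ⟨g, g1, g2, g3, g4⟩ := exists_lin (h := h)
    (fun a b _ _ => by simp only [hh, hfx, cp10, lm_xor]) (fun a _ => cp10_lt _)
    (fun a ha e => by
      have e0 : f a = 0 := by
        rw [← pc10_cp10 (hf1 a), show cp10 (f a) = 0 from e]; exact lm_zero _
      have e1 := hf2 a
      rw [e0, D.gA_zero] at e1
      have := D.gA_inj (pc10_lt a) (by norm_num) ((conj_eq_one_iff.1 e1).trans D.gA_zero.symm)
      rw [← cp10_pc10 ha, this]; exact lm_zero _)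
    (fun a ha hd => by
      have hlab : ∀ d, d < 1024 → (isDec d = true ↔ IsConj z (gA el κ (pc10 d))) := fun d hd => by
        have h := List.all_eq_true.1 plk_facts.2.2.2.1 d (List.mem_range.2 hd)
        rw [beq_iff_eq] at h
        rw [h, hzc _ (pc10_lt d), Bool.or_eq_true, beq_iff_eq, beq_iff_eq]
      rw [hlab _ (cp10_lt _), pc10_cp10 (hf1 a), ← hf2]
      exact ((hlab a ha).1 hd).trans (isConj_iff.2 ⟨n, rfl⟩))
  refine ⟨g, g1, g2, g3, fun u v hu hv => ?_⟩
  rw [← g4 u v hu hv, hh, pc10_cp10 (hf1 _)]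
  exact hf2 _

omit [IsSimpleGroup G] in
theorem exists_rep (hzc : ∀ b, b < 1024 → (IsConj z (gA el κ b) ↔ label b = 2 ∨ label b = 3)) :
    ∃ ρ : ↥(Subgroup.normalizer (D.ten : Set G)) →* Matrix.SpecialLinearGroup (Fin 5) (ZMod 2),
      ρ.ker = D.ten.subgroupOf (Subgroup.normalizer (D.ten : Set G)) := by
  classical
  set N := Subgroup.normalizer (D.ten : Set G)
  choose g g1 g2 g3 g4 using exists_g D hzc
  have g0 : ∀ n, g n 0 = 0 := fun n => by
    have := g2 n 0 0 (by norm_num) (by norm_num)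
    rwa [Nat.xor_self, Nat.xor_self] at this
  have guniq : ∀ (n : ↥N) (g' : ℕ → ℕ), (∀ u, u < 32 → g' u < 32 ∧ (g' u = 0 → u = 0)) → g' 0 = 0 →
      (∀ u v, u < 32 → v < 32 → (n : G) * gA el κ (pc10 (wed u v)) * (n : G)⁻¹ = gA el κ (pc10 (wed (g' u) (g' v)))) →
      ∀ u, u < 32 → g n u = g' u := by
    intro n g' hg' h0 hact u hu
    by_cases hu0 : u = 0
    · rw [hu0, g0, h0]
    refine lin_unique (fun u hu => ⟨g1 n u hu, g3 n u hu⟩) hg' (g2 n) (fun u v hu hv => ?_) hu hu0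
    rw [← cp10_pc10 (wed_lt (g1 n u hu) (g1 n v hv)), ← cp10_pc10 (wed_lt (hg' u hu).1 (hg' v hv).1),
      D.gA_inj (pc10_lt _) (pc10_lt _) ((g4 n u v hu hv).symm.trans (hact u v hu hv))]
  have hmul : ∀ (n m : ↥N) u, u < 32 → g (n * m) u = g n (g m u) := by
    intro n m u hu
    refine guniq (n * m) (fun u => g n (g m u)) (fun u hu => ⟨g1 n _ (g1 m u hu), fun e => g3 m u hu (g3 n _ (g1 m u hu) e)⟩)
      (by show g n (g m 0) = 0; rw [g0, g0]) (fun u v hu hv => ?_) u hu
    show (n : G) * m * gA el κ (pc10 (wed u v)) * ((n : G) * m)⁻¹ = _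
    rw [← g4 n _ _ (g1 m u hu) (g1 m v hv), ← g4 m u v hu hv]
    group
  have hone : ∀ u, u < 32 → g 1 u = u := fun u hu =>
    guniq 1 id (fun u hu => ⟨hu, id⟩) rfl (fun u v _ _ => by simp) u hu
  let T : ↥N → ((Fin 5 → ZMod 2) →ₗ[ZMod 2] (Fin 5 → ZMod 2)) := fun n =>
    { toFun := fun v => toV (g n (fromV v))
      map_add' := fun v w => by rw [fromV_add, g2 n _ _ (fromV_lt v) (fromV_lt w), toV_xor]
      map_smul' := fun c v => by
        rcases (by decide : ∀ c : ZMod 2, c = 0 ∨ c = 1) c with rfl | rfl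
        · rw [zero_smul, RingHom.id_apply, zero_smul, show fromV 0 = 0 by decide +kernel, g0]
          exact funext (by decide +kernel : ∀ i, toV 0 i = 0)
        · rw [one_smul, RingHom.id_apply, one_smul] }
  have hTmul : ∀ n m, T (n * m) = (T n).comp (T m) := fun n m => LinearMap.ext fun v => by
    show toV (g (n * m) (fromV v)) = toV (g n (fromV (toV (g m (fromV v)))))
    rw [hmul n m _ (fromV_lt v), v_facts.1 ⟨_, g1 m _ (fromV_lt v)⟩]
  have hTone : T 1 = LinearMap.id := LinearMap.ext fun v => by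
    show toV (g 1 (fromV v)) = v
    rw [hone _ (fromV_lt v), v_facts.2]
  have hdet : ∀ n, (LinearMap.toMatrix' (T n)).det = 1 := fun n => by
    have h : (LinearMap.toMatrix' (T n)).det * (LinearMap.toMatrix' (T n⁻¹)).det = 1 := by
      rw [← Matrix.det_mul, ← LinearMap.toMatrix'_comp, ← hTmul, mul_inv_cancel, hTone, LinearMap.toMatrix'_id,
        Matrix.det_one]
    rcases (by decide : ∀ c : ZMod 2, c = 0 ∨ c = 1) (LinearMap.toMatrix' (T n)).det with e | e
    · rw [e, zero_mul] at h; exact absurd h zero_ne_one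
    · exact e
  let ρ : ↥N →* Matrix.SpecialLinearGroup (Fin 5) (ZMod 2) :=
    MonoidHom.mk' (fun n => ⟨LinearMap.toMatrix' (T n), hdet n⟩) fun n m => Subtype.ext (by
      show LinearMap.toMatrix' (T (n * m)) = LinearMap.toMatrix' (T n) * LinearMap.toMatrix' (T m)
      rw [hTmul, LinearMap.toMatrix'_comp])
  refine ⟨ρ, ?_⟩
  ext n
  rw [MonoidHom.mem_ker, Subgroup.mem_subgroupOf]
  constructor
  · intro hn
    have hT : T n = LinearMap.id := LinearMap.toMatrix'.injective (by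
      rw [LinearMap.toMatrix'_id]; exact congrArg Subtype.val hn)
    have hg : ∀ u, u < 32 → g n u = u := fun u hu => by
      have h := congrArg fromV (LinearMap.congr_fun hT (toV u))
      change fromV (toV (g n (fromV (toV u)))) = fromV (toV u) at h
      rwa [v_facts.1 ⟨u, hu⟩, v_facts.1 ⟨_, g1 n u hu⟩] at h
    have hbit : ∀ i, i < 10 → (n : G) * gA el κ (pc10 (2 ^ i)) * (n : G)⁻¹ = gA el κ (pc10 (2 ^ i)) := by
      intro i hi
      have h := plk_facts.2.2.2.2 ⟨i, hi⟩
      simp only [List.any_eq_true, List.mem_range, beq_iff_eq] at h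
      obtain ⟨a, ha, b, hb, e⟩ := h
      have ha' : 2 ^ a < 32 := Nat.pow_lt_pow_right (by norm_num : 1 < 2) ha |>.trans_eq (by norm_num)
      have hb' : 2 ^ b < 32 := Nat.pow_lt_pow_right (by norm_num : 1 < 2) hb |>.trans_eq (by norm_num)
      rw [← e, g4 n _ _ ha' hb', hg _ ha', hg _ hb']
    rw [← D.ten_self]
    refine Subgroup.mem_centralizer_iff.2 ?_
    rintro _ ⟨a, ha, rfl⟩
    have key : ∀ k, k ≤ 10 → ∀ d, d < 2 ^ k → (n : G) * gA el κ (pc10 d) * (n : G)⁻¹ = gA el κ (pc10 d) := by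
      intro k
      induction k with
      | zero => intro _ d hd; rw [show d = 0 by simpa using hd, show pc10 0 = 0 from lm_zero _, D.gA_zero]; group
      | succ k ih =>
        intro hk d hd
        by_cases hb : d < 2 ^ k
        · exact ih (by omega) d hb
        · have hlt : d - 2 ^ k < 2 ^ k := by rw [pow_succ] at hd; omega
          rw [show d = 2 ^ k ^^^ (d - 2 ^ k) by rw [CfsgLib.SmallGroups.Golay.two_pow_xor hlt]; omega,
            show pc10 (2 ^ k ^^^ (d - 2 ^ k)) = pc10 (2 ^ k) ^^^ pc10 (d - 2 ^ k) from lm_xor _ _ _,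
            ← D.gA_mul (pc10_lt _) (pc10_lt _)]
          conv_rhs => rw [← hbit k (by omega), ← ih (by omega) _ hlt]
          group
    have h := key 10 le_rfl (cp10 a) (cp10_lt a)
    rw [pc10_cp10 ha] at h
    exact (mul_inv_eq_iff_eq_mul.1 h).symm
  · intro hn
    refine Subtype.ext ?_
    show LinearMap.toMatrix' (T n) = 1
    have : T n = LinearMap.id := LinearMap.ext fun v => by
      show toV (g n (fromV v)) = v
      rw [guniq n id (fun u hu => ⟨hu, id⟩) rfl (fun u v _ _ => ?_) _ (fromV_lt v), id, v_facts.2]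
      have hc : (n : G) * gA el κ (pc10 (wed u v)) = gA el κ (pc10 (wed u v)) * n :=
        congrArg Subtype.val (D.ten_elem.1.is_comm.comm (⟨(n : G), hn⟩ : ↥D.ten) ⟨_, _, pc10_lt _, rfl⟩)
      exact mul_inv_eq_iff_eq_mul.2 hc
    rw [this, LinearMap.toMatrix'_id]

/-- The normaliser of the model. -/
theorem model_struct (hJ : Cfsg.IsOfJankoFourTypeAt z) :
    (∃ B : Subgroup G, B ≤ Subgroup.normalizer (D.ten : Set G) ∧ B ⊓ D.ten = ⊥ ∧
      B ⊔ D.ten = Subgroup.normalizer (D.ten : Set G) ∧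
      Nonempty (↥B ≃* Matrix.SpecialLinearGroup (Fin 5) (ZMod 2))) ∧
    ∀ W : Subgroup G, W ≤ D.ten → Subgroup.normalizer (D.ten : Set G) ≤ Subgroup.normalizer (W : Set G) →
      W = ⊥ ∨ W = D.ten := by
  classical
  haveI : Fact (Nat.Prime 2) := ⟨Nat.prime_two⟩
  obtain ⟨h155, h868, hzc, hcov⟩ := model_orbits hJ D
  set N := Subgroup.normalizer (D.ten : Set G) with hN
  obtain ⟨ρ, hker⟩ := exists_rep D hzc
  have hTN : D.ten ≤ N := Subgroup.le_normalizer
  have hkc : Nat.card ρ.ker = 2 ^ 10 := by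
    rw [hker, Nat.card_congr (Subgroup.subgroupOfEquivOfLe hTN).toEquiv, D.ten_card]
  have h31 : 155 ∣ Nat.card ↥N := by
    let φ : ↥N →* ConjAct G := ConjAct.toConjAct.toMonoidHom.comp N.subtype
    letI : MulAction ↥N G := MulAction.compHom G φ
    have horb : MulAction.orbit ↥N (gA el κ 7) = {v : G | ∃ n ∈ N, n * gA el κ 7 * n⁻¹ = v} := by
      ext v
      constructor
      · rintro ⟨n, rfl⟩; exact ⟨n, n.2, rfl⟩
      · rintro ⟨n, hn, rfl⟩; exact ⟨⟨n, hn⟩, rfl⟩
    rw [← h155, ← horb, ← MulAction.index_stabilizer]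
    exact Subgroup.index_dvd_card _
  have hbig := Nat.lcm_dvd h31 D.dvd_card_norm
  rw [show Nat.lcm 155 (2 ^ 10 * 322560) = 2 ^ 10 * 9999360 by decide +kernel] at hbig
  have hNc : Nat.card ↥N = 2 ^ 10 * Nat.card ρ.range := by
    rw [← ρ.ker.card_mul_index, Subgroup.index_ker, hkc]
  rw [hNc] at hbig
  have hr : 9999360 ∣ Nat.card ρ.range := Nat.dvd_of_mul_dvd_mul_left (by norm_num) hbig
  have hrc : Nat.card ρ.range = 9999360 := by
    refine le_antisymm ?_ (Nat.le_of_dvd Nat.card_pos hr)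
    exact (Subgroup.card_le_card_group _).trans card_sl5
  have hsurj : Function.Surjective ρ := MonoidHom.range_eq_top.1 (Subgroup.eq_top_of_le_card _ (by rw [hrc]; exact card_sl5))
  refine ⟨?_, ?_⟩
  · obtain ⟨B₀, hB₀N, hB₀c, hB₀A⟩ := D.exists_syl
    set K := D.ten.subgroupOf N with hK
    set A₀ := B₀.subgroupOf N with hA₀
    haveI : K.Normal := by rw [← hker]; infer_instance
    haveI : IsMulCommutative ↥K := ⟨⟨fun p q => Subtype.ext (Subtype.ext (by
      have h := congrArg Subtype.val (D.ten_elem.1.is_comm.comm (⟨((p : ↥N) : G), p.2⟩ : ↥D.ten) ⟨((q : ↥N) : G), q.2⟩)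
      exact h))⟩⟩
    have hAK : A₀ ⊓ K = ⊥ := (Subgroup.eq_bot_iff_forall _).2 fun m hm => Subtype.ext (by
      have : (m : G) ∈ B₀ ⊓ D.ten := hm
      rwa [hB₀A, Subgroup.mem_bot] at this)
    set U := K ⊔ A₀
    have hKc : Nat.card K = 2 ^ 10 := by rw [← hker, hkc]
    have hAc : Nat.card A₀ = 2 ^ 10 := by rw [hA₀, Nat.card_congr (Subgroup.subgroupOfEquivOfLe hB₀N).toEquiv, hB₀c]
    have hUge : 2 ^ 20 ≤ Nat.card U := by
      refine le_trans (le_of_eq ?_) (Nat.card_le_card_of_injective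
        (fun p : K × A₀ => (⟨(p.1 : ↥N) * p.2, mul_mem (Subgroup.mem_sup_left p.1.2) (Subgroup.mem_sup_right p.2.2)⟩ : U))
        fun p q e => ?_)
      · rw [Nat.card_prod, hKc, hAc]; norm_num
      · exact Subgroup.mul_injective_of_disjoint (disjoint_iff.2 ((inf_comm K A₀).trans hAK)) (congrArg Subtype.val e)
    have hUp : IsPGroup 2 ↥U := IsPGroup.to_sup_of_normal_left (IsPGroup.of_card hKc) (IsPGroup.of_card hAc)
    obtain ⟨e, he⟩ := IsPGroup.iff_card.1 hUp
    have hUdvd := Subgroup.card_subgroup_dvd_card U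
    rw [hNc, hrc] at hUdvd
    have he20 : e = 20 := by
      rw [he] at hUge hUdvd
      have h1 : 20 ≤ e := (Nat.pow_le_pow_iff_right (le_refl 2)).1 hUge
      by_contra hne
      have h2 : (2 : ℕ) ^ 21 ∣ 2 ^ 10 * 9999360 := (pow_dvd_pow 2 (show 21 ≤ e by omega)).trans hUdvd
      norm_num at h2
    have hidx : U.index = 9765 := by
      have := U.card_mul_index
      rw [he, he20, hNc, hrc] at this
      omega
    have hcop : (Nat.card K).Coprime U.index := by rw [hKc, hidx]; decide +kernel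
    obtain ⟨H, hH⟩ := CfsgLib.Solvable.Gaschutz.exists_complement K U le_sup_left hcop A₀ hAK rfl
    refine ⟨H.map N.subtype, Subgroup.map_subtype_le H, ?_, ?_, ?_⟩
    · refine (Subgroup.eq_bot_iff_forall _).2 ?_
      rintro _ ⟨⟨m, hm, rfl⟩, hmA⟩
      have : m ∈ K ⊓ H := ⟨hmA, hm⟩
      rw [disjoint_iff.1 hH.disjoint, Subgroup.mem_bot] at this
      exact congrArg Subtype.val this
    · refine le_antisymm (sup_le (Subgroup.map_subtype_le H) hTN) fun m hm => ?_
      obtain ⟨⟨k, h⟩, e⟩ := hH.2 ⟨m, hm⟩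
      have : m = ((k : ↥N) : G) * ((h : ↥N) : G) := (congrArg Subtype.val e).symm
      rw [this]
      exact mul_mem (Subgroup.mem_sup_right k.2) (Subgroup.mem_sup_left ⟨_, h.2, rfl⟩)
    · have hbij : Function.Bijective (ρ.comp H.subtype) := by
        refine ⟨(injective_iff_map_eq_one _).2 fun h hh => ?_, fun M => ?_⟩
        · have h1 : (h : ↥N) ∈ K ⊓ H := ⟨by rw [← hker]; exact hh, h.2⟩
          rw [disjoint_iff.1 hH.disjoint, Subgroup.mem_bot] at h1
          exact Subtype.ext h1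
        · obtain ⟨n, rfl⟩ := hsurj M
          obtain ⟨⟨k, h⟩, e⟩ := hH.2 n
          refine ⟨h, ?_⟩
          show ρ (h : ↥N) = ρ n
          rw [← e, map_mul, show ρ (k : ↥N) = 1 from MonoidHom.mem_ker.1 (show (k : ↥N) ∈ ρ.ker by rw [hker]; exact k.2), one_mul]
      exact ⟨(Subgroup.equivMapOfInjective H N.subtype N.subtype_injective).symm.trans (MulEquiv.ofBijective _ hbij)⟩
  · intro W hWA hW
    by_contra hcon
    push Not at hcon
    obtain ⟨hbot, htop⟩ := hcon
    have hclosed : ∀ a, a < 1024 → gA el κ a ∈ W → ∀ b, D.Rel a b → gA el κ b ∈ W := by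
      rintro a ha haW b ⟨n, hn, e⟩
      rw [← e]; exact (Subgroup.mem_normalizer_iff.1 (hW hn) _).1 haW
    obtain ⟨d, hd⟩ := (Nat.dvd_prime_pow Nat.prime_two).1 (D.ten_card ▸ Subgroup.card_dvd_of_le hWA)
    have hlow : ∀ c, c < 1024 → gA el κ c ∈ W →
        1 + (Set.ncard {v : G | ∃ n ∈ N, n * gA el κ c * n⁻¹ = v}) ≤ Nat.card W ∨ c = 0 := by
      intro c hc hcW
      by_cases hc0 : c = 0
      · exact Or.inr hc0
      refine Or.inl ?_
      set S := {v : G | ∃ n ∈ N, n * gA el κ c * n⁻¹ = v}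
      have h1 : (1 : G) ∉ S := by
        rintro ⟨n, -, e⟩
        exact hc0 (D.gA_inj hc (by norm_num) ((conj_eq_one_iff.1 e).trans D.gA_zero.symm))
      have hsub : insert (1 : G) S ⊆ (W : Set G) := Set.insert_subset (one_mem W) (by
        rintro _ ⟨n, hn, rfl⟩; exact (Subgroup.mem_normalizer_iff.1 (hW hn) _).1 hcW)
      have h := Set.ncard_le_ncard hsub (Set.toFinite _)
      rw [Set.ncard_insert_of_notMem h1 (Set.toFinite _), ← Nat.card_coe_set_eq (W : Set G)] at h
      rw [add_comm]; exact h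
    obtain ⟨b, hb, hbW, hb0⟩ : ∃ b, b < 1024 ∧ gA el κ b ∈ W ∧ b ≠ 0 := by
      by_contra hno
      push Not at hno
      refine hbot ((Subgroup.eq_bot_iff_forall _).2 fun w hw => ?_)
      obtain ⟨b, hb, rfl⟩ := hWA hw
      rw [hno b hb hw, D.gA_zero]
    have hd10 : d < 10 := by
      by_contra hge
      push Not at hge
      refine htop (Subgroup.eq_of_le_of_card_ge hWA ?_)
      rw [D.ten_card, hd.2]
      exact Nat.pow_le_pow_right (by norm_num) hge
    have hsmall : Nat.card W ≤ 512 := by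
      rw [hd.2]; exact (Nat.pow_le_pow_right (by norm_num) (show d ≤ 9 by omega)).trans (by norm_num)
    rcases hcov b hb hb0 with h | h
    · -- all conjugates of `z` lie in `W`
      have h7 := hclosed b hb hbW 7 (D.rel_symm h)
      rcases hlow 7 (by norm_num) h7 with hge | e
      swap
      · exact absurd e (by norm_num)
      rw [h155] at hge
      have h1W : gA el κ 1 ∉ W := fun h1 => by
        rcases hlow 1 (by norm_num) h1 with hge' | e
        · rw [h868] at hge'; omega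
        · exact absurd e one_ne_zero
      have hle : Nat.card W ≤ 156 := by
        have hsub : (W : Set G) ⊆ insert (1 : G) {v : G | ∃ n ∈ N, n * gA el κ 7 * n⁻¹ = v} := by
          intro w hw
          obtain ⟨c, hc, rfl⟩ := hWA hw
          by_cases hc0 : c = 0
          · rw [hc0, D.gA_zero]; exact Set.mem_insert _ _
          rcases hcov c hc hc0 with ⟨n, hn, e⟩ | hr
          · exact Set.mem_insert_of_mem _ ⟨n, hn, e⟩
          · exact absurd (hclosed c hc hw 1 (D.rel_symm hr)) h1W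
        have h := (Set.ncard_le_ncard hsub (Set.toFinite _)).trans (Set.ncard_insert_le _ _)
        rw [h155, ← Nat.card_coe_set_eq] at h
        exact h
      have e156 : Nat.card W = 156 := by omega
      have hdd : Nat.card W ∣ 1024 := by rw [hd.2]; exact pow_dvd_pow 2 (show d ≤ 10 by omega)
      rw [e156] at hdd
      norm_num at hdd
    · rcases hlow 1 (by norm_num) (hclosed b hb hbW 1 (D.rel_symm h)) with hge | e
      · rw [h868] at hge; omega
      · exact absurd e one_ne_zero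

omit D in
/-- The statement. -/
theorem structure_ten (hJ : Cfsg.IsOfJankoFourTypeAt z) :
    (∃ A : Subgroup G, IsTen A) ∧ (∀ A A' : Subgroup G, IsTen A → IsTen A' → ∃ g : G, A' = A.map (MulAut.conj g).toMonoidHom) ∧
    ∀ A : Subgroup G, IsTen A →
      (∃ B : Subgroup G, B ≤ Subgroup.normalizer (A : Set G) ∧ B ⊓ A = ⊥ ∧ B ⊔ A = Subgroup.normalizer (A : Set G) ∧
        Nonempty (↥B ≃* Matrix.SpecialLinearGroup (Fin 5) (ZMod 2))) ∧
      ∀ W : Subgroup G, W ≤ A → Subgroup.normalizer (A : Set G) ≤ Subgroup.normalizer (W : Set G) → W = ⊥ ∨ W = A := by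
  obtain ⟨V, el, κ, D⟩ := exists_vdata hJ
  refine ⟨⟨_, D.isTen⟩, fun A A' hA hA' => conj_all hJ hA hA', fun A hA => ?_⟩
  obtain ⟨g, rfl⟩ := conj_all hJ D.isTen hA
  obtain ⟨⟨B, hBN, hBA, hBs, ⟨e⟩⟩, hirr⟩ := model_struct D hJ
  set f := (MulAut.conj g).toMonoidHom with hf
  have hinj : Function.Injective f := (MulAut.conj g).injective
  have hnorm : Subgroup.normalizer (D.ten.map f : Set G) = (Subgroup.normalizer (D.ten : Set G)).map f := by
    ext n; rw [normalizer_conj, mem_conj_iff]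
  refine ⟨⟨B.map f, hnorm ▸ Subgroup.map_mono hBN, by rw [← Subgroup.map_inf _ _ _ hinj, hBA, Subgroup.map_bot],
    by rw [← Subgroup.map_sup, hBs, hnorm], ⟨(Subgroup.equivMapOfInjective B f hinj).symm.trans e⟩⟩, fun W hWA hW => ?_⟩
  have hback : ∀ X : Subgroup G, (X.map f).map (MulAut.conj g⁻¹).toMonoidHom = X := fun X => by
    ext a
    rw [mem_conj_iff, hf, mem_conj_iff, show g⁻¹ * (g⁻¹⁻¹ * a * g⁻¹) * g = a by group]
  have hfw : ∀ X : Subgroup G, (X.map (MulAut.conj g⁻¹).toMonoidHom).map f = X := fun X => by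
    ext a
    rw [hf, mem_conj_iff, mem_conj_iff, show g⁻¹⁻¹ * (g⁻¹ * a * g) * g⁻¹ = a by group]
  rcases hirr (W.map (MulAut.conj g⁻¹).toMonoidHom) ((Subgroup.map_mono hWA).trans (hback _).le) (fun n hn => by
      rw [normalizer_conj]
      apply hW
      rw [hnorm, hf, mem_conj_iff]
      rw [show g⁻¹ * (g⁻¹⁻¹ * n * g⁻¹) * g = n by group]
      exact hn) with h | h
  · left; rw [← hfw W, h, Subgroup.map_bot]
  · right; rw [← hfw W, h]

end CfsgLib.Sporadic.J4Type.Ten
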