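import Cfsg.Agent.Lib.Sporadic.J4Type.TenModel

/-!
# The orbits of the normaliser inside `N(V)`
-/

set_option autoImplicit false
set_option linter.style.haveILetI false
set_option linter.unusedSectionVars false

namespace CfsgLib.Sporadic.J4Type.Ten

open Cfsg CfsgLib.Sporadic.LargeFischer CfsgLib.Sporadic.LargeFischer.Hexa CfsgLib.SmallGroups.Golay
  CfsgLib.SmallGroups.M24Group CfsgLib.SmallGroups.MathieuSets CfsgLib.Sporadic.OctadStabilizer

variable {G : Type*} [Group G] {z : G} {V : Subgroup G} {el : ℕ → G} {κ : ↥Cfsg.M24 →* G} (D : VData z V el κ)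
include D

namespace VData

/-- An element moving the bits as given moves everything as given. -/
theorem conj_gA {m : G} {L : List ℕ} (hL : ∀ x ∈ L, x < 1024)
    (h : ∀ i, i < 10 → m * gA el κ (2 ^ i) * m⁻¹ = gA el κ (L.getD i 0)) :
    ∀ a, a < 1024 → m * gA el κ a * m⁻¹ = gA el κ (lm L a) := by
  have key : ∀ k, k ≤ 10 → ∀ a, a < 2 ^ k → m * gA el κ a * m⁻¹ = gA el κ (lm L a) := by
    intro k
    induction k with
    | zero => intro _ a ha; rw [show a = 0 by simpa using ha, lm_zero, D.gA_zero]; group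
    | succ k ih =>
      intro hk a ha
      by_cases hb : a < 2 ^ k
      · exact ih (by omega) a hb
      · have hlt : a - 2 ^ k < 2 ^ k := by rw [pow_succ] at ha; omega
        have h2k : 2 ^ k < 1024 := lt_of_lt_of_le (Nat.pow_lt_pow_right (by norm_num) (show k < 10 by omega)) (by norm_num)
        have e : a = 2 ^ k ^^^ (a - 2 ^ k) := by rw [CfsgLib.SmallGroups.Golay.two_pow_xor hlt]; omega
        rw [e, lm_xor, ← D.gA_mul (lm_lt (k := 10) _ _ hL) (lm_lt (k := 10) _ _ hL), ← ih (by omega) _ hlt, lm_bit,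
          ← h k (by omega), ← D.gA_mul h2k (hlt.trans h2k)]
        group
  exact key 10 le_rfl

variable [Finite G]

/-- The four members of `V` move the bits as given. -/
theorem v_move (j : ℕ) (hj4 : j < 4) (i : ℕ) (hi : i < 10) :
    el (v0B.getD j 0) * gA el κ (2 ^ i) * (el (v0B.getD j 0))⁻¹ = gA el κ ((moves.getD j []).getD i 0) := by
  obtain ⟨e1, e2⟩ := move_v ⟨j, hj4⟩ ⟨i, hi⟩
  simp only at e1 e2
  set v := v0B.getD j 0
  have hv : v < 2048 := by
    have : v0B.length = 4 := rfl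
    simp only [v, List.getD_eq_getElem _ _ (show j < v0B.length by omega)]
    simpa using List.all_eq_true.1 moves_len.2.1 _ (List.getElem_mem _)
  set r := 2 ^ i / 64
  have hr : r < 16 := by
    have : 2 ^ i < 1024 := Nat.pow_lt_pow_right (by norm_num : 1 < 2) hi |>.trans_eq (by norm_num)
    omega
  obtain ⟨hc, hclt⟩ := D.act_r hr hv
  rw [gA, gA, e2, ← e1, D.xor (wW_lt _) (Nat.xor_lt_two_pow (n := 11) hv hclt), D.xor hv hclt, D.v_inv hv, ← hc,
    D.v_comm (D.mem _ (wW_lt _)) (mul_mem (D.mem _ hv) (by rw [hc]; exact D.mem _ hclt))]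
  have e3 : el v * el (wW (2 ^ i % 64)) = el (wW (2 ^ i % 64)) * el v := D.v_comm (D.mem _ hv) (D.mem _ (wW_lt _))
  calc el v * (el (wW (2 ^ i % 64)) * κ (rS r)) * el v
      = el v * el (wW (2 ^ i % 64)) * (κ (rS r) * el v * (κ (rS r))⁻¹) * κ (rS r) := by group
    _ = el v * (κ (rS r) * el v * (κ (rS r))⁻¹) * el (wW (2 ^ i % 64)) * κ (rS r) := by
      rw [mul_assoc (el v) (el (wW _)), D.v_comm (D.mem _ (wW_lt _)) (by rw [hc]; exact D.mem _ hclt), ← mul_assoc]

/-- The four members of `V` normalise. -/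
theorem v_norm (j : ℕ) (hj4 : j < 4) : el (v0B.getD j 0) ∈ Subgroup.normalizer (D.ten : Set G) := by
  have hlt : ∀ x ∈ moves.getD j [], x < 1024 := fun x hx => by
    have h := List.all_eq_true.1 moves_len.2.2 (moves.getD j []) (by
      rw [List.getD_eq_getElem _ _ (by rw [moves_len.1]; omega)]; exact List.getElem_mem _)
    simpa using List.all_eq_true.1 h x hx
  refine Subgroup.mem_normalizer_fintype ?_
  rintro _ ⟨a, ha, rfl⟩
  exact ⟨_, lm_lt (k := 10) _ _ hlt, D.conj_gA hlt (D.v_move j hj4) a ha⟩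

/-- The six moves. -/
theorem exists_move (j : ℕ) (hj : j < 6) : ∃ m : G, m ∈ Subgroup.normalizer (D.ten : Set G) ∧
    ∀ a, a < 1024 → m * gA el κ a * m⁻¹ = gA el κ (lm (moves.getD j []) a) := by
  have hlt : ∀ x ∈ moves.getD j [], x < 1024 := fun x hx => by
    have h := List.all_eq_true.1 moves_len.2.2 (moves.getD j []) (by
      rw [List.getD_eq_getElem _ _ (by rw [moves_len.1]; exact hj)]; exact List.getElem_mem _)
    simpa using List.all_eq_true.1 h x hx
  suffices h : ∃ m : G, ∀ i, i < 10 → m * gA el κ (2 ^ i) * m⁻¹ = gA el κ ((moves.getD j []).getD i 0) by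
    obtain ⟨m, hm⟩ := h
    have hall := D.conj_gA hlt hm
    refine ⟨m, Subgroup.mem_normalizer_fintype ?_, hall⟩
    rintro _ ⟨a, ha, rfl⟩
    exact ⟨_, lm_lt (k := 10) _ _ hlt, hall a ha⟩
  by_cases hj4 : j < 4
  · exact ⟨el (v0B.getD j 0), D.v_move j hj4⟩
  · have hs : j - 4 < 2 := by omega
    refine ⟨κ (sS ⟨j - 4, hs⟩), fun i hi => ?_⟩
    obtain ⟨e1, e2⟩ := move_s ⟨j - 4, hs⟩ ⟨i, hi⟩
    simp only [show 4 + (j - 4) = j by omega] at e1 e2
    set r := 2 ^ i / 64
    have hr : r < 16 := by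
      have : 2 ^ i < 1024 := Nat.pow_lt_pow_right (by norm_num : 1 < 2) hi |>.trans_eq (by norm_num)
      omega
    set b := (moves.getD j []).getD i 0
    have hb : b / 64 < 16 := by
      have : b < 1024 := by
        by_cases hi' : i < (moves.getD j []).length
        · simp only [b, List.getD_eq_getElem _ _ hi']; exact hlt _ (List.getElem_mem _)
        · simp only [b, List.getD_eq_default _ _ (not_lt.1 hi')]; norm_num
      omega
    have ht := List.all_eq_true.1 tabs_ok.2.2 _ (sT_mem _ hs)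
    simp only [Bool.and_eq_true, beq_iff_eq, List.all_eq_true, decide_eq_true_eq] at ht
    have hc := (D.act_el (sS ⟨j - 4, hs⟩) (fun p => idx_permTab _ p) ht.1.1 ht.1.2 (maps_ok.2 ⟨j - 4, hs⟩)
      (wW_lt (2 ^ i % 64))).1
    rw [e1] at hc
    have hs' : sS ⟨j - 4, hs⟩ * rS r = rS (b / 64) * sS ⟨j - 4, hs⟩ :=
      eq_of_tab (t := cmpT (sTabs.getD (j - 4) []) (rT r)) _ _
        (mul_tab _ _ (fun p => idx_permTab _ p) (idx_rS hr) (rT_len hr))
        (mul_tab _ _ (idx_rS hb) (fun p => idx_permTab _ p) (sT_len ⟨j - 4, hs⟩)) e2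
    rw [gA, gA, ← hc]
    calc κ (sS ⟨j - 4, hs⟩) * (el (wW (2 ^ i % 64)) * κ (rS r)) * (κ (sS ⟨j - 4, hs⟩))⁻¹
        = κ (sS ⟨j - 4, hs⟩) * el (wW (2 ^ i % 64)) * (κ (sS ⟨j - 4, hs⟩))⁻¹ *
          (κ (sS ⟨j - 4, hs⟩ * rS r) * (κ (sS ⟨j - 4, hs⟩))⁻¹) := by rw [map_mul]; group
      _ = _ := by rw [hs', map_mul, mul_inv_cancel_right]

omit D in
/-- Conjugation inside the normaliser of the subgroup. -/
def Rel (D : VData z V el κ) (a b : ℕ) : Prop :=
  ∃ m ∈ Subgroup.normalizer (D.ten : Set G), m * gA el κ a * m⁻¹ = gA el κ b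

theorem rel_symm {a b : ℕ} (h : D.Rel a b) : D.Rel b a := by
  obtain ⟨m, hm, e⟩ := h
  exact ⟨m⁻¹, inv_mem hm, by rw [← e]; group⟩

theorem rel_trans {a b c : ℕ} (h : D.Rel a b) (h' : D.Rel b c) : D.Rel a c := by
  obtain ⟨m, hm, e⟩ := h
  obtain ⟨n, hn, e'⟩ := h'
  exact ⟨n * m, mul_mem hn hm, by rw [← e', ← e]; group⟩

theorem rel_rep : ∀ a, a < 1024 → D.Rel (reps.getD (label a) 0) a := by
  suffices h : ∀ n, ∀ a, a < 1024 → dep a = n → D.Rel (reps.getD (label a) 0) a from fun a ha => h _ a ha rfl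
  intro n
  induction n using Nat.strong_induction_on with
  | _ n ih =>
    intro a ha hn
    have h := List.all_eq_true.1 tree_ok a (List.mem_range.2 ha)
    simp only [Bool.or_eq_true, Bool.and_eq_true, beq_iff_eq, decide_eq_true_eq, List.contains_iff_mem] at h
    rcases h with ⟨-, h⟩ | ⟨⟨⟨⟨h1, h2⟩, h3⟩, h4⟩, h5⟩
    · obtain ⟨k, hk, e⟩ := List.mem_iff_getElem.1 h
      have hk5 : k < 5 := hk.trans_eq (by rw [label_facts.1]; rfl)
      have hlab : label a = k := by
        rw [← e, ← List.getD_eq_getElem _ 0 hk]; exact label_facts.2.1 ⟨k, hk5⟩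
      rw [hlab, List.getD_eq_getElem _ _ hk, e]
      exact ⟨1, one_mem _, by group⟩
    · have hp := ih _ (hn ▸ h1) (par a) h2 rfl
      rw [h5] at hp
      obtain ⟨m, hm, hall⟩ := D.exists_move (mv a) h3
      exact D.rel_trans hp ⟨m, hm, by rw [hall _ h2, h4]⟩

theorem rel_of_label {a b : ℕ} (ha : a < 1024) (hb : b < 1024) (e : label a = label b) : D.Rel a b :=
  D.rel_trans (D.rel_symm (D.rel_rep a ha)) (e ▸ D.rel_rep b hb)

/-- The normaliser of the part inside normalises `V`. -/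
theorem normalizer_le {m : G} (hm : ∀ w, w < 64 → ∃ w' < 64, m * el (wW w) * m⁻¹ = el (wW w')) :
    m ∈ Subgroup.normalizer (V : Set G) := by
  obtain ⟨-, -, h1, h7⟩ := label_span
  haveI : Fact (Nat.Prime 2) := ⟨Nat.prime_two⟩
  have hsurj : ∀ w, w < 64 → ∃ u < 64, m * el (wW u) * m⁻¹ = el (wW w) := by
    choose f hf hfe using fun u : Fin 64 => hm u.1 u.2
    have hinj : Function.Injective fun u => (⟨f u, hf u⟩ : Fin 64) := fun u u' e => Fin.ext (wW_inj u.2 u'.2
      (D.inj (wW_lt _) (wW_lt _) (mul_left_cancel (mul_right_cancel (by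
        rw [hfe u, hfe u', show f u = f u' from congrArg Fin.val e] : m * el (wW u.1) * m⁻¹ = m * el (wW u'.1) * m⁻¹)))))
    intro w hw
    obtain ⟨u, hu⟩ := (Finite.injective_iff_surjective.1 hinj) ⟨w, hw⟩
    exact ⟨u.1, u.2, by rw [hfe u, show f u = w from congrArg Fin.val hu]⟩
  set V' := V.map (MulAut.conj m).toMonoidHom with hV'
  have hle : V' ≤ Subgroup.normalizer (V : Set G) := by
    rintro _ ⟨v, hv, rfl⟩
    have hc : ∀ w, w < 64 → (MulAut.conj m).toMonoidHom v * el (wW w) = el (wW w) * (MulAut.conj m).toMonoidHom v := by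
      intro w hw
      obtain ⟨u, hu, e⟩ := hsurj w hw
      rw [← e, show m * el (wW u) * m⁻¹ = (MulAut.conj m).toMonoidHom (el (wW u)) from rfl, ← map_mul, ← map_mul,
        D.v_comm hv (D.mem _ (wW_lt _))]
    obtain ⟨a1, c1⟩ := D.class_w (w := 1) (by norm_num) one_ne_zero
    exact D.zt _ (D.mem _ (wW_lt 7)) ((D.class_w (w := 7) (by norm_num) (by norm_num)).2.2 h7) _ (D.mem _ (wW_lt 1)) a1
      (fun c => by rw [c1.1 c] at h1; exact Bool.noConfusion h1) _ (hc 7 (by norm_num)) (hc 1 (by norm_num))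
  have hc' : Nat.card V' = 2 ^ 11 := by
    rw [hV', Subgroup.card_map_of_injective (f := (MulAut.conj m).toMonoidHom) (MulAut.conj m).injective, D.card]
  have hP : IsPGroup 2 ↥(V' ⊔ V) :=
    IsPGroup.to_sup_of_normal_right' (IsPGroup.of_card hc') (IsPGroup.of_card D.card) hle
  have e : V' = V := (D.uab _ hP V V' le_sup_right le_sup_left D.elem (elem_map D.elem _) D.card).2 hc'
  refine Subgroup.mem_normalizer_fintype fun v hv => ?_
  have : m * v * m⁻¹ ∈ V' := ⟨v, hv, rfl⟩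
  rwa [e] at this

/-- The order of a subgroup of `N(V)` normalising the part inside. -/
theorem card_dvd (M : Subgroup G) (hMV : M ≤ Subgroup.normalizer (V : Set G))
    (hMW : ∀ m ∈ M, ∀ w, w < 64 → ∃ w' < 64, m * el (wW w) * m⁻¹ = el (wW w')) :
    Nat.card M ∣ 2048 * 322560 := by
  choose nf hnf σf hσf using fun m : ↥M => D.decomp m (hMV m.2)
  have hkeep : ∀ m : ↥M, ∀ v ∈ V, (m : G) * v * (m : G)⁻¹ ∈ V := fun m v hv =>
    (Subgroup.mem_normalizer_iff.1 (hMV m.2) v).1 hv
  have huniq : ∀ (σ τ : ↥Cfsg.M24) (u : G), u ∈ V → κ σ = u * κ τ → σ = τ := fun σ τ u hu e =>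
    mul_inv_eq_one.1 (D.kap_inj _ (by rw [map_mul, map_inv, e, mul_inv_cancel_right]; exact hu))
  let φ : ↥M →* ↥Cfsg.M24 := MonoidHom.mk' σf fun a b => by
    refine huniq _ _ ((el (nf (a * b)))⁻¹ * (el (nf a) * (κ (σf a) * el (nf b) * (κ (σf a))⁻¹))) ?_ ?_
    · refine mul_mem (inv_mem (D.mem _ (hnf _))) (mul_mem (D.mem _ (hnf a)) ?_)
      exact (Subgroup.mem_normalizer_iff.1 (D.kap_mem _) _).1 (D.mem _ (hnf b))
    · rw [map_mul, eq_comm, mul_assoc, inv_mul_eq_iff_eq_mul, ← hσf (a * b), Subgroup.coe_mul, hσf a, hσf b]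
      group
  have hker : Nat.card φ.ker ∣ 2048 := by
    have h := Subgroup.card_dvd_of_le (show φ.ker.map M.subtype ≤ V from by
      rintro _ ⟨m, hm, rfl⟩
      show (m : G) ∈ V
      rw [hσf m, show σf m = 1 from hm, map_one, mul_one]
      exact D.mem _ (hnf m))
    rwa [Subgroup.card_map_of_injective M.subtype_injective, D.card] at h
  have hran : φ.range.map Cfsg.M24.subtype ≤ octStab (toSet octB) := by
    rintro _ ⟨_, ⟨m, rfl⟩, rfl⟩
    refine ⟨(σf m).2, ?_⟩
    refine Finset.eq_of_subset_of_card_le ?_ (le_of_eq (Finset.card_smul_finset _ _).symm)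
    intro x hx
    obtain ⟨p, hp, rfl⟩ := Finset.mem_smul_finset.1 hx
    obtain ⟨q, hq, hqp⟩ := Finset.exists_mem_ne
      (show 1 < (toSet octB).card by rw [show (toSet octB).card = 8 from octB_mem.2]; norm_num) p
    obtain ⟨w, hw, ew⟩ := D.pair_mem hp hq
    obtain ⟨w', hw', e⟩ := hMW m m.2 w hw
    have hne : (σf m : Equiv.Perm GolayPt) p ≠ (σf m : Equiv.Perm GolayPt) q :=
      fun e => hqp ((σf m : Equiv.Perm GolayPt).injective e).symm
    have e2 : wW w' = phi ((σf m : Equiv.Perm GolayPt) p) ^^^ phi ((σf m : Equiv.Perm GolayPt) q) := by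
      refine D.inj (wW_lt _) (phi_lt_xor _ _) ?_
      rw [← e, ← D.act, ← ew, hσf m]
      have hc : el (nf m) * (κ (σf m) * el (wW w) * (κ (σf m))⁻¹) * (el (nf m))⁻¹ = κ (σf m) * el (wW w) * (κ (σf m))⁻¹ := by
        rw [mul_inv_eq_iff_eq_mul]
        exact D.v_comm (D.mem _ (hnf m)) ((Subgroup.mem_normalizer_iff.1 (D.kap_mem _) _).1 (D.mem _ (wW_lt _)))
      rw [← hc]; group
    have hin : inDm (wW w') = true := by rw [e2]; exact duad_inDm hne
    have h := List.all_eq_true.1 small_pairs w' (List.mem_range.2 hw')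
    simp only [hin, Bool.not_true, Bool.false_or, List.any_eq_true, Bool.and_eq_true, bne_iff_ne, beq_iff_eq] at h
    obtain ⟨i, hi, j, hj, hij, hd⟩ := h
    have hlt : ∀ k ∈ octL, k < 24 := fun k hk => by
      have := List.all_eq_true.1 oct_facts.2.2.2 k hk
      simp only [Bool.and_eq_true, decide_eq_true_eq] at this
      exact this.1
    have hmem : ∀ k ∈ octL, pt k ∈ toSet octB := fun k hk => by
      rw [mem_toSet, oct_facts.1, idx_pt (hlt k hk), List.contains_iff_mem]; exact hk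
    have hne' : pt i ≠ pt j := fun e => hij (by rw [← idx_pt (hlt i hi), ← idx_pt (hlt j hj), e])
    show (σf m : Equiv.Perm GolayPt) p ∈ toSet octB
    rcases duad_inj hne hne' (by rw [← e2, phi, phi, idx_pt (hlt i hi), idx_pt (hlt j hj), hd]) with ⟨e', -⟩ | ⟨e', -⟩
    · rw [e']; exact hmem i hi
    · rw [e']; exact hmem j hj
  have h2 : Nat.card φ.range ∣ 322560 := by
    have h := Subgroup.card_dvd_of_le hran
    rwa [Subgroup.card_map_of_injective Cfsg.M24.subtype_injective, card_octStab octB_mem] at h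
  rw [← φ.ker.card_mul_index, Subgroup.index_ker]
  exact Nat.mul_dvd_mul hker h2

end VData

end CfsgLib.Sporadic.J4Type.Ten
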