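import Cfsg.Agent.Lib.Sporadic.J4Type.TenConj
import Cfsg.Agent.Lib.Sporadic.J4Type.TenMoves
import Cfsg.Agent.Lib.Sporadic.J4Type.InvClasses
import Cfsg.Agent.Lib.LocalEvenB.TransitiveNormal

/-!
# The orbits of the normaliser of a self-centralising subgroup of order `2¹⁰`
-/

set_option autoImplicit false
set_option maxRecDepth 40000
set_option linter.style.haveILetI false
set_option linter.unusedSectionVars false

namespace CfsgLib.Sporadic.J4Type.Ten

open Cfsg CfsgLib.Sporadic.LargeFischer CfsgLib.Sporadic.LargeFischer.Hexa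

variable {G : Type*} [Group G]

theorem mem_conj_iff {A : Subgroup G} {g a : G} :
    a ∈ A.map (MulAut.conj g).toMonoidHom ↔ g⁻¹ * a * g ∈ A :=
  ⟨fun ⟨b, hb, e⟩ => by
    rw [← e]; show g⁻¹ * (g * b * g⁻¹) * g ∈ A; rw [show g⁻¹ * (g * b * g⁻¹) * g = b by group]; exact hb,
    fun h => ⟨_, h, by show g * (g⁻¹ * a * g) * g⁻¹ = a; group⟩⟩

theorem map_conj_conj (A : Subgroup G) (g h : G) :
    (A.map (MulAut.conj g).toMonoidHom).map (MulAut.conj h).toMonoidHom = A.map (MulAut.conj (h * g)).toMonoidHom := by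
  ext a
  rw [mem_conj_iff, mem_conj_iff, mem_conj_iff, show g⁻¹ * (h⁻¹ * a * h) * g = (h * g)⁻¹ * a * (h * g) by group]

theorem normalizer_conj (A : Subgroup G) (g n : G) :
    n ∈ Subgroup.normalizer (A.map (MulAut.conj g).toMonoidHom : Set G) ↔ g⁻¹ * n * g ∈ Subgroup.normalizer (A : Set G) := by
  rw [Subgroup.mem_normalizer_iff, Subgroup.mem_normalizer_iff]
  constructor
  · intro h a
    have := h (g * a * g⁻¹)
    rw [mem_conj_iff, mem_conj_iff] at this
    rwa [show g⁻¹ * (g * a * g⁻¹) * g = a by group,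
      show g⁻¹ * (n * (g * a * g⁻¹) * n⁻¹) * g = g⁻¹ * n * g * a * (g⁻¹ * n * g)⁻¹ by group] at this
  · intro h a
    rw [mem_conj_iff, mem_conj_iff, h (g⁻¹ * a * g),
      show g⁻¹ * n * g * (g⁻¹ * a * g) * (g⁻¹ * n * g)⁻¹ = g⁻¹ * (n * a * n⁻¹) * g by group]

variable [Finite G] [IsSimpleGroup G] {z : G}

/-- Such a subgroup holds a conjugate of `z`. -/
theorem IsTen.exists_z (hJ : Cfsg.IsOfJankoFourTypeAt z) {A : Subgroup G} (hA : IsTen A) :
    ∃ b ∈ A, IsConj z b := by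
  haveI : Fact (Nat.Prime 2) := ⟨Nat.prime_two⟩
  obtain ⟨π, ψ, x, J⟩ := exists_jf hJ
  obtain ⟨S, T, hST⟩ := exists_sylow (Q := Cfsg.pCore 2 ↥(Subgroup.centralizer ({z} : Set G))) J.base
  obtain ⟨T', hT'⟩ := (IsPGroup.of_card hA.card : IsPGroup 2 ↥A).exists_le_sylow
  obtain ⟨g, hg⟩ := MulAction.exists_smul_eq G S T'
  refine ⟨g * z * g⁻¹, ?_, isConj_iff.2 ⟨g, rfl⟩⟩
  rw [← hA.self]
  refine Subgroup.mem_centralizer_iff.2 fun a ha => ?_
  have h : a ∈ (T' : Subgroup G) := hT' ha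
  rw [← hg, Sylow.coe_subgroup_smul, hST] at h
  obtain ⟨s, ⟨t, -, rfl⟩, rfl⟩ := h
  have ht : (t : G) * z = z * t := Subgroup.mem_centralizer_singleton_iff.1 t.2
  show g * (t : G) * g⁻¹ * (g * z * g⁻¹) = g * z * g⁻¹ * (g * (t : G) * g⁻¹)
  calc g * (t : G) * g⁻¹ * (g * z * g⁻¹) = g * ((t : G) * z) * g⁻¹ := by group
    _ = _ := by rw [ht]; group

/-- Through `z`: one class, and an element of order seven. -/
theorem at_z (hJ : Cfsg.IsOfJankoFourTypeAt z) {A : Subgroup G} (hA : IsTen A) (hzA : z ∈ A) :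
    (∀ A' : Subgroup G, IsTen A' → z ∈ A' → ∃ g : G, g * z = z * g ∧ A' = A.map (MulAut.conj g).toMonoidHom) ∧
    ∃ y : G, orderOf y = 7 ∧ y * z = z * y ∧ y ∈ Subgroup.normalizer (A : Set G) := by
  obtain ⟨π, ψ, x, J⟩ := exists_jf hJ
  exact exists_std J A hA hzA

/-- Any two are conjugate. -/
theorem conj_all (hJ : Cfsg.IsOfJankoFourTypeAt z) {A A' : Subgroup G} (hA : IsTen A) (hA' : IsTen A') :
    ∃ g : G, A' = A.map (MulAut.conj g).toMonoidHom := by
  obtain ⟨b, hb, hzb⟩ := hA.exists_z hJ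
  obtain ⟨b', hb', hzb'⟩ := hA'.exists_z hJ
  obtain ⟨u, hu⟩ := isConj_iff.1 hzb
  obtain ⟨u', hu'⟩ := isConj_iff.1 hzb'
  have h1 : z ∈ A.map (MulAut.conj u⁻¹).toMonoidHom := by
    rw [mem_conj_iff, inv_inv, hu]; exact hb
  have h2 : z ∈ A'.map (MulAut.conj u'⁻¹).toMonoidHom := by
    rw [mem_conj_iff, inv_inv, hu']; exact hb'
  obtain ⟨g, -, hg⟩ := (at_z hJ (hA.map u⁻¹) h1).1 _ (hA'.map u'⁻¹) h2
  refine ⟨u' * (g * u⁻¹), ?_⟩
  rw [← map_conj_conj, ← map_conj_conj, ← hg, map_conj_conj, mul_inv_cancel, map_one]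
  exact (Subgroup.map_id A').symm

/-- The normaliser is transitive on the conjugates of `z` inside. -/
theorem IsTen.trans (hJ : Cfsg.IsOfJankoFourTypeAt z) {A : Subgroup G} (hA : IsTen A) {b c : G} (hb : b ∈ A) (hc : c ∈ A)
    (hzb : IsConj z b) (hzc : IsConj z c) : ∃ n ∈ Subgroup.normalizer (A : Set G), n * b * n⁻¹ = c := by
  obtain ⟨u, hu⟩ := isConj_iff.1 hzb
  obtain ⟨w, hw⟩ := isConj_iff.1 hzc
  have h1 : z ∈ A.map (MulAut.conj u⁻¹).toMonoidHom := by
    rw [mem_conj_iff, inv_inv, hu]; exact hb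
  have h2 : z ∈ A.map (MulAut.conj w⁻¹).toMonoidHom := by
    rw [mem_conj_iff, inv_inv, hw]; exact hc
  obtain ⟨g, hgz, hg⟩ := (at_z hJ (hA.map u⁻¹) h1).1 _ (hA.map w⁻¹) h2
  refine ⟨w * g * u⁻¹, ?_, ?_⟩
  · have e : A = A.map (MulAut.conj (w * g * u⁻¹)).toMonoidHom := by
      rw [mul_assoc, ← map_conj_conj, ← map_conj_conj, ← hg, map_conj_conj, mul_inv_cancel, map_one]
      exact (Subgroup.map_id A).symm
    exact Subgroup.mem_normalizer_fintype fun a ha => by rw [SetLike.mem_coe, e]; exact ⟨a, ha, rfl⟩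
  · calc w * g * u⁻¹ * b * (w * g * u⁻¹)⁻¹ = w * (g * (u⁻¹ * b * u) * g⁻¹) * w⁻¹ := by group
      _ = w * z * w⁻¹ := by rw [← hu, show u⁻¹ * (u * z * u⁻¹) * u = z by group, hgz, mul_inv_cancel_right]
      _ = c := hw

namespace VData

variable {V : Subgroup G} {el : ℕ → G} {κ : ↥Cfsg.M24 →* G} (D : VData z V el κ)
include D

omit [IsSimpleGroup G]

theorem isTen : IsTen D.ten := ⟨D.ten_elem, D.ten_card, D.ten_self⟩

theorem gA_w {w : ℕ} (hw : w < 64) : gA el κ w = el (wW w) := by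
  rw [gA, Nat.mod_eq_of_lt hw, Nat.div_eq_of_lt hw, rS_zero, map_one, mul_one]

/-- The order of the normaliser. -/
theorem card_norm_dvd : Nat.card ↥(Subgroup.normalizer (D.ten : Set G)) ∣
    2 ^ 10 * ∏ i ∈ Finset.range 10, (2 ^ 10 - 2 ^ i) := by
  haveI : Fact (Nat.Prime 2) := ⟨Nat.prime_two⟩
  set φ := Subgroup.normalizerMonoidHom D.ten
  rw [← φ.ker.card_mul_index, Subgroup.index_ker]
  refine Nat.mul_dvd_mul ?_ ((Subgroup.card_subgroup_dvd_card φ.range).trans ?_)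
  · have h := Subgroup.card_dvd_of_le (show φ.ker.map (Subgroup.normalizer (D.ten : Set G)).subtype ≤ D.ten from by
      rintro _ ⟨n, hn, rfl⟩
      refine (SetLike.ext_iff.1 D.ten_self _).1 ?_
      refine Subgroup.mem_centralizer_iff.2 fun a ha => ?_
      have h := congrArg (fun e : MulAut ↥D.ten => ((e ⟨a, ha⟩ : ↥D.ten) : G)) (hn : φ n = 1)
      exact (mul_inv_eq_iff_eq_mul.1 (h : (n : G) * a * (n : G)⁻¹ = a)).symm)
    rwa [Subgroup.card_map_of_injective (Subgroup.subtype_injective _), D.ten_card] at h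
  · exact CfsgLib.LocalEvenB.TransitiveNormal.aut_card_dvd D.ten_card (fun a b => D.ten_elem.1.is_comm.comm a b)
      fun a => Subtype.ext (D.ten_elem.2 _ a.2)

/-- The orbit of a member, as a set of codes. -/
theorem orbit_dvd (a : ℕ) (ha : a < 1024) (S : Finset ℕ) (hS : ∀ b, b ∈ S ↔ b < 1024 ∧ D.Rel a b) :
    S.card ∣ Nat.card ↥(Subgroup.normalizer (D.ten : Set G)) ∧
    Set.ncard {v : G | ∃ n ∈ Subgroup.normalizer (D.ten : Set G), n * gA el κ a * n⁻¹ = v} = S.card := by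
  classical
  set N := Subgroup.normalizer (D.ten : Set G)
  have hset : {v : G | ∃ n ∈ N, n * gA el κ a * n⁻¹ = v} = (gA el κ) '' (S : Set ℕ) := by
    ext v
    constructor
    · rintro ⟨n, hn, rfl⟩
      obtain ⟨b, hb, e⟩ := (Subgroup.mem_normalizer_iff.1 hn _).1 (⟨a, ha, rfl⟩ : gA el κ a ∈ D.ten)
      exact ⟨b, Finset.mem_coe.2 ((hS b).2 ⟨hb, n, hn, e⟩), e.symm⟩
    · rintro ⟨b, hb, rfl⟩
      obtain ⟨-, n, hn, e⟩ := (hS b).1 hb
      exact ⟨n, hn, e⟩
  have hcard : Set.ncard {v : G | ∃ n ∈ N, n * gA el κ a * n⁻¹ = v} = S.card := by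
    rw [hset, Set.ncard_image_of_injOn (fun b hb c hc e => D.gA_inj ((hS b).1 hb).1 ((hS c).1 hc).1 e), Set.ncard_coe_finset]
  refine ⟨?_, hcard⟩
  let φ : ↥N →* ConjAct G := ConjAct.toConjAct.toMonoidHom.comp N.subtype
  letI : MulAction ↥N G := MulAction.compHom G φ
  have horb : MulAction.orbit ↥N (gA el κ a) = {v : G | ∃ n ∈ N, n * gA el κ a * n⁻¹ = v} := by
    ext v
    constructor
    · rintro ⟨n, rfl⟩; exact ⟨n, n.2, rfl⟩
    · rintro ⟨n, hn, rfl⟩; exact ⟨⟨n, hn⟩, rfl⟩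
  rw [← hcard, ← horb, ← MulAction.index_stabilizer]
  exact Subgroup.index_dvd_card _

/-- Elements keeping the part inside. -/
theorem inside_dvd (h : ∀ n ∈ Subgroup.normalizer (D.ten : Set G), ∀ i, i < 6 →
    ∃ w < 64, n * el (wW (2 ^ i)) * n⁻¹ = el (wW w)) :
    Nat.card ↥(Subgroup.normalizer (D.ten : Set G)) ∣ 2048 * 322560 := by
  have hall : ∀ n ∈ Subgroup.normalizer (D.ten : Set G), ∀ w, w < 64 → ∃ w' < 64, n * el (wW w) * n⁻¹ = el (wW w') := by
    intro n hn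
    have key : ∀ k, k ≤ 6 → ∀ w, w < 2 ^ k → ∃ w' < 64, n * el (wW w) * n⁻¹ = el (wW w') := by
      intro k
      induction k with
      | zero => intro _ w hw; exact ⟨0, by norm_num, by rw [show w = 0 by simpa using hw, wW, lm_zero, D.zero]; group⟩
      | succ k ih =>
        intro hk w hw
        by_cases hb : w < 2 ^ k
        · exact ih (by omega) w hb
        · have hlt : w - 2 ^ k < 2 ^ k := by rw [pow_succ] at hw; omega
          obtain ⟨u, hu, eu⟩ := h n hn k (by omega)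
          obtain ⟨u', hu', eu'⟩ := ih (by omega) _ hlt
          refine ⟨u ^^^ u', Nat.xor_lt_two_pow (n := 6) hu hu', ?_⟩
          rw [show w = 2 ^ k ^^^ (w - 2 ^ k) by rw [CfsgLib.SmallGroups.Golay.two_pow_xor hlt]; omega, wW_xor, wW_xor,
            D.xor (wW_lt _) (wW_lt _), D.xor (wW_lt _) (wW_lt _), ← eu, ← eu']
          group
    exact key 6 le_rfl
  exact D.card_dvd _ (fun n hn => D.normalizer_le (hall n hn)) hall

end VData

open VData (gA)

set_option maxHeartbeats 1600000 in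
/-- The two orbits, on a subgroup from an octad. -/
theorem model_orbits (hJ : Cfsg.IsOfJankoFourTypeAt z) {V : Subgroup G} {el : ℕ → G} {κ : ↥Cfsg.M24 →* G}
    (D : VData z V el κ) :
    Set.ncard {v : G | ∃ n ∈ Subgroup.normalizer (D.ten : Set G), n * gA el κ 7 * n⁻¹ = v} = 155 ∧
    Set.ncard {v : G | ∃ n ∈ Subgroup.normalizer (D.ten : Set G), n * gA el κ 1 * n⁻¹ = v} = 868 ∧
    (∀ b, b < 1024 → (IsConj z (gA el κ b) ↔ label b = 2 ∨ label b = 3)) ∧
    ∀ b, b < 1024 → b ≠ 0 → D.Rel 7 b ∨ D.Rel 1 b := by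
  classical
  obtain ⟨hl1, hl2, hd1, hd7⟩ := label_span
  obtain ⟨hreps, hrep, hlab⟩ := label_facts
  have hlab5 : ∀ a, a < 1024 → label a < 5 ∧ (a < 64 ↔ label a < 3) ∧ (a = 0 ↔ label a = 0) := by
    intro a ha
    have h := List.all_eq_true.1 hlab a (List.mem_range.2 ha)
    simp only [Bool.and_eq_true, decide_eq_true_eq, beq_iff_eq, decide_eq_decide] at h
    obtain ⟨⟨h1, h2⟩, h3⟩ := h
    refine ⟨h1, h2, ?_⟩
    have : (a == 0) = (label a == 0) := h3
    constructor <;> intro e <;> simpa [e] using this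
  have e7 : label 7 = 2 := by simpa [hreps] using hrep 2
  have e1 : label 1 = 1 := by simpa [hreps] using hrep 1
  have hz7 : IsConj z (gA el κ 7) := by
    rw [D.gA_w (by norm_num)]; exact ((D.class_w (by norm_num) (by norm_num)).2).2 hd7
  have hnz1 : ¬ IsConj z (gA el κ 1) := fun h => by
    rw [D.gA_w (by norm_num), (D.class_w (by norm_num) one_ne_zero).2, hd1] at h
    exact Bool.noConfusion h
  have hz1 : z ≠ 1 := fun e => by
    obtain ⟨π, ψ, x, J⟩ := exists_jf hJ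
    exact J.base.extra.z_ne e
  have hmem : ∀ a, a < 1024 → gA el κ a ∈ D.ten := fun a ha => ⟨a, ha, rfl⟩
  have hrelz : ∀ {a b}, D.Rel a b → IsConj z (gA el κ a) → IsConj z (gA el κ b) := fun ⟨n, _, e⟩ h =>
    h.trans (isConj_iff.2 ⟨n, e⟩)
  have hrel7 : ∀ b, b < 1024 → (IsConj z (gA el κ b) ↔ D.Rel 7 b) := fun b hb =>
    ⟨fun h => (D.isTen.trans hJ (hmem 7 (by norm_num)) (hmem b hb) hz7 h), fun h => hrelz h hz7⟩
  have hclass : ∀ a b, a < 1024 → b < 1024 → label a = label b → (IsConj z (gA el κ a) ↔ IsConj z (gA el κ b)) :=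
    fun a b ha hb e => ⟨hrelz (D.rel_of_label ha hb e), hrelz (D.rel_of_label hb ha e.symm)⟩
  set N := Subgroup.normalizer (D.ten : Set G)
  set Z := (Finset.range 1024).filter fun b => D.Rel 7 b with hZ
  have hZmem : ∀ b, b ∈ Z ↔ b < 1024 ∧ D.Rel 7 b := fun b => by simp [hZ]
  obtain ⟨hdvd, hcard⟩ := D.orbit_dvd 7 (by norm_num) Z hZmem
  have hN : Nat.card ↥N ∣ 2 ^ 10 * ∏ i ∈ Finset.range 10, (2 ^ 10 - 2 ^ i) := D.card_norm_dvd
  -- the orbit as a union of labels
  obtain ⟨c1, c2, c3, c4⟩ := label_counts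
  have hcnt : ∀ k, ((Finset.range 1024).filter fun a => label a = k).card = (List.range 1024).countP (fun a => label a == k) :=
    fun k => by
      rw [← List.toFinset_range, List.filter_toFinset, List.toFinset_card_of_nodup (List.nodup_range.filter _),
        List.countP_eq_length_filter]
      congr 2
  have hlabel : ∀ b, b < 1024 → (D.Rel 7 b ↔ label b = 2 ∨
      (label b = 3 ∧ IsConj z (gA el κ 64)) ∨ (label b = 4 ∧ IsConj z (gA el κ 65))) := by
    intro b hb
    rw [← hrel7 b hb]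
    obtain ⟨h5, -, h0⟩ := hlab5 b hb
    have e64 : label 64 = 3 := by simpa [hreps] using hrep 3
    have e65 : label 65 = 4 := by simpa [hreps] using hrep 4
    interval_cases hk : label b
    · exact iff_of_false (fun h => hz1 (isConj_one_right.1 (by rw [h0.2 rfl, D.gA_zero] at h; exact h.symm))) (by simp)
    · rw [hclass b 1 hb (by norm_num) (hk.trans e1.symm)]; exact iff_of_false hnz1 (by simp)
    · rw [hclass b 7 hb (by norm_num) (hk.trans e7.symm)]; exact iff_of_true hz7 (Or.inl rfl)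
    · rw [hclass b 64 hb (by norm_num) (hk.trans e64.symm)]
      exact ⟨fun h => Or.inr (Or.inl ⟨rfl, h⟩), fun h => by
        rcases h with h | ⟨-, h⟩ | ⟨h, -⟩
        exacts [absurd h (by norm_num), h, absurd h (by norm_num)]⟩
    · rw [hclass b 65 hb (by norm_num) (hk.trans e65.symm)]
      exact ⟨fun h => Or.inr (Or.inr ⟨rfl, h⟩), fun h => by
        rcases h with h | ⟨h, -⟩ | ⟨-, h⟩
        exacts [absurd h (by norm_num), absurd h (by norm_num), h]⟩
  by_cases h65 : IsConj z (gA el κ 65)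
  · exfalso
    have hc : Z.card = 875 ∨ Z.card = 995 := by
      by_cases h64 : IsConj z (gA el κ 64)
      · right
        have : Z = (((Finset.range 1024).filter fun a => label a = 2) ∪ ((Finset.range 1024).filter fun a => label a = 3)) ∪
            ((Finset.range 1024).filter fun a => label a = 4) := by
          ext b
          simp only [hZmem, Finset.mem_union, Finset.mem_filter, Finset.mem_range]
          constructor
          · rintro ⟨hb, h⟩
            rcases (hlabel b hb).1 h with h | ⟨h, -⟩ | ⟨h, -⟩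
            exacts [Or.inl (Or.inl ⟨hb, h⟩), Or.inl (Or.inr ⟨hb, h⟩), Or.inr ⟨hb, h⟩]
          · rintro ((⟨hb, h⟩ | ⟨hb, h⟩) | ⟨hb, h⟩)
            exacts [⟨hb, (hlabel b hb).2 (Or.inl h)⟩, ⟨hb, (hlabel b hb).2 (Or.inr (Or.inl ⟨h, h64⟩))⟩,
              ⟨hb, (hlabel b hb).2 (Or.inr (Or.inr ⟨h, h65⟩))⟩]
        rw [this, Finset.card_union_of_disjoint, Finset.card_union_of_disjoint, hcnt, hcnt, hcnt, c2, c3, c4]
        · simp only [Finset.disjoint_filter]; intros; omega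
        · simp only [Finset.disjoint_union_left, Finset.disjoint_filter]; constructor <;> (intros; omega)
      · left
        have : Z = ((Finset.range 1024).filter fun a => label a = 2) ∪ ((Finset.range 1024).filter fun a => label a = 4) := by
          ext b
          simp only [hZmem, Finset.mem_union, Finset.mem_filter, Finset.mem_range]
          constructor
          · rintro ⟨hb, h⟩
            rcases (hlabel b hb).1 h with h | ⟨-, h⟩ | ⟨h, -⟩
            exacts [Or.inl ⟨hb, h⟩, absurd h h64, Or.inr ⟨hb, h⟩]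
          · rintro (⟨hb, h⟩ | ⟨hb, h⟩)
            exacts [⟨hb, (hlabel b hb).2 (Or.inl h)⟩, ⟨hb, (hlabel b hb).2 (Or.inr (Or.inr ⟨h, h65⟩))⟩]
        rw [this, Finset.card_union_of_disjoint, hcnt, hcnt, c2, c4]
        simp only [Finset.disjoint_filter]; intros; omega
    have := hdvd.trans hN
    rcases hc with e | e <;> rw [e] at this
    · exact absurd this (by decide +kernel)
    · exact absurd this (by decide +kernel)
  have hZ2 : ∀ b, b < 1024 → (D.Rel 7 b ↔ label b = 2 ∨ (label b = 3 ∧ IsConj z (gA el κ 64))) := fun b hb =>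
    ⟨fun h => by
      rcases (hlabel b hb).1 h with h | h | ⟨-, h⟩
      exacts [Or.inl h, Or.inr h, absurd h h65],
    fun h => (hlabel b hb).2 (h.imp_right Or.inl)⟩
  by_cases h64 : IsConj z (gA el κ 64)
  swap
  · exfalso
    have hZeq : Z = (Finset.range 1024).filter fun a => label a = 2 := by
      ext b
      simp only [hZmem, Finset.mem_filter, Finset.mem_range]
      constructor
      · rintro ⟨hb, h⟩
        rcases (hZ2 b hb).1 h with h | ⟨-, h⟩
        exacts [⟨hb, h⟩, absurd h h64]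
      · rintro ⟨hb, h⟩; exact ⟨hb, (hZ2 b hb).2 (Or.inl h)⟩
    rw [hZeq, hcnt, c2] at hdvd
    -- the normaliser keeps the part inside
    have hM := D.inside_dvd fun n hn i hi => by
      obtain ⟨a, ha, he⟩ := List.any_eq_true.1 (hl2 ⟨i, hi⟩)
      simp only [List.mem_range] at ha
      simp only [Bool.and_eq_true, beq_iff_eq] at he
      have h2i : 2 ^ i < 64 := Nat.pow_lt_pow_right (by norm_num : 1 < 2) hi |>.trans_eq (by norm_num)
      have hx : a ^^^ 2 ^ i < 64 := Nat.xor_lt_two_pow (n := 6) ha h2i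
      have img : ∀ c, c < 64 → label c = 2 → ∃ w < 64, n * el (wW c) * n⁻¹ = el (wW w) := by
        intro c hc hlc
        obtain ⟨b, hb, e⟩ := (Subgroup.mem_normalizer_iff.1 hn _).1 (hmem c (by omega))
        have hr : D.Rel 7 b := D.rel_trans ((hZ2 c (by omega)).2 (Or.inl hlc)) ⟨n, hn, e⟩
        have hb2 : label b = 2 := by
          rcases (hZ2 b hb).1 hr with h | ⟨-, h⟩
          exacts [h, absurd h h64]
        have hb64 : b < 64 := (hlab5 b hb).2.1.2 (by omega)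
        exact ⟨b, hb64, by rw [← D.gA_w hc, e, D.gA_w hb64]⟩
      obtain ⟨u, hu, eu⟩ := img a ha he.1
      obtain ⟨u', hu', eu'⟩ := img _ hx he.2
      refine ⟨u ^^^ u', Nat.xor_lt_two_pow (n := 6) hu hu', ?_⟩
      have e : el (wW (2 ^ i)) = el (wW a) * el (wW (a ^^^ 2 ^ i)) := by
        rw [← D.xor (wW_lt _) (wW_lt _), ← wW_xor, ← Nat.xor_assoc, Nat.xor_self, Nat.zero_xor]
      rw [e, wW_xor u u', D.xor (wW_lt _) (wW_lt _), ← eu, ← eu']
      group
    obtain ⟨u, hu⟩ := isConj_iff.1 hz7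
    have hz' : z ∈ D.ten.map (MulAut.conj u⁻¹).toMonoidHom := by
      rw [mem_conj_iff, inv_inv, hu]; exact hmem 7 (by norm_num)
    obtain ⟨y, hy7, hyz, hyN⟩ := (at_z hJ (D.isTen.map u⁻¹) hz').2
    rw [normalizer_conj, inv_inv] at hyN
    let φ : ↥N →* ConjAct G := ConjAct.toConjAct.toMonoidHom.comp N.subtype
    letI : MulAction ↥N G := MulAction.compHom G φ
    set St := MulAction.stabilizer ↥N (gA el κ 7)
    have hidx : St.index = 35 := by
      rw [MulAction.index_stabilizer, ← hcnt 2 |>.trans c2, ← hZeq, ← hcard]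
      congr 1
      ext v
      constructor
      · rintro ⟨n, rfl⟩; exact ⟨n, n.2, rfl⟩
      · rintro ⟨n, hn, rfl⟩; exact ⟨⟨n, hn⟩, rfl⟩
    have hyS : (⟨u * y * u⁻¹, hyN⟩ : ↥N) ∈ St := by
      show u * y * u⁻¹ * gA el κ 7 * (u * y * u⁻¹)⁻¹ = gA el κ 7
      rw [← hu]
      calc u * y * u⁻¹ * (u * z * u⁻¹) * (u * y * u⁻¹)⁻¹ = u * (y * z * y⁻¹) * u⁻¹ := by group
        _ = _ := by rw [hyz, mul_inv_cancel_right]
    have ho : orderOf (⟨u * y * u⁻¹, hyN⟩ : ↥N) = 7 := by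
      rw [← Subgroup.orderOf_coe, ← hy7]
      exact orderOf_injective (MulAut.conj u).toMonoidHom (MulAut.conj u).injective y
    have h7 : 7 ∣ Nat.card St := by
      rw [← ho, ← Subgroup.orderOf_mk (⟨u * y * u⁻¹, hyN⟩ : ↥N) hyS]
      exact orderOf_dvd_natCard _
    have hall : 7 * 35 ∣ Nat.card ↥N := by
      rw [← St.card_mul_index, hidx]
      exact Nat.mul_dvd_mul h7 dvd_rfl
    exact absurd (hall.trans hM) (by norm_num)
  -- the orbit has 155 members
  have hZeq : Z = ((Finset.range 1024).filter fun a => label a = 2) ∪ ((Finset.range 1024).filter fun a => label a = 3) := by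
    ext b
    simp only [hZmem, Finset.mem_union, Finset.mem_filter, Finset.mem_range]
    constructor
    · rintro ⟨hb, h⟩
      rcases (hZ2 b hb).1 h with h | ⟨h, -⟩
      exacts [Or.inl ⟨hb, h⟩, Or.inr ⟨hb, h⟩]
    · rintro (⟨hb, h⟩ | ⟨hb, h⟩)
      exacts [⟨hb, (hZ2 b hb).2 (Or.inl h)⟩, ⟨hb, (hZ2 b hb).2 (Or.inr ⟨h, h64⟩)⟩]
  have h155 : Z.card = 155 := by
    rw [hZeq, Finset.card_union_of_disjoint, hcnt, hcnt, c2, c3]
    simp only [Finset.disjoint_filter]; intros; omega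
  have hzc : ∀ b, b < 1024 → (IsConj z (gA el κ b) ↔ label b = 2 ∨ label b = 3) := fun b hb => by
    rw [hrel7 b hb, hZ2 b hb]
    exact or_congr_right (and_iff_left h64)
  refine ⟨hcard.trans h155, ?_⟩
  set S := (Finset.range 1024).filter fun b => D.Rel 1 b with hS
  have hSmem : ∀ b, b ∈ S ↔ b < 1024 ∧ D.Rel 1 b := fun b => by simp [hS]
  obtain ⟨-, hcard1⟩ := D.orbit_dvd 1 (by norm_num) S hSmem
  have hnot : ∀ b, b < 1024 → D.Rel 1 b → label b = 1 ∨ label b = 4 := by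
    intro b hb h
    obtain ⟨h5, -, h0⟩ := hlab5 b hb
    have hnb : ¬ IsConj z (gA el κ b) := fun hc => hnz1 (hrelz (D.rel_symm h) hc)
    have h7b : label b ≠ 2 ∧ label b ≠ 3 := ⟨fun e => hnb ((hrel7 b hb).2 ((hZ2 b hb).2 (Or.inl e))),
      fun e => hnb ((hrel7 b hb).2 ((hZ2 b hb).2 (Or.inr ⟨e, h64⟩)))⟩
    have hb0 : label b ≠ 0 := fun e => by
      obtain ⟨m, -, em⟩ := h
      rw [h0.2 e, D.gA_zero] at em
      have h1 : gA el κ 1 = gA el κ 0 := by
        rw [D.gA_zero]; exact conj_eq_one_iff.1 em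
      exact one_ne_zero (D.gA_inj (by norm_num) (by norm_num) h1)
    omega
  obtain ⟨b0, hb0, hr0, hl0⟩ : ∃ b < 1024, D.Rel 1 b ∧ label b = 4 := by
    by_contra hno
    push Not at hno
    have hM := D.inside_dvd fun n hn i hi => by
      have h2i : 2 ^ i < 64 := Nat.pow_lt_pow_right (by norm_num : 1 < 2) hi |>.trans_eq (by norm_num)
      obtain ⟨b, hb, e⟩ := (Subgroup.mem_normalizer_iff.1 hn _).1 (hmem (2 ^ i) (by omega))
      have hr : D.Rel 1 b := D.rel_trans (D.rel_of_label (by norm_num) (lt_trans h2i (by norm_num)) (e1.trans (hl1 ⟨i, hi⟩).symm)) ⟨n, hn, e⟩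
      have hb1 : label b = 1 := (hnot b hb hr).resolve_right (hno b hb hr)
      have hb64 : b < 64 := (hlab5 b hb).2.1.2 (by omega)
      exact ⟨b, hb64, by rw [← D.gA_w h2i, e, D.gA_w hb64]⟩
    rw [h155] at hdvd
    exact absurd (hdvd.trans hM) (by norm_num)
  have hSeq : S = ((Finset.range 1024).filter fun a => label a = 1) ∪ ((Finset.range 1024).filter fun a => label a = 4) := by
    ext b
    simp only [hSmem, Finset.mem_union, Finset.mem_filter, Finset.mem_range]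
    constructor
    · rintro ⟨hb, h⟩; have := hnot b hb h; tauto
    · rintro (⟨hb, h⟩ | ⟨hb, h⟩)
      · exact ⟨hb, D.rel_of_label (by norm_num) hb (e1.trans h.symm)⟩
      · exact ⟨hb, D.rel_trans hr0 (D.rel_of_label hb0 hb (hl0.trans h.symm))⟩
  refine ⟨?_, hzc, fun b hb hb0' => ?_⟩
  swap
  · obtain ⟨h5, -, h0⟩ := hlab5 b hb
    have hb00 : label b ≠ 0 := fun e => hb0' (h0.2 e)
    by_cases h23 : label b = 2 ∨ label b = 3
    · exact Or.inl ((hrel7 b hb).1 ((hzc b hb).2 h23))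
    · refine Or.inr ((hSmem b).1 (hSeq ▸ ?_)).2
      simp only [Finset.mem_union, Finset.mem_filter, Finset.mem_range]
      omega
  rw [hcard1, hSeq, Finset.card_union_of_disjoint, hcnt, hcnt, c1, c4]
  simp only [Finset.disjoint_filter]; intros; omega

/-- The two orbits. -/
theorem orbits (hJ : Cfsg.IsOfJankoFourTypeAt z) {A : Subgroup G} (hA : IsTen A) :
    ∃ a b : G, a ∈ A ∧ b ∈ A ∧ Set.ncard {v : G | ∃ n ∈ Subgroup.normalizer (A : Set G), n * a * n⁻¹ = v} = 155 ∧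
    Set.ncard {v : G | ∃ n ∈ Subgroup.normalizer (A : Set G), n * b * n⁻¹ = v} = 868 := by
  obtain ⟨V, el, κ, D⟩ := exists_vdata hJ
  obtain ⟨g, rfl⟩ := conj_all hJ D.isTen hA
  obtain ⟨h1, h2, -, -⟩ := model_orbits hJ D
  have tr : ∀ a : G, {v : G | ∃ n ∈ Subgroup.normalizer (D.ten.map (MulAut.conj g).toMonoidHom : Set G),
      n * (g * a * g⁻¹) * n⁻¹ = v} = (MulAut.conj g) '' {v : G | ∃ n ∈ Subgroup.normalizer (D.ten : Set G), n * a * n⁻¹ = v} := by
    intro a
    ext v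
    constructor
    · rintro ⟨n, hn, rfl⟩
      rw [normalizer_conj] at hn
      exact ⟨_, ⟨_, hn, rfl⟩, by show g * (g⁻¹ * n * g * a * (g⁻¹ * n * g)⁻¹) * g⁻¹ = _; group⟩
    · rintro ⟨_, ⟨n, hn, rfl⟩, rfl⟩
      refine ⟨g * n * g⁻¹, ?_, by show _ = g * (n * a * n⁻¹) * g⁻¹; group⟩
      rw [normalizer_conj, show g⁻¹ * (g * n * g⁻¹) * g = n by group]
      exact hn
  refine ⟨g * gA el κ 7 * g⁻¹, g * gA el κ 1 * g⁻¹, ⟨_, ⟨7, by norm_num, rfl⟩, rfl⟩, ⟨_, ⟨1, by norm_num, rfl⟩, rfl⟩, ?_, ?_⟩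
  · rw [tr, Set.ncard_image_of_injective _ (MulAut.conj g).injective, h1]
  · rw [tr, Set.ncard_image_of_injective _ (MulAut.conj g).injective, h2]

end CfsgLib.Sporadic.J4Type.Ten
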