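import Cfsg.Agent.Lib.Sporadic.J4Type.TenVCheck

/-!
# The permutations of the tables
-/

set_option autoImplicit false

namespace CfsgLib.Sporadic.J4Type.Ten

open Cfsg CfsgLib.SmallGroups.Golay CfsgLib.SmallGroups.M24Group CfsgLib.Sporadic.LargeFischer.Hexa

theorem idx_tFun {t : List ℕ} (ht : t ∈ rTabs ++ sTabs) (p : GolayPt) : idx (tFun t p) = t.getD (idx p) 0 := by
  have h := List.all_eq_true.1 tabs_ok.2.2 t ht
  simp only [Bool.and_eq_true, beq_iff_eq, List.all_eq_true, decide_eq_true_eq] at h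
  refine idx_pt ?_
  rw [List.getD_eq_getElem _ _ (by rw [h.1.1]; exact idx_lt p)]
  exact h.1.2 _ (List.getElem_mem _)

/-- The members of `M₂₄` given by the tables. -/
theorem exists_perm_tab {t : List ℕ} (ht : t ∈ rTabs ++ sTabs) :
    ∃ σ : ↥Cfsg.M24, ∀ p, idx ((σ : Equiv.Perm GolayPt) p) = t.getD (idx p) 0 := by
  have h := List.all_eq_true.1 tabs_ok.2.2 t ht
  simp only [Bool.and_eq_true, beq_iff_eq, List.all_eq_true, decide_eq_true_eq] at h
  have hinj : Function.Injective (tFun t) := fun p q e => by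
    have e' := congrArg idx e
    rw [idx_tFun ht, idx_tFun ht, List.getD_eq_getElem _ _ (by rw [h.1.1]; exact idx_lt p),
      List.getD_eq_getElem _ _ (by rw [h.1.1]; exact idx_lt q)] at e'
    exact idx_injective ((List.Nodup.getElem_inj_iff h.2).1 e')
  refine ⟨⟨Equiv.ofBijective _ (Finite.injective_iff_bijective.1 hinj), mem_M24_of_basis (fun p => rfl) fun i hi => ?_⟩,
    idx_tFun ht⟩
  exact List.all_eq_true.1 (List.all_eq_true.1 tabs_code t ht) i (List.mem_range.2 hi)

theorem rT_mem (r : ℕ) (hr : r < 16) : rT r ∈ rTabs ++ sTabs :=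
  List.mem_append_left _ (by
    rw [rT, List.getD_eq_getElem _ _ (by rw [tabs_ok.1]; exact hr)]; exact List.getElem_mem _)

theorem sT_mem (s : ℕ) (hs : s < 2) : sTabs.getD s [] ∈ rTabs ++ sTabs :=
  List.mem_append_right _ (by
    rw [List.getD_eq_getElem _ _ (by rw [tabs_ok.2.1]; exact hs)]; exact List.getElem_mem _)

/-- The member with the given table. -/
noncomputable def permTab (t : List ℕ) (ht : t ∈ rTabs ++ sTabs) : ↥Cfsg.M24 := (exists_perm_tab ht).choose

theorem idx_permTab {t : List ℕ} (ht : t ∈ rTabs ++ sTabs) (p : GolayPt) :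
    idx ((permTab t ht : Equiv.Perm GolayPt) p) = t.getD (idx p) 0 := (exists_perm_tab ht).choose_spec p

theorem eq_of_tab {t u : List ℕ} (σ τ : ↥Cfsg.M24) (hσ : ∀ p, idx ((σ : Equiv.Perm GolayPt) p) = t.getD (idx p) 0)
    (hτ : ∀ p, idx ((τ : Equiv.Perm GolayPt) p) = u.getD (idx p) 0) (e : t = u) : σ = τ :=
  Subtype.ext (Equiv.ext fun p => idx_injective (by rw [hσ, hτ, e]))

theorem mul_tab {t u : List ℕ} (σ τ : ↥Cfsg.M24) (hσ : ∀ p, idx ((σ : Equiv.Perm GolayPt) p) = t.getD (idx p) 0)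
    (hτ : ∀ p, idx ((τ : Equiv.Perm GolayPt) p) = u.getD (idx p) 0) (hu : u.length = 24) (p : GolayPt) :
    idx (((σ * τ : ↥Cfsg.M24) : Equiv.Perm GolayPt) p) = (cmpT t u).getD (idx p) 0 := by
  show idx ((σ : Equiv.Perm GolayPt) ((τ : Equiv.Perm GolayPt) p)) = _
  rw [hσ, hτ, cmpT, List.getD_eq_getElem (u.map fun j => t.getD j 0) _ (by rw [List.length_map, hu]; exact idx_lt p),
    List.getElem_map, List.getD_eq_getElem u _ (by rw [hu]; exact idx_lt p)]

/-- The permutation of the part outside with the given code. -/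
noncomputable def rS (r : ℕ) : ↥Cfsg.M24 := permTab (rT (r % 16)) (rT_mem _ (Nat.mod_lt _ (by norm_num)))

/-- One of the two permutations. -/
noncomputable def sS (s : Fin 2) : ↥Cfsg.M24 := permTab (sTabs.getD s.1 []) (sT_mem _ s.2)

theorem idx_rS {r : ℕ} (hr : r < 16) (p : GolayPt) : idx ((rS r : Equiv.Perm GolayPt) p) = (rT r).getD (idx p) 0 := by
  rw [rS, idx_permTab, Nat.mod_eq_of_lt hr]

theorem rS_zero : rS 0 = 1 := Subtype.ext (Equiv.ext fun p => idx_injective (by
  rw [idx_rS (by norm_num), rT_facts.1]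
  show _ = idx p
  rw [List.getD_eq_getElem _ _ (by simp [idx_lt]), List.getElem_range]))

theorem rT_len {r : ℕ} (hr : r < 16) : (rT r).length = 24 := by
  have h := List.all_eq_true.1 tabs_ok.2.2 _ (rT_mem r hr)
  simp only [Bool.and_eq_true, beq_iff_eq] at h
  exact h.1.1

theorem sT_len (s : Fin 2) : (sTabs.getD s.1 []).length = 24 := by
  have h := List.all_eq_true.1 tabs_ok.2.2 _ (sT_mem s.1 s.2)
  simp only [Bool.and_eq_true, beq_iff_eq] at h
  exact h.1.1

theorem rS_mul {r r' : ℕ} (hr : r < 16) (hr' : r' < 16) : rS r * rS r' = rS (r ^^^ r') :=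
  eq_of_tab (t := cmpT (rT r) (rT r')) _ _ (mul_tab _ _ (idx_rS hr) (idx_rS hr') (rT_len hr'))
    (idx_rS (Nat.xor_lt_two_pow (n := 4) hr hr')) (rT_hom ⟨r, hr⟩ ⟨r', hr'⟩)

theorem rS_inj {r r' : ℕ} (hr : r < 16) (hr' : r' < 16) (e : rS r = rS r') : r = r' := by
  have hl : ∀ k, k < 16 → k < rTabs.length := fun k hk => by rw [tabs_ok.1]; exact hk
  have : rT r = rT r' := List.ext_getElem (by rw [rT_len hr, rT_len hr']) fun i h1 h2 => by
    have hi : i < 24 := by rwa [rT_len hr] at h1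
    rw [← List.getD_eq_getElem _ 0 h1, ← List.getD_eq_getElem _ 0 h2, ← idx_pt hi, ← idx_rS hr, ← idx_rS hr', e]
  rw [rT, rT, List.getD_eq_getElem _ _ (hl r hr), List.getD_eq_getElem _ _ (hl r' hr')] at this
  exact (List.Nodup.getElem_inj_iff rT_facts.2.1).1 this

end CfsgLib.Sporadic.J4Type.Ten
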