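import Cfsg.Agent.Lib.Sporadic.J4Type.TenFrame
import Cfsg.Agent.Lib.Sporadic.J4Type.TenPerms
import Cfsg.Agent.Lib.Sporadic.OctadStabilizer

/-!
# A self-centralising subgroup of order `2¹⁰` in `N(V)`
-/

set_option autoImplicit false
set_option linter.style.haveILetI false
set_option linter.unusedSectionVars false

namespace CfsgLib.Sporadic.J4Type.Ten

open Cfsg CfsgLib.Sporadic.LargeFischer CfsgLib.Sporadic.LargeFischer.Hexa CfsgLib.SmallGroups.Golay
  CfsgLib.SmallGroups.M24Group CfsgLib.SmallGroups.MathieuSets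

theorem wW_lt (w : ℕ) : wW w < 2048 := lm_lt (k := 11) _ _ (by simpa using List.all_eq_true.1 wW_facts.1)

theorem wW_xor (a b : ℕ) : wW (a ^^^ b) = wW a ^^^ wW b := lm_xor _ a b

theorem wW_inj {a b : ℕ} (ha : a < 64) (hb : b < 64) (e : wW a = wW b) : a = b := by
  have h := List.Nodup.getElem_inj_iff (l := (List.range 64).map wW) wW_facts.2.1 (i := a) (j := b)
    (hi := by simpa using ha) (hj := by simpa using hb)
  simp only [List.getElem_map, List.getElem_range] at h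
  exact h.1 e

/-- An additive map on numbers vanishing on the bits vanishes. -/
theorem bits_eq {f g : ℕ → ℕ} (hf : ∀ a b, f (a ^^^ b) = f a ^^^ f b) (hg : ∀ a b, g (a ^^^ b) = g a ^^^ g b)
    (k : ℕ) (h : ∀ i, i < k → f (2 ^ i) = g (2 ^ i)) : ∀ n, n < 2 ^ k → f n = g n := by
  have h0 : ∀ {f : ℕ → ℕ}, (∀ a b, f (a ^^^ b) = f a ^^^ f b) → f 0 = 0 := fun {f} hf => by
    have := hf 0 0
    rwa [Nat.xor_self, Nat.xor_self] at this
  induction k with
  | zero => intro n hn; rw [show n = 0 by simpa using hn, h0 hf, h0 hg]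
  | succ k ih =>
    intro n hn
    have ih' := ih fun i hi => h i (by omega)
    by_cases hb : n < 2 ^ k
    · exact ih' n hb
    · have hlt : n - 2 ^ k < 2 ^ k := by rw [pow_succ] at hn; omega
      rw [show n = 2 ^ k ^^^ (n - 2 ^ k) by rw [CfsgLib.SmallGroups.Golay.two_pow_xor hlt]; omega, hf, hg,
        h k (by omega), ih' _ hlt]

theorem rM_fix {r w : ℕ} (hr : r < 16) (hw : w < 64) : lm (rM r) (wW w) = wW w := by
  refine bits_eq (f := fun w => lm (rM r) (wW w)) (g := wW) (fun a b => by simp only [wW_xor, lm_xor]) wW_xor 6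
    (fun i hi => ?_) w hw
  have h := List.all_eq_true.1 (wW_facts.2.2.1 ⟨r, hr⟩)
  have : wW (2 ^ i) ∈ wB := by
    interval_cases i <;> decide +kernel
  simpa using h _ this

theorem xor_parts (a b : ℕ) : (a ^^^ b) % 64 = a % 64 ^^^ b % 64 ∧ (a ^^^ b) / 64 = a / 64 ^^^ b / 64 :=
  ⟨Nat.xor_mod_two_pow (n := 6), Nat.xor_div_two_pow (n := 6)⟩

variable {G : Type*} [Group G] {z : G} {V : Subgroup G} {el : ℕ → G} {κ : ↥Cfsg.M24 →* G} (D : VData z V el κ)
include D

namespace VData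

theorem v_comm {u v : G} (hu : u ∈ V) (hv : v ∈ V) : u * v = v * u :=
  congrArg Subtype.val (D.elem.1.is_comm.comm (⟨u, hu⟩ : ↥V) ⟨v, hv⟩)

theorem v_inv {n : ℕ} (hn : n < 2048) : (el n)⁻¹ = el n :=
  inv_eq_of_mul_eq_one_right (by rw [← D.xor hn hn, Nat.xor_self, D.zero])

theorem act_pcode (σ : ↥Cfsg.M24) {t : List ℕ} (ht : ∀ p, idx ((σ : Equiv.Perm GolayPt) p) = t.getD (idx p) 0)
    {i j : ℕ} (hi : i < 24) (hj : j < 24) :
    κ σ * el (pcode i ^^^ pcode j) * (κ σ)⁻¹ = el (pcode (t.getD i 0) ^^^ pcode (t.getD j 0)) := by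
  have h := D.act σ (pt i) (pt j)
  simpa [phi, idx_pt hi, idx_pt hj, ht] using h

/-- A table moves the numbers linearly. -/
theorem act_el (σ : ↥Cfsg.M24) {t T : List ℕ} (ht : ∀ p, idx ((σ : Equiv.Perm GolayPt) p) = t.getD (idx p) 0)
    (hlen : t.length = 24) (hlt : ∀ x ∈ t, x < 24) (hT : (List.range 11).map (tblMap t) = T) {n : ℕ} (hn : n < 2048) :
    κ σ * el n * (κ σ)⁻¹ = el (lm T n) ∧ lm T n < 2048 := by
  have hget : ∀ j, t.getD j 0 < 24 := fun j => by
    by_cases hj : j < t.length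
    · rw [List.getD_eq_getElem _ _ hj]; exact hlt _ (List.getElem_mem _)
    · rw [List.getD_eq_default _ _ (not_lt.1 hj)]; norm_num
  have hd : ∀ i j, i < 24 → j < 24 → pcode i ^^^ pcode j < 2048 := fun i j hi hj => by
    have := phi_lt_xor (pt i) (pt j)
    simpa [phi, idx_pt hi, idx_pt hj] using this
  have hfold : ∀ l : List ℕ, (∀ j ∈ l, j < 24) →
      (l.map fun j => pcode j ^^^ pcode 23).foldr (· ^^^ ·) 0 < 2048 ∧
      (l.map fun j => pcode (t.getD j 0) ^^^ pcode (t.getD 23 0)).foldr (· ^^^ ·) 0 < 2048 ∧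
      κ σ * el ((l.map fun j => pcode j ^^^ pcode 23).foldr (· ^^^ ·) 0) * (κ σ)⁻¹ =
        el ((l.map fun j => pcode (t.getD j 0) ^^^ pcode (t.getD 23 0)).foldr (· ^^^ ·) 0) := by
    intro l
    induction l with
    | nil => intro _; simp [D.zero]
    | cons j l ih =>
      intro hl
      obtain ⟨h1, h2, h3⟩ := ih fun k hk => hl k (List.mem_cons_of_mem _ hk)
      have hj := hl j List.mem_cons_self
      have e1 := hd j 23 hj (by norm_num)
      have e2 := hd _ _ (hget j) (hget 23)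
      simp only [List.map_cons, List.foldr_cons]
      refine ⟨Nat.xor_lt_two_pow (n := 11) e1 h1, Nat.xor_lt_two_pow (n := 11) e2 h2, ?_⟩
      rw [D.xor e1 h1, D.xor e2 h2, ← D.act_pcode σ ht hj (by norm_num), ← h3]
      group
  have hTlt : ∀ x ∈ T, x < 2 ^ 11 := by
    rw [← hT]
    intro x hx
    obtain ⟨i, hi, rfl⟩ := List.mem_map.1 hx
    exact (hfold _ fun j hj => by simpa using List.all_eq_true.1 (bitPts_lt ⟨i, List.mem_range.1 hi⟩) j hj).2.1
  refine ⟨?_, lm_lt (k := 11) _ _ hTlt⟩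
  have key : ∀ k, k ≤ 11 → ∀ n, n < 2 ^ k → κ σ * el n * (κ σ)⁻¹ = el (lm T n) := by
    intro k
    induction k with
    | zero => intro _ n hn; rw [show n = 0 by simpa using hn, lm_zero, D.zero]; group
    | succ k ih =>
      intro hk n hn
      by_cases hb : n < 2 ^ k
      · exact ih (by omega) n hb
      · have hlt' : n - 2 ^ k < 2 ^ k := by rw [pow_succ] at hn; omega
        have h2k : 2 ^ k < 2048 := lt_of_lt_of_le (Nat.pow_lt_pow_right (by norm_num) (show k < 11 by omega)) (by norm_num)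
        have e : n = 2 ^ k ^^^ (n - 2 ^ k) := by rw [CfsgLib.SmallGroups.Golay.two_pow_xor hlt']; omega
        have hbit : κ σ * el (2 ^ k) * (κ σ)⁻¹ = el (lm T (2 ^ k)) := by
          have h := (hfold _ fun j hj => by simpa using List.all_eq_true.1 (bitPts_lt ⟨k, by omega⟩) j hj).2.2
          rw [bit_ok ⟨k, by omega⟩] at h
          rw [h, lm_bit, ← hT, List.getD_eq_getElem ((List.range 11).map (tblMap t)) 0 (by simpa using (show k < 11 by omega)),
            List.getElem_map, List.getElem_range, tblMap]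
        rw [e, D.xor h2k (hlt'.trans h2k), lm_xor, D.xor (lm_lt (k := 11) _ _ hTlt) (lm_lt (k := 11) _ _ hTlt),
          ← hbit, ← ih (by omega) _ hlt']
        group
  exact key 11 le_rfl n hn

theorem act_r {r n : ℕ} (hr : r < 16) (hn : n < 2048) :
    κ (rS r) * el n * (κ (rS r))⁻¹ = el (lm (rM r) n) ∧ lm (rM r) n < 2048 := by
  have h := List.all_eq_true.1 tabs_ok.2.2 _ (rT_mem r hr)
  simp only [Bool.and_eq_true, beq_iff_eq, List.all_eq_true, decide_eq_true_eq] at h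
  exact D.act_el _ (idx_rS hr) h.1.1 h.1.2 (maps_ok.1 ⟨r, hr⟩) hn

theorem comm_rw {r w : ℕ} (hr : r < 16) (hw : w < 64) : κ (rS r) * el (wW w) = el (wW w) * κ (rS r) := by
  have h := (D.act_r hr (wW_lt w)).1
  rw [rM_fix hr hw] at h
  exact mul_inv_eq_iff_eq_mul.1 h

omit D in
/-- The element with code `a`. -/
noncomputable def gA (el : ℕ → G) (κ : ↥Cfsg.M24 →* G) (a : ℕ) : G := el (wW (a % 64)) * κ (rS (a / 64))

theorem gA_mul {a b : ℕ} (ha : a < 1024) (hb : b < 1024) : gA el κ a * gA el κ b = gA el κ (a ^^^ b) := by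
  have ha' : a / 64 < 16 := by omega
  have hb' : b / 64 < 16 := by omega
  rw [gA, gA, gA, (xor_parts a b).1, (xor_parts a b).2, wW_xor, D.xor (wW_lt _) (wW_lt _), ← rS_mul ha' hb', map_mul]
  calc el (wW (a % 64)) * κ (rS (a / 64)) * (el (wW (b % 64)) * κ (rS (b / 64)))
      = el (wW (a % 64)) * (κ (rS (a / 64)) * el (wW (b % 64))) * κ (rS (b / 64)) := by group
    _ = el (wW (a % 64)) * el (wW (b % 64)) * (κ (rS (a / 64)) * κ (rS (b / 64))) := by
      rw [D.comm_rw ha' (Nat.mod_lt _ (by norm_num))]; group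

theorem gA_zero : gA el κ 0 = 1 := by
  rw [gA, Nat.zero_mod, Nat.zero_div, rS_zero, map_one, mul_one, wW, lm_zero, D.zero]

theorem gA_inj {a b : ℕ} (ha : a < 1024) (hb : b < 1024) (e : gA el κ a = gA el κ b) : a = b := by
  have ha' : a / 64 < 16 := by omega
  have hb' : b / 64 < 16 := by omega
  have h1 : gA el κ (a ^^^ b) = 1 := by
    rw [← D.gA_mul ha hb, ← e, D.gA_mul ha ha, Nat.xor_self, D.gA_zero]
  rw [gA, (xor_parts a b).1, (xor_parts a b).2] at h1
  have hk : κ (rS (a / 64 ^^^ b / 64)) ∈ V := by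
    rw [eq_inv_of_mul_eq_one_right h1]; exact inv_mem (D.mem _ (wW_lt _))
  have hr := D.kap_inj _ hk
  rw [hr, map_one, mul_one] at h1
  have h0 : wW (a % 64 ^^^ b % 64) = wW 0 := by
    rw [D.inj (wW_lt _) (by norm_num) (h1.trans D.zero.symm), wW, lm_zero]
  have e1 := wW_inj (Nat.xor_lt_two_pow (n := 6) (Nat.mod_lt _ (by norm_num)) (Nat.mod_lt _ (by norm_num))) (by norm_num) h0
  have e2 := rS_inj (Nat.xor_lt_two_pow (n := 4) ha' hb') (by norm_num) (hr.trans rS_zero.symm)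
  rw [Nat.xor_eq_zero_iff] at e1 e2
  omega

omit D in
/-- The subgroup. -/
noncomputable def ten (D : VData z V el κ) : Subgroup G where
  carrier := {g | ∃ a < 1024, g = gA el κ a}
  one_mem' := ⟨0, by norm_num, D.gA_zero.symm⟩
  mul_mem' := fun {g h} ⟨a, ha, ea⟩ ⟨b, hb, eb⟩ =>
    ⟨a ^^^ b, Nat.xor_lt_two_pow (n := 10) ha hb, by rw [ea, eb, D.gA_mul ha hb]⟩
  inv_mem' := fun {g} ⟨a, ha, ea⟩ => ⟨a, ha, inv_eq_of_mul_eq_one_right (by
    rw [ea, D.gA_mul ha ha, Nat.xor_self, D.gA_zero])⟩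

theorem ten_elem : Cfsg.IsElementaryAbelian 2 D.ten := by
  refine ⟨⟨⟨?_⟩⟩, ?_⟩
  · rintro ⟨_, a, ha, rfl⟩ ⟨_, b, hb, rfl⟩
    exact Subtype.ext (show gA el κ a * gA el κ b = gA el κ b * gA el κ a by
      rw [D.gA_mul ha hb, D.gA_mul hb ha, Nat.xor_comm])
  · rintro _ ⟨a, ha, rfl⟩
    rw [pow_two, D.gA_mul ha ha, Nat.xor_self, D.gA_zero]

theorem ten_card : Nat.card D.ten = 2 ^ 10 := by
  let f : Fin 1024 → D.ten := fun a => ⟨gA el κ a.1, a.1, a.2, rfl⟩
  rw [← Nat.card_eq_of_bijective f ⟨fun a b e => Fin.ext (D.gA_inj a.2 b.2 (congrArg Subtype.val e)),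
    fun ⟨g, a, ha, e⟩ => ⟨⟨a, ha⟩, Subtype.ext e.symm⟩⟩, Nat.card_eq_fintype_card, Fintype.card_fin]
  norm_num

theorem el_mem_ten {w : ℕ} (hw : w < 64) : el (wW w) ∈ D.ten :=
  ⟨w, by omega, by rw [gA, Nat.mod_eq_of_lt hw, Nat.div_eq_of_lt hw, rS_zero, map_one, mul_one]⟩

theorem rS_mem_ten {r : ℕ} (hr : r < 16) : κ (rS r) ∈ D.ten :=
  ⟨r * 64, by omega, by
    rw [gA, Nat.mul_mod_left, Nat.mul_div_cancel r (show 0 < 64 by norm_num), wW, lm_zero, D.zero, one_mul]⟩

/-- The points of the octad and their pairs. -/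
theorem pair_mem {p q : GolayPt} (hp : p ∈ toSet octB) (hq : q ∈ toSet octB) :
    ∃ w < 64, wW w = phi p ^^^ phi q := by
  rw [mem_toSet, oct_facts.1, List.contains_iff_mem] at hp hq
  have h := List.all_eq_true.1 oct_facts.2.2.2 _ hp
  rw [Bool.and_eq_true, List.all_eq_true] at h
  have h2 := h.2 _ hq
  simp only [List.contains_iff_mem, List.mem_map, List.mem_range] at h2
  exact h2

theorem fix_of_cent (σ : ↥Cfsg.M24)
    (hσ : ∀ w, w < 64 → κ σ * el (wW w) * (κ σ)⁻¹ = el (wW w)) : ∀ p ∈ toSet octB, (σ : Equiv.Perm GolayPt) p = p := by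
  intro p hp
  have hcard : (toSet octB).card = 8 := octB_mem.2
  obtain ⟨q, hq, hqp⟩ := Finset.exists_mem_ne (show 1 < (toSet octB).card by omega) p
  obtain ⟨r, hr, hrq⟩ := Finset.exists_mem_ne (s := (toSet octB).erase p)
    (show 1 < _ by rw [Finset.card_erase_of_mem hp]; omega) q
  rw [Finset.mem_erase] at hr
  have key : ∀ a ∈ toSet octB, ∀ b ∈ toSet octB, a ≠ b → ((σ : Equiv.Perm GolayPt) a = a ∧ (σ : Equiv.Perm GolayPt) b = b) ∨
      ((σ : Equiv.Perm GolayPt) a = b ∧ (σ : Equiv.Perm GolayPt) b = a) := by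
    intro a ha b hb hab
    obtain ⟨w, hw, e⟩ := D.pair_mem ha hb
    have h := hσ w hw
    rw [e, D.act] at h
    exact duad_inj (fun e => hab ((σ : Equiv.Perm GolayPt).injective e)) hab (D.inj (phi_lt_xor _ _) (phi_lt_xor _ _) h)
  rcases key p hp q hq (Ne.symm hqp) with ⟨h1, -⟩ | ⟨h1, -⟩
  · exact h1
  rcases key p hp r hr.2 (Ne.symm hr.1) with ⟨h3, -⟩ | ⟨h3, -⟩
  · exact h3
  · exact absurd (h3.symm.trans h1) hrq

theorem exists_rS (σ : ↥Cfsg.M24) (hσ : ∀ p ∈ toSet octB, (σ : Equiv.Perm GolayPt) p = p) : ∃ r < 16, σ = rS r := by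
  have hfix : ∀ r, r < 16 → ((rS r : Equiv.Perm GolayPt)) ∈ ptStab (toSet octB) := fun r hr => mem_ptStab.2
    ⟨(rS r).2, fun p hp => idx_injective (by
      rw [mem_toSet, oct_facts.1, List.contains_iff_mem] at hp
      have h := List.all_eq_true.1 (List.all_eq_true.1 rT_facts.2.2 (rT r) ?_) _ hp
      · rw [idx_rS hr]; exact beq_iff_eq.1 h
      · rw [rT, List.getD_eq_getElem _ _ (by rw [tabs_ok.1]; exact hr)]; exact List.getElem_mem _)⟩
  have hbij : Function.Bijective (fun r : Fin 16 => (⟨_, hfix r.1 r.2⟩ : ptStab (toSet octB))) :=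
    (Nat.bijective_iff_injective_and_card _).2
      ⟨fun r r' e => Fin.ext (rS_inj r.2 r'.2 (by
        simp only [Subtype.mk.injEq] at e
        exact Subtype.ext e)),
        by simp [(ptStab_octad octB_mem).1]⟩
  obtain ⟨r, hr⟩ := hbij.2 ⟨σ, mem_ptStab.2 ⟨σ.2, hσ⟩⟩
  exact ⟨r.1, r.2, Subtype.ext (congrArg Subtype.val hr).symm⟩

/-- The class of an element of the part inside. -/
theorem class_w {w : ℕ} (hw : w < 64) (h0 : w ≠ 0) :
    el (wW w) ≠ 1 ∧ (IsConj z (el (wW w)) ↔ inDm (wW w) = false) := by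
  have hne : el (wW w) ≠ 1 := fun e => h0 (wW_inj hw (by norm_num)
    (D.inj (wW_lt _) (wW_lt _) (e.trans (by rw [wW, lm_zero, D.zero]))))
  refine ⟨hne, ?_⟩
  cases h : inDm (wW w)
  · simp only [iff_true]
    by_contra hc
    rw [(D.small _ (wW_lt _)).2 ⟨hne, hc⟩] at h
    exact Bool.noConfusion h
  · exact iff_of_false ((D.small _ (wW_lt _)).1 h).2 Bool.noConfusion

theorem ten_self : Subgroup.centralizer (D.ten : Set G) = D.ten := by
  refine le_antisymm (fun y hy => ?_) fun a ha => Subgroup.mem_centralizer_iff.2 fun b hb =>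
    congrArg Subtype.val (D.ten_elem.1.is_comm.comm (⟨b, hb⟩ : ↥D.ten) ⟨a, ha⟩)
  have hcomm := Subgroup.mem_centralizer_iff.1 hy
  obtain ⟨-, -, h1, h7⟩ := label_span
  have hyN : y ∈ Subgroup.normalizer (V : Set G) := by
    obtain ⟨a1, c1⟩ := D.class_w (w := 1) (by norm_num) one_ne_zero
    refine D.zt _ (D.mem _ (wW_lt 7)) ((D.class_w (w := 7) (by norm_num) (by norm_num)).2.2 h7) _ (D.mem _ (wW_lt 1)) a1
      (fun c => by rw [c1.1 c] at h1; exact Bool.noConfusion h1) y ?_ ?_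
    · exact (hcomm _ (D.el_mem_ten (by norm_num))).symm
    · exact (hcomm _ (D.el_mem_ten (by norm_num))).symm
  obtain ⟨n, hn, σ, rfl⟩ := D.decomp y hyN
  have hσ : ∀ w, w < 64 → κ σ * el (wW w) * (κ σ)⁻¹ = el (wW w) := by
    intro w hw
    have h := hcomm _ (D.el_mem_ten hw)
    have hv : el (wW w) * el n = el n * el (wW w) := D.v_comm (D.mem _ (wW_lt w)) (D.mem _ hn)
    rw [mul_inv_eq_iff_eq_mul]
    refine mul_left_cancel (a := el n) ?_
    calc el n * (κ σ * el (wW w)) = el n * κ σ * el (wW w) := by group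
      _ = el (wW w) * (el n * κ σ) := h.symm
      _ = el n * (el (wW w) * κ σ) := by rw [← mul_assoc, hv, mul_assoc]
  obtain ⟨r, hr, rfl⟩ := D.exists_rS σ (D.fix_of_cent σ hσ)
  have hfix : ∀ i, i < 4 → lm (rM (2 ^ i)) n = n := by
    intro i hi
    have h16 : 2 ^ i < 16 := Nat.pow_lt_pow_right (by norm_num : 1 < 2) hi |>.trans_eq (by norm_num)
    obtain ⟨e, hlt⟩ := D.act_r h16 hn
    refine D.inj hlt hn (e.symm.trans ?_)
    have h := hcomm _ (D.rS_mem_ten h16)
    have hr' : κ (rS r) * κ (rS (2 ^ i)) = κ (rS (2 ^ i)) * κ (rS r) := by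
      rw [← map_mul, ← map_mul, rS_mul hr h16, rS_mul h16 hr, Nat.xor_comm]
    rw [mul_inv_eq_iff_eq_mul]
    refine mul_right_cancel (b := κ (rS r)) ?_
    calc κ (rS (2 ^ i)) * el n * κ (rS r) = κ (rS (2 ^ i)) * (el n * κ (rS r)) := by group
      _ = el n * κ (rS r) * κ (rS (2 ^ i)) := h
      _ = el n * κ (rS (2 ^ i)) * κ (rS r) := by rw [mul_assoc, hr', mul_assoc]
  have h := List.all_eq_true.1 fixed_wW n (List.mem_range.2 hn)
  simp only [Bool.or_eq_true, List.any_eq_true, List.mem_range, bne_iff_ne, List.contains_iff_mem, List.mem_map] at h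
  obtain ⟨w, hw, rfl⟩ := h.resolve_left fun ⟨i, hi, hne⟩ => hne (hfix i hi)
  exact mul_mem (D.el_mem_ten hw) (D.rS_mem_ten hr)

end VData

end CfsgLib.Sporadic.J4Type.Ten
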