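import Cfsg.Agent.Lib.Sporadic.LargeFischer.Hexa.ToddModel
import Cfsg.Agent.Lib.SmallGroups.MathieuSets
import Cfsg.Agent.Lib.Sporadic.J4Type.TenVData

/-!
# Checks on the subgroup of order `2¹⁰` from the stabiliser of an octad
-/

set_option autoImplicit false
set_option maxRecDepth 40000

namespace CfsgLib.Sporadic.J4Type.Ten

open Cfsg CfsgLib.Sporadic.LargeFischer.Hexa CfsgLib.SmallGroups.Golay CfsgLib.SmallGroups.M24Group

/-- The image of a bit under a table. -/
def tblMap (t : List ℕ) (i : ℕ) : ℕ :=
  ((bitPts.getD i []).map fun j => pcode (t.getD j 0) ^^^ pcode (t.getD 23 0)).foldr (· ^^^ ·) 0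

/-- The part inside. -/
def wW (a : ℕ) : ℕ := lm wB a

/-- A permutation of the part outside. -/
def rT (r : ℕ) : List ℕ := rTabs.getD r []

/-- Its linear map. -/
def rM (r : ℕ) : List ℕ := rMaps.getD r []

/-- Composition of tables. -/
def cmpT (t u : List ℕ) : List ℕ := u.map fun j => t.getD j 0

/-- The function of a table. -/
def tFun (t : List ℕ) (p : GolayPt) : GolayPt := pt (t.getD (idx p) 0)

/-- The orbit of a code. -/
def label (a : ℕ) : ℕ := (lbl >>> (3 * a)) % 8

/-- Depth in the tree. -/
def dep (a : ℕ) : ℕ := tree.getD a 0 >>> 16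

/-- The parent in the tree. -/
def par (a : ℕ) : ℕ := (tree.getD a 0 >>> 4) % 4096

/-- The move from the parent. -/
def mv (a : ℕ) : ℕ := tree.getD a 0 % 16

theorem bit_ok : ∀ i : Fin 11,
    ((bitPts.getD i.1 []).map fun j => pcode j ^^^ pcode 23).foldr (· ^^^ ·) 0 = 2 ^ i.1 := by decide +kernel

theorem bitPts_lt : ∀ i : Fin 11, (bitPts.getD i.1 []).all (· < 24) = true := by decide +kernel

theorem tabs_ok : rTabs.length = 16 ∧ sTabs.length = 2 ∧
    (rTabs ++ sTabs).all (fun t => t.length == 24 && t.all (· < 24) && decide t.Nodup) = true := by decide +kernel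

theorem tabs_code : (rTabs ++ sTabs).all (fun t =>
    (List.range 12).all fun i => isCW (mask fun p => word (bas i) (tFun t p))) = true := by decide +kernel

theorem maps_ok : (∀ r : Fin 16, (List.range 11).map (tblMap (rT r.1)) = rM r.1) ∧
    ∀ s : Fin 2, (List.range 11).map (tblMap (sTabs.getD s.1 [])) = sMaps.getD s.1 [] := by decide +kernel

theorem rT_hom : ∀ r r' : Fin 16, cmpT (rT r.1) (rT r'.1) = rT (r.1 ^^^ r'.1) := by decide +kernel

theorem rT_facts : rT 0 = List.range 24 ∧ rTabs.Nodup ∧
    rTabs.all (fun t => octL.all fun i => t.getD i 0 == i) = true := by decide +kernel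

theorem wW_facts : (wB.all (· < 2048)) = true ∧ ((List.range 64).map wW).Nodup ∧
    (∀ r : Fin 16, wB.all fun w => lm (rM r.1) w == w) ∧ (∀ r : Fin 16, (rM r.1).all (· < 2048)) := by decide +kernel

theorem fixed_wW : (List.range 2048).all (fun n =>
    (List.range 4).any (fun i => lm (rM (2 ^ i)) n != n) || ((List.range 64).map wW).contains n) = true := by
  decide +kernel

theorem oct_facts : (∀ p : GolayPt, (octB.testBit (idx p)) = octL.contains (idx p)) ∧ octL.length = 8 ∧ octL.Nodup ∧
    octL.all (fun i => decide (i < 24) && octL.all fun j => ((List.range 64).map wW).contains (pcode i ^^^ pcode j)) = true := by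
  decide +kernel

theorem small_pairs : (List.range 64).all (fun a => !(inDm (wW a)) ||
    octL.any fun i => octL.any fun j => i != j && pcode i ^^^ pcode j == wW a) = true := by decide +kernel

theorem moves_len : moves.length = 6 ∧ v0B.all (· < 2048) = true ∧ moves.all (fun L => L.all (· < 1024)) = true := by
  decide +kernel

theorem move_v : ∀ j : Fin 4, ∀ i : Fin 10,
    wW (2 ^ i.1 % 64) ^^^ (v0B.getD j.1 0 ^^^ lm (rM (2 ^ i.1 / 64)) (v0B.getD j.1 0)) =
      wW ((moves.getD j.1 []).getD i.1 0 % 64) ∧ (moves.getD j.1 []).getD i.1 0 / 64 = 2 ^ i.1 / 64 := by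
  decide +kernel

theorem move_s : ∀ s : Fin 2, ∀ i : Fin 10,
    lm (sMaps.getD s.1 []) (wW (2 ^ i.1 % 64)) = wW ((moves.getD (4 + s.1) []).getD i.1 0 % 64) ∧
      cmpT (sTabs.getD s.1 []) (rT (2 ^ i.1 / 64)) =
        cmpT (rT ((moves.getD (4 + s.1) []).getD i.1 0 / 64)) (sTabs.getD s.1 []) := by decide +kernel

/-- The tree in one number. -/
def treeN : ℕ := tree.foldr (fun x acc => acc <<< 32 ||| x) 0

/-- An entry of the tree, from the number. -/
def tget (a : ℕ) : ℕ := (treeN >>> (32 * a)) % 4294967296

theorem treeN_ok : tree.length = 1024 ∧ tree.zipIdx.all (fun p => tget p.2 == p.1) = true ∧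
    treeN >>> 32768 = 0 := by decide +kernel

theorem tget_eq (a : ℕ) : tree.getD a 0 = tget a := by
  obtain ⟨hl, h, h0⟩ := treeN_ok
  by_cases ha : a < tree.length
  · rw [List.getD_eq_getElem _ _ ha]
    have := List.all_eq_true.1 h (tree[a], a) (List.mk_mem_zipIdx_iff_getElem?.2 (List.getElem?_eq_getElem ha))
    exact (eq_of_beq this).symm
  · rw [List.getD_eq_default _ _ (by omega), tget, show 32 * a = 32768 + (32 * a - 32768) by omega,
      Nat.shiftRight_add, h0, Nat.zero_shiftRight]

theorem tree_ok : (List.range 1024).all (fun a => (dep a == 0 && reps.contains a) ||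
    (decide (dep (par a) < dep a) && decide (par a < 1024) && decide (mv a < 6) &&
      lm (moves.getD (mv a) []) (par a) == a && label (par a) == label a)) = true := by
  simp only [dep, par, mv, tget_eq]
  decide +kernel

theorem label_facts : reps = [0, 1, 7, 64, 65] ∧ (∀ k : Fin 5, label (reps.getD k.1 0) = k.1) ∧
    (List.range 1024).all (fun a => decide (label a < 5) && (decide (a < 64) == decide (label a < 3)) &&
      ((a == 0) == (label a == 0))) = true := by decide +kernel

theorem label_counts : (List.range 1024).countP (fun a => label a == 1) = 28 ∧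
    (List.range 1024).countP (fun a => label a == 2) = 35 ∧
    (List.range 1024).countP (fun a => label a == 3) = 120 ∧
    (List.range 1024).countP (fun a => label a == 4) = 840 := by decide +kernel

theorem label_span : (∀ i : Fin 6, label (2 ^ i.1) = 1) ∧
    (∀ i : Fin 6, (List.range 64).any fun a => label a == 2 && label (a ^^^ 2 ^ i.1) == 2) ∧
    inDm (wW 1) = true ∧ inDm (wW 7) = false := by decide +kernel

end CfsgLib.Sporadic.J4Type.Ten
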